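import Mathlib
import Groth.Prelude.Def_EtRam
import Groth.Agent.H86.TotRam

set_option autoImplicit false
universe u
open TensorProduct

namespace Groth.Agent.H80.SolTower

section Val
variable {M M' K₁ : Type u} [Field M] [Field M'] [Field K₁]

theorem val_lt_one_iff (W : ValuationSubring M) (x : M) :
    W.valuation x < 1 ↔ x = 0 ∨ x⁻¹ ∉ W := by
  by_cases hx : x = 0
  · subst hx; simp
  · have hpos : 0 < W.valuation x := zero_lt_iff.mpr ((Valuation.ne_zero_iff _).mpr hx)
    constructor
    · intro h; right; intro hmem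
      have h1 := (W.valuation_le_one_iff _).mpr hmem
      rw [map_inv₀, inv_le_one₀ hpos] at h1
      exact absurd h (not_lt.mpr h1)
    · rintro (h | h)
      · exact absurd h hx
      · by_contra hlt
        apply h
        rw [← W.valuation_le_one_iff, map_inv₀, inv_le_one₀ hpos]
        exact not_lt.mp hlt

theorem val_comap_lt_one_iff (W' : ValuationSubring M') (j : M →+* M') (x : M) :
    (W'.comap j).valuation x < 1 ↔ W'.valuation (j x) < 1 := by
  rw [val_lt_one_iff, val_lt_one_iff, ValuationSubring.mem_comap, map_inv₀, map_eq_zero]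

/-- Elementary form of weak unramifiedness of `W ∩ K₁ → W`. -/
def EP (W : ValuationSubring M) (f : K₁ →+* M) : Prop :=
  ∀ x : M, W.valuation x < 1 → ∃ t : K₁, W.valuation (f t) < 1 ∧ ∃ w ∈ W, x = f t * w

theorem weaklyUnram_iff (W : ValuationSubring M) (f : K₁ →+* M) :
    @EtRam.IsWeaklyUnramified (W.comap f) W _ _ _ _ (EtRam.inclOfComap W f).toAlgebra ↔ EP W f := by
  letI : Algebra (W.comap f) W := (EtRam.inclOfComap W f).toAlgebra
  have hmax : ∀ t : W.comap f, t ∈ IsLocalRing.maximalIdeal (W.comap f) ↔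
      W.valuation (f (t : K₁)) < 1 := by
    intro t
    rw [ValuationSubring.valuation_lt_one_iff, val_comap_lt_one_iff]
  constructor
  · intro h x hx
    have hxW : x ∈ W := (W.valuation_le_one_iff x).mp hx.le
    have hmem : (⟨x, hxW⟩ : W) ∈ IsLocalRing.maximalIdeal W :=
      (ValuationSubring.valuation_lt_one_iff W _).mpr hx
    have h' : Ideal.map (algebraMap (W.comap f) W) (IsLocalRing.maximalIdeal (W.comap f)) =
      IsLocalRing.maximalIdeal W := h
    rw [← h'] at hmem
    have key : ∀ y : W, y ∈ Ideal.map (algebraMap (W.comap f) W)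
        (IsLocalRing.maximalIdeal (W.comap f)) →
        ∃ t : W.comap f, t ∈ IsLocalRing.maximalIdeal (W.comap f) ∧
          EtRam.inclOfComap W f t ∣ y := by
      intro y hy
      refine Submodule.span_induction (p := fun y _ => ∃ t : W.comap f,
        t ∈ IsLocalRing.maximalIdeal (W.comap f) ∧ EtRam.inclOfComap W f t ∣ y) ?_ ?_ ?_ ?_ hy
      · rintro _ ⟨t, ht, rfl⟩
        exact ⟨t, ht, dvd_refl _⟩
      · exact ⟨0, zero_mem _, dvd_zero _⟩
      · rintro y₁ y₂ _ _ ⟨t₁, h₁, d₁⟩ ⟨t₂, h₂, d₂⟩
        rcases ValuationRing.dvd_total t₁ t₂ with h12 | h21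
        · exact ⟨t₁, h₁, dvd_add d₁ ((map_dvd (EtRam.inclOfComap W f) h12).trans d₂)⟩
        · exact ⟨t₂, h₂, dvd_add ((map_dvd (EtRam.inclOfComap W f) h21).trans d₁) d₂⟩
      · rintro a y _ ⟨t, ht, d⟩
        exact ⟨t, ht, by rw [smul_eq_mul]; exact d.mul_left a⟩
    obtain ⟨t, ht, w, hw⟩ := key _ hmem
    refine ⟨(t : K₁), (hmax t).mp ht, (w : M), w.2, ?_⟩
    have := congrArg Subtype.val hw
    simpa using this
  · intro h
    show Ideal.map (algebraMap (W.comap f) W) (IsLocalRing.maximalIdeal (W.comap f)) =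
      IsLocalRing.maximalIdeal W
    apply le_antisymm
    · rw [Ideal.map_le_iff_le_comap]
      intro t ht
      rw [Ideal.mem_comap, ValuationSubring.valuation_lt_one_iff]
      exact (hmax t).mp ht
    · intro y hy
      have hy' := (ValuationSubring.valuation_lt_one_iff W y).mp hy
      obtain ⟨t, ht, w, hw, hxy⟩ := h (y : M) hy'
      have htW : t ∈ W.comap f := (W.valuation_le_one_iff _).mp ht.le
      have : y = algebraMap (W.comap f) W ⟨t, htW⟩ * ⟨w, hw⟩ := Subtype.ext hxy
      rw [this]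
      exact Ideal.mul_mem_right _ _ (Ideal.mem_map_of_mem _ ((hmax ⟨t, htW⟩).mpr ht))

theorem EP_transfer (j : M →+* M') (f : K₁ →+* M) (W' : ValuationSubring M')
    (h : EP W' (j.comp f)) : EP (W'.comap j) f := by
  intro x hx
  rw [val_comap_lt_one_iff] at hx
  obtain ⟨t, ht, w', hw', hxw⟩ := h (j x) hx
  have ht' : (W'.comap j).valuation (f t) < 1 := (val_comap_lt_one_iff W' j _).mpr ht
  by_cases hft : f t = 0
  · refine ⟨t, ht', 0, zero_mem _, ?_⟩
    have : j x = 0 := by rw [hxw, RingHom.comp_apply, hft, map_zero, zero_mul]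
    rw [(map_eq_zero j).mp this, mul_zero]
  · refine ⟨t, ht', x / f t, ?_, (mul_div_cancel₀ x hft).symm⟩
    rw [ValuationSubring.mem_comap, map_div₀]
    have hjft : j (f t) ≠ 0 := (map_ne_zero j).mpr hft
    have : j x / j (f t) = w' := by
      rw [hxw, RingHom.comp_apply, mul_div_assoc, mul_comm, div_mul_cancel₀ _ hjft] 
    rw [this]; exact hw'

theorem transfer_weak (j : M →+* M') (f : K₁ →+* M) (W' : ValuationSubring M')
    (h : @EtRam.IsWeaklyUnramified (W'.comap (j.comp f)) W' _ _ _ _
      (EtRam.inclOfComap W' (j.comp f)).toAlgebra) :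
    @EtRam.IsWeaklyUnramified ((W'.comap j).comap f) (W'.comap j) _ _ _ _
      (EtRam.inclOfComap (W'.comap j) f).toAlgebra :=
  (weaklyUnram_iff _ _).mpr (EP_transfer j f W' ((weaklyUnram_iff _ _).mp h))

theorem geomRed_of_comp {k A A' : Type u} [Field k] [Field A] [Field A'] (φ : k →+* A)
    (ψ : A →+* A') (θ : k →+* A') (hθ : θ = ψ.comp φ)
    (h : @Algebra.IsGeometricallyReduced k A' _ _ θ.toAlgebra) :
    @Algebra.IsGeometricallyReduced k A _ _ φ.toAlgebra := by
  subst hθ
  letI : Algebra k A := φ.toAlgebra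
  letI : Algebra k A' := (ψ.comp φ).toAlgebra
  let g : A →ₐ[k] A' := { ψ with commutes' := fun _ => rfl }
  haveI := h
  exact Algebra.IsGeometricallyReduced.of_injective g ψ.injective

theorem transfer_geomRed (j : M →+* M') (f : K₁ →+* M) (W' : ValuationSubring M')
    (h : @Algebra.IsGeometricallyReduced (IsLocalRing.ResidueField (W'.comap (j.comp f)))
      (IsLocalRing.ResidueField W') _ _
      (IsLocalRing.ResidueField.map (EtRam.inclOfComap W' (j.comp f))).toAlgebra) :
    @Algebra.IsGeometricallyReduced (IsLocalRing.ResidueField ((W'.comap j).comap f))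
      (IsLocalRing.ResidueField (W'.comap j)) _ _
      (IsLocalRing.ResidueField.map (EtRam.inclOfComap (W'.comap j) f)).toAlgebra := by
  have hcomp : EtRam.inclOfComap W' (j.comp f) =
      (EtRam.inclOfComap W' j).comp (EtRam.inclOfComap (W'.comap j) f) := rfl
  have hθ : IsLocalRing.ResidueField.map (EtRam.inclOfComap W' (j.comp f)) =
      (IsLocalRing.ResidueField.map (EtRam.inclOfComap W' j)).comp
        (@IsLocalRing.ResidueField.map (W'.comap (j.comp f)) (W'.comap j) _ _ _ _
          (EtRam.inclOfComap (W'.comap j) f) (EtRam.isLocalHom_inclOfComap (W'.comap j) f)) := by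
    refine RingHom.ext fun x => ?_
    obtain ⟨x, rfl⟩ := IsLocalRing.residue_surjective x
    rfl
  exact geomRed_of_comp (k := IsLocalRing.ResidueField (W'.comap (j.comp f)))
    (@IsLocalRing.ResidueField.map (W'.comap (j.comp f)) (W'.comap j) _ _ _ _
          (EtRam.inclOfComap (W'.comap j) f) (EtRam.isLocalHom_inclOfComap (W'.comap j) f))
    (IsLocalRing.ResidueField.map (EtRam.inclOfComap W' j))
    (IsLocalRing.ResidueField.map (EtRam.inclOfComap W' (j.comp f))) hθ h

end Val


section Comp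

variable {B Wr C : Type u} [CommRing B] [IsDomain B] [IsLocalRing B]
  [CommRing Wr] [IsDomain Wr] [IsLocalRing Wr] [CommRing C] [IsDomain C] [IsLocalRing C]
  [Algebra B Wr] [Algebra B C]

theorem tmul_one_mem_nonZeroDivisors [Module.Flat B C] {w : Wr} (hw : w ≠ 0) :
    (w ⊗ₜ[B] (1 : C)) ∈ nonZeroDivisors (Wr ⊗[B] C) := by
  have hinj : Function.Injective (LinearMap.mulLeft B w) := fun a b h => mul_left_cancel₀ hw h
  have h2 := Module.Flat.rTensor_preserves_injective_linearMap (M := C)
    (LinearMap.mulLeft B w) hinj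
  have h3 : ∀ x : Wr ⊗[B] C,
      LinearMap.rTensor C (LinearMap.mulLeft B w) x = (w ⊗ₜ[B] (1 : C)) * x := by
    intro x
    induction x using TensorProduct.induction_on with
    | zero => simp
    | tmul a c => simp [Algebra.TensorProduct.tmul_mul_tmul]
    | add x y hx hy => rw [map_add, hx, hy, mul_add]
  rw [mem_nonZeroDivisors_iff_left]
  intro x hx
  apply h2
  rw [h3, map_zero]; exact hx

theorem one_tmul_mem_nonZeroDivisors [Module.Flat B Wr] {c : C} (hc : c ≠ 0) :
    ((1 : Wr) ⊗ₜ[B] c) ∈ nonZeroDivisors (Wr ⊗[B] C) := by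
  have hinj : Function.Injective (LinearMap.mulLeft B c) := fun a b h => mul_left_cancel₀ hc h
  have h2 := Module.Flat.lTensor_preserves_injective_linearMap (M := Wr)
    (LinearMap.mulLeft B c) hinj
  have h3 : ∀ x : Wr ⊗[B] C,
      LinearMap.lTensor Wr (LinearMap.mulLeft B c) x = ((1 : Wr) ⊗ₜ[B] c) * x := by
    intro x
    induction x using TensorProduct.induction_on with
    | zero => simp
    | tmul a c => simp [Algebra.TensorProduct.tmul_mul_tmul]
    | add x y hx hy => rw [map_add, hx, hy, mul_add]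
  rw [mem_nonZeroDivisors_iff_left]
  intro x hx
  apply h2
  rw [h3, map_zero]; exact hx

theorem exists_prime_over [IsLocalHom (algebraMap B Wr)] [IsLocalHom (algebraMap B C)] :
    ∃ q : Ideal (Wr ⊗[B] C), q.IsPrime ∧
      (∀ w ∈ IsLocalRing.maximalIdeal Wr, (w ⊗ₜ[B] (1 : C)) ∈ q) ∧
      (∀ c ∈ IsLocalRing.maximalIdeal C, ((1 : Wr) ⊗ₜ[B] c) ∈ q) := by
  haveI : Nontrivial (IsLocalRing.ResidueField Wr ⊗[IsLocalRing.ResidueField B]
      IsLocalRing.ResidueField C) :=
    Algebra.TensorProduct.nontrivial_of_algebraMap_injective_of_isDomain _ _ _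
      (algebraMap (IsLocalRing.ResidueField B) (IsLocalRing.ResidueField Wr)).injective
      (algebraMap (IsLocalRing.ResidueField B) (IsLocalRing.ResidueField C)).injective
  obtain ⟨𝔪, h𝔪⟩ := Ideal.exists_maximal (IsLocalRing.ResidueField Wr ⊗[IsLocalRing.ResidueField B]
      IsLocalRing.ResidueField C)
  haveI := h𝔪.isPrime
  let a : Wr →+* (IsLocalRing.ResidueField Wr ⊗[IsLocalRing.ResidueField B]
      IsLocalRing.ResidueField C) ⧸ 𝔪 :=
    (Ideal.Quotient.mk 𝔪).comp ((Algebra.TensorProduct.includeLeftRingHom).comp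
      (IsLocalRing.residue Wr))
  let c : C →+* (IsLocalRing.ResidueField Wr ⊗[IsLocalRing.ResidueField B]
      IsLocalRing.ResidueField C) ⧸ 𝔪 :=
    (Ideal.Quotient.mk 𝔪).comp ((Algebra.TensorProduct.includeRight
      (R := IsLocalRing.ResidueField B) (A := IsLocalRing.ResidueField Wr)
      (B := IsLocalRing.ResidueField C)).toRingHom.comp (IsLocalRing.residue C))
  have ha : ∀ w : Wr, a w = Ideal.Quotient.mk 𝔪 (IsLocalRing.residue Wr w ⊗ₜ 1) := fun _ => rfl
  have hc : ∀ x : C, c x = Ideal.Quotient.mk 𝔪 (1 ⊗ₜ IsLocalRing.residue C x) := fun _ => rfl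
  have hagree : ∀ b : B, a (algebraMap B Wr b) = c (algebraMap B C b) := by
    intro b
    rw [ha, hc, ← IsLocalRing.ResidueField.algebraMap_residue,
      ← IsLocalRing.ResidueField.algebraMap_residue, ← Algebra.TensorProduct.algebraMap_apply,
      ← Algebra.TensorProduct.algebraMap_apply']
  letI : Algebra B ((IsLocalRing.ResidueField Wr ⊗[IsLocalRing.ResidueField B]
      IsLocalRing.ResidueField C) ⧸ 𝔪) := (a.comp (algebraMap B Wr)).toAlgebra
  let aₐ : Wr →ₐ[B] (IsLocalRing.ResidueField Wr ⊗[IsLocalRing.ResidueField B]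
      IsLocalRing.ResidueField C) ⧸ 𝔪 := { a with commutes' := fun _ => rfl }
  let cₐ : C →ₐ[B] (IsLocalRing.ResidueField Wr ⊗[IsLocalRing.ResidueField B]
      IsLocalRing.ResidueField C) ⧸ 𝔪 := { c with commutes' := fun b => (hagree b).symm }
  refine ⟨RingHom.ker (Algebra.TensorProduct.productMap aₐ cₐ).toRingHom,
    RingHom.ker_isPrime _, ?_, ?_⟩
  · intro w hw
    rw [RingHom.mem_ker]
    show Algebra.TensorProduct.productMap aₐ cₐ (w ⊗ₜ 1) = 0
    rw [Algebra.TensorProduct.productMap_left_apply]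
    show a w = 0
    rw [ha, (IsLocalRing.residue_eq_zero_iff w).mpr hw, TensorProduct.zero_tmul, map_zero]
  · intro x hx
    rw [RingHom.mem_ker]
    show Algebra.TensorProduct.productMap aₐ cₐ (1 ⊗ₜ x) = 0
    rw [Algebra.TensorProduct.productMap_right_apply]
    show c x = 0
    rw [hc, (IsLocalRing.residue_eq_zero_iff x).mpr hx, TensorProduct.tmul_zero, map_zero]

theorem exists_compositum_aux [IsDedekindDomain B] [IsLocalHom (algebraMap B Wr)]
    [IsLocalHom (algebraMap B C)]
    (hW : Function.Injective (algebraMap B Wr)) (hC : Function.Injective (algebraMap B C))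
    {M M₀ : Type u} [Field M] [Field M₀] [Algebra Wr M] [IsFractionRing Wr M] [Algebra C M₀]
    [IsFractionRing C M₀] :
    ∃ (M' : Type u) (_ : Field M') (j : M →+* M') (i : M₀ →+* M') (W' : ValuationSubring M'),
      (∀ b : B, j (algebraMap Wr M (algebraMap B Wr b)) =
        i (algebraMap C M₀ (algebraMap B C b))) ∧
      (∀ E : Subfield M', (∀ m : M, j m ∈ E) → (∀ m : M₀, i m ∈ E) → ∀ y : M', y ∈ E) ∧
      (∀ w : Wr, j (algebraMap Wr M w) ∈ W') ∧
      (∀ w ∈ IsLocalRing.maximalIdeal Wr, W'.valuation (j (algebraMap Wr M w)) < 1) ∧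
      (∀ c : C, i (algebraMap C M₀ c) ∈ W') ∧
      (∀ c ∈ IsLocalRing.maximalIdeal C, W'.valuation (i (algebraMap C M₀ c)) < 1) := by
  classical
  haveI : Module.IsTorsionFree B C := Module.isTorsionFree_iff_algebraMap_injective.mpr hC
  haveI : Module.IsTorsionFree B Wr := Module.isTorsionFree_iff_algebraMap_injective.mpr hW
  obtain ⟨q, hq, hqW, hqC⟩ := exists_prime_over (B := B) (Wr := Wr) (C := C)
  obtain ⟨p, hpmin, hpq⟩ := Ideal.exists_minimalPrimes_le (I := ⊥) (J := q) bot_le
  haveI hpprime : p.IsPrime := Ideal.minimalPrimes_isPrime hpmin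
  have hdisj := Ideal.disjoint_nonZeroDivisors_of_mem_minimalPrimes (R := Wr ⊗[B] C) (p := p) hpmin
  let ι : Wr ⊗[B] C →+* FractionRing ((Wr ⊗[B] C) ⧸ p) :=
    (algebraMap ((Wr ⊗[B] C) ⧸ p) (FractionRing ((Wr ⊗[B] C) ⧸ p))).comp (Ideal.Quotient.mk p)
  have hιker : ∀ r, ι r = 0 ↔ r ∈ p := by
    intro r
    show algebraMap ((Wr ⊗[B] C) ⧸ p) (FractionRing ((Wr ⊗[B] C) ⧸ p))
      (Ideal.Quotient.mk p r) = 0 ↔ _
    rw [map_eq_zero_iff _ (IsFractionRing.injective _ _), Ideal.Quotient.eq_zero_iff_mem]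
  have hnzd : ∀ r ∈ nonZeroDivisors (Wr ⊗[B] C), ι r ≠ 0 := by
    intro r hr h0
    exact Set.disjoint_left.mp hdisj ((hιker r).mp h0) hr
  let jW : Wr →+* FractionRing ((Wr ⊗[B] C) ⧸ p) :=
    ι.comp Algebra.TensorProduct.includeLeftRingHom
  let iC : C →+* FractionRing ((Wr ⊗[B] C) ⧸ p) :=
    ι.comp (Algebra.TensorProduct.includeRight (R := B) (A := Wr) (B := C)).toRingHom
  have hjW : Function.Injective jW := by
    rw [injective_iff_map_eq_zero]
    intro w hw
    by_contra hne
    exact hnzd _ (tmul_one_mem_nonZeroDivisors (B := B) (C := C) hne) hw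
  have hiC : Function.Injective iC := by
    rw [injective_iff_map_eq_zero]
    intro c hc
    by_contra hne
    exact hnzd _ (one_tmul_mem_nonZeroDivisors (B := B) (Wr := Wr) hne) hc
  have hj : ∀ w : Wr, IsFractionRing.lift (K := M) hjW (algebraMap Wr M w) = ι (w ⊗ₜ 1) :=
    fun w => IsFractionRing.lift_algebraMap hjW w
  have hi : ∀ c : C, IsFractionRing.lift (K := M₀) hiC (algebraMap C M₀ c) = ι (1 ⊗ₜ c) :=
    fun c => IsFractionRing.lift_algebraMap hiC c
  have hunit : ∀ y : q.primeCompl, IsUnit (ι y) := fun y =>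
    isUnit_iff_ne_zero.mpr (fun h => y.2 (hpq ((hιker _).mp h)))
  obtain ⟨W', hW'⟩ := Groth.Agent.H86.TotRam.exists_dominates (Localization.AtPrime q)
    (FractionRing ((Wr ⊗[B] C) ⧸ p)) (IsLocalization.lift (M := q.primeCompl) (g := ι) hunit)
  have hg : ∀ r, IsLocalization.lift (M := q.primeCompl) (g := ι) hunit
      (algebraMap _ (Localization.AtPrime q) r) = ι r := fun r => IsLocalization.lift_eq _ r
  have hι_mem : ∀ r, ι r ∈ W' := fun r => hg r ▸ hW'.1 _
  have hι_lt : ∀ r ∈ q, W'.valuation (ι r) < 1 := by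
    intro r hr
    rw [← hg r]
    apply hW'.2
    exact (IsLocalization.AtPrime.to_map_mem_maximal_iff (Localization.AtPrime q) q r).mpr hr
  refine ⟨FractionRing ((Wr ⊗[B] C) ⧸ p), inferInstance, IsFractionRing.lift (K := M) hjW,
    IsFractionRing.lift (K := M₀) hiC, W', ?_, ?_, ?_, ?_, ?_, ?_⟩
  · intro b
    rw [hj, hi]
    congr 1
    rw [← Algebra.TensorProduct.algebraMap_apply, ← Algebra.TensorProduct.algebraMap_apply']
  · intro E hEj hEi y
    have hE : ∀ r : Wr ⊗[B] C, ι r ∈ E := by
      intro r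
      induction r using TensorProduct.induction_on with
      | zero => rw [map_zero]; exact zero_mem _
      | tmul w c =>
        have : w ⊗ₜ[B] c = (w ⊗ₜ[B] (1 : C)) * ((1 : Wr) ⊗ₜ[B] c) := by
          rw [Algebra.TensorProduct.tmul_mul_tmul, mul_one, one_mul]
        rw [this, map_mul, ← hj, ← hi]
        exact mul_mem (hEj _) (hEi _)
      | add x y hx hy => rw [map_add]; exact add_mem hx hy
    obtain ⟨a, b, _, rfl⟩ := IsFractionRing.div_surjective (A := (Wr ⊗[B] C) ⧸ p) y
    obtain ⟨a, rfl⟩ := Ideal.Quotient.mk_surjective a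
    obtain ⟨b, rfl⟩ := Ideal.Quotient.mk_surjective b
    exact div_mem (hE a) (hE b)
  · intro w; rw [hj]; exact hι_mem _
  · intro w hw; rw [hj]; exact hι_lt _ (hqW w hw)
  · intro c; rw [hi]; exact hι_mem _
  · intro c hc; rw [hi]; exact hι_lt _ (hqC c hc)

end Comp


section Main

theorem exists_compositum {B C L M₀ M : Type u} [CommRing B] [IsDomain B]
    [IsDiscreteValuationRing B]
    [CommRing C] [IsDomain C] [IsDiscreteValuationRing C] [Algebra B C]
    [IsLocalHom (algebraMap B C)] (hinj : Function.Injective (algebraMap B C))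
    [Field L] [Field M₀] [Field M] [Algebra L M₀] [Algebra L M] [Algebra B L] [IsFractionRing B L]
    [Algebra C M₀] [IsFractionRing C M₀] [Algebra B M₀] [IsScalarTower B C M₀]
    [IsScalarTower B L M₀]
    (W : ValuationSubring M) (hW : EtRam.Dominates B ((algebraMap L M).comp (algebraMap B L)) W) :
    ∃ (M' : Type u) (_ : Field M') (j : M →+* M') (i : M₀ →+* M') (W' : ValuationSubring M'),
      (∀ l : L, j (algebraMap L M l) = i (algebraMap L M₀ l)) ∧
      (∀ E : Subfield M', (∀ m : M, j m ∈ E) → (∀ m : M₀, i m ∈ E) → ∀ y : M', y ∈ E) ∧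
      EtRam.Dominates C (i.comp (algebraMap C M₀)) W' ∧ W'.comap j = W := by
  classical
  have hgB_inj : Function.Injective ((algebraMap L M).comp (algebraMap B L)) :=
    (algebraMap L M).injective.comp (IsFractionRing.injective B L)
  letI algBW : Algebra B W :=
    (RingHom.codRestrict ((algebraMap L M).comp (algebraMap B L)) W hW.1).toAlgebra
  have hBW_coe : ∀ b : B, ((algebraMap B W b : W) : M) = algebraMap L M (algebraMap B L b) :=
    fun _ => rfl
  have hBW_inj : Function.Injective (algebraMap B W) := by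
    intro b b' h
    apply hgB_inj
    have := congrArg Subtype.val h
    exact this
  haveI : IsLocalHom (algebraMap B W) := by
    constructor
    intro b hb
    by_contra hnu
    have hb' : b ∈ IsLocalRing.maximalIdeal B := (IsLocalRing.mem_maximalIdeal b).mpr hnu
    have h1 := hW.2 b hb'
    have h2 : algebraMap B W b ∈ IsLocalRing.maximalIdeal W :=
      (ValuationSubring.valuation_lt_one_iff W _).mpr h1
    exact (IsLocalRing.mem_maximalIdeal _).mp h2 hb
  obtain ⟨M', instM', j, i, W', h1, h2, h3, h4, h5, h6⟩ :=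
    exists_compositum_aux (B := B) (Wr := W) (C := C) hBW_inj hinj (M := M) (M₀ := M₀)
  refine ⟨M', instM', j, i, W', ?_, h2, ⟨h5, h6⟩, ?_⟩
  · intro l
    have hh : (j.comp (algebraMap L M)) = (i.comp (algebraMap L M₀)) := by
      apply IsLocalization.ringHom_ext (nonZeroDivisors B)
      refine RingHom.ext fun b => ?_
      show j (algebraMap L M (algebraMap B L b)) = i (algebraMap L M₀ (algebraMap B L b))
      rw [← IsScalarTower.algebraMap_apply B L M₀, IsScalarTower.algebraMap_apply B C M₀, ← h1 b]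
      rfl
    exact DFunLike.congr_fun hh l
  · ext x
    rw [ValuationSubring.mem_comap]
    constructor
    · intro hx
      by_contra hxW
      have hx0 : x ≠ 0 := fun h0 => hxW (h0 ▸ zero_mem _)
      have hinvW : x⁻¹ ∈ W := (W.mem_or_inv_mem x).resolve_left hxW
      have hlt : W.valuation x⁻¹ < 1 := by
        rw [val_lt_one_iff]; right; rw [inv_inv]; exact hxW
      have hmem : (⟨x⁻¹, hinvW⟩ : W) ∈ IsLocalRing.maximalIdeal W :=
        (ValuationSubring.valuation_lt_one_iff W _).mpr hlt
      have h7 := h4 _ hmem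
      have h8 : algebraMap W M ⟨x⁻¹, hinvW⟩ = x⁻¹ := rfl
      rw [h8, val_lt_one_iff, map_inv₀, inv_inv] at h7
      rcases h7 with h7 | h7
      · exact hx0 ((map_eq_zero j).mp (inv_eq_zero.mp h7))
      · exact h7 hx
    · intro hx
      exact h3 ⟨x, hx⟩

variable (B C K L M₀ K₁ : Type u)
    [CommRing B] [IsDomain B] [IsDiscreteValuationRing B]
    [CommRing C] [IsDomain C] [IsDiscreteValuationRing C] [Algebra B C]
    [IsLocalHom (algebraMap B C)]
    [Field K] [Field L] [Field M₀] [Field K₁] [Algebra K L] [Algebra K M₀] [Algebra L M₀]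
    [IsScalarTower K L M₀]
    [Algebra K K₁] [FiniteDimensional K K₁]
    [Algebra B L] [IsFractionRing B L]
    [Algebra C M₀] [IsFractionRing C M₀] [Algebra B M₀]
    [IsScalarTower B C M₀] [IsScalarTower B L M₀]

theorem forall_down (hinj : Function.Injective (algebraMap B C))
    (P : ∀ (M : Type u) [Field M], ValuationSubring M → (K₁ →+* M) → Prop)
    (hP : ∀ (M M' : Type u) [Field M] [Field M'] (j : M →+* M') (f : K₁ →+* M)
      (W' : ValuationSubring M'), P M' W' (j.comp f) → P M (W'.comap j) f)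
    (hC : EtRam.ForallLocalExt C K M₀ K₁ P) : EtRam.ForallLocalExt B K L K₁ P := by
  intro M _ _ _ _ _ _ hgen W hW
  obtain ⟨M', instM', j, i, W', hL, hgen', hdom, hcomap⟩ :=
    exists_compositum (B := B) (C := C) (L := L) (M₀ := M₀) hinj W hW
  letI : Algebra M₀ M' := i.toAlgebra
  letI : Algebra K₁ M' := (j.comp (algebraMap K₁ M)).toAlgebra
  letI : Algebra K M' := (j.comp (algebraMap K M)).toAlgebra
  haveI : IsScalarTower K K₁ M' := IsScalarTower.of_algebraMap_eq (fun x => by
    show j (algebraMap K M x) = j (algebraMap K₁ M (algebraMap K K₁ x))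
    rw [← IsScalarTower.algebraMap_apply K K₁ M])
  haveI : IsScalarTower K M₀ M' := IsScalarTower.of_algebraMap_eq (fun x => by
    show j (algebraMap K M x) = i (algebraMap K M₀ x)
    rw [IsScalarTower.algebraMap_apply K L M, IsScalarTower.algebraMap_apply K L M₀, hL])
  have halg : ∀ x ∈ Set.range (algebraMap K₁ M'), IsAlgebraic M₀ x := by
    rintro _ ⟨t, rfl⟩
    have h1 : IsAlgebraic K t := Algebra.IsAlgebraic.isAlgebraic t
    have h2 : IsAlgebraic K (algebraMap K₁ M' t) := h1.algebraMap
    exact h2.tower_top M₀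
  have hadj : Algebra.adjoin M₀ (Set.range (algebraMap K₁ M')) = ⊤ := by
    rw [← IntermediateField.adjoin_eq_top_iff_of_isAlgebraic halg, eq_top_iff]
    intro y _
    refine hgen' (IntermediateField.adjoin M₀ (Set.range (algebraMap K₁ M'))).toSubfield
      ?_ ?_ y
    · intro m
      have hm : m ∈ Algebra.adjoin L (Set.range (algebraMap K₁ M)) := by
        rw [hgen]; exact Algebra.mem_top
      show j m ∈ IntermediateField.adjoin M₀ (Set.range (algebraMap K₁ M'))
      induction hm using Algebra.adjoin_induction with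
      | mem x hx =>
        obtain ⟨t, rfl⟩ := hx
        exact IntermediateField.subset_adjoin _ _ ⟨t, rfl⟩
      | algebraMap l =>
        rw [hL]
        exact IntermediateField.algebraMap_mem _ (algebraMap L M₀ l)
      | add x y _ _ hx hy => rw [map_add]; exact add_mem hx hy
      | mul x y _ _ hx hy => rw [map_mul]; exact mul_mem hx hy
    · intro m
      exact IntermediateField.algebraMap_mem _ m
  have h := hC M' hadj W' hdom
  have h2 : P M (W'.comap j) (algebraMap K₁ M) := hP M M' j (algebraMap K₁ M) W' h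
  rw [hcomap] at h2
  exact h2

end Main

end Groth.Agent.H80.SolTower
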