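import Mathlib

/-!
# (CHARTA) for S3710 (helper75): affine chart of the relative affine space over an affine open
-/

set_option autoImplicit false
open CategoryTheory CategoryTheory.Limits AlgebraicGeometry
universe u

namespace Groth.Agent.H80.KumFS_CHARTA

theorem exists_openImmersion_affineSpace {S : Scheme.{u}} (σ : Type u) (U : S.Opens)
    (hU : IsAffineOpen U) :
    ∃ θ : Spec (CommRingCat.of (MvPolynomial σ Γ(S, U))) ⟶ AffineSpace σ S, IsOpenImmersion θ ∧
      θ ≫ (AffineSpace σ S ↘ S) = Spec.map (CommRingCat.ofHom MvPolynomial.C) ≫ hU.fromSpec ∧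
      ∀ j, (Scheme.ΓSpecIso _).hom.hom (θ.appTop.hom (AffineSpace.coord S j)) =
        MvPolynomial.X j := by
  have hopen : IsOpenImmersion (AffineSpace.map σ hU.fromSpec) :=
    MorphismProperty.of_isPullback (P := @IsOpenImmersion)
      (AffineSpace.isPullback_map (n := σ) hU.fromSpec).flip inferInstance
  refine ⟨(AffineSpace.SpecIso σ Γ(S, U)).inv ≫ AffineSpace.map σ hU.fromSpec, inferInstance,
    ?_, ?_⟩
  · rw [Category.assoc, AffineSpace.map_over, AffineSpace.SpecIso_inv_over_assoc]
  · intro j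
    have h1 : (AffineSpace.map σ hU.fromSpec).appTop (AffineSpace.coord S j) =
        AffineSpace.coord _ j := AffineSpace.map_appTop_coord _ _
    have h2 := AffineSpace.SpecIso_inv_appTop_coord (n := σ) Γ(S, U) j
    have h3 : ((AffineSpace.SpecIso σ Γ(S, U)).inv ≫ AffineSpace.map σ hU.fromSpec).appTop =
        (AffineSpace.map σ hU.fromSpec).appTop ≫ (AffineSpace.SpecIso σ Γ(S, U)).inv.appTop :=
      Scheme.Hom.comp_appTop _ _
    rw [h3]
    change (Scheme.ΓSpecIso _).hom.hom ((AffineSpace.SpecIso σ Γ(S, U)).inv.appTop.hom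
      ((AffineSpace.map σ hU.fromSpec).appTop.hom (AffineSpace.coord S j))) = _
    erw [h1, h2]
    change ((Scheme.ΓSpecIso _).inv ≫ (Scheme.ΓSpecIso _).hom) _ = _
    rw [Iso.inv_hom_id]
    rfl

end Groth.Agent.H80.KumFS_CHARTA
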