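import Mathlib
import Groth.Prelude.Def_BlowUp2

/-!
# (UI) for S8859 (helper95): uniqueness of blow-ups
-/

set_option autoImplicit false
universe u
open CategoryTheory CategoryTheory.Limits AlgebraicGeometry

namespace Groth.Agent.H80.BUEX_UI

theorem UI {X B₁ B₂ : Scheme.{u}} (I : X.IdealSheafData) (b₁ : B₁ ⟶ X) (b₂ : B₂ ⟶ X)
    (h₁ : BlowUp.IsBlowUp b₁ I) (h₂ : BlowUp.IsBlowUp b₂ I) (l : B₁ ⟶ B₂) (hl : l ≫ b₂ = b₁) :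
    IsIso l := by
  obtain ⟨m, hm, -⟩ := h₁.2 B₂ b₂ h₂.1
  have e1 : l ≫ m = 𝟙 B₁ := by
    obtain ⟨k, -, hk⟩ := h₁.2 B₁ b₁ h₁.1
    rw [hk (l ≫ m) (by show (l ≫ m) ≫ b₁ = b₁; rw [Category.assoc, hm, hl]),
      hk (𝟙 B₁) (Category.id_comp _)]
  have e2 : m ≫ l = 𝟙 B₂ := by
    obtain ⟨k, -, hk⟩ := h₂.2 B₂ b₂ h₂.1
    rw [hk (m ≫ l) (by show (m ≫ l) ≫ b₂ = b₂; rw [Category.assoc, hl, hm]),
      hk (𝟙 B₂) (Category.id_comp _)]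
  exact ⟨m, e1, e2⟩

end Groth.Agent.H80.BUEX_UI
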