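import Mathlib
import Groth.Prelude.Def_BlowUp2
import Groth.Agent.S7927
import Groth.Agent.H80.BUEX_UI

/-!
# (BCO) for S8859 (helper95): a map of blow-ups over a flat base change is a pullback square
-/

set_option autoImplicit false
universe u
open CategoryTheory CategoryTheory.Limits AlgebraicGeometry

namespace Groth.Agent.H80.BUEX_BCO

theorem BCO {U V B B' : Scheme.{u}} (J : V.IdealSheafData) (j : U ⟶ V) [Flat j]
    (b : B ⟶ V) (hb : BlowUp.IsBlowUp b J) (b' : B' ⟶ U) (hb' : BlowUp.IsBlowUp b' (J.comap j))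
    (l : B' ⟶ B) (hl : l ≫ b = b' ≫ j) : IsPullback l b' b j := by
  have hpb : BlowUp.IsBlowUp (pullback.snd b j) (J.comap j) :=
    Groth.Agent.S7927.isBlowUp_pullback_of_flat b j J hb
  have hc : pullback.lift l b' hl ≫ pullback.snd b j = b' := pullback.lift_snd _ _ _
  haveI : IsIso (pullback.lift l b' hl) :=
    Groth.Agent.H80.BUEX_UI.UI (J.comap j) b' (pullback.snd b j) hb' hpb _ hc
  exact IsPullback.of_iso_pullback ⟨hl⟩ (asIso (pullback.lift l b' hl))
    (pullback.lift_fst _ _ _) (pullback.lift_snd _ _ _)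

end Groth.Agent.H80.BUEX_BCO
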