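import Groth.Agent.H80.GenFreeRed5

/-!
# Generic flatness over a reduced base: algebra side (H80)

An intrinsic notion of a good element for a finite type algebra, monotone under divisibility,
and its consequences for arbitrary models of the localizations.
-/

set_option autoImplicit false

universe u

namespace Groth.Agent.H80.GenFreeRed

section IntrGood

variable {R B : Type u} [CommRing R] [CommRing B] [Algebra R B]

/-- `f` is good for the `R`-algebra `B`: after inverting `f`, `B` becomes free and finitely
presented (stated intrinsically). -/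
def IntrGood (R B : Type u) [CommRing R] [CommRing B] [Algebra R B] (f : R) : Prop :=
  GF R B f ∧ ∃ (n : ℕ) (φ : MvPolynomial (Fin n) R →ₐ[R] B), Function.Surjective φ ∧
    ∃ G : Finset (MvPolynomial (Fin n) R), (↑G : Set (MvPolynomial (Fin n) R)) ⊆ RingHom.ker φ ∧
      ∀ l ∈ RingHom.ker φ, ∃ k : ℕ, algebraMap R (MvPolynomial (Fin n) R) f ^ k * l ∈
        Ideal.span (↑G : Set (MvPolynomial (Fin n) R))

theorem IntrGood.of_dvd {f f' : R} (h : IntrGood R B f) (hd : f ∣ f') : IntrGood R B f' := by
  obtain ⟨h1, n, φ, hφ, G, hG, H⟩ := h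
  refine ⟨h1.of_dvd hd, n, φ, hφ, G, hG, fun l hl => ?_⟩
  obtain ⟨k, hk⟩ := H l hl
  obtain ⟨u, rfl⟩ := hd
  refine ⟨k, ?_⟩
  rw [map_mul, mul_pow, mul_comm (algebraMap R _ f ^ k), mul_assoc]
  exact Ideal.mul_mem_left _ _ hk

theorem exists_intrGood [Algebra.FiniteType R B] (g : R) (hg : g ≠ 0) :
    ∃ h : R, g * h ≠ 0 ∧ IntrGood R B (g * h) := by
  classical
  obtain ⟨n, φ, hφ⟩ := Algebra.FiniteType.iff_quotient_mvPolynomial''.mp
    (inferInstance : Algebra.FiniteType R B)
  letI modPS : Module (MvPolynomial (Fin n) R) B :=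
    Module.compHom B (φ : MvPolynomial (Fin n) R →+* B)
  have hsmulS : ∀ (p : MvPolynomial (Fin n) R) (y : B), p • y = φ p * y := fun _ _ => rfl
  haveI : IsScalarTower R (MvPolynomial (Fin n) R) B :=
    ⟨fun r p y => by rw [hsmulS, hsmulS, map_smul, smul_mul_assoc]⟩
  haveI : Module.Finite (MvPolynomial (Fin n) R) B := by
    refine ⟨⟨{1}, ?_⟩⟩
    rw [eq_top_iff]
    intro y _
    obtain ⟨p, hp⟩ := hφ y
    rw [Finset.coe_singleton]
    exact Submodule.mem_span_singleton.mpr ⟨p, by rw [hsmulS, hp, mul_one]⟩
  obtain ⟨h, hgh, hGFS, hHFPS⟩ := claim R n B g hg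
  refine ⟨h, hgh, hGFS, n, φ, hφ, ?_⟩
  let π₁ : MvPolynomial (Fin n) R →ₗ[MvPolynomial (Fin n) R] B :=
    LinearMap.toSpanSingleton _ B 1
  have hπ₁ : ∀ p, π₁ p = φ p := fun p => by
    show p • (1 : B) = φ p
    rw [hsmulS, mul_one]
  have hπ₁s : Function.Surjective π₁ := fun y => by
    obtain ⟨p, hp⟩ := hφ y
    exact ⟨p, by rw [hπ₁, hp]⟩
  obtain ⟨G, hG, H⟩ := hHFPS.hfg_ker π₁ hπ₁s
  refine ⟨G, ?_, ?_⟩
  · intro y hy
    have h0 := hG hy
    rw [SetLike.mem_coe, LinearMap.mem_ker, hπ₁] at h0
    exact h0
  · intro l hl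
    obtain ⟨k, hk⟩ := H l (by rw [LinearMap.mem_ker, hπ₁]; exact hl)
    exact ⟨k, hk⟩

variable (R' B' : Type u) [CommRing R'] [CommRing B'] [Algebra R R'] [Algebra B B']

theorem IntrGood.fp_map {f : R} (h : IntrGood R B f) [IsLocalization.Away f R']
    [IsLocalization.Away (algebraMap R B f) B'] :
    (IsLocalization.Away.map R' B' (algebraMap R B) f).FinitePresentation := by
  obtain ⟨-, n, φ, hφ, G, hG, H⟩ := h
  have H1 := fp_away φ hφ f G hG H
  let eR : Localization.Away f ≃ₐ[R] R' := IsLocalization.algEquiv (Submonoid.powers f) _ _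
  let eB : Localization.Away (algebraMap R B f) ≃ₐ[B] B' :=
    IsLocalization.algEquiv (Submonoid.powers (algebraMap R B f)) _ _
  have H2 := RingHom.finitePresentation_respectsIso.1 _ eB.toRingEquiv
    (RingHom.finitePresentation_respectsIso.2 _ eR.symm.toRingEquiv H1)
  have e : IsLocalization.Away.map R' B' (algebraMap R B) f =
      eB.toRingEquiv.toRingHom.comp ((Localization.awayMap (algebraMap R B) f).comp
        eR.symm.toRingEquiv.toRingHom) := by
    apply IsLocalization.ringHom_ext (Submonoid.powers f)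
    ext x
    simp only [IsLocalization.Away.map, Localization.awayMap, RingHom.comp_apply,
      IsLocalization.map_eq, RingEquiv.toRingHom_eq_coe, RingHom.coe_coe,
      AlgEquiv.coe_ringEquiv, AlgEquiv.commutes]
  rw [e]
  exact H2

theorem IntrGood.flat_map {f : R} (h : IntrGood R B f) [IsLocalization.Away f R']
    [IsLocalization.Away (algebraMap R B f) B'] :
    (IsLocalization.Away.map R' B' (algebraMap R B) f).Flat := by
  have hfree := h.1.free
  letI algR'B' : Algebra R' B' := (IsLocalization.Away.map R' B' (algebraMap R B) f).toAlgebra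
  letI algRB' : Algebra R B' := ((algebraMap B B').comp (algebraMap R B)).toAlgebra
  haveI : IsScalarTower R B B' := IsScalarTower.of_algebraMap_eq (fun _ => rfl)
  haveI : IsScalarTower R R' B' := IsScalarTower.of_algebraMap_eq (fun r => by
    show algebraMap B B' (algebraMap R B r) =
      IsLocalization.Away.map R' B' (algebraMap R B) f (algebraMap R R' r)
    rw [IsLocalization.Away.map, IsLocalization.map_eq])
  haveI : IsLocalization (Algebra.algebraMapSubmonoid B (Submonoid.powers f)) B' := by
    rw [Algebra.algebraMapSubmonoid, Submonoid.map_powers]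
    infer_instance
  haveI : IsLocalizedModule (Submonoid.powers f) (IsScalarTower.toAlgHom R B B').toLinearMap :=
    isLocalizedModule_iff_isLocalization.mpr inferInstance
  have h1 : Module.Flat (Localization.Away f) (LocalizedModule (Submonoid.powers f) B) :=
    inferInstance
  have h2 : Module.Flat R (LocalizedModule (Submonoid.powers f) B) :=
    (Module.flat_iff_of_isLocalization (Localization.Away f) (Submonoid.powers f) _).mp h1
  have h3 : Module.Flat R B' :=
    Module.Flat.of_linearEquiv
      (IsLocalizedModule.iso (Submonoid.powers f) (IsScalarTower.toAlgHom R B B').toLinearMap).symm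
  exact (Module.flat_iff_of_isLocalization R' (Submonoid.powers f) _).mpr h3

end IntrGood

end Groth.Agent.H80.GenFreeRed
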