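import Mathlib
import Groth.Prelude.Def_FEt
import Groth.Agent.H69.Sec.S1

/-!
# (DJ) for S14460 (helper69): graphs of distinct elements of a freely acting group are disjoint
-/

set_option autoImplicit false
universe u
open CategoryTheory CategoryTheory.Limits AlgebraicGeometry

namespace Groth.Agent.H80.Sec_DJ

theorem disjoint_of_free {X : Scheme.{u}} (Y : FEt.Cat X) (G : Type u) [Group G] (ρ : G →* Aut Y)
    (hfree : ∀ g : G, g ≠ 1 → ∀ (K : Type u) [Field K] (y : Spec (CommRingCat.of K) ⟶ Y.left),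
      y ≫ (ρ g).hom.left ≠ y) (g h : G) (hgh : g ≠ h) :
    Disjoint (Set.range (pullback.lift (𝟙 Y.left) (ρ g).hom.left
        ((Category.id_comp Y.hom).trans (Over.w (ρ g).hom.hom).symm) :
        Y.left ⟶ pullback Y.hom Y.hom).base)
      (Set.range (pullback.lift (𝟙 Y.left) (ρ h).hom.left
        ((Category.id_comp Y.hom).trans (Over.w (ρ h).hom.hom).symm) :
        Y.left ⟶ pullback Y.hom Y.hom).base) := by
  haveI : IsFinite Y.hom := Y.prop.1
  haveI : Etale Y.hom := Y.prop.2
  set σg : Y.left ⟶ pullback Y.hom Y.hom := pullback.lift (𝟙 Y.left) (ρ g).hom.left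
    ((Category.id_comp Y.hom).trans (Over.w (ρ g).hom.hom).symm) with hσg
  set σh : Y.left ⟶ pullback Y.hom Y.hom := pullback.lift (𝟙 Y.left) (ρ h).hom.left
    ((Category.id_comp Y.hom).trans (Over.w (ρ h).hom.hom).symm) with hσh
  haveI : IsOpenImmersion σg := Groth.Agent.H69.Sec.isOpenImmersion_of_section
    (pullback.fst Y.hom Y.hom) σg (pullback.lift_fst _ _ _)
  haveI : IsOpenImmersion σh := Groth.Agent.H69.Sec.isOpenImmersion_of_section
    (pullback.fst Y.hom Y.hom) σh (pullback.lift_fst _ _ _)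
  rw [Set.disjoint_left]
  rintro z hzg hzh
  let P := pullback Y.hom Y.hom
  let zt : Spec (P.residueField z) ⟶ P := P.fromSpecResidueField z
  have hrange : Set.range zt.base = {z} := Scheme.range_fromSpecResidueField z
  have hg' : Set.range zt.base ⊆ Set.range σg.base := by
    rw [hrange, Set.singleton_subset_iff]; exact hzg
  have hh' : Set.range zt.base ⊆ Set.range σh.base := by
    rw [hrange, Set.singleton_subset_iff]; exact hzh
  let a := IsOpenImmersion.lift σg zt hg'
  let b := IsOpenImmersion.lift σh zt hh'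
  have ha : a ≫ σg = zt := IsOpenImmersion.lift_fac _ _ _
  have hb : b ≫ σh = zt := IsOpenImmersion.lift_fac _ _ _
  have hgfst : σg ≫ pullback.fst Y.hom Y.hom = 𝟙 _ := pullback.lift_fst _ _ _
  have hhfst : σh ≫ pullback.fst Y.hom Y.hom = 𝟙 _ := pullback.lift_fst _ _ _
  have hgsnd : σg ≫ pullback.snd Y.hom Y.hom = (ρ g).hom.left := pullback.lift_snd _ _ _
  have hhsnd : σh ≫ pullback.snd Y.hom Y.hom = (ρ h).hom.left := pullback.lift_snd _ _ _
  have hab : a = b := by
    have h1 : a = zt ≫ pullback.fst Y.hom Y.hom := by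
      rw [← ha, Category.assoc, hgfst, Category.comp_id]
    have h2 : b = zt ≫ pullback.fst Y.hom Y.hom := by
      rw [← hb, Category.assoc, hhfst, Category.comp_id]
    rw [h1, h2]
  have hkey : a ≫ (ρ g).hom.left = a ≫ (ρ h).hom.left := by
    have h1 : a ≫ (ρ g).hom.left = zt ≫ pullback.snd Y.hom Y.hom := by
      rw [← ha, Category.assoc, hgsnd]
    have h2 : a ≫ (ρ h).hom.left = zt ≫ pullback.snd Y.hom Y.hom := by
      rw [hab, ← hb, Category.assoc, hhsnd]
    rw [h1, h2]
  have hk : g * h⁻¹ ≠ 1 := by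
    intro hk
    exact hgh (mul_inv_eq_one.mp hk)
  have hρ : (ρ (g * h⁻¹)).hom = (ρ h).inv ≫ (ρ g).hom := by
    rw [map_mul, map_inv]
    rfl
  have hleft : (ρ (g * h⁻¹)).hom.left = (ρ h).inv.left ≫ (ρ g).hom.left := by
    rw [hρ]; rfl
  have hinv : (ρ h).hom.left ≫ (ρ h).inv.left = 𝟙 _ := by
    have := congrArg (fun t => t.left) (ρ h).hom_inv_id
    exact this
  refine hfree (g * h⁻¹) hk (P.residueField z) (a ≫ (ρ h).hom.left) ?_
  rw [hleft, Category.assoc, ← Category.assoc (ρ h).hom.left, hinv, Category.id_comp, hkey]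

end Groth.Agent.H80.Sec_DJ
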