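-- helper80: a Lazard-type lemma for tensor powers: a tensor over a finite free module that dies
-- in the tensor power of a flat module already dies over a finite free module in between.
import Mathlib

set_option autoImplicit false
universe u

open scoped TensorProduct

namespace Groth.Agent.H80.FlatTen

section OneSlot

variable {A : Type*} [CommRing A] {N : Type*} [AddCommGroup N] [Module A N] [Module.Flat A N]
  {Y : Type*} [AddCommGroup Y] [Module A Y]

/-- the one slot lemma -/
theorem one_slot {n : ℕ} (g : (Fin n → A) →ₗ[A] N) (u : (Fin n → A) ⊗[A] Y)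
    (hu : g.rTensor Y u = 0) :
    ∃ (k : ℕ) (h : (Fin n → A) →ₗ[A] (Fin k → A)) (g' : (Fin k → A) →ₗ[A] N),
      g' ∘ₗ h = g ∧ h.rTensor Y u = 0 := by
  classical
  obtain ⟨c, rfl⟩ := TensorProduct.eq_repr_basis_left (Pi.basisFun A (Fin n)) u
  have hsum : (c.sum fun i y => (Pi.basisFun A (Fin n)) i ⊗ₜ[A] y) =
      ∑ i, (Pi.single i (1 : A) : Fin n → A) ⊗ₜ[A] c i := by
    rw [Finsupp.sum_fintype _ _ (fun i => TensorProduct.tmul_zero _ _)]
    refine Finset.sum_congr rfl (fun i _ => ?_)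
    rw [Pi.basisFun_apply]
  rw [hsum] at hu ⊢
  have hu' : ∑ i, c i ⊗ₜ[A] g (Pi.single i (1 : A)) = 0 := by
    have := congrArg (TensorProduct.comm A N Y) hu
    rw [map_sum, map_sum, map_zero] at this
    rw [← this]
    refine Finset.sum_congr rfl (fun i _ => ?_)
    rw [LinearMap.rTensor_tmul, TensorProduct.comm_tmul]
  have hinj : Function.Injective
      ((Submodule.span A (Set.range fun i => c i)).subtype.rTensor N) :=
    Module.Flat.rTensor_preserves_injective_linearMap _ (Submodule.injective_subtype _)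
  obtain ⟨k, a, y', h1, h2⟩ :=
    TensorProduct.vanishesTrivially_of_sum_tmul_eq_zero_of_rTensor_injective A hinj hu'
  refine ⟨k, Fintype.linearCombination A (fun i => (a i : Fin k → A)),
    Fintype.linearCombination A y', ?_, ?_⟩
  · refine LinearMap.pi_ext (fun i x => ?_)
    rw [LinearMap.comp_apply, Fintype.linearCombination_apply_single, map_smul,
      Fintype.linearCombination_apply, ← h1 i]
    have : (Pi.single i x : Fin n → A) = x • Pi.single i (1 : A) := by
      rw [← Pi.single_smul, smul_eq_mul, mul_one]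
    rw [this, map_smul]
  · rw [map_sum]
    have h3 : ∀ i : Fin n, (Fintype.linearCombination A (fun i => (a i : Fin k → A))).rTensor Y
        ((Pi.single i (1 : A) : Fin n → A) ⊗ₜ[A] c i) =
        ∑ j, (Pi.single j (1 : A) : Fin k → A) ⊗ₜ[A] (a i j • c i) := by
      intro i
      rw [LinearMap.rTensor_tmul, Fintype.linearCombination_apply_single, one_smul]
      conv_lhs => rw [pi_eq_sum_univ (a i)]
      rw [TensorProduct.sum_tmul]
      refine Finset.sum_congr rfl (fun j _ => ?_)
      rw [TensorProduct.smul_tmul]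
      congr 1
      funext l
      simp [Pi.single_apply, eq_comm]
    rw [Finset.sum_congr rfl (fun i _ => h3 i), Finset.sum_comm]
    refine Finset.sum_eq_zero (fun j _ => ?_)
    rw [← TensorProduct.tmul_sum, h2 j, TensorProduct.tmul_zero]

end OneSlot


section Shuffle

variable {A : Type*} [CommRing A]
  {Y X X' F F' : Type*} [AddCommGroup Y] [Module A Y] [AddCommGroup X] [Module A X]
  [AddCommGroup X'] [Module A X'] [AddCommGroup F] [Module A F] [AddCommGroup F'] [Module A F']

variable (A Y X F) in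
/-- `y ⊗ (x ⊗ f) ↦ f ⊗ (y ⊗ x)` -/
noncomputable def cE : Y ⊗[A] (X ⊗[A] F) ≃ₗ[A] F ⊗[A] (Y ⊗[A] X) :=
  (TensorProduct.assoc A Y X F).symm ≪≫ₗ TensorProduct.comm A (Y ⊗[A] X) F

@[simp] theorem cE_tmul (y : Y) (x : X) (f : F) :
    cE A Y X F (y ⊗ₜ[A] (x ⊗ₜ[A] f)) = f ⊗ₜ[A] (y ⊗ₜ[A] x) := by
  simp [cE]

theorem cE_nat (a : X →ₗ[A] X') (b : F →ₗ[A] F') (z : Y ⊗[A] (X ⊗[A] F)) :
    cE A Y X' F' ((TensorProduct.map a b).lTensor Y z) =
      TensorProduct.map b (a.lTensor Y) (cE A Y X F z) := by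
  induction z using TensorProduct.induction_on with
  | zero => simp
  | add z z' hz hz' => simp only [map_add, hz, hz']
  | tmul y w =>
    induction w using TensorProduct.induction_on with
    | zero => simp
    | add w w' hw hw' => simp only [TensorProduct.tmul_add, map_add, hw, hw']
    | tmul x f => simp

variable (A Y X F) in
/-- `y ⊗ (x ⊗ f) ↦ (y ⊗ f) ⊗ x` -/
noncomputable def dE : Y ⊗[A] (X ⊗[A] F) ≃ₗ[A] (Y ⊗[A] F) ⊗[A] X :=
  (LinearEquiv.lTensor Y (TensorProduct.comm A X F)) ≪≫ₗ (TensorProduct.assoc A Y F X).symm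

@[simp] theorem dE_tmul (y : Y) (x : X) (f : F) :
    dE A Y X F (y ⊗ₜ[A] (x ⊗ₜ[A] f)) = (y ⊗ₜ[A] f) ⊗ₜ[A] x := by
  simp [dE]

theorem dE_nat (a : X →ₗ[A] X') (b : F →ₗ[A] F') (z : Y ⊗[A] (X ⊗[A] F)) :
    dE A Y X' F' ((TensorProduct.map a b).lTensor Y z) =
      TensorProduct.map (b.lTensor Y) a (dE A Y X F z) := by
  induction z using TensorProduct.induction_on with
  | zero => simp
  | add z z' hz hz' => simp only [map_add, hz, hz']
  | tmul y w =>
    induction w using TensorProduct.induction_on with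
    | zero => simp
    | add w w' hw hw' => simp only [TensorProduct.tmul_add, map_add, hw, hw']
    | tmul x f => simp

end Shuffle

section Split

variable {A : Type*} [CommRing A] {ι : Type*} [DecidableEq ι]
  {M M' : Type*} [AddCommGroup M] [Module A M] [AddCommGroup M'] [Module A M']

/-- naturality of the splitting off of one tensor factor -/
theorem split_nat (i₀ : ι) (f : M →ₗ[A] M') (t : ⨂[A] _ : ι, M) :
    PiTensorProduct.equivPiTensorComplSingletonTensor A (fun _ : ι => M') i₀
        (PiTensorProduct.map (fun _ : ι => f) t) =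
      TensorProduct.map (PiTensorProduct.map (fun _ : ↥({i₀}ᶜ : Set ι) => f)) f
        (PiTensorProduct.equivPiTensorComplSingletonTensor A (fun _ : ι => M) i₀ t) := by
  induction t using PiTensorProduct.induction_on with
  | smul_tprod r m =>
    simp only [map_smul]
    rw [PiTensorProduct.map_tprod,
      PiTensorProduct.equivPiTensorComplSingletonTensor_tprod,
      PiTensorProduct.equivPiTensorComplSingletonTensor_tprod, TensorProduct.map_tmul,
      PiTensorProduct.map_tprod]
    rfl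
  | add x y hx hy => simp only [map_add, hx, hy]

end Split


section Multi

variable {A : Type u} [CommRing A]

theorem lT_map_map {Y P P' P'' Q Q' Q'' : Type*} [AddCommGroup Y] [Module A Y]
    [AddCommGroup P] [Module A P] [AddCommGroup P'] [Module A P'] [AddCommGroup P''] [Module A P'']
    [AddCommGroup Q] [Module A Q] [AddCommGroup Q'] [Module A Q'] [AddCommGroup Q''] [Module A Q'']
    (a : P →ₗ[A] P') (a' : P' →ₗ[A] P'') (b : Q →ₗ[A] Q') (b' : Q' →ₗ[A] Q'')
    (z : Y ⊗[A] (P ⊗[A] Q)) :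
    (TensorProduct.map a' b').lTensor Y ((TensorProduct.map a b).lTensor Y z) =
      (TensorProduct.map (a' ∘ₗ a) (b' ∘ₗ b)).lTensor Y z := by
  rw [← LinearMap.lTensor_comp_apply, ← TensorProduct.map_comp]

theorem split_nat_lTensor {ι : Type*} [DecidableEq ι] {Y M M' : Type*} [AddCommGroup Y]
    [Module A Y] [AddCommGroup M] [Module A M] [AddCommGroup M'] [Module A M'] (i₀ : ι)
    (f : M →ₗ[A] M') (z : Y ⊗[A] (⨂[A] _ : ι, M)) :
    (TensorProduct.map (PiTensorProduct.map (fun _ : ↥({i₀}ᶜ : Set ι) => f)) f).lTensor Y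
        ((PiTensorProduct.equivPiTensorComplSingletonTensor A
          (fun _ : ι => M) i₀).toLinearMap.lTensor Y z) =
      (PiTensorProduct.equivPiTensorComplSingletonTensor A
          (fun _ : ι => M') i₀).toLinearMap.lTensor Y
        ((PiTensorProduct.map (fun _ : ι => f)).lTensor Y z) := by
  rw [← LinearMap.lTensor_comp_apply, ← LinearMap.lTensor_comp_apply]
  refine congrArg (fun L => LinearMap.lTensor Y L z) ?_
  refine LinearMap.ext (fun x => ?_)
  exact (split_nat i₀ f x).symm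

variable {N : Type u} [AddCommGroup N] [Module A N] [Module.Flat A N]

/-- the last slot can be replaced -/
theorem stepA {Y P Q : Type*} [AddCommGroup Y] [Module A Y] [AddCommGroup P] [Module A P]
    [AddCommGroup Q] [Module A Q] {n : ℕ} (a : P →ₗ[A] Q) (g : (Fin n → A) →ₗ[A] N)
    (w : Y ⊗[A] (P ⊗[A] (Fin n → A)))
    (hw : (TensorProduct.map a g).lTensor Y w = 0) :
    ∃ (k : ℕ) (h : (Fin n → A) →ₗ[A] (Fin k → A)) (g' : (Fin k → A) →ₗ[A] N),
      g' ∘ₗ h = g ∧ (TensorProduct.map a h).lTensor Y w = 0 := by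
  have hu : g.rTensor (Y ⊗[A] Q)
      (cE A Y Q (Fin n → A) ((TensorProduct.map a LinearMap.id).lTensor Y w)) = 0 := by
    have h1 := cE_nat (Y := Y) (LinearMap.id : Q →ₗ[A] Q) g
      ((TensorProduct.map a LinearMap.id).lTensor Y w)
    rw [lT_map_map, LinearMap.id_comp, LinearMap.comp_id, hw, map_zero,
      LinearMap.lTensor_id] at h1
    exact h1.symm
  obtain ⟨k, h, g', hg, hh⟩ := one_slot g _ hu
  refine ⟨k, h, g', hg, ?_⟩
  have h2 := cE_nat (Y := Y) (LinearMap.id : Q →ₗ[A] Q) h
    ((TensorProduct.map a LinearMap.id).lTensor Y w)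
  rw [lT_map_map, LinearMap.id_comp, LinearMap.comp_id, LinearMap.lTensor_id] at h2
  have h3 : cE A Y Q (Fin k → A) ((TensorProduct.map a h).lTensor Y w) = 0 := by
    rw [h2]; exact hh
  exact (cE A Y Q (Fin k → A)).injective (h3.trans (map_zero _).symm)

theorem multi_slot_aux (c : ℕ) : ∀ (ι : Type) [Finite ι] [DecidableEq ι], Nat.card ι = c →
    ∀ (Y : Type u) [AddCommGroup Y] [Module A Y] (n : ℕ) (g : (Fin n → A) →ₗ[A] N)
      (t : Y ⊗[A] (⨂[A] _ : ι, (Fin n → A))),
      (PiTensorProduct.map (fun _ : ι => g)).lTensor Y t = 0 →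
      ∃ (k : ℕ) (h : (Fin n → A) →ₗ[A] (Fin k → A)) (g' : (Fin k → A) →ₗ[A] N),
        g' ∘ₗ h = g ∧ (PiTensorProduct.map (fun _ : ι => h)).lTensor Y t = 0 := by
  induction c with
  | zero =>
    intro ι _ _ hι Y _ _ n g t ht
    have hemp : IsEmpty ι := (Nat.card_eq_zero.1 hι).resolve_right (Finite.not_infinite ‹_›)
    refine ⟨n, LinearMap.id, g, LinearMap.comp_id g, ?_⟩
    have hnat : (PiTensorProduct.isEmptyEquiv (R := A) (s := fun _ : ι => N) ι).toLinearMap ∘ₗ
        PiTensorProduct.map (fun _ : ι => g) =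
        (PiTensorProduct.isEmptyEquiv (R := A) (s := fun _ : ι => (Fin n → A)) ι).toLinearMap := by
      apply PiTensorProduct.ext
      ext m
      simp [PiTensorProduct.isEmptyEquiv_apply_tprod]
    have h1 : (PiTensorProduct.isEmptyEquiv (R := A)
        (s := fun _ : ι => (Fin n → A)) ι).toLinearMap.lTensor Y t = 0 := by
      rw [← hnat, LinearMap.lTensor_comp_apply, ht, map_zero]
    have h2 : t = 0 := by
      apply (LinearEquiv.lTensor Y (PiTensorProduct.isEmptyEquiv (R := A)
        (s := fun _ : ι => (Fin n → A)) ι)).injective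
      rw [map_zero]
      exact h1
    rw [h2, map_zero]
  | succ c ih =>
    intro ι _ _ hι Y _ _ n g t ht
    have hne : Nonempty ι := ((Nat.card_pos_iff (α := ι)).1 (by omega)).1
    obtain ⟨i₀⟩ := hne
    have hcard : Nat.card ↥({i₀}ᶜ : Set ι) = c :=
      Set.ncard_compl_of_ncard_eq_add _ (by simpa using hι)
    have H0 := split_nat_lTensor (Y := Y) i₀ g t
    rw [ht, map_zero] at H0
    obtain ⟨k₁, h₁, g₁, hg₁, HA⟩ := stepA _ g _ H0
    -- second step
    have hv : (PiTensorProduct.map (fun _ : ↥({i₀}ᶜ : Set ι) => g₁)).lTensor (Y ⊗[A] (Fin k₁ → A))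
        (dE A Y _ (Fin k₁ → A)
          ((TensorProduct.map (PiTensorProduct.map (fun _ : ↥({i₀}ᶜ : Set ι) => h₁)) h₁).lTensor Y
            ((PiTensorProduct.equivPiTensorComplSingletonTensor A
              (fun _ : ι => (Fin n → A)) i₀).toLinearMap.lTensor Y t))) = 0 := by
      have h5 := dE_nat (Y := Y) (PiTensorProduct.map (fun _ : ↥({i₀}ᶜ : Set ι) => g₁))
        (LinearMap.id : (Fin k₁ → A) →ₗ[A] (Fin k₁ → A))
        ((TensorProduct.map (PiTensorProduct.map (fun _ : ↥({i₀}ᶜ : Set ι) => h₁)) h₁).lTensor Y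
            ((PiTensorProduct.equivPiTensorComplSingletonTensor A
              (fun _ : ι => (Fin n → A)) i₀).toLinearMap.lTensor Y t))
      rw [lT_map_map, ← PiTensorProduct.map_comp, LinearMap.id_comp, LinearMap.lTensor_id] at h5
      simp only [hg₁] at h5
      rw [HA, map_zero] at h5
      exact h5.symm
    obtain ⟨k₂, h₂, g₂, hg₂, hh₂⟩ := ih ↥({i₀}ᶜ : Set ι) hcard (Y ⊗[A] (Fin k₁ → A)) k₁ g₁ _ hv
    refine ⟨k₂, h₂ ∘ₗ h₁, g₂, by rw [← LinearMap.comp_assoc, hg₂, hg₁], ?_⟩
    have h6 := dE_nat (Y := Y) (PiTensorProduct.map (fun _ : ↥({i₀}ᶜ : Set ι) => h₂))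
        (LinearMap.id : (Fin k₁ → A) →ₗ[A] (Fin k₁ → A))
        ((TensorProduct.map (PiTensorProduct.map (fun _ : ↥({i₀}ᶜ : Set ι) => h₁)) h₁).lTensor Y
            ((PiTensorProduct.equivPiTensorComplSingletonTensor A
              (fun _ : ι => (Fin n → A)) i₀).toLinearMap.lTensor Y t))
    rw [LinearMap.lTensor_id] at h6
    have h7 : dE A Y _ (Fin k₁ → A) ((TensorProduct.map
        (PiTensorProduct.map (fun _ : ↥({i₀}ᶜ : Set ι) => h₂)) LinearMap.id).lTensor Y
        ((TensorProduct.map (PiTensorProduct.map (fun _ : ↥({i₀}ᶜ : Set ι) => h₁)) h₁).lTensor Y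
            ((PiTensorProduct.equivPiTensorComplSingletonTensor A
              (fun _ : ι => (Fin n → A)) i₀).toLinearMap.lTensor Y t))) = 0 := by
      rw [h6]; exact hh₂
    have h8 := (dE A Y _ (Fin k₁ → A)).injective (h7.trans (map_zero _).symm)
    have h9 := congrArg ((TensorProduct.map (LinearMap.id :
      (⨂[A] _ : ↥({i₀}ᶜ : Set ι), (Fin k₂ → A)) →ₗ[A] _) h₂).lTensor Y) h8
    rw [map_zero, lT_map_map, lT_map_map, LinearMap.id_comp, LinearMap.comp_id,
      ← PiTensorProduct.map_comp, split_nat_lTensor] at h9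
    apply (LinearEquiv.lTensor Y (PiTensorProduct.equivPiTensorComplSingletonTensor A
          (fun _ : ι => (Fin k₂ → A)) i₀)).injective
    rw [map_zero]
    exact h9

/-- **Lazard-type lemma for tensor powers.** -/
theorem multi_slot {ι : Type} [Finite ι] [DecidableEq ι] {n : ℕ} (g : (Fin n → A) →ₗ[A] N)
    (t : ⨂[A] _ : ι, (Fin n → A)) (ht : PiTensorProduct.map (fun _ : ι => g) t = 0) :
    ∃ (k : ℕ) (h : (Fin n → A) →ₗ[A] (Fin k → A)) (g' : (Fin k → A) →ₗ[A] N),
      g' ∘ₗ h = g ∧ PiTensorProduct.map (fun _ : ι => h) t = 0 := by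
  obtain ⟨k, h, g', hg, hh⟩ := multi_slot_aux (N := N) (Nat.card ι) ι rfl A n g ((1 : A) ⊗ₜ[A] t)
    (by rw [LinearMap.lTensor_tmul, ht, TensorProduct.tmul_zero])
  refine ⟨k, h, g', hg, ?_⟩
  rw [LinearMap.lTensor_tmul] at hh
  have := congrArg (TensorProduct.lid A _) hh
  rwa [TensorProduct.lid_tmul, one_smul, map_zero] at this

end Multi

end Groth.Agent.H80.FlatTen
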