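-- helper80: symmetric tensors of flat modules: lifting to finite free modules, surjectivity,
-- flatness.
import Groth.Agent.H80.FlatTen

set_option autoImplicit false
universe u

open scoped TensorProduct

namespace Groth.Agent.H80.FlatTS

open Groth.Agent.H80.FlatTen

section Inv

variable {A : Type*} [CommRing A] {M M' : Type*} [AddCommGroup M] [Module A M]
  [AddCommGroup M'] [Module A M'] {n : ℕ}

/-- invariance under all permutations of the factors -/
def IsInv (t : ⨂[A] _ : Fin n, M) : Prop :=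
  ∀ σ : Equiv.Perm (Fin n), PiTensorProduct.reindex A (fun _ : Fin n => M) σ t = t

theorem reindex_map (f : M →ₗ[A] M') (σ : Equiv.Perm (Fin n)) (t : ⨂[A] _ : Fin n, M) :
    PiTensorProduct.reindex A (fun _ : Fin n => M') σ (PiTensorProduct.map (fun _ => f) t) =
      PiTensorProduct.map (fun _ => f) (PiTensorProduct.reindex A (fun _ : Fin n => M) σ t) :=
  (PiTensorProduct.map_reindex (fun _ : Fin n => f) σ t).symm

theorem IsInv.map {t : ⨂[A] _ : Fin n, M} (ht : IsInv t) (f : M →ₗ[A] M') :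
    IsInv (PiTensorProduct.map (fun _ : Fin n => f) t) := by
  intro σ
  rw [reindex_map, ht σ]

theorem map_map {M'' : Type*} [AddCommGroup M''] [Module A M''] (f : M →ₗ[A] M')
    (f' : M' →ₗ[A] M'') (t : ⨂[A] _ : Fin n, M) :
    PiTensorProduct.map (fun _ : Fin n => f') (PiTensorProduct.map (fun _ : Fin n => f) t) =
      PiTensorProduct.map (fun _ : Fin n => f' ∘ₗ f) t := by
  rw [PiTensorProduct.map_comp]
  rfl

variable (A M n) in
/-- the submodule of symmetric tensors -/
def TSsub : Submodule A (⨂[A] _ : Fin n, M) :=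
  ⨅ σ : Equiv.Perm (Fin n),
    LinearMap.eqLocus (PiTensorProduct.reindex A (fun _ : Fin n => M) σ).toLinearMap LinearMap.id

theorem mem_TSsub (t : ⨂[A] _ : Fin n, M) : t ∈ TSsub A M n ↔ IsInv t := by
  unfold TSsub IsInv
  rw [Submodule.mem_iInf]
  exact Iff.rfl

end Inv

section Lift

variable {A : Type u} [CommRing A] {N : Type u} [AddCommGroup N] [Module A N] {n : ℕ}

/-- the splitting of `A^(a+b)` -/
noncomputable def splitE (a b : ℕ) : (Fin (a + b) → A) ≃ₗ[A] (Fin a → A) × (Fin b → A) :=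
  (LinearEquiv.funCongrLeft A A finSumFinEquiv).trans
    (LinearEquiv.sumArrowLequivProdArrow (Fin a) (Fin b) A A)

theorem exists_combine {k₁ k₂ : ℕ} (g₁ : (Fin k₁ → A) →ₗ[A] N) (g₂ : (Fin k₂ → A) →ₗ[A] N) :
    ∃ (k : ℕ) (g : (Fin k → A) →ₗ[A] N) (j₁ : (Fin k₁ → A) →ₗ[A] (Fin k → A))
      (j₂ : (Fin k₂ → A) →ₗ[A] (Fin k → A)), g ∘ₗ j₁ = g₁ ∧ g ∘ₗ j₂ = g₂ := by
  refine ⟨k₁ + k₂, (g₁.coprod g₂) ∘ₗ (splitE k₁ k₂).toLinearMap,
    (splitE k₁ k₂).symm.toLinearMap ∘ₗ LinearMap.inl A _ _,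
    (splitE k₁ k₂).symm.toLinearMap ∘ₗ LinearMap.inr A _ _, ?_, ?_⟩
  · ext x
    simp
  · ext x
    simp

/-- every tensor over `N` comes from a tensor over a finite free module -/
theorem exists_lift (t : ⨂[A] _ : Fin n, N) :
    ∃ (k : ℕ) (g : (Fin k → A) →ₗ[A] N) (t' : ⨂[A] _ : Fin n, (Fin k → A)),
      PiTensorProduct.map (fun _ : Fin n => g) t' = t := by
  classical
  induction t using PiTensorProduct.induction_on with
  | smul_tprod r m =>
    refine ⟨n, Fintype.linearCombination A m,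
      r • PiTensorProduct.tprod A (fun i : Fin n => (Pi.single i (1 : A) : Fin n → A)), ?_⟩
    rw [map_smul, PiTensorProduct.map_tprod]
    congr 2
    funext i
    rw [Fintype.linearCombination_apply_single, one_smul]
  | add x y hx hy =>
    obtain ⟨k₁, g₁, x', rfl⟩ := hx
    obtain ⟨k₂, g₂, y', rfl⟩ := hy
    obtain ⟨k, g, j₁, j₂, h₁, h₂⟩ := exists_combine g₁ g₂
    refine ⟨k, g, PiTensorProduct.map (fun _ : Fin n => j₁) x' +
      PiTensorProduct.map (fun _ : Fin n => j₂) y', ?_⟩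
    rw [map_add, map_map, map_map, h₁, h₂]

/-- finite families of tensors lift simultaneously -/
theorem exists_lift_family (l : ℕ) (x : Fin l → ⨂[A] _ : Fin n, N) :
    ∃ (k : ℕ) (g : (Fin k → A) →ₗ[A] N) (x' : Fin l → ⨂[A] _ : Fin n, (Fin k → A)),
      ∀ i, PiTensorProduct.map (fun _ : Fin n => g) (x' i) = x i := by
  induction l with
  | zero => exact ⟨0, 0, fun i => i.elim0, fun i => i.elim0⟩
  | succ l ih =>
    obtain ⟨k₁, g₁, x₁, hx₁⟩ := ih (fun i => x i.succ)
    obtain ⟨k₂, g₂, t₂, ht₂⟩ := exists_lift (x 0)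
    obtain ⟨k, g, j₁, j₂, h₁, h₂⟩ := exists_combine g₁ g₂
    refine ⟨k, g, Fin.cons (PiTensorProduct.map (fun _ : Fin n => j₂) t₂)
      (fun i => PiTensorProduct.map (fun _ : Fin n => j₁) (x₁ i)), ?_⟩
    intro i
    refine Fin.cases ?_ (fun i => ?_) i
    · rw [Fin.cons_zero, map_map, h₂, ht₂]
    · rw [Fin.cons_succ, map_map, h₁, hx₁]

variable [Module.Flat A N]

/-- a finite list of tensors dying over `N` dies over some finite free module in between -/
theorem kill_list {k : ℕ} (g : (Fin k → A) →ₗ[A] N)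
    (L : List (⨂[A] _ : Fin n, (Fin k → A)))
    (hL : ∀ t ∈ L, PiTensorProduct.map (fun _ : Fin n => g) t = 0) :
    ∃ (k' : ℕ) (h : (Fin k → A) →ₗ[A] (Fin k' → A)) (g' : (Fin k' → A) →ₗ[A] N),
      g' ∘ₗ h = g ∧ ∀ t ∈ L, PiTensorProduct.map (fun _ : Fin n => h) t = 0 := by
  induction L with
  | nil => exact ⟨k, LinearMap.id, g, LinearMap.comp_id g, fun t ht => absurd ht (List.not_mem_nil)⟩
  | cons t L ih =>
    obtain ⟨k₁, h₁, g₁, hg₁, hh₁⟩ := ih (fun t' ht' => hL t' (List.mem_cons_of_mem _ ht'))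
    have ht : PiTensorProduct.map (fun _ : Fin n => g₁)
        (PiTensorProduct.map (fun _ : Fin n => h₁) t) = 0 := by
      rw [map_map, hg₁]
      exact hL t List.mem_cons_self
    obtain ⟨k₂, h₂, g₂, hg₂, hh₂⟩ := multi_slot g₁ _ ht
    refine ⟨k₂, h₂ ∘ₗ h₁, g₂, by rw [← LinearMap.comp_assoc, hg₂, hg₁], ?_⟩
    intro t' ht'
    rw [← map_map]
    rcases List.mem_cons.1 ht' with rfl | ht''
    · exact hh₂
    · rw [hh₁ t' ht'', map_zero]

end Lift

section Surj

variable {A : Type u} [CommRing A] {M N : Type u} [AddCommGroup M] [Module A M]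
  [AddCommGroup N] [Module A N] [Module.Flat A N] {n : ℕ}

/-- an invariant tensor over a flat module comes from an invariant tensor over a finite free
module -/
theorem exists_inv_lift (t : ⨂[A] _ : Fin n, N) (ht : IsInv t) :
    ∃ (k : ℕ) (g : (Fin k → A) →ₗ[A] N) (t' : ⨂[A] _ : Fin n, (Fin k → A)),
      IsInv t' ∧ PiTensorProduct.map (fun _ : Fin n => g) t' = t := by
  obtain ⟨k, g, t', rfl⟩ := exists_lift t
  obtain ⟨k', h, g', hg, hh⟩ := kill_list g
    ((Finset.univ : Finset (Equiv.Perm (Fin n))).toList.map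
      (fun σ => PiTensorProduct.reindex A (fun _ : Fin n => (Fin k → A)) σ t' - t'))
    (by
      intro x hx
      obtain ⟨σ, -, rfl⟩ := List.mem_map.1 hx
      rw [map_sub, ← reindex_map, ht σ, sub_self])
  refine ⟨k', g', PiTensorProduct.map (fun _ : Fin n => h) t', ?_, ?_⟩
  · intro σ
    have := hh (PiTensorProduct.reindex A (fun _ : Fin n => (Fin k → A)) σ t' - t')
      (List.mem_map.2 ⟨σ, Finset.mem_toList.2 (Finset.mem_univ σ), rfl⟩)
    rw [map_sub, sub_eq_zero] at this
    rw [reindex_map, this]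
  · rw [map_map, hg]

/-- **Surjectivity on symmetric tensors** for a surjection onto a flat module. -/
theorem exists_inv_preimage (f : M →ₗ[A] N) (hf : Function.Surjective f)
    (t : ⨂[A] _ : Fin n, N) (ht : IsInv t) :
    ∃ s : ⨂[A] _ : Fin n, M, IsInv s ∧ PiTensorProduct.map (fun _ : Fin n => f) s = t := by
  classical
  obtain ⟨k, g, t', ht', rfl⟩ := exists_inv_lift t ht
  choose m hm using fun j : Fin k => hf (g (Pi.single j 1))
  have hfac : f ∘ₗ Fintype.linearCombination A m = g := by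
    refine LinearMap.pi_ext (fun j x => ?_)
    have : (Pi.single j x : Fin k → A) = x • Pi.single j (1 : A) := by
      rw [← Pi.single_smul, smul_eq_mul, mul_one]
    rw [LinearMap.comp_apply, Fintype.linearCombination_apply_single, map_smul, hm, this,
      map_smul]
  refine ⟨PiTensorProduct.map (fun _ : Fin n => Fintype.linearCombination A m) t',
    ht'.map _, ?_⟩
  rw [map_map, hfac]

end Surj

end Groth.Agent.H80.FlatTS
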