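import Mathlib
import Groth.Prelude.Def_SGA1t

/-!
# (RING) for S3710 (helper75): the Kummer algebra of étale coordinates is formally smooth
-/

set_option autoImplicit false
open CategoryTheory CategoryTheory.Limits AlgebraicGeometry
universe u

namespace Groth.Agent.H80.KumFS_RING

theorem formallySmooth_kummer {R₀ B A : Type u} [CommRing R₀] [CommRing B] [CommRing A]
    (φ₀ : R₀ →+* B) (γ : B →+* A) (hγ : γ.FormallyEtale) {σ : Type u} (w : σ → B)
    (hw : (MvPolynomial.eval₂Hom φ₀ w).FormallyEtale)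
    {ι : Type} (e : ι → σ) (he : Function.Injective e) (n : ι → ℕ) :
    ((algebraMap A (SGA1t.kummer A (fun i => γ (w (e i))) n)).comp
      (γ.comp φ₀)).FormallySmooth := by
  classical
  let J : Ideal (MvPolynomial ι A) := Ideal.span (Set.range fun i =>
    (MvPolynomial.X i : MvPolynomial ι A) ^ n i - MvPolynomial.C (γ (w (e i))))
  let K := MvPolynomial ι A ⧸ J
  let cl : MvPolynomial ι A →+* K := Ideal.Quotient.mk J
  have hclC : ∀ a : A, algebraMap A K a = cl (MvPolynomial.C a) := fun a => rfl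
  let f : R₀ →+* K := (algebraMap A K).comp (γ.comp φ₀)
  let ρ : MvPolynomial σ R₀ →+* A := γ.comp (MvPolynomial.eval₂Hom φ₀ w)
  have hρ : ρ.FormallyEtale := RingHom.FormallyEtale.comp hw hγ
  change f.FormallySmooth
  unfold RingHom.FormallySmooth
  letI : Algebra R₀ K := f.toAlgebra
  have hfr : ∀ r : R₀, algebraMap R₀ K r = cl (MvPolynomial.C (γ (φ₀ r))) := fun r => rfl
  refine Algebra.FormallySmooth.of_comp_surjective ?_
  intro C _ _ I hI gbar
  have hu : ∀ i : ι, ∃ c : C, Ideal.Quotient.mk I c = gbar (cl (MvPolynomial.X i)) :=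
    fun i => Ideal.Quotient.mk_surjective _
  choose u hu using hu
  have hv : ∀ j : σ, ∃ c : C, Ideal.Quotient.mk I c = gbar (cl (MvPolynomial.C (γ (w j)))) :=
    fun j => Ideal.Quotient.mk_surjective _
  choose v hv using hv
  let t : σ → C := fun j => if h : ∃ i, e i = j then u h.choose ^ n h.choose else v j
  have ht : ∀ i, t (e i) = u i ^ n i := by
    intro i
    have h : ∃ i', e i' = e i := ⟨i, rfl⟩
    have hc : h.choose = i := he h.choose_spec
    show (if h : ∃ i', e i' = e i then u h.choose ^ n h.choose else v (e i)) = u i ^ n i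
    rw [dif_pos h, hc]
  have htn : ∀ j, (¬ ∃ i, e i = j) → t j = v j := by
    intro j h
    show (if h : ∃ i', e i' = j then u h.choose ^ n h.choose else v j) = v j
    rw [dif_neg h]
  let lam : MvPolynomial σ R₀ →+* C := MvPolynomial.eval₂Hom (algebraMap R₀ C) t
  have hrel : ∀ i, cl (MvPolynomial.X i) ^ n i = cl (MvPolynomial.C (γ (w (e i)))) := by
    intro i
    have h0 : cl (MvPolynomial.X i ^ n i - MvPolynomial.C (γ (w (e i)))) = 0 :=
      Ideal.Quotient.eq_zero_iff_mem.mpr (Ideal.subset_span ⟨i, rfl⟩)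
    rw [map_sub, map_pow, sub_eq_zero] at h0
    exact h0
  have hcomm0 : (gbar.toRingHom.comp (cl.comp (MvPolynomial.C.comp ρ))) =
      (Ideal.Quotient.mk I).comp lam := by
    apply MvPolynomial.ringHom_ext
    · intro r
      have h1 : ρ (MvPolynomial.C r) = γ (φ₀ r) := by
        simp [ρ]
      have h2 : lam (MvPolynomial.C r) = algebraMap R₀ C r := by
        simp [lam]
      have h3 := gbar.commutes r
      rw [hfr] at h3
      simp only [RingHom.comp_apply, h1, h2]
      exact h3
    · intro j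
      have h1 : ρ (MvPolynomial.X j) = γ (w j) := by
        simp [ρ]
      have h2 : lam (MvPolynomial.X j) = t j := by
        simp [lam]
      simp only [RingHom.comp_apply, h1, h2]
      by_cases h : ∃ i, e i = j
      · obtain ⟨i, rfl⟩ := h
        rw [ht, map_pow, hu]
        show gbar (cl (MvPolynomial.C (γ (w (e i))))) = gbar (cl (MvPolynomial.X i)) ^ n i
        rw [← map_pow, hrel]
      · rw [htn j h, hv]
        rfl
  have hcomm : ∀ p : MvPolynomial σ R₀,
      gbar (cl (MvPolynomial.C (ρ p))) = Ideal.Quotient.mk I (lam p) :=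
    fun p => RingHom.congr_fun hcomm0 p
  letI : Algebra (MvPolynomial σ R₀) A := ρ.toAlgebra
  letI : Algebra (MvPolynomial σ R₀) C := lam.toAlgebra
  haveI : Algebra.FormallyEtale (MvPolynomial σ R₀) A := hρ
  let β : A →ₐ[MvPolynomial σ R₀] C ⧸ I :=
    { toRingHom := gbar.toRingHom.comp (cl.comp MvPolynomial.C)
      commutes' := fun p => hcomm p }
  obtain ⟨α, hα⟩ := (Algebra.FormallyEtale.comp_bijective (MvPolynomial σ R₀) A I hI).2 β
  have hα' : ∀ a : A, Ideal.Quotient.mk I (α a) = gbar (cl (MvPolynomial.C a)) :=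
    fun a => AlgHom.congr_fun hα a
  have hαρ : ∀ p : MvPolynomial σ R₀, α (ρ p) = lam p := fun p => α.commutes p
  let g0 : MvPolynomial ι A →+* C := MvPolynomial.eval₂Hom (α : A →+* C) u
  have hle : J ≤ RingHom.ker g0 := by
    rw [Ideal.span_le]
    rintro _ ⟨i, rfl⟩
    rw [SetLike.mem_coe, RingHom.mem_ker, map_sub, map_pow]
    have h1 : g0 (MvPolynomial.X i) = u i := by simp [g0]
    have h2 : g0 (MvPolynomial.C (γ (w (e i)))) = α (γ (w (e i))) := by simp [g0]
    have h3 : α (γ (w (e i))) = u i ^ n i := by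
      have h4 := hαρ (MvPolynomial.X (e i))
      have h5 : ρ (MvPolynomial.X (e i)) = γ (w (e i)) := by simp [ρ]
      have h6 : lam (MvPolynomial.X (e i)) = t (e i) := by simp [lam]
      rw [h5, h6, ht] at h4
      exact h4
    rw [h1, h2, h3, sub_self]
  let g : K →+* C := Ideal.Quotient.lift J g0 (fun x hx => hle hx)
  have hgcl : ∀ x, g (cl x) = g0 x := fun x => Ideal.Quotient.lift_mk J g0 _
  refine ⟨{ toRingHom := g, commutes' := ?_ }, ?_⟩
  · intro r
    show g (algebraMap R₀ K r) = algebraMap R₀ C r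
    rw [hfr, hgcl]
    have h1 : g0 (MvPolynomial.C (γ (φ₀ r))) = α (γ (φ₀ r)) := by simp [g0]
    have h2 := hαρ (MvPolynomial.C r)
    have h3 : ρ (MvPolynomial.C r) = γ (φ₀ r) := by simp [ρ]
    have h4 : lam (MvPolynomial.C r) = algebraMap R₀ C r := by simp [lam]
    rw [h3, h4] at h2
    rw [h1, h2]
  · apply AlgHom.coe_ringHom_injective
    apply Ideal.Quotient.ringHom_ext
    apply MvPolynomial.ringHom_ext
    · intro a
      show Ideal.Quotient.mk I (g (cl (MvPolynomial.C a))) = gbar (cl (MvPolynomial.C a))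
      rw [hgcl]
      have h1 : g0 (MvPolynomial.C a) = α a := by simp [g0]
      rw [h1, hα']
    · intro i
      show Ideal.Quotient.mk I (g (cl (MvPolynomial.X i))) = gbar (cl (MvPolynomial.X i))
      rw [hgcl]
      have h1 : g0 (MvPolynomial.X i) = u i := by simp [g0]
      rw [h1, hu]

end Groth.Agent.H80.KumFS_RING
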