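import Mathlib
import Groth.Prelude.Def_ARSys

/-!
# (S) for S13620 (helper20): a strict projective system of modules with zero limit is zero
-/

set_option autoImplicit false
universe u v₁ u₁
open CategoryTheory CategoryTheory.Limits Opposite

namespace Groth.Agent.H80.ARNull_S

theorem isZero_obj_of_isZero_limit (Λ : Type (u + 1)) [CommRing Λ]
    (Y : ℕᵒᵖ ⥤ ModuleCat.{u + 1} Λ)
    (hepi : ∀ (n m : ℕ) (h : n ≤ m), Epi (ARSys.tr Y h)) (h0 : IsZero (limit Y)) (n : ℕ) :
    IsZero (Y.obj (op n)) := by
  have hsurj : ∀ (a b : ℕ) (h : a ≤ b), Function.Surjective (ARSys.tr Y h) := fun a b h =>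
    (ModuleCat.epi_iff_surjective _).1 (hepi a b h)
  have htr : ∀ {a b c : ℕ} (h1 : a ≤ b) (h2 : b ≤ c) (x : Y.obj (op c)),
      ARSys.tr Y h1 (ARSys.tr Y h2 x) = ARSys.tr Y (h1.trans h2) x := by
    intro a b c h1 h2 x
    have : ARSys.tr Y h2 ≫ ARSys.tr Y h1 = ARSys.tr Y (h1.trans h2) := by
      rw [ARSys.tr, ARSys.tr, ← Y.map_comp]
      rfl
    rw [← this]
    rfl
  have hid : ∀ {a : ℕ} (h : a ≤ a) (x : Y.obj (op a)), ARSys.tr Y h x = x := by
    intro a h x
    have : ARSys.tr Y h = 𝟙 _ := by
      rw [ARSys.tr]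
      have : (homOfLE h).op = 𝟙 (op a) := Subsingleton.elim _ _
      rw [this, Y.map_id]
    rw [this]
    rfl
  suffices hall : ∀ y : Y.obj (op n), y = 0 by
    haveI : Subsingleton (Y.obj (op n)) := subsingleton_of_forall_eq 0 hall
    exact ModuleCat.isZero_of_subsingleton _
  intro y
  -- the lifted sequence
  let w : ∀ j : ℕ, Y.obj (op (n + j)) := fun j =>
    Nat.rec (motive := fun j => Y.obj (op (n + j))) y
      (fun j wj => (hsurj (n + j) (n + j + 1) (Nat.le_succ _) wj).choose) j
  have hw : ∀ j, ARSys.tr Y (Nat.le_succ (n + j)) (w (j + 1)) = w j := fun j =>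
    (hsurj (n + j) (n + j + 1) (Nat.le_succ _) (w j)).choose_spec
  have hw' : ∀ j d, ARSys.tr Y (Nat.add_le_add_left (Nat.le_add_right j d) n) (w (j + d)) = w j := by
    intro j d
    induction d with
    | zero => exact hid _ _
    | succ d ih =>
      rw [← ih, ← hw (j + d), htr]
      rfl
  -- the compatible family
  let z : ∀ k : ℕ, Y.obj (op k) := fun k => ARSys.tr Y (Nat.le_add_left k n) (w k)
  have hz : ∀ {k m : ℕ} (h : k ≤ m), ARSys.tr Y h (z m) = z k := by
    intro k m h
    obtain ⟨d, rfl⟩ := Nat.exists_eq_add_of_le h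
    change ARSys.tr Y h (ARSys.tr Y _ (w (k + d))) = ARSys.tr Y _ (w k)
    rw [← hw' k d, htr, htr]
  have hw'' : ∀ d, ARSys.tr Y (Nat.le_add_right n d) (w d) = y := by
    intro d
    induction d with
    | zero => exact hid _ _
    | succ d ih =>
      rw [← ih, ← hw d, htr]
  have hzn : z n = y := hw'' n
  -- the cone with vertex `Λ`
  let c : Cone Y :=
    { pt := ModuleCat.of Λ Λ
      π :=
        { app := fun k => ModuleCat.ofHom (LinearMap.toSpanSingleton Λ (Y.obj k) (z k.unop))
          naturality := by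
            intro k m f
            have hf : f = (homOfLE (leOfHom f.unop)).op := Subsingleton.elim _ _
            ext
            simp only [Functor.const_obj_obj, Functor.const_obj_map, Category.id_comp,
              ModuleCat.hom_comp, ModuleCat.hom_ofHom, LinearMap.coe_comp, Function.comp_apply,
              LinearMap.toSpanSingleton_apply, one_smul]
            rw [hf]
            exact (hz (leOfHom f.unop)).symm } }
  have hl : limit.lift Y c = 0 := h0.eq_of_tgt _ _
  have hc : c.π.app (op n) = 0 := by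
    rw [← limit.lift_π c (op n), hl, zero_comp]
  have h1 : (c.π.app (op n)) (1 : Λ) = z n := by
    change (LinearMap.toSpanSingleton Λ (Y.obj (op n)) (z n)) (1 : Λ) = z n
    rw [LinearMap.toSpanSingleton_apply, one_smul]
  rw [← hzn, ← h1, hc]
  rfl

end Groth.Agent.H80.ARNull_S
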