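import Groth.Agent.H80.AdjHW

set_option autoImplicit false
set_option linter.unusedSectionVars false
set_option linter.unusedVariables false

/-!
# Borel-stable subspaces of small dimension in the adjoint representation
-/

namespace Groth.Agent.H80.AdjBorel

open LieAlgebra LieModule Groth.Agent.H80.AdjHW

universe u v w

variable {ι : Type u} {K : Type v} {L : Type w} [Fintype ι] [Field K] [CharZero K]
  [IsAlgClosed K] [LieRing L] [LieAlgebra K L] [FiniteDimensional K L] [LieAlgebra.IsSimple K L]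
  {H : LieSubalgebra K L} [H.IsCartanSubalgebra] (b : LieAlgebra.Basis ι H)

section Highest

variable (ρ : H → K) (hρ : rootSpace H ρ ≠ ⊥)
  (htop : ∀ i, rootSpace H (ρ + ⇑(b.baseSupp i)) = ⊥)
  (j : ι) (hN : ∀ i, ρ (b.h' i) ≠ 0 ↔ i = j) (hj : ρ (b.h' j) = 1)

theorem A_diag (i : ι) : b.A i i = 2 := by
  have : IsAddTorsionFree L := .of_isTorsionFree K L
  exact b.A_diag_eq_two i

include hj in
theorem rho_ne_zero : ρ ≠ 0 := by
  intro h
  rw [h] at hj
  exact zero_ne_one hj

include hj in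
theorem rho_sub_ne_zero : ρ - ⇑(b.baseSupp j) ≠ 0 := by
  intro h
  have h1 := congrFun h (b.h' j)
  rw [Pi.sub_apply, hj, b.baseSupp_apply_h', Pi.zero_apply, A_diag] at h1
  norm_num at h1

theorem baseSupp_injective : Function.Injective (fun i => (⇑(b.baseSupp i) : H → K)) := by
  intro i k h
  apply b.linearIndependent_baseSupp.injective
  ext x
  exact congrFun h x

include hρ htop in
/-- `ρ - α j + α k` is not a weight for `k ≠ j`. -/
theorem sub_add_eq_bot {k : ι} (hk : k ≠ j) :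
    rootSpace H (⇑(b.baseSupp k) + (ρ - ⇑(b.baseSupp j))) = ⊥ := by
  by_contra hne
  obtain ⟨h₀, hh⟩ := exists_h0 b
  obtain ⟨l, hl⟩ := weights_below_top b ρ hρ htop hne
  have h1 := congrFun hl h₀
  rw [Pi.add_apply, Pi.sub_apply, Pi.sub_apply, wt_apply b h₀ hh, hh, hh] at h1
  have h2 : ((l.length : ℕ) : K) = 0 := by linear_combination h1
  have h3 : l.length = 0 := by exact_mod_cast h2
  have h4 : l = [] := List.eq_nil_of_length_eq_zero h3
  rw [h4, wt_nil, sub_zero] at hl
  have h5 : (⇑(b.baseSupp k) : H → K) = ⇑(b.baseSupp j) := by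
    have : ⇑(b.baseSupp k) + (ρ - ⇑(b.baseSupp j)) - ρ + ⇑(b.baseSupp j) =
        ρ - ρ + ⇑(b.baseSupp j) := by rw [hl]
    have h6 : ⇑(b.baseSupp k) + (ρ - ⇑(b.baseSupp j)) - ρ + ⇑(b.baseSupp j) =
        ⇑(b.baseSupp k) := by abel
    rw [h6, sub_self, zero_add] at this
    exact this
  exact hk (baseSupp_injective b h5)

/-- The sum of the two top root spaces. -/
noncomputable def W2 : LieSubmodule K H L :=
  rootSpace H ρ ⊔ rootSpace H (ρ - ⇑(b.baseSupp j))

include hρ htop in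
theorem W2_e_stable (k : ι) {w : L} (hw : w ∈ W2 b ρ j) : ⁅b.e k, w⁆ ∈ W2 b ρ j := by
  unfold W2 at hw ⊢
  obtain ⟨w₁, hw₁, w₂, hw₂, rfl⟩ := (LieSubmodule.mem_sup _ _ _).mp hw
  rw [lie_add, lie_e_eq_zero b ρ htop hw₁, zero_add]
  have h1 := lie_mem_genWeightSpace_of_mem_genWeightSpace (e_mem b k) hw₂
  by_cases hk : k = j
  · subst hk
    have h2 : ⇑(b.baseSupp k) + (ρ - ⇑(b.baseSupp k)) = ρ := by abel
    rw [h2] at h1
    exact (le_sup_left : rootSpace H ρ ≤ _) h1
  · have h2 : ⁅b.e k, w₂⁆ ∈ rootSpace H (⇑(b.baseSupp k) + (ρ - ⇑(b.baseSupp j))) := h1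
    rw [sub_add_eq_bot b ρ hρ htop j hk] at h2
    rw [(LieSubmodule.mem_bot _).mp h2]
    exact zero_mem _

include hρ htop in
theorem W2_borel_stable {x : L}
    (hx : x ∈ H.toSubmodule ⊔ (b.borelUpper : Submodule K L)) {w : L} (hw : w ∈ W2 b ρ j) :
    ⁅x, w⁆ ∈ W2 b ρ j := by
  obtain ⟨h, hh, n, hn, rfl⟩ := Submodule.mem_sup.mp hx
  rw [add_lie]
  refine add_mem ?_ ?_
  · have : ⁅h, w⁆ = ⁅(⟨h, hh⟩ : H), w⁆ := rfl
    rw [this]
    exact (W2 b ρ j).lie_mem hw
  · have hn' : n ∈ LieSubalgebra.lieSpan K L (Set.range b.e) := hn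
    clear hn hx
    induction hn' using LieSubalgebra.lieSpan_induction generalizing w with
    | mem u hu =>
      obtain ⟨k, rfl⟩ := hu
      exact W2_e_stable b ρ hρ htop j k hw
    | zero => rw [zero_lie]; exact zero_mem _
    | add u v _ _ hu hv => rw [add_lie]; exact add_mem (hu hw) (hv hw)
    | smul t u _ hu => rw [smul_lie]; exact SMulMemClass.smul_mem t (hu hw)
    | lie u v _ _ hu hv =>
      rw [lie_lie]
      exact sub_mem (hu (hv hw)) (hv (hu hw))

include hρ hj in
theorem finrank_top : Module.finrank K (rootSpace H ρ) = 1 :=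
  IsKilling.finrank_rootSpace_eq_one (⟨ρ, hρ⟩ : Weight K H L)
    (fun h => rho_ne_zero b ρ j hj h)

include hρ htop hj in
theorem finrank_second : Module.finrank K (rootSpace H (ρ - ⇑(b.baseSupp j))) = 1 :=
  IsKilling.finrank_rootSpace_eq_one
    (⟨ρ - ⇑(b.baseSupp j), sub_ne_bot b ρ hρ htop hj⟩ : Weight K H L)
    (fun h => rho_sub_ne_zero b ρ j hj h)

include hρ htop hj in
theorem finrank_W2 : Module.finrank K (W2 b ρ j : Submodule K L) = 2 := by
  have h1 := Submodule.finrank_sup_add_finrank_inf_eq (rootSpace H ρ : Submodule K L)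
    (rootSpace H (ρ - ⇑(b.baseSupp j)) : Submodule K L)
  have hne : ρ ≠ ρ - ⇑(b.baseSupp j) := by
    intro h
    have h2 := congrFun h (b.h' j)
    rw [Pi.sub_apply, hj, b.baseSupp_apply_h', A_diag] at h2
    norm_num at h2
  have hd := disjoint_genWeightSpace K H L hne
  have hinf : (rootSpace H ρ : Submodule K L) ⊓
      (rootSpace H (ρ - ⇑(b.baseSupp j)) : Submodule K L) = ⊥ := by
    rw [← LieSubmodule.inf_toSubmodule]
    have : (rootSpace H ρ ⊓ rootSpace H (ρ - ⇑(b.baseSupp j)) : LieSubmodule K H L) = ⊥ :=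
      hd.eq_bot
    rw [this]
    rfl
  rw [hinf, finrank_bot, add_zero] at h1
  have h3 : Module.finrank K (rootSpace H ρ : Submodule K L) = 1 := finrank_top b ρ hρ j hj
  have h4 : Module.finrank K (rootSpace H (ρ - ⇑(b.baseSupp j)) : Submodule K L) = 1 :=
    finrank_second b ρ hρ htop j hj
  rw [h3, h4] at h1
  unfold W2
  rw [LieSubmodule.sup_toSubmodule]
  exact h1

/-- The `H`-submodule attached to a Borel-stable subspace. -/
def toLieSub (W : Submodule K L)
    (hst : ∀ x ∈ H.toSubmodule ⊔ (b.borelUpper : Submodule K L), ∀ w ∈ W, ⁅x, w⁆ ∈ W) :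
    LieSubmodule K H L :=
  { W with
    lie_mem := fun {x m} hm => hst (x : L) (Submodule.mem_sup_left x.2) m hm }

theorem toLieSub_coe (W : Submodule K L)
    (hst : ∀ x ∈ H.toSubmodule ⊔ (b.borelUpper : Submodule K L), ∀ w ∈ W, ⁅x, w⁆ ∈ W) :
    (toLieSub b W hst : Submodule K L) = W := rfl

theorem toLieSub_e (W : Submodule K L)
    (hst : ∀ x ∈ H.toSubmodule ⊔ (b.borelUpper : Submodule K L), ∀ w ∈ W, ⁅x, w⁆ ∈ W)
    (i : ι) (w : L) (hw : w ∈ toLieSub b W hst) : ⁅b.e i, w⁆ ∈ toLieSub b W hst := by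
  have he : b.e i ∈ (b.borelUpper : Submodule K L) := by
    show b.e i ∈ LieSubalgebra.lieSpan K L (Set.range b.e)
    exact LieSubalgebra.subset_lieSpan (Set.mem_range_self i)
  exact hst (b.e i) (Submodule.mem_sup_right he) w hw

include hρ htop hN hj in
/-- Borel-stable subspaces of dimension at least two contain `W2`. -/
theorem W2_le (W : Submodule K L)
    (hst : ∀ x ∈ H.toSubmodule ⊔ (b.borelUpper : Submodule K L), ∀ w ∈ W, ⁅x, w⁆ ∈ W)
    (hdim : 2 ≤ Module.finrank K W) : (W2 b ρ j : Submodule K L) ≤ W := by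
  have hW0 : (toLieSub b W hst : Submodule K L) ≠ ⊥ := by
    rw [toLieSub_coe]
    intro h
    rw [h, finrank_bot] at hdim
    omega
  have h1 := top_le b ρ hρ htop (rho_ne_zero b ρ j hj) (toLieSub b W hst) (toLieSub_e b W hst) hW0
  have hnot : ¬ (toLieSub b W hst : Submodule K L) ≤ rootSpace H ρ := by
    rw [toLieSub_coe]
    intro h
    have h2 := Submodule.finrank_mono h
    have h3 : Module.finrank K (rootSpace H ρ : Submodule K L) = 1 := finrank_top b ρ hρ j hj
    omega
  have h2 := second_le b ρ hρ htop j hN hj (toLieSub b W hst) (toLieSub_e b W hst) hnot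
  rw [toLieSub_coe] at h1 h2
  unfold W2
  rw [LieSubmodule.sup_toSubmodule]
  exact sup_le h1 h2

include hρ htop hN hj in
/-- The Borel-stable subspaces of dimension two. -/
theorem twoDim_iff (W : Submodule K L) :
    (Module.finrank K W = 2 ∧
        ∀ x ∈ H.toSubmodule ⊔ (b.borelUpper : Submodule K L), ∀ w ∈ W, ⁅x, w⁆ ∈ W) ↔
      W = (W2 b ρ j : Submodule K L) := by
  constructor
  · rintro ⟨hdim, hst⟩
    have hle := W2_le b ρ hρ htop j hN hj W hst hdim.ge
    have h2 := finrank_W2 b ρ hρ htop j hj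
    exact (Submodule.eq_of_le_of_finrank_eq hle (by rw [h2, hdim])).symm
  · rintro rfl
    exact ⟨finrank_W2 b ρ hρ htop j hj,
      fun x hx w hw => W2_borel_stable b ρ hρ htop j hx hw⟩

end Highest

end Groth.Agent.H80.AdjBorel
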