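import Groth.Agent.H80.AdjBorel

set_option autoImplicit false
set_option linter.unusedSectionVars false
set_option linter.unusedVariables false

/-!
# Borel-stable subspaces of dimension three in the adjoint representation
-/

namespace Groth.Agent.H80.AdjBorel3

open LieAlgebra LieModule Groth.Agent.H80.AdjHW Groth.Agent.H80.AdjBorel

universe u v w

variable {ι : Type u} {K : Type v} {L : Type w} [Fintype ι] [Field K] [CharZero K]
  [IsAlgClosed K] [LieRing L] [LieAlgebra K L] [FiniteDimensional K L] [LieAlgebra.IsSimple K L]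
  {H : LieSubalgebra K L} [H.IsCartanSubalgebra] (b : LieAlgebra.Basis ι H)

section Highest

variable (ρ : H → K) (hρ : rootSpace H ρ ≠ ⊥)
  (htop : ∀ i, rootSpace H (ρ + ⇑(b.baseSupp i)) = ⊥)
  (j : ι) (hN : ∀ i, ρ (b.h' i) ≠ 0 ↔ i = j) (hj : ρ (b.h' j) = 1)

/-- A weight space for a weight different from `ρ` and `ρ - α j` is disjoint from `W2`. -/
theorem disjoint_W2 {γ : H → K} (h1 : γ ≠ ρ) (h2 : γ ≠ ρ - ⇑(b.baseSupp j)) :
    Disjoint (rootSpace H γ) (W2 b ρ j) := by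
  have hd := (iSupIndep_genWeightSpace K H L) γ
  have hle : W2 b ρ j ≤ ⨆ χ, ⨆ (_ : χ ≠ γ), genWeightSpace L χ := by
    unfold W2
    exact sup_le (le_iSup₂_of_le ρ h1.symm le_rfl)
      (le_iSup₂_of_le (ρ - ⇑(b.baseSupp j)) h2.symm le_rfl)
  exact hd.mono_right hle

include hρ htop hN hj in
/-- A Borel-stable subspace not contained in `W2` contains a third root space. -/
theorem third_le (W : LieSubmodule K H L) (hWe : ∀ i, ∀ w ∈ W, ⁅b.e i, w⁆ ∈ W)
    (hW : ¬ (W : Submodule K L) ≤ (W2 b ρ j : Submodule K L)) :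
    ∃ i : ι, i ≠ j ∧ b.A i j ≠ 0 ∧
      rootSpace H (ρ - ⇑(b.baseSupp j) - ⇑(b.baseSupp i)) ≠ ⊥ ∧
      (ρ - ⇑(b.baseSupp j) - ⇑(b.baseSupp i)) ≠ 0 ∧
      (rootSpace H (ρ - ⇑(b.baseSupp j) - ⇑(b.baseSupp i)) : Submodule K L) ≤ W := by
  obtain ⟨l, y, hyW, hyχ, hy0, hye⟩ := exists_min b ρ hρ htop W hWe _ hW
  have hy0' : y ∉ W2 b ρ j := hy0
  have hyne : y ≠ 0 := fun h => hy0 (h ▸ Submodule.zero_mem _)
  have hex : ∃ i, ⁅b.e i, y⁆ ≠ 0 := by
    by_contra hcon
    push Not at hcon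
    have hw := hw_unique b ρ hρ htop hyne hyχ hcon
    rw [hw] at hyχ
    exact hy0' ((le_sup_left : rootSpace H ρ ≤ W2 b ρ j) hyχ)
  obtain ⟨i, hi⟩ := hex
  have hzχ := lie_mem_genWeightSpace_of_mem_genWeightSpace (e_mem b i) hyχ
  have hzW2 : ⁅b.e i, y⁆ ∈ W2 b ρ j := hye i
  have hcases : ⇑(b.baseSupp i) + (ρ - wt b l) = ρ ∨
      ⇑(b.baseSupp i) + (ρ - wt b l) = ρ - ⇑(b.baseSupp j) := by
    by_contra hcon
    push Not at hcon
    have hd := disjoint_W2 b ρ j hcon.1 hcon.2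
    have hmem : ⁅b.e i, y⁆ ∈ (rootSpace H (⇑(b.baseSupp i) + (ρ - wt b l)) ⊓ W2 b ρ j :
        LieSubmodule K H L) := (LieSubmodule.mem_inf _ _ _).mpr ⟨hzχ, hzW2⟩
    rw [hd.eq_bot] at hmem
    exact hi ((LieSubmodule.mem_bot _).mp hmem)
  rcases hcases with hc | hc
  · exfalso
    have hwt : ρ - wt b l = ρ - ⇑(b.baseSupp i) := by
      rw [eq_sub_iff_add_eq, add_comm]
      exact hc
    rw [hwt] at hyχ
    have hij : i = j := (hN i).mp (apply_h_ne_zero_of_sub b ρ hρ htop (ne_bot_of_mem hyne hyχ))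
    subst hij
    exact hy0' ((le_sup_right : rootSpace H (ρ - ⇑(b.baseSupp i)) ≤ W2 b ρ i) hyχ)
  · have hwt : ρ - wt b l = ρ - ⇑(b.baseSupp j) - ⇑(b.baseSupp i) := by
      rw [eq_sub_iff_add_eq, add_comm]
      exact hc
    rw [hwt] at hyχ
    have hγne : rootSpace H (ρ - ⇑(b.baseSupp j) - ⇑(b.baseSupp i)) ≠ ⊥ :=
      ne_bot_of_mem hyne hyχ
    have hij : i ≠ j := by
      intro h
      subst h
      exact hγne (sub_two_eq_bot b ρ hρ htop hj)
    have hρi : rootSpace H (ρ - ⇑(b.baseSupp i)) = ⊥ := by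
      by_contra h
      exact hij ((hN i).mp (apply_h_ne_zero_of_sub b ρ hρ htop h))
    have hρi0 : ρ (b.h' i) = 0 := by
      by_contra h
      exact hij ((hN i).mp h)
    have hA : b.A i j ≠ 0 := by
      have hadd : rootSpace H (ρ - ⇑(b.baseSupp j) - ⇑(b.baseSupp i) + ⇑(b.baseSupp j)) = ⊥ := by
        have : ρ - ⇑(b.baseSupp j) - ⇑(b.baseSupp i) + ⇑(b.baseSupp j) =
            ρ - ⇑(b.baseSupp i) := by abel
        rw [this]
        exact hρi
      obtain ⟨n, hn, -⟩ := chain_simple b hγne j hadd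
      rw [Pi.sub_apply, Pi.sub_apply, hj, b.baseSupp_apply_h', b.baseSupp_apply_h', A_diag] at hn
      intro hA0
      rw [hA0] at hn
      have h1 : ((n + 1 : ℕ) : K) = 0 := by
        push_cast at hn ⊢
        linear_combination -hn
      exact Nat.succ_ne_zero n (by exact_mod_cast h1)
    have hγ0 : ρ - ⇑(b.baseSupp j) - ⇑(b.baseSupp i) ≠ 0 := by
      intro h0
      have hρeq : ρ = ⇑(b.baseSupp j) + ⇑(b.baseSupp i) := by
        rw [sub_sub, sub_eq_zero] at h0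
        exact h0
      have h1 := congrFun hρeq (b.h' i)
      rw [hρi0, Pi.add_apply, b.baseSupp_apply_h', b.baseSupp_apply_h', A_diag] at h1
      have hAji : b.A j i = -2 := by
        have : ((b.A j i + 2 : ℤ) : K) = 0 := by
          push_cast at h1 ⊢
          linear_combination -h1
        have h2 : b.A j i + 2 = 0 := by exact_mod_cast this
        omega
      have key := IsKilling.rootSpace_zsmul_add_ne_bot_iff (αw b i) (αw b j) (αw_isNonZero b i) 2
      have hcast := IsKilling.apply_coroot_eq_cast (αw b i) (αw b j)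
      rw [coroot_αw] at hcast
      have hcast' : ((b.A j i : ℤ) : K) =
          ((chainBotCoeff (⇑(αw b i)) (αw b j) - chainTopCoeff (⇑(αw b i)) (αw b j) : ℤ) : K) := by
        rw [← hcast]
        exact (b.baseSupp_apply_h' j i).symm
      have hint : b.A j i = (chainBotCoeff (⇑(αw b i)) (αw b j) : ℤ) -
          (chainTopCoeff (⇑(αw b i)) (αw b j) : ℤ) := Int.cast_injective hcast'
      have h2 : (2 : ℤ) • (⇑(αw b i) : H → K) + ⇑(αw b j) = ρ + ⇑(b.baseSupp i) := by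
        rw [coe_αw, coe_αw, hρeq, two_smul]
        abel
      rw [h2] at key
      have h3 : (0 : ℤ) ≤ (chainBotCoeff (⇑(αw b i)) (αw b j) : ℤ) := Int.natCast_nonneg _
      exact (key.mpr ⟨by omega, by omega⟩) (htop i)
    exact ⟨i, hij, hA, hγne, hγ0, rootSpace_le_of_mem hγ0 hyne hyχ W hyW⟩

include hρ htop hN hj in
/-- The Borel-stable subspaces of dimension three. -/
theorem threeDim (W : Submodule K L) (hdim : Module.finrank K W = 3)
    (hst : ∀ x ∈ H.toSubmodule ⊔ (b.borelUpper : Submodule K L), ∀ w ∈ W, ⁅x, w⁆ ∈ W) :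
    (W2 b ρ j : Submodule K L) ≤ W ∧ ∃ i : ι, i ≠ j ∧ b.A i j ≠ 0 ∧
      rootSpace H (ρ - ⇑(b.baseSupp j) - ⇑(b.baseSupp i)) ≠ ⊥ ∧
      (ρ - ⇑(b.baseSupp j) - ⇑(b.baseSupp i)) ≠ 0 ∧
      W = (W2 b ρ j : Submodule K L) ⊔
        (rootSpace H (ρ - ⇑(b.baseSupp j) - ⇑(b.baseSupp i)) : Submodule K L) := by
  obtain ⟨h₀, hh⟩ := exists_h0 b
  have hle := W2_le b ρ hρ htop j hN hj W hst (by omega)
  refine ⟨hle, ?_⟩
  have h2 := finrank_W2 b ρ hρ htop j hj
  have hnot : ¬ (toLieSub b W hst : Submodule K L) ≤ (W2 b ρ j : Submodule K L) := by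
    rw [toLieSub_coe]
    intro h
    have h3 := Submodule.finrank_mono h
    omega
  obtain ⟨i, hij, hA, hγne, hγ0, hγW⟩ :=
    third_le b ρ hρ htop j hN hj (toLieSub b W hst) (toLieSub_e b W hst) hnot
  rw [toLieSub_coe] at hγW
  refine ⟨i, hij, hA, hγne, hγ0, ?_⟩
  have hsup : (W2 b ρ j : Submodule K L) ⊔
      (rootSpace H (ρ - ⇑(b.baseSupp j) - ⇑(b.baseSupp i)) : Submodule K L) ≤ W :=
    sup_le hle hγW
  have hγρ : ρ - ⇑(b.baseSupp j) - ⇑(b.baseSupp i) ≠ ρ := by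
    intro h
    have h1 := congrFun h h₀
    rw [Pi.sub_apply, Pi.sub_apply, hh, hh] at h1
    have : (2 : K) = 0 := by linear_combination -h1
    norm_num at this
  have hγρ' : ρ - ⇑(b.baseSupp j) - ⇑(b.baseSupp i) ≠ ρ - ⇑(b.baseSupp j) := by
    intro h
    have h1 := congrFun h h₀
    rw [Pi.sub_apply, Pi.sub_apply, hh, hh] at h1
    have : (1 : K) = 0 := by linear_combination -h1
    norm_num at this
  have hd := disjoint_W2 b ρ j hγρ hγρ'
  have hinf : (W2 b ρ j : Submodule K L) ⊓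
      (rootSpace H (ρ - ⇑(b.baseSupp j) - ⇑(b.baseSupp i)) : Submodule K L) = ⊥ := by
    rw [← LieSubmodule.inf_toSubmodule]
    have : (W2 b ρ j ⊓ rootSpace H (ρ - ⇑(b.baseSupp j) - ⇑(b.baseSupp i)) :
        LieSubmodule K H L) = ⊥ := hd.symm.eq_bot
    rw [this]
    rfl
  have h1 := Submodule.finrank_sup_add_finrank_inf_eq (W2 b ρ j : Submodule K L)
    (rootSpace H (ρ - ⇑(b.baseSupp j) - ⇑(b.baseSupp i)) : Submodule K L)
  have h3 : Module.finrank K
      (rootSpace H (ρ - ⇑(b.baseSupp j) - ⇑(b.baseSupp i)) : Submodule K L) = 1 :=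
    IsKilling.finrank_rootSpace_eq_one
      (⟨ρ - ⇑(b.baseSupp j) - ⇑(b.baseSupp i), hγne⟩ : Weight K H L) (fun h => hγ0 h)
  rw [hinf, finrank_bot, add_zero, h2, h3] at h1
  exact (Submodule.eq_of_le_of_finrank_eq hsup (by rw [h1, hdim])).symm

end Highest

end Groth.Agent.H80.AdjBorel3
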