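import Groth.Agent.H80.AdjBorel

set_option autoImplicit false
set_option linter.unusedSectionVars false
set_option linter.unusedVariables false

/-!
# The five-dimensional subalgebra spanned by a twistor conic and a Borel-stable line

Root-level facts: for the highest root `ρ` with `ρ (h j) = 1`, the functional `ρ + (ρ - α j)` is
not a root, `α j (coroot ρ) = 1`, and an explicit basis `e, f, h, x, y` with its bracket table.
-/

namespace Groth.Agent.H80.AdjFive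

open LieAlgebra LieModule Groth.Agent.H80.AdjHW Groth.Agent.H80.AdjBorel

universe u v w

variable {ι : Type u} {K : Type v} {L : Type w} [Fintype ι] [Field K] [CharZero K]
  [IsAlgClosed K] [LieRing L] [LieAlgebra K L] [FiniteDimensional K L] [LieAlgebra.IsSimple K L]
  {H : LieSubalgebra K L} [H.IsCartanSubalgebra] (b : LieAlgebra.Basis ι H)

theorem neg_eq_bot {χ : H → K} (h : rootSpace H χ = ⊥) : rootSpace H (-χ) = ⊥ := by
  by_contra hne
  let w : Weight K H L := ⟨-χ, hne⟩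
  have h1 := (-w).genWeightSpace_ne_bot
  have h2 : (⇑(-w) : H → K) = χ := by
    rw [Weight.coe_neg]
    exact neg_neg χ
  rw [h2] at h1
  exact h1 h

/-- The root string through a weight `β` in the direction of a nonzero weight `γ`, when `β + γ`
is not a weight. -/
theorem chain_general (γ : Weight K H L) (hγ : γ.IsNonZero) {β : H → K}
    (hβ : rootSpace H β ≠ ⊥) (hadd : rootSpace H (β + ⇑γ) = ⊥) :
    ∃ n : ℕ, β (IsKilling.coroot γ) = (n : K) ∧
      ∀ k : ℕ, rootSpace H (β - k • ⇑γ) ≠ ⊥ ↔ k ≤ n := by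
  set βw : Weight K H L := ⟨β, hβ⟩ with hβw
  have hcoe : (⇑βw : H → K) = β := rfl
  have key := IsKilling.rootSpace_zsmul_add_ne_bot_iff γ βw hγ
  have htop : chainTopCoeff (⇑γ) βw = 0 := by
    have h1 := key 1
    have h2 : (1 : ℤ) • (⇑γ : H → K) + ⇑βw = β + ⇑γ := by
      rw [one_smul, add_comm]
      rfl
    rw [h2] at h1
    by_contra hne
    have h3 : (1 : ℤ) ≤ (chainTopCoeff (⇑γ) βw : ℤ) := by
      have : 0 < chainTopCoeff (⇑γ) βw := Nat.pos_of_ne_zero hne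
      exact_mod_cast this
    have h4 : -(1 : ℤ) ≤ (chainBotCoeff (⇑γ) βw : ℤ) := by
      have : (0 : ℤ) ≤ (chainBotCoeff (⇑γ) βw : ℤ) := Int.natCast_nonneg _
      omega
    exact (h1.mpr ⟨h3, h4⟩) hadd
  refine ⟨chainBotCoeff (⇑γ) βw, ?_, fun k => ?_⟩
  · have h1 := IsKilling.apply_coroot_eq_cast γ βw
    rw [htop] at h1
    rw [← hcoe, h1]
    simp
  · have h1 := key (-(k : ℤ))
    have h2 : (-(k : ℤ)) • (⇑γ : H → K) + ⇑βw = β - k • ⇑γ := by
      rw [neg_smul, natCast_zsmul, neg_add_eq_sub]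
      rfl
    rw [h2, htop] at h1
    rw [h1]
    constructor
    · rintro ⟨-, h3⟩
      rw [neg_neg] at h3
      exact_mod_cast h3
    · intro h3
      refine ⟨by simp, ?_⟩
      rw [neg_neg]
      exact_mod_cast h3

section Highest

variable (ρ : H → K) (hρ : rootSpace H ρ ≠ ⊥)
  (htop : ∀ i, rootSpace H (ρ + ⇑(b.baseSupp i)) = ⊥)
  (j : ι) (hj : ρ (b.h' j) = 1)

include hρ htop hj in
/-- `ρ + (ρ - α j)` is not a root. -/
theorem two_sub_eq_bot : rootSpace H (ρ + (ρ - ⇑(b.baseSupp j))) = ⊥ := by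
  by_contra hne
  obtain ⟨h₀, hh⟩ := exists_h0 b
  obtain ⟨l, hl⟩ := weights_below_top b ρ hρ htop hne
  obtain ⟨m, hm⟩ := weights_below_top b ρ hρ htop
    (ne_bot_of_mem (b.sl2 j).e_ne_zero (e_mem b j))
  have h1 := congrFun hl h₀
  have h2 := congrFun hm h₀
  rw [Pi.add_apply, Pi.sub_apply, Pi.sub_apply, wt_apply b h₀ hh, hh] at h1
  rw [Pi.sub_apply, wt_apply b h₀ hh, hh] at h2
  have h3 : ((l.length + m.length : ℕ) : K) = 0 := by
    push_cast
    linear_combination h1 + h2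
  have h4 : l.length + m.length = 0 := by exact_mod_cast h3
  have h5 : m = [] := List.eq_nil_of_length_eq_zero (by omega)
  rw [h5, wt_nil, sub_zero] at hm
  have h6 := congrFun hm (b.h' j)
  rw [hj, b.baseSupp_apply_h', A_diag] at h6
  norm_num at h6

/-- The highest root as a weight. -/
noncomputable def ρw : Weight K H L := ⟨ρ, hρ⟩

theorem coe_ρw : (⇑(ρw ρ hρ) : H → K) = ρ := rfl

include hj in
theorem ρw_isNonZero : (ρw ρ hρ).IsNonZero := by
  intro h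
  have h1 : (⇑(ρw ρ hρ) : H → K) = 0 := h
  rw [coe_ρw] at h1
  exact rho_ne_zero b ρ j hj h1

include hj in
theorem rho_coroot : ρ (IsKilling.coroot (ρw ρ hρ)) = 2 :=
  IsKilling.root_apply_coroot (ρw_isNonZero b ρ hρ j hj)

include htop hj in
/-- `α j (coroot ρ) = 1`. -/
theorem alpha_coroot : b.baseSupp j (IsKilling.coroot (ρw ρ hρ)) = 1 := by
  have hβ : rootSpace H (ρ - ⇑(b.baseSupp j)) ≠ ⊥ := sub_ne_bot b ρ hρ htop hj
  have hadd : rootSpace H ((ρ - ⇑(b.baseSupp j)) + ⇑(ρw ρ hρ)) = ⊥ := by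
    rw [coe_ρw, add_comm]
    exact two_sub_eq_bot b ρ hρ htop j hj
  obtain ⟨n, hn, hk⟩ := chain_general (ρw ρ hρ) (ρw_isNonZero b ρ hρ j hj) hβ hadd
  have h1 : 1 ≤ n := by
    apply (hk 1).mp
    rw [one_smul, coe_ρw]
    have : ρ - ⇑(b.baseSupp j) - ρ = -⇑(b.baseSupp j) := by abel
    rw [this]
    intro h
    have := neg_eq_bot h
    rw [neg_neg] at this
    exact ne_bot_of_mem (b.sl2 j).e_ne_zero (e_mem b j) this
  have h2 : ¬ 2 ≤ n := by
    intro h
    have h3 := (hk 2).mpr h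
    apply h3
    rw [coe_ρw]
    have : ρ - ⇑(b.baseSupp j) - 2 • ρ = -(ρ + ⇑(b.baseSupp j)) := by
      rw [two_smul]; abel
    rw [this]
    exact neg_eq_bot (htop j)
  have h3 : n = 1 := by omega
  rw [h3, Pi.sub_apply, rho_coroot b ρ hρ j hj] at hn
  have : (b.baseSupp j) (IsKilling.coroot (ρw ρ hρ)) = 1 := by
    have h4 : (2 : K) - (b.baseSupp j) (IsKilling.coroot (ρw ρ hρ)) = 1 := by
      rw [hn]; simp
    linear_combination (-1 : K) * h4
  exact this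

end Highest

/-- Explicit basis vectors `e, f, h, x, y` of the five-dimensional algebra with their bracket
table. -/
structure Data (L : Type w) [LieRing L] (K : Type v) [Field K] [LieAlgebra K L] where
  e : L
  f : L
  h : L
  x : L
  y : L
  e_ne : e ≠ 0
  x_ne : x ≠ 0
  ef : ⁅e, f⁆ = h
  he : ⁅h, e⁆ = (2 : K) • e
  hf : ⁅h, f⁆ = -((2 : K) • f)
  hx : ⁅h, x⁆ = x
  hy : ⁅h, y⁆ = -y
  ex : ⁅e, x⁆ = 0
  fx : ⁅f, x⁆ = y
  ey : ⁅e, y⁆ = x
  fy : ⁅f, y⁆ = 0
  xy : ⁅x, y⁆ = 0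

section Exists

variable (ρ : H → K) (hρ : rootSpace H ρ ≠ ⊥)
  (htop : ∀ i, rootSpace H (ρ + ⇑(b.baseSupp i)) = ⊥)
  (j : ι) (hj : ρ (b.h' j) = 1)

theorem eq_zero_of_mem_bot {χ : H → K} (h : rootSpace H χ = ⊥) {z : L} (hz : z ∈ rootSpace H χ) :
    z = 0 := by
  rw [h] at hz
  exact (LieSubmodule.mem_bot _).mp hz

include hρ htop hj in
theorem exists_data : ∃ D : Data L K, D.e ∈ rootSpace H ρ ∧ D.f ∈ rootSpace H (-ρ) ∧
    D.x ∈ rootSpace H (ρ - ⇑(b.baseSupp j)) ∧ D.y ∈ rootSpace H (-⇑(b.baseSupp j)) := by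
  have hnz := ρw_isNonZero b ρ hρ j hj
  obtain ⟨h, e, f, ht, he, hf⟩ := IsKilling.exists_isSl2Triple_of_weight_isNonZero hnz
  have hh : h = ((IsKilling.coroot (ρw ρ hρ) : H) : L) := ht.h_eq_coroot hnz he hf
  have he' : e ∈ rootSpace H ρ := he
  have hf' : f ∈ rootSpace H (-ρ) := hf
  obtain ⟨x, hx, hx0⟩ : ∃ x ∈ rootSpace H (ρ - ⇑(b.baseSupp j)), x ≠ 0 := by
    by_contra hcon
    push Not at hcon
    exact sub_ne_bot b ρ hρ htop hj ((LieSubmodule.eq_bot_iff _).mpr hcon)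
  have hy : ⁅f, x⁆ ∈ rootSpace H (-⇑(b.baseSupp j)) := by
    have h1 := lie_mem_genWeightSpace_of_mem_genWeightSpace hf' hx
    have h2 : -ρ + (ρ - ⇑(b.baseSupp j)) = -⇑(b.baseSupp j) := by abel
    rw [h2] at h1
    exact h1
  have hex : ⁅e, x⁆ = 0 := by
    have h1 := lie_mem_genWeightSpace_of_mem_genWeightSpace he' hx
    exact eq_zero_of_mem_bot (two_sub_eq_bot b ρ hρ htop j hj) h1
  have hhx : ⁅h, x⁆ = x := by
    rw [hh]
    have h1 := IsKilling.lie_eq_smul_of_mem_rootSpace hx (IsKilling.coroot (ρw ρ hρ))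
    rw [LieSubalgebra.coe_bracket_of_module] at h1
    rw [h1, Pi.sub_apply, rho_coroot b ρ hρ j hj, alpha_coroot b ρ hρ htop j hj]
    norm_num
  have hhy : ⁅h, ⁅f, x⁆⁆ = -⁅f, x⁆ := by
    rw [hh]
    have h1 := IsKilling.lie_eq_smul_of_mem_rootSpace hy (IsKilling.coroot (ρw ρ hρ))
    rw [LieSubalgebra.coe_bracket_of_module] at h1
    rw [h1, Pi.neg_apply, alpha_coroot b ρ hρ htop j hj]
    simp
  have hey : ⁅e, ⁅f, x⁆⁆ = x := by
    rw [leibniz_lie, ht.lie_e_f, hex, lie_zero, add_zero, hhx]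
  have hfy : ⁅f, ⁅f, x⁆⁆ = 0 := by
    have h1 := lie_mem_genWeightSpace_of_mem_genWeightSpace hf' hy
    have h2 : -ρ + -⇑(b.baseSupp j) = -(ρ + ⇑(b.baseSupp j)) := by abel
    rw [h2] at h1
    exact eq_zero_of_mem_bot (neg_eq_bot (htop j)) h1
  have hxy : ⁅x, ⁅f, x⁆⁆ = 0 := by
    have h1 := lie_mem_genWeightSpace_of_mem_genWeightSpace hx hy
    have h2 : ρ - ⇑(b.baseSupp j) + -⇑(b.baseSupp j) = ρ - ⇑(b.baseSupp j) - ⇑(b.baseSupp j) := by
      abel
    rw [h2] at h1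
    exact eq_zero_of_mem_bot (sub_two_eq_bot b ρ hρ htop hj) h1
  exact ⟨⟨e, f, h, x, ⁅f, x⁆, ht.e_ne_zero, hx0, ht.lie_e_f, ht.lie_h_e_smul K,
    ht.lie_lie_smul_f K, hhx, hhy, hex, rfl, hey, hfy, hxy⟩, he', hf', hx, hy⟩

end Exists

end Groth.Agent.H80.AdjFive
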