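import Groth.Agent.H80.AdjFive

set_option autoImplicit false
set_option linter.unusedSectionVars false
set_option linter.unusedVariables false

/-!
# The five-dimensional Lie algebra with basis `e, f, h, x, y`: pure Lie algebra facts
-/

namespace Groth.Agent.H80.AdjFive

open LieAlgebra LieModule

universe v w

variable {K : Type v} {L : Type w} [Field K] [CharZero K] [LieRing L] [LieAlgebra K L]

/-- Brackets of spans. -/
theorem span_lie_mem (S T : Set L) (N : Submodule K L)
    (h : ∀ u ∈ S, ∀ v ∈ T, ⁅u, v⁆ ∈ N) :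
    ∀ u ∈ Submodule.span K S, ∀ v ∈ Submodule.span K T, ⁅u, v⁆ ∈ N := by
  have h1 : ∀ u ∈ S, ∀ v ∈ Submodule.span K T, ⁅u, v⁆ ∈ N := by
    intro u hu v hv
    induction hv using Submodule.span_induction with
    | mem v hv => exact h u hu v hv
    | zero => rw [lie_zero]; exact N.zero_mem
    | add a c _ _ ha hc => rw [lie_add]; exact N.add_mem ha hc
    | smul c a _ ha => rw [lie_smul]; exact N.smul_mem c ha
  intro u hu
  induction hu using Submodule.span_induction with
  | mem u hu => exact h1 u hu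
  | zero => intro v _; rw [zero_lie]; exact N.zero_mem
  | add a c _ _ ha hc => intro v hv; rw [add_lie]; exact N.add_mem (ha v hv) (hc v hv)
  | smul c a _ ha => intro v hv; rw [smul_lie]; exact N.smul_mem c (ha v hv)

namespace Data

variable (D : Data L K)

theorem two_ne : (2 : K) ≠ 0 := two_ne_zero

theorem h_ne : D.h ≠ 0 := by
  intro h0
  have h1 := D.he
  rw [h0, zero_lie] at h1
  exact D.e_ne ((smul_eq_zero.mp h1.symm).resolve_left two_ne)

theorem f_ne : D.f ≠ 0 := by
  intro h0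
  have h1 := D.ef
  rw [h0, lie_zero] at h1
  exact D.h_ne h1.symm

theorem y_ne : D.y ≠ 0 := by
  intro h0
  have h1 := D.ey
  rw [h0, lie_zero] at h1
  exact D.x_ne h1.symm

theorem fe : ⁅D.f, D.e⁆ = -D.h := by rw [← lie_skew, D.ef]
theorem eh : ⁅D.e, D.h⁆ = -((2 : K) • D.e) := by rw [← lie_skew, D.he]
theorem fh : ⁅D.f, D.h⁆ = (2 : K) • D.f := by rw [← lie_skew, D.hf, neg_neg]
theorem xh : ⁅D.x, D.h⁆ = -D.x := by rw [← lie_skew, D.hx]
theorem yh : ⁅D.y, D.h⁆ = D.y := by rw [← lie_skew, D.hy, neg_neg]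
theorem xe : ⁅D.x, D.e⁆ = 0 := by rw [← lie_skew, D.ex, neg_zero]
theorem xf : ⁅D.x, D.f⁆ = -D.y := by rw [← lie_skew, D.fx]
theorem ye : ⁅D.y, D.e⁆ = -D.x := by rw [← lie_skew, D.ey]
theorem yf : ⁅D.y, D.f⁆ = 0 := by rw [← lie_skew, D.fy, neg_zero]
theorem yx : ⁅D.y, D.x⁆ = 0 := by rw [← lie_skew, D.xy, neg_zero]

/-- The five generators. -/
def G5 : Set L := {D.e, D.f, D.h, D.x, D.y}

/-- The two generators of the radical. -/
def G2 : Set L := {D.x, D.y}

/-- The five-dimensional space. -/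
def M : Submodule K L := Submodule.span K D.G5

/-- The two-dimensional space. -/
def R : Submodule K L := Submodule.span K D.G2

theorem e_mem_M : D.e ∈ D.M := Submodule.subset_span (by simp [G5])
theorem f_mem_M : D.f ∈ D.M := Submodule.subset_span (by simp [G5])
theorem h_mem_M : D.h ∈ D.M := Submodule.subset_span (by simp [G5])
theorem x_mem_M : D.x ∈ D.M := Submodule.subset_span (by simp [G5])
theorem y_mem_M : D.y ∈ D.M := Submodule.subset_span (by simp [G5])
theorem x_mem_R : D.x ∈ D.R := Submodule.subset_span (by simp [G2])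
theorem y_mem_R : D.y ∈ D.R := Submodule.subset_span (by simp [G2])

theorem R_le_M : D.R ≤ D.M := by
  apply Submodule.span_mono
  intro z hz
  simp only [G2, Set.mem_insert_iff, Set.mem_singleton_iff] at hz
  simp only [G5, Set.mem_insert_iff, Set.mem_singleton_iff]
  tauto

theorem lie_mem_M {u v : L} (hu : u ∈ D.M) (hv : v ∈ D.M) : ⁅u, v⁆ ∈ D.M := by
  refine span_lie_mem D.G5 D.G5 D.M ?_ u hu v hv
  intro u hu v hv
  simp only [G5, Set.mem_insert_iff, Set.mem_singleton_iff] at hu hv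
  rcases hu with rfl | rfl | rfl | rfl | rfl <;> rcases hv with rfl | rfl | rfl | rfl | rfl <;>
    simp only [lie_self, D.ef, D.he, D.hf, D.hx, D.hy, D.ex, D.fx, D.ey, D.fy, D.xy, D.fe, D.eh,
      D.fh, D.xh, D.yh, D.xe, D.xf, D.ye, D.yf, D.yx] <;>
    first
    | exact Submodule.zero_mem _
    | exact D.e_mem_M | exact D.f_mem_M | exact D.h_mem_M | exact D.x_mem_M | exact D.y_mem_M
    | exact Submodule.neg_mem _ D.e_mem_M | exact Submodule.neg_mem _ D.f_mem_M
    | exact Submodule.neg_mem _ D.h_mem_M | exact Submodule.neg_mem _ D.x_mem_M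
    | exact Submodule.neg_mem _ D.y_mem_M
    | exact Submodule.smul_mem _ _ D.e_mem_M | exact Submodule.smul_mem _ _ D.f_mem_M
    | exact Submodule.neg_mem _ (Submodule.smul_mem _ _ D.e_mem_M)
    | exact Submodule.neg_mem _ (Submodule.smul_mem _ _ D.f_mem_M)

theorem lie_mem_R {u v : L} (hu : u ∈ D.M) (hv : v ∈ D.R) : ⁅u, v⁆ ∈ D.R := by
  refine span_lie_mem D.G5 D.G2 D.R ?_ u hu v hv
  intro u hu v hv
  simp only [G5, G2, Set.mem_insert_iff, Set.mem_singleton_iff] at hu hv
  rcases hu with rfl | rfl | rfl | rfl | rfl <;> rcases hv with rfl | rfl <;>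
    simp only [lie_self, D.ef, D.he, D.hf, D.hx, D.hy, D.ex, D.fx, D.ey, D.fy, D.xy, D.fe, D.eh,
      D.fh, D.xh, D.yh, D.xe, D.xf, D.ye, D.yf, D.yx] <;>
    first
    | exact Submodule.zero_mem _
    | exact D.x_mem_R | exact D.y_mem_R
    | exact Submodule.neg_mem _ D.x_mem_R
    | exact Submodule.neg_mem _ D.y_mem_R

theorem lie_R_R {u v : L} (hu : u ∈ D.R) (hv : v ∈ D.R) : ⁅u, v⁆ = 0 := by
  have := span_lie_mem (K := K) D.G2 D.G2 ⊥ ?_ u hu v hv
  · exact (Submodule.mem_bot K).mp this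
  intro u hu v hv
  simp only [G2, Set.mem_insert_iff, Set.mem_singleton_iff] at hu hv
  rw [Submodule.mem_bot]
  rcases hu with rfl | rfl <;> rcases hv with rfl | rfl <;>
    simp only [lie_self, D.xy, D.yx]

/-- The family of basis vectors. -/
def vec : Fin 5 → L := ![D.e, D.f, D.h, D.x, D.y]

/-- The eigenvalues of `ad h`. -/
def mu : Fin 5 → K := ![2, -2, 0, 1, -1]

theorem mu_injective : Function.Injective (mu (K := K)) := by
  intro a c hac
  fin_cases a <;> fin_cases c <;> simp [mu] at hac ⊢ <;> norm_num at hac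

theorem range_vec : Set.range D.vec = D.G5 := by
  ext z
  simp only [vec, G5, Set.mem_range, Set.mem_insert_iff, Set.mem_singleton_iff]
  constructor
  · rintro ⟨i, rfl⟩
    fin_cases i <;> simp
  · rintro (rfl | rfl | rfl | rfl | rfl)
    · exact ⟨0, rfl⟩
    · exact ⟨1, rfl⟩
    · exact ⟨2, rfl⟩
    · exact ⟨3, rfl⟩
    · exact ⟨4, rfl⟩

theorem linearIndependent_vec : LinearIndependent K D.vec := by
  apply Module.End.eigenvectors_linearIndependent' (ad K L D.h) (mu (K := K)) mu_injective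
  intro i
  rw [Module.End.hasEigenvector_iff, Module.End.mem_eigenspace_iff]
  fin_cases i
  · exact ⟨by simpa [vec, mu] using D.he, D.e_ne⟩
  · refine ⟨?_, D.f_ne⟩
    simp only [vec, mu, ad_apply]
    show ⁅D.h, D.f⁆ = (-2 : K) • D.f
    rw [D.hf, neg_smul]
  · refine ⟨?_, D.h_ne⟩
    show ⁅D.h, D.h⁆ = (0 : K) • D.h
    rw [lie_self, zero_smul]
  · refine ⟨?_, D.x_ne⟩
    show ⁅D.h, D.x⁆ = (1 : K) • D.x
    rw [D.hx, one_smul]
  · refine ⟨?_, D.y_ne⟩
    show ⁅D.h, D.y⁆ = (-1 : K) • D.y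
    rw [D.hy, neg_smul, one_smul]

theorem finrank_M : Module.finrank K D.M = 5 := by
  unfold M
  rw [← D.range_vec, finrank_span_eq_card D.linearIndependent_vec]
  rfl

theorem linearIndependent_xy : LinearIndependent K ![D.x, D.y] := by
  have h1 := D.linearIndependent_vec.comp (![3, 4] : Fin 2 → Fin 5) (by decide)
  convert h1 using 1
  ext i
  fin_cases i <;> rfl

theorem finrank_R : Module.finrank K D.R = 2 := by
  have h1 : Set.range ![D.x, D.y] = D.G2 := by
    ext z
    simp only [G2, Set.mem_range, Set.mem_insert_iff, Set.mem_singleton_iff]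
    constructor
    · rintro ⟨i, rfl⟩
      fin_cases i <;> simp
    · rintro (rfl | rfl)
      · exact ⟨0, rfl⟩
      · exact ⟨1, rfl⟩
  unfold R
  rw [← h1, finrank_span_eq_card D.linearIndependent_xy]
  rfl

theorem mem_M_iff (z : L) : z ∈ D.M ↔ ∃ c : Fin 5 → K,
    z = c 0 • D.e + c 1 • D.f + c 2 • D.h + c 3 • D.x + c 4 • D.y := by
  unfold M
  rw [← D.range_vec, Submodule.mem_span_range_iff_exists_fun]
  constructor
  · rintro ⟨c, rfl⟩
    exact ⟨c, by simp [Fin.sum_univ_five, vec]⟩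
  · rintro ⟨c, rfl⟩
    exact ⟨c, by simp [Fin.sum_univ_five, vec]⟩

end Data

end Groth.Agent.H80.AdjFive
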