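import Groth.Agent.H80.AdjFiveRad

set_option autoImplicit false
set_option linter.unusedSectionVars false
set_option linter.unusedVariables false

/-!
# The five-dimensional subalgebra generated by a twistor conic and a Borel-stable line
-/

namespace Groth.Agent.H80.AdjFive

open LieAlgebra LieModule Groth.Agent.H80.AdjHW Groth.Agent.H80.AdjBorel

universe u v w

variable {ι : Type u} {K : Type v} {L : Type w} [Fintype ι] [Field K] [CharZero K]
  [IsAlgClosed K] [LieRing L] [LieAlgebra K L] [FiniteDimensional K L] [LieAlgebra.IsSimple K L]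
  {H : LieSubalgebra K L} [H.IsCartanSubalgebra] (b : LieAlgebra.Basis ι H)

theorem main (ρ : H → K) (hρ : rootSpace H ρ ≠ ⊥)
    (htop : ∀ i, rootSpace H (ρ + ⇑(b.baseSupp i)) = ⊥)
    (j : ι) (hj : ρ (b.h' j) = 1) (A : LieSubalgebra K L)
    (hA : A = LieSubalgebra.lieSpan K L
      ((rootSpace H ρ : Set L) ∪ (rootSpace H (-ρ) : Set L) ∪
        (rootSpace H (ρ - ⇑(b.baseSupp j)) : Set L))) :
    Module.finrank K A = 5 ∧ Module.finrank K (LieAlgebra.radical K A) = 2 ∧
      (LieAlgebra.radical K A).toSubmodule.map (A.incl : A →ₗ⁅K⁆ L).toLinearMap =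
        (rootSpace H (ρ - ⇑(b.baseSupp j)) : Submodule K L) ⊔
          (rootSpace H (-⇑(b.baseSupp j)) : Submodule K L) := by
  obtain ⟨D, he, hf, hx, hy⟩ := exists_data b ρ hρ htop j hj
  have hρ0 : ρ ≠ 0 := rho_ne_zero b ρ j hj
  have hnρ0 : -ρ ≠ 0 := neg_ne_zero.mpr hρ0
  have hρα : ρ - ⇑(b.baseSupp j) ≠ 0 := rho_sub_ne_zero b ρ j hj
  have hα0 : -⇑(b.baseSupp j) ≠ (0 : H → K) := by
    apply neg_ne_zero.mpr
    intro h
    exact αw_isNonZero b j h
  have hS : ((rootSpace H ρ : Set L) ∪ (rootSpace H (-ρ) : Set L) ∪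
        (rootSpace H (ρ - ⇑(b.baseSupp j)) : Set L)) ⊆ D.M := by
    intro z hz
    rcases hz with (hz | hz) | hz
    · exact rootSpace_le_of_mem hρ0 D.e_ne he D.M D.e_mem_M hz
    · exact rootSpace_le_of_mem hnρ0 D.f_ne hf D.M D.f_mem_M hz
    · exact rootSpace_le_of_mem hρα D.x_ne hx D.M D.x_mem_M hz
  have hAM := D.toSubmodule_eq A _ hA hS (Or.inl (Or.inl he)) (Or.inl (Or.inr hf)) (Or.inr hx)
  refine ⟨D.finrank_A A hAM, D.finrank_radical A hAM, ?_⟩
  rw [D.map_radical A hAM]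
  apply le_antisymm
  · unfold Data.R
    rw [Submodule.span_le]
    intro z hz
    simp only [Data.G2, Set.mem_insert_iff, Set.mem_singleton_iff] at hz
    rcases hz with rfl | rfl
    · exact (le_sup_left : (rootSpace H (ρ - ⇑(b.baseSupp j)) : Submodule K L) ≤ _) hx
    · exact (le_sup_right : (rootSpace H (-⇑(b.baseSupp j)) : Submodule K L) ≤ _) hy
  · apply sup_le
    · exact rootSpace_le_of_mem hρα D.x_ne hx D.R D.x_mem_R
    · exact rootSpace_le_of_mem hα0 D.y_ne hy D.R D.y_mem_R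

end Groth.Agent.H80.AdjFive
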