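import Groth.Agent.H80.AdjFiveAlg

set_option autoImplicit false
set_option linter.unusedSectionVars false
set_option linter.unusedVariables false

/-!
# The five-dimensional Lie algebra with basis `e, f, h, x, y`: generation and radical
-/

namespace Groth.Agent.H80.AdjFive

open LieAlgebra LieModule

universe v w

variable {K : Type v} {L : Type w} [Field K] [CharZero K] [LieRing L] [LieAlgebra K L]

namespace Data

variable (D : Data L K)

/-- `M` as a Lie subalgebra. -/
def subalg : LieSubalgebra K L :=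
  { D.M with lie_mem' := fun hu hv => D.lie_mem_M hu hv }

theorem mem_subalg (z : L) : z ∈ D.subalg ↔ z ∈ D.M := Iff.rfl

theorem toSubmodule_eq (A : LieSubalgebra K L) (S : Set L)
    (hA : A = LieSubalgebra.lieSpan K L S)
    (hS : S ⊆ D.M) (he : D.e ∈ S) (hf : D.f ∈ S) (hx : D.x ∈ S) : A.toSubmodule = D.M := by
  apply le_antisymm
  · have h1 : A ≤ D.subalg := by
      rw [hA, LieSubalgebra.lieSpan_le]
      exact hS
    intro z hz
    exact (D.mem_subalg z).mp (h1 hz)
  · have heA : D.e ∈ A := by rw [hA]; exact LieSubalgebra.subset_lieSpan he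
    have hfA : D.f ∈ A := by rw [hA]; exact LieSubalgebra.subset_lieSpan hf
    have hxA : D.x ∈ A := by rw [hA]; exact LieSubalgebra.subset_lieSpan hx
    unfold M
    rw [Submodule.span_le]
    intro z hz
    simp only [G5, Set.mem_insert_iff, Set.mem_singleton_iff] at hz
    rcases hz with rfl | rfl | rfl | rfl | rfl
    · exact heA
    · exact hfA
    · rw [← D.ef]; exact A.lie_mem heA hfA
    · exact hxA
    · rw [← D.fx]; exact A.lie_mem hfA hxA

section Stable

variable (N : Submodule K L) (hstab : ∀ u ∈ D.M, ∀ z ∈ N, ⁅u, z⁆ ∈ N)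

include hstab in
theorem all_of_h (hh : D.h ∈ N) : D.e ∈ N ∧ D.f ∈ N ∧ D.h ∈ N := by
  refine ⟨?_, ?_, hh⟩
  · have h1 := hstab D.e D.e_mem_M D.h hh
    rw [D.eh] at h1
    have h2 := N.smul_mem (-(2 : K))⁻¹ h1
    rwa [← neg_smul, inv_smul_smul₀ (neg_ne_zero.mpr two_ne)] at h2
  · have h1 := hstab D.f D.f_mem_M D.h hh
    rw [D.fh] at h1
    have h2 := N.smul_mem (2 : K)⁻¹ h1
    rwa [inv_smul_smul₀ two_ne] at h2

include hstab in
theorem all_of_e (he : D.e ∈ N) : D.e ∈ N ∧ D.f ∈ N ∧ D.h ∈ N := by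
  apply D.all_of_h N hstab
  have h1 := hstab D.f D.f_mem_M D.e he
  rw [D.fe] at h1
  have h2 := N.neg_mem h1
  rwa [neg_neg] at h2

include hstab in
theorem all_of_f (hf : D.f ∈ N) : D.e ∈ N ∧ D.f ∈ N ∧ D.h ∈ N := by
  apply D.all_of_h N hstab
  have h1 := hstab D.e D.e_mem_M D.f hf
  rwa [D.ef] at h1

include hstab in
/-- A subspace of `M` stable under `M` and containing `R` is `R` or contains `e, f, h`. -/
theorem le_R_or (hR : D.R ≤ N) (hNM : N ≤ D.M) :
    N ≤ D.R ∨ (D.e ∈ N ∧ D.f ∈ N ∧ D.h ∈ N) := by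
  by_cases hall : D.e ∈ N ∧ D.f ∈ N ∧ D.h ∈ N
  · exact Or.inr hall
  left
  intro z hz
  obtain ⟨c, hc⟩ := (D.mem_M_iff z).mp (hNM hz)
  have hs : c 0 • D.e + c 1 • D.f + c 2 • D.h ∈ N := by
    have h1 : c 3 • D.x + c 4 • D.y ∈ N :=
      N.add_mem (N.smul_mem _ (hR D.x_mem_R)) (N.smul_mem _ (hR D.y_mem_R))
    have h2 := N.sub_mem hz h1
    have h3 : z - (c 3 • D.x + c 4 • D.y) = c 0 • D.e + c 1 • D.f + c 2 • D.h := by
      rw [hc]; abel
    rwa [h3] at h2
  have hT1 : (2 * c 0) • D.e - (2 * c 1) • D.f ∈ N := by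
    have h1 := hstab D.h D.h_mem_M _ hs
    rw [lie_add, lie_add, lie_smul, lie_smul, lie_smul, D.he, D.hf, lie_self, smul_zero,
      add_zero, smul_neg, smul_smul, smul_smul, mul_comm (c 0), mul_comm (c 1),
      ← sub_eq_add_neg] at h1
    exact h1
  have hT2 : (4 * c 0) • D.e + (4 * c 1) • D.f ∈ N := by
    have h1 := hstab D.h D.h_mem_M _ hT1
    rw [lie_sub, lie_smul, lie_smul, D.he, D.hf, smul_neg, sub_neg_eq_add, smul_smul,
      smul_smul] at h1
    have h2 : 2 * c 0 * 2 = 4 * c 0 := by ring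
    have h3 : 2 * c 1 * 2 = 4 * c 1 := by ring
    rwa [h2, h3] at h1
  have h8 : (8 : K) ≠ 0 := by norm_num
  have he : c 0 • D.e ∈ N := by
    have h1 := N.smul_mem (8 : K)⁻¹ (N.add_mem hT2 (N.smul_mem (2 : K) hT1))
    have h2 : (8 : K)⁻¹ • ((4 * c 0) • D.e + (4 * c 1) • D.f +
        (2 : K) • ((2 * c 0) • D.e - (2 * c 1) • D.f)) = c 0 • D.e := by
      module
    rwa [h2] at h1
  have hf : c 1 • D.f ∈ N := by
    have h1 := N.smul_mem (8 : K)⁻¹ (N.sub_mem hT2 (N.smul_mem (2 : K) hT1))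
    have h2 : (8 : K)⁻¹ • ((4 * c 0) • D.e + (4 * c 1) • D.f -
        (2 : K) • ((2 * c 0) • D.e - (2 * c 1) • D.f)) = c 1 • D.f := by
      module
    rwa [h2] at h1
  have hh : c 2 • D.h ∈ N := by
    have h1 := N.sub_mem (N.sub_mem hs he) hf
    have h2 : c 0 • D.e + c 1 • D.f + c 2 • D.h - c 0 • D.e - c 1 • D.f = c 2 • D.h := by abel
    rwa [h2] at h1
  have h0 : c 0 = 0 := by
    by_contra hne
    apply hall
    apply D.all_of_e N hstab
    have h1 := N.smul_mem (c 0)⁻¹ he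
    rwa [inv_smul_smul₀ hne] at h1
  have h1 : c 1 = 0 := by
    by_contra hne
    apply hall
    apply D.all_of_f N hstab
    have h1 := N.smul_mem (c 1)⁻¹ hf
    rwa [inv_smul_smul₀ hne] at h1
  have h2 : c 2 = 0 := by
    by_contra hne
    apply hall
    apply D.all_of_h N hstab
    have h1 := N.smul_mem (c 2)⁻¹ hh
    rwa [inv_smul_smul₀ hne] at h1
  rw [hc, h0, h1, h2, zero_smul, zero_smul, zero_smul, zero_add, zero_add, zero_add]
  exact D.R.add_mem (D.R.smul_mem _ D.x_mem_R) (D.R.smul_mem _ D.y_mem_R)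

end Stable

section Radical

variable (A : LieSubalgebra K L) (hAM : A.toSubmodule = D.M)

/-- The image in `L` of an ideal of `A`. -/
def img (I : LieIdeal K A) : Submodule K L := I.toSubmodule.map A.toSubmodule.subtype

omit [CharZero K] in
theorem mem_img (I : LieIdeal K A) (z : L) : z ∈ img A I ↔ ∃ hz : z ∈ A, (⟨z, hz⟩ : A) ∈ I := by
  unfold img
  rw [Submodule.mem_map]
  constructor
  · rintro ⟨a, ha, rfl⟩
    exact ⟨a.2, ha⟩
  · rintro ⟨hz, h⟩
    exact ⟨⟨z, hz⟩, h, rfl⟩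

omit [CharZero K] in
theorem img_le (I : LieIdeal K A) : img A I ≤ A.toSubmodule := by
  intro z hz
  obtain ⟨hz', -⟩ := (mem_img A I z).mp hz
  exact hz'

omit [CharZero K] in
theorem img_lie {I J : LieIdeal K A} {u z : L} (hu : u ∈ img A I) (hz : z ∈ img A J) :
    ⁅u, z⁆ ∈ img A ⁅I, J⁆ := by
  obtain ⟨hu', hu''⟩ := (mem_img A I u).mp hu
  obtain ⟨hz', hz''⟩ := (mem_img A J z).mp hz
  rw [mem_img]
  refine ⟨A.lie_mem hu' hz', ?_⟩
  have h1 : (⟨⁅u, z⁆, A.lie_mem hu' hz'⟩ : A) = ⁅(⟨u, hu'⟩ : A), (⟨z, hz'⟩ : A)⁆ := rfl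
  rw [h1]
  exact LieSubmodule.lie_mem_lie hu'' hz''

omit [CharZero K] in
theorem img_stable (I : LieIdeal K A) {u z : L} (hu : u ∈ A) (hz : z ∈ img A I) :
    ⁅u, z⁆ ∈ img A I := by
  obtain ⟨hz', hz''⟩ := (mem_img A I z).mp hz
  rw [mem_img]
  refine ⟨A.lie_mem hu hz', ?_⟩
  have h1 : (⟨⁅u, z⁆, A.lie_mem hu hz'⟩ : A) = ⁅(⟨u, hu⟩ : A), (⟨z, hz'⟩ : A)⁆ := rfl
  rw [h1]
  exact I.lie_mem hz''

omit [CharZero K] in
theorem img_bot : img A (⊥ : LieIdeal K A) = ⊥ := by
  unfold img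
  rw [LieSubmodule.bot_toSubmodule, Submodule.map_bot]

/-- An ideal whose image contains `e, f, h` is not solvable. -/
theorem not_isSolvable (I : LieIdeal K A) (he : D.e ∈ img A I) (hf : D.f ∈ img A I)
    (hh : D.h ∈ img A I) : ¬ IsSolvable I := by
  intro hs
  obtain ⟨k, hk⟩ := IsSolvable.solvable K I
  rw [LieIdeal.derivedSeries_eq_bot_iff] at hk
  have key : ∀ k : ℕ, D.e ∈ img A (derivedSeriesOfIdeal K A k I) ∧
      D.f ∈ img A (derivedSeriesOfIdeal K A k I) ∧ D.h ∈ img A (derivedSeriesOfIdeal K A k I) := by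
    intro k
    induction k with
    | zero => exact ⟨he, hf, hh⟩
    | succ k ih =>
      obtain ⟨h1, h2, h3⟩ := ih
      rw [derivedSeriesOfIdeal_succ]
      refine ⟨?_, ?_, ?_⟩
      · have h4 := img_lie A h3 h1
        rw [D.he] at h4
        have h5 := Submodule.smul_mem _ (2 : K)⁻¹ h4
        rwa [inv_smul_smul₀ two_ne] at h5
      · have h4 := img_lie A h2 h3
        rw [D.fh] at h4
        have h5 := Submodule.smul_mem _ (2 : K)⁻¹ h4
        rwa [inv_smul_smul₀ two_ne] at h5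
      · have h4 := img_lie A h1 h2
        rwa [D.ef] at h4
  have h1 := (key k).1
  rw [hk, img_bot, Submodule.mem_bot] at h1
  exact D.e_ne h1

/-- The ideal of `A` lying over `R`. -/
def Rid : LieIdeal K A :=
  { D.R.comap A.toSubmodule.subtype with
    lie_mem := by
      intro a r hr
      have hr' : (r : L) ∈ D.R := hr
      have ha : (a : L) ∈ D.M := by
        rw [← hAM]
        exact a.2
      show ((⁅a, r⁆ : A) : L) ∈ D.R
      rw [LieSubalgebra.coe_bracket]
      exact D.lie_mem_R ha hr' }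

theorem mem_Rid (a : A) : a ∈ D.Rid A hAM ↔ (a : L) ∈ D.R := Iff.rfl

theorem Rid_toSubmodule : (D.Rid A hAM).toSubmodule = D.R.comap A.toSubmodule.subtype := rfl

include hAM in
theorem R_le_A : D.R ≤ A.toSubmodule := by
  rw [hAM]
  exact D.R_le_M

theorem img_Rid : img A (D.Rid A hAM) = D.R := by
  unfold img
  rw [Rid_toSubmodule, Submodule.map_comap_subtype, inf_eq_right]
  exact D.R_le_A A hAM

theorem Rid_isSolvable : IsSolvable (D.Rid A hAM) := by
  apply IsSolvable.mk (R := K) (k := 1)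
  rw [LieIdeal.derivedSeries_eq_bot_iff, derivedSeriesOfIdeal_succ, derivedSeriesOfIdeal_zero,
    LieSubmodule.lie_eq_bot_iff]
  intro r1 h1 r2 h2
  apply Subtype.ext
  rw [LieSubalgebra.coe_bracket]
  exact D.lie_R_R h1 h2

variable [FiniteDimensional K L]

theorem Rid_le_radical : D.Rid A hAM ≤ radical K A :=
  (LieIdeal.solvable_iff_le_radical K A (D.Rid A hAM)).mp (D.Rid_isSolvable A hAM)

theorem radical_eq : radical K A = D.Rid A hAM := by
  apply le_antisymm _ (D.Rid_le_radical A hAM)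
  have hstab : ∀ u ∈ D.M, ∀ z ∈ img A (radical K A), ⁅u, z⁆ ∈ img A (radical K A) := by
    intro u hu z hz
    rw [← hAM] at hu
    exact img_stable A _ hu hz
  have hR : D.R ≤ img A (radical K A) := by
    rw [← D.img_Rid A hAM]
    exact Submodule.map_mono (D.Rid_le_radical A hAM)
  have hNM : img A (radical K A) ≤ D.M := by
    rw [← hAM]
    exact img_le A _
  rcases D.le_R_or (img A (radical K A)) hstab hR hNM with h | ⟨h1, h2, h3⟩
  · intro a ha
    rw [mem_Rid]
    apply h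
    rw [mem_img]
    exact ⟨a.2, ha⟩
  · exact absurd (inferInstance : IsSolvable (radical K A))
      (D.not_isSolvable A (radical K A) h1 h2 h3)

include D hAM in
theorem finrank_radical : Module.finrank K (radical K A) = 2 := by
  rw [D.radical_eq A hAM]
  have e : (D.R.comap A.toSubmodule.subtype) ≃ₗ[K] D.R :=
    Submodule.comapSubtypeEquivOfLe (D.R_le_A A hAM)
  have h1 := e.finrank_eq
  rw [D.finrank_R] at h1
  exact h1

include hAM in
theorem map_radical : (radical K A).toSubmodule.map (A.incl : A →ₗ⁅K⁆ L).toLinearMap = D.R := by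
  rw [D.radical_eq A hAM]
  exact D.img_Rid A hAM

include D hAM in
theorem finrank_A : Module.finrank K A = 5 := by
  have h1 : Module.finrank K A.toSubmodule = 5 := by
    rw [hAM]
    exact D.finrank_M
  exact h1

end Radical

end Data

end Groth.Agent.H80.AdjFive
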