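import Mathlib

set_option autoImplicit false
set_option linter.unusedSectionVars false
set_option linter.unusedVariables false

/-!
# Highest weight vectors in the adjoint representation of a simple Lie algebra

For a simple Lie algebra with a `LieAlgebra.Basis`, a nonzero weight vector killed by all `e i`
generates the whole Lie algebra under the `f i`; hence all weights are below its weight.
-/

namespace Groth.Agent.H80.AdjHW

open LieAlgebra LieModule

universe u v w

variable {ι : Type u} {K : Type v} {L : Type w} [Fintype ι] [Field K] [CharZero K]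
  [IsAlgClosed K] [LieRing L] [LieAlgebra K L] [FiniteDimensional K L] [LieAlgebra.IsSimple K L]
  {H : LieSubalgebra K L} [H.IsCartanSubalgebra] (b : LieAlgebra.Basis ι H)

theorem e_mem (i : ι) : b.e i ∈ rootSpace H (⇑(b.baseSupp i)) :=
  (mem_genWeightSpace _ _ _).mpr fun ⟨z, hz⟩ => ⟨1, by simp⟩

theorem f_mem (i : ι) : b.f i ∈ rootSpace H (-⇑(b.baseSupp i)) :=
  (mem_genWeightSpace _ _ _).mpr fun ⟨z, hz⟩ => ⟨1, by simp [← eq_neg_iff_add_eq_zero]⟩

theorem h_eq (i : ι) : ((b.h' i : H) : L) = b.h i := rfl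

open Classical in
theorem lie_e_f (i j : ι) : ⁅b.e i, b.f j⁆ = if i = j then b.h i else 0 := by
  split_ifs with h
  · subst h
    exact (b.sl2 i).lie_e_f
  · exact b.lie_e_f_ne i j h

/-- Iterated brackets with the `f i`. -/
def Fw (x : L) : List ι → L
  | [] => x
  | i :: l => ⁅b.f i, Fw x l⁆

/-- The weight of a word. -/
noncomputable def wt : List ι → (H → K)
  | [] => 0
  | i :: l => ⇑(b.baseSupp i) + wt l

theorem Fw_nil (x : L) : Fw b x [] = x := rfl

theorem Fw_cons (x : L) (i : ι) (l : List ι) : Fw b x (i :: l) = ⁅b.f i, Fw b x l⁆ := rfl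

theorem wt_nil : wt b [] = 0 := rfl

theorem wt_cons (i : ι) (l : List ι) : wt b (i :: l) = ⇑(b.baseSupp i) + wt b l := rfl

theorem Fw_mem {χ : H → K} {x : L} (hx : x ∈ rootSpace H χ) (l : List ι) :
    Fw b x l ∈ rootSpace H (χ - wt b l) := by
  induction l with
  | nil => rw [Fw_nil, wt_nil, sub_zero]; exact hx
  | cons i l ih =>
    have h1 := lie_mem_genWeightSpace_of_mem_genWeightSpace (f_mem b i) ih
    have h2 : χ - wt b (i :: l) = -⇑(b.baseSupp i) + (χ - wt b l) := by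
      rw [wt_cons]
      abel
    rw [Fw_cons, h2]
    exact h1

/-- The span of the iterated brackets. -/
def S (x : L) : Submodule K L := Submodule.span K (Set.range (Fw b x))

theorem Fw_mem_S (x : L) (l : List ι) : Fw b x l ∈ S b x := Submodule.subset_span ⟨l, rfl⟩

theorem self_mem_S (x : L) : x ∈ S b x := Fw_mem_S b x []

theorem lie_f_mem (x : L) (i : ι) {s : L} (hs : s ∈ S b x) : ⁅b.f i, s⁆ ∈ S b x := by
  unfold S at hs
  induction hs using Submodule.span_induction with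
  | mem y hy =>
    obtain ⟨l, rfl⟩ := hy
    exact Fw_mem_S b x (i :: l)
  | zero => rw [lie_zero]; exact Submodule.zero_mem _
  | add y z _ _ hy hz => rw [lie_add]; exact Submodule.add_mem _ hy hz
  | smul c y _ hy => rw [lie_smul]; exact Submodule.smul_mem _ _ hy

theorem lie_h_mem {χ : H → K} {x : L} (hx : x ∈ rootSpace H χ) (h : H) {s : L}
    (hs : s ∈ S b x) : ⁅(h : L), s⁆ ∈ S b x := by
  unfold S at hs
  induction hs using Submodule.span_induction with
  | mem y hy =>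
    obtain ⟨l, rfl⟩ := hy
    have h1 := IsKilling.lie_eq_smul_of_mem_rootSpace (Fw_mem b hx l) h
    have h2 : ⁅(h : L), Fw b x l⁆ = ⁅h, Fw b x l⁆ := rfl
    rw [h2, h1]
    exact Submodule.smul_mem _ _ (Fw_mem_S b x l)
  | zero => rw [lie_zero]; exact Submodule.zero_mem _
  | add y z _ _ hy hz => rw [lie_add]; exact Submodule.add_mem _ hy hz
  | smul c y _ hy => rw [lie_smul]; exact Submodule.smul_mem _ _ hy

theorem lie_e_mem {χ : H → K} {x : L} (hx : x ∈ rootSpace H χ) (he : ∀ i, ⁅b.e i, x⁆ = 0)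
    (i : ι) {s : L} (hs : s ∈ S b x) : ⁅b.e i, s⁆ ∈ S b x := by
  unfold S at hs
  induction hs using Submodule.span_induction with
  | mem y hy =>
    obtain ⟨l, rfl⟩ := hy
    induction l with
    | nil => rw [Fw_nil, he]; exact Submodule.zero_mem _
    | cons j l ih =>
      rw [Fw_cons, leibniz_lie, lie_e_f]
      refine Submodule.add_mem _ ?_ (lie_f_mem b x j ih)
      split_ifs with hij
      · rw [← h_eq]
        exact lie_h_mem b hx (b.h' i) (Fw_mem_S b x l)
      · rw [zero_lie]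
        exact Submodule.zero_mem _
  | zero => rw [lie_zero]; exact Submodule.zero_mem _
  | add y z _ _ hy hz => rw [lie_add]; exact Submodule.add_mem _ hy hz
  | smul c y _ hy => rw [lie_smul]; exact Submodule.smul_mem _ _ hy

/-- The stabiliser of `S`. -/
def N (x : L) : LieSubalgebra K L where
  carrier := {y | ∀ s ∈ S b x, ⁅y, s⁆ ∈ S b x}
  add_mem' := fun {y z} hy hz s hs => by
    rw [add_lie]
    exact Submodule.add_mem _ (hy s hs) (hz s hs)
  zero_mem' := fun s hs => by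
    rw [zero_lie]
    exact Submodule.zero_mem _
  smul_mem' := fun c y hy s hs => by
    rw [smul_lie]
    exact Submodule.smul_mem _ _ (hy s hs)
  lie_mem' := fun {y z} hy hz s hs => by
    rw [lie_lie]
    exact Submodule.sub_mem _ (hy _ (hz _ hs)) (hz _ (hy _ hs))

theorem N_eq_top {χ : H → K} {x : L} (hx : x ∈ rootSpace H χ) (he : ∀ i, ⁅b.e i, x⁆ = 0) :
    N b x = ⊤ := by
  rw [eq_top_iff, ← b.span_ef, LieSubalgebra.lieSpan_le]
  rintro y (⟨i, rfl⟩ | ⟨i, rfl⟩)
  · exact fun s hs => lie_e_mem b hx he i hs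
  · exact fun s hs => lie_f_mem b x i hs

/-- A nonzero weight vector killed by all `e i` generates everything under the `f i`. -/
theorem S_eq_top {χ : H → K} {x : L} (hx0 : x ≠ 0) (hx : x ∈ rootSpace H χ)
    (he : ∀ i, ⁅b.e i, x⁆ = 0) : S b x = ⊤ := by
  have hN := N_eq_top b hx he
  let I : LieIdeal K L :=
    { S b x with
      lie_mem := fun {y m} hm => by
        have hy : y ∈ N b x := by rw [hN]; exact LieSubalgebra.mem_top y
        exact hy m hm }
  have hI : I ≠ ⊥ := by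
    intro h
    have hxI : x ∈ I := self_mem_S b x
    rw [h] at hxI
    exact hx0 ((LieSubmodule.mem_bot x).mp hxI)
  have hItop := (IsSimple.eq_bot_or_eq_top I).resolve_left hI
  have : (I : Submodule K L) = ⊤ := by rw [hItop]; rfl
  exact this

/-! ### An element of the Cartan subalgebra on which all simple roots take the value one -/

theorem exists_h0 : ∃ h₀ : H, ∀ i, b.baseSupp i h₀ = 1 := by
  classical
  set AK : Matrix ι ι K := (Int.castRingHom K).mapMatrix b.A with hAK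
  have hdet : IsUnit AK.det := by
    rw [isUnit_iff_ne_zero, hAK, ← RingHom.map_det]
    simpa using b.nondegen.det_ne_zero
  let c : ι → K := AK⁻¹.mulVec 1
  have hc : AK.mulVec c = 1 := by
    show AK.mulVec (AK⁻¹.mulVec 1) = 1
    rw [Matrix.mulVec_mulVec, Matrix.mul_nonsing_inv _ hdet, Matrix.one_mulVec]
  refine ⟨∑ j, c j • b.h' j, fun i => ?_⟩
  rw [map_sum]
  have h1 : ∀ j, b.baseSupp i (c j • b.h' j) = AK i j * c j := by
    intro j
    rw [map_smul, b.baseSupp_apply_h', smul_eq_mul, mul_comm]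
    rfl
  simp only [h1]
  have h2 := congrFun hc i
  rw [Matrix.mulVec, dotProduct] at h2
  exact h2

theorem wt_apply (h₀ : H) (hh : ∀ i, b.baseSupp i h₀ = 1) (l : List ι) :
    wt b l h₀ = (l.length : K) := by
  induction l with
  | nil => rw [wt_nil, List.length_nil, Nat.cast_zero]; rfl
  | cons i l ih =>
    rw [wt_cons, Pi.add_apply, ih, hh, List.length_cons, Nat.cast_add, Nat.cast_one, add_comm]

theorem eq_of_mem_of_mem {χ₁ χ₂ : H → K} {y : L} (hy : y ≠ 0) (h1 : y ∈ rootSpace H χ₁)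
    (h2 : y ∈ rootSpace H χ₂) : χ₁ = χ₂ := by
  by_contra hne
  have hd := disjoint_genWeightSpace K H L hne
  have : y ∈ (rootSpace H χ₁ ⊓ rootSpace H χ₂ : LieSubmodule K H L) :=
    (LieSubmodule.mem_inf _ _ _).mpr ⟨h1, h2⟩
  rw [hd.eq_bot] at this
  exact hy ((LieSubmodule.mem_bot y).mp this)

theorem ne_bot_of_mem {χ : H → K} {y : L} (hy : y ≠ 0) (h1 : y ∈ rootSpace H χ) :
    rootSpace H χ ≠ ⊥ := by
  intro h
  rw [h] at h1
  exact hy ((LieSubmodule.mem_bot y).mp h1)

/-- All weights lie below the weight of a highest weight vector. -/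
theorem weights_below {χ : H → K} {x : L} (hx0 : x ≠ 0) (hx : x ∈ rootSpace H χ)
    (he : ∀ i, ⁅b.e i, x⁆ = 0) {β : H → K} (hβ : rootSpace H β ≠ ⊥) :
    ∃ l : List ι, β = χ - wt b l := by
  let s : Set (H → K) := {β | ∃ l : List ι, β = χ - wt b l}
  have hall : ∀ y ∈ S b x, y ∈ ⨆ β ∈ s, rootSpace H β := by
    intro y hy
    unfold S at hy
    induction hy using Submodule.span_induction with
    | mem z hz =>
      obtain ⟨l, rfl⟩ := hz
      have hmem : χ - wt b l ∈ s := ⟨l, rfl⟩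
      exact (le_biSup (fun β => rootSpace H β) hmem) (Fw_mem b hx l)
    | zero => exact zero_mem _
    | add y z _ _ hy hz => exact add_mem hy hz
    | smul c y _ hy => exact SMulMemClass.smul_mem c hy
  have hs : ⨆ β ∈ s, rootSpace H β = ⊤ := by
    rw [eq_top_iff]
    intro y _
    exact hall y (by rw [S_eq_top b hx0 hx he]; exact Submodule.mem_top)
  exact (iSupIndep_genWeightSpace K H L).mem_of_biSup_eq_top hs hβ

section Highest

variable (ρ : H → K) (hρ : rootSpace H ρ ≠ ⊥)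
  (htop : ∀ i, rootSpace H (ρ + ⇑(b.baseSupp i)) = ⊥)

include htop in
theorem lie_e_eq_zero {x : L} (hx : x ∈ rootSpace H ρ) (i : ι) : ⁅b.e i, x⁆ = 0 := by
  have h1 := lie_mem_genWeightSpace_of_mem_genWeightSpace (e_mem b i) hx
  have h2 : ⁅b.e i, x⁆ ∈ rootSpace H (ρ + ⇑(b.baseSupp i)) := by
    rw [add_comm]
    exact h1
  rw [htop i] at h2
  exact (LieSubmodule.mem_bot _).mp h2

include hρ htop in
/-- All weights lie below the highest root. -/
theorem weights_below_top {β : H → K} (hβ : rootSpace H β ≠ ⊥) :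
    ∃ l : List ι, β = ρ - wt b l := by
  obtain ⟨x, hx, hx0⟩ : ∃ x ∈ rootSpace H ρ, x ≠ 0 := by
    by_contra hcon
    push Not at hcon
    exact hρ ((LieSubmodule.eq_bot_iff _).mpr hcon)
  exact weights_below b hx0 hx (lie_e_eq_zero b ρ htop hx) hβ

include hρ htop in
/-- A nonzero weight vector killed by all `e i` has weight `ρ`. -/
theorem hw_unique {β : H → K} {y : L} (hy0 : y ≠ 0) (hy : y ∈ rootSpace H β)
    (he : ∀ i, ⁅b.e i, y⁆ = 0) : β = ρ := by
  obtain ⟨h₀, hh⟩ := exists_h0 b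
  obtain ⟨l, hl⟩ := weights_below_top b ρ hρ htop (ne_bot_of_mem hy0 hy)
  obtain ⟨m, hm⟩ := weights_below b hy0 hy he hρ
  have h1 := congrFun hl h₀
  have h2 := congrFun hm h₀
  rw [Pi.sub_apply, wt_apply b h₀ hh] at h1 h2
  have h3 : ((l.length + m.length : ℕ) : K) = 0 := by
    rw [Nat.cast_add]
    linear_combination h1 + h2
  have h4 : l.length + m.length = 0 := by exact_mod_cast h3
  have h5 : l = [] := List.eq_nil_of_length_eq_zero (by omega)
  rw [hl, h5, wt_nil, sub_zero]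

end Highest

/-! ### Root strings through simple roots -/

/-- The simple root `α i` as a weight. -/
noncomputable def αw (i : ι) : Weight K H L :=
  ⟨⇑(b.baseSupp i), ne_bot_of_mem (b.sl2 i).e_ne_zero (e_mem b i)⟩

theorem coe_αw (i : ι) : (⇑(αw b i) : H → K) = ⇑(b.baseSupp i) := rfl

theorem αw_isNonZero (i : ι) : (αw b i).IsNonZero := by
  intro h
  have h1 : (⇑(αw b i) : H → K) = 0 := h
  rw [coe_αw] at h1
  have h2 : b.baseSupp i = 0 := by
    ext x
    exact congrFun h1 x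
  exact b.linearIndependent_baseSupp.ne_zero i h2

theorem coroot_αw (i : ι) : IsKilling.coroot (αw b i) = b.h' i := by
  rw [← b.coroot_eq_h' i]
  congr 1

/-- The root string through a weight `β` in the direction of a simple root `α i`, when `β + α i`
is not a weight. -/
theorem chain_simple {β : H → K} (hβ : rootSpace H β ≠ ⊥) (i : ι)
    (hadd : rootSpace H (β + ⇑(b.baseSupp i)) = ⊥) :
    ∃ n : ℕ, β (b.h' i) = (n : K) ∧
      ∀ k : ℕ, rootSpace H (β - k • ⇑(b.baseSupp i)) ≠ ⊥ ↔ k ≤ n := by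
  set βw : Weight K H L := ⟨β, hβ⟩ with hβw
  have hcoe : (⇑βw : H → K) = β := rfl
  have hα := αw_isNonZero b i
  have key := IsKilling.rootSpace_zsmul_add_ne_bot_iff (αw b i) βw hα
  have htop : chainTopCoeff (⇑(αw b i)) βw = 0 := by
    have h1 := key 1
    have h2 : (1 : ℤ) • (⇑(αw b i) : H → K) + ⇑βw = β + ⇑(b.baseSupp i) := by
      rw [one_smul, add_comm]
      rfl
    rw [h2] at h1
    by_contra hne
    have h3 : (1 : ℤ) ≤ (chainTopCoeff (⇑(αw b i)) βw : ℤ) := by
      have : 0 < chainTopCoeff (⇑(αw b i)) βw := Nat.pos_of_ne_zero hne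
      exact_mod_cast this
    have h4 : -(1 : ℤ) ≤ (chainBotCoeff (⇑(αw b i)) βw : ℤ) := by
      have : (0 : ℤ) ≤ (chainBotCoeff (⇑(αw b i)) βw : ℤ) := Int.natCast_nonneg _
      omega
    exact (h1.mpr ⟨h3, h4⟩) hadd
  refine ⟨chainBotCoeff (⇑(αw b i)) βw, ?_, fun k => ?_⟩
  · have h1 := IsKilling.apply_coroot_eq_cast (αw b i) βw
    rw [coroot_αw, htop] at h1
    rw [← hcoe, h1]
    simp
  · have h1 := key (-(k : ℤ))
    have h2 : (-(k : ℤ)) • (⇑(αw b i) : H → K) + ⇑βw = β - k • ⇑(b.baseSupp i) := by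
      rw [neg_smul, natCast_zsmul, neg_add_eq_sub]
      rfl
    rw [h2, htop] at h1
    rw [h1]
    constructor
    · rintro ⟨-, h3⟩
      rw [neg_neg] at h3
      exact_mod_cast h3
    · intro h3
      refine ⟨by simp, ?_⟩
      rw [neg_neg]
      exact_mod_cast h3

section Highest2

variable (ρ : H → K) (hρ : rootSpace H ρ ≠ ⊥)
  (htop : ∀ i, rootSpace H (ρ + ⇑(b.baseSupp i)) = ⊥)

include hρ htop in
/-- If `ρ - α i` is a weight then `ρ (h i) ≠ 0`. -/
theorem apply_h_ne_zero_of_sub {i : ι} (h : rootSpace H (ρ - ⇑(b.baseSupp i)) ≠ ⊥) :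
    ρ (b.h' i) ≠ 0 := by
  obtain ⟨n, hn, hk⟩ := chain_simple b hρ i (htop i)
  have h1 : rootSpace H (ρ - (1 : ℕ) • ⇑(b.baseSupp i)) ≠ ⊥ := by
    rw [one_smul]
    exact h
  have h2 := (hk 1).mp h1
  rw [hn]
  have : n ≠ 0 := by omega
  exact_mod_cast this

include hρ htop in
theorem sub_ne_bot {j : ι} (hj : ρ (b.h' j) = 1) :
    rootSpace H (ρ - ⇑(b.baseSupp j)) ≠ ⊥ := by
  obtain ⟨n, hn, hk⟩ := chain_simple b hρ j (htop j)
  have h1 : n = 1 := by
    rw [hj] at hn
    exact_mod_cast hn.symm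
  have h2 := (hk 1).mpr (by omega)
  rw [one_smul] at h2
  exact h2

include hρ htop in
theorem sub_two_eq_bot {j : ι} (hj : ρ (b.h' j) = 1) :
    rootSpace H (ρ - ⇑(b.baseSupp j) - ⇑(b.baseSupp j)) = ⊥ := by
  obtain ⟨n, hn, hk⟩ := chain_simple b hρ j (htop j)
  have h1 : n = 1 := by
    rw [hj] at hn
    exact_mod_cast hn.symm
  by_contra h
  have h2 : rootSpace H (ρ - (2 : ℕ) • ⇑(b.baseSupp j)) ≠ ⊥ := by
    rw [two_smul, ← sub_sub]
    exact h
  have h3 := (hk 2).mp h2
  omega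

/-- A one-dimensional weight space containing a nonzero element of a subspace lies in it. -/
theorem rootSpace_le_of_mem {χ : H → K} (hχ0 : χ ≠ 0) {y : L} (hy0 : y ≠ 0)
    (hy : y ∈ rootSpace H χ) (W : Submodule K L) (hyW : y ∈ W) :
    (rootSpace H χ : Submodule K L) ≤ W := by
  have hχ : rootSpace H χ ≠ ⊥ := ne_bot_of_mem hy0 hy
  have hnz : (⟨χ, hχ⟩ : Weight K H L).IsNonZero := fun h => hχ0 h
  have h1 := IsKilling.finrank_rootSpace_eq_one (⟨χ, hχ⟩ : Weight K H L) hnz
  have h1' : Module.finrank K (rootSpace H χ) = 1 := h1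
  have hv : (⟨y, hy⟩ : rootSpace H χ) ≠ 0 := by
    intro h
    exact hy0 (congrArg Subtype.val h)
  rw [finrank_eq_one_iff_of_nonzero' _ hv] at h1'
  intro w hw
  obtain ⟨c, hc⟩ := h1' ⟨w, hw⟩
  have : w = c • y := (congrArg Subtype.val hc).symm
  rw [this]
  exact W.smul_mem c hyW

include hρ htop in
/-- A weight vector of minimal depth outside a given subspace. -/
theorem exists_min (W : LieSubmodule K H L) (hWe : ∀ i, ∀ w ∈ W, ⁅b.e i, w⁆ ∈ W)
    (W₀ : Submodule K L) (hnot : ¬ (W : Submodule K L) ≤ W₀) :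
    ∃ (l : List ι) (y : L), y ∈ W ∧ y ∈ rootSpace H (ρ - wt b l) ∧ y ∉ W₀ ∧
      ∀ i, ⁅b.e i, y⁆ ∈ W₀ := by
  classical
  obtain ⟨h₀, hh⟩ := exists_h0 b
  -- a weight vector outside `W₀`
  have hA : ∃ (χ : H → K) (y : L), y ∈ W ∧ y ∈ rootSpace H χ ∧ y ∉ W₀ := by
    by_contra hcon
    push Not at hcon
    apply hnot
    have h1 := eq_iSup_inf_genWeightSpace (K := K) (L := H) (M := L) W
    have h2 : (W : Submodule K L) = ⨆ χ : Weight K H L,
        ((W ⊓ genWeightSpace L χ : LieSubmodule K H L) : Submodule K L) := by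
      conv_lhs => rw [h1]
      exact LieSubmodule.iSup_toSubmodule _
    rw [h2]
    apply iSup_le
    intro χ y hy
    have hy' : y ∈ (W ⊓ genWeightSpace L χ : LieSubmodule K H L) := hy
    obtain ⟨hyW, hyχ⟩ := (LieSubmodule.mem_inf _ _ _).mp hy'
    exact hcon χ y hyW hyχ
  let P : ℕ → Prop := fun n => ∃ (l : List ι) (y : L), l.length = n ∧ y ∈ W ∧
    y ∈ rootSpace H (ρ - wt b l) ∧ y ∉ W₀
  have hP : ∃ n, P n := by
    obtain ⟨χ, y, hyW, hyχ, hy0⟩ := hA
    have hyne : y ≠ 0 := fun h => hy0 (h ▸ W₀.zero_mem)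
    obtain ⟨l, hl⟩ := weights_below_top b ρ hρ htop (ne_bot_of_mem hyne hyχ)
    exact ⟨l.length, l, y, rfl, hyW, hl ▸ hyχ, hy0⟩
  obtain ⟨l, y, hlen, hyW, hyχ, hy0⟩ := Nat.find_spec hP
  refine ⟨l, y, hyW, hyχ, hy0, fun i => ?_⟩
  by_contra hn
  have hz0 : ⁅b.e i, y⁆ ≠ 0 := fun h => hn (h ▸ W₀.zero_mem)
  have hzW := hWe i y hyW
  have hzχ := lie_mem_genWeightSpace_of_mem_genWeightSpace (e_mem b i) hyχ
  obtain ⟨l', hl'⟩ := weights_below_top b ρ hρ htop (ne_bot_of_mem hz0 hzχ)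
  have h1 := congrFun hl' h₀
  rw [Pi.add_apply, Pi.sub_apply, Pi.sub_apply, wt_apply b h₀ hh, wt_apply b h₀ hh, hh] at h1
  have h2 : ((l'.length + 1 : ℕ) : K) = (l.length : K) := by
    rw [Nat.cast_add, Nat.cast_one]
    linear_combination h1
  have h3 : l'.length + 1 = l.length := by exact_mod_cast h2
  have h4 : P l'.length := ⟨l', ⁅b.e i, y⁆, rfl, hzW, hl' ▸ hzχ, hn⟩
  exact Nat.find_min hP (by omega) h4

include hρ htop in
/-- Every nonzero Borel-stable subspace contains the highest root space. -/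
theorem top_le (hρ0 : ρ ≠ 0) (W : LieSubmodule K H L) (hWe : ∀ i, ∀ w ∈ W, ⁅b.e i, w⁆ ∈ W)
    (hW : (W : Submodule K L) ≠ ⊥) : (rootSpace H ρ : Submodule K L) ≤ W := by
  have hnot : ¬ (W : Submodule K L) ≤ ⊥ := fun h => hW (le_bot_iff.mp h)
  obtain ⟨l, y, hyW, hyχ, hy0, hye⟩ := exists_min b ρ hρ htop W hWe ⊥ hnot
  have hyne : y ≠ 0 := fun h => hy0 (h ▸ Submodule.zero_mem _)
  have he : ∀ i, ⁅b.e i, y⁆ = 0 := fun i => (Submodule.mem_bot K).mp (hye i)
  have hw := hw_unique b ρ hρ htop hyne hyχ he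
  rw [hw] at hyχ
  exact rootSpace_le_of_mem hρ0 hyne hyχ W hyW

include hρ htop in
/-- A Borel-stable subspace not contained in the highest root space contains the root space
of `ρ - α j`. -/
theorem second_le (j : ι) (hN : ∀ i, ρ (b.h' i) ≠ 0 ↔ i = j) (hj : ρ (b.h' j) = 1)
    (W : LieSubmodule K H L) (hWe : ∀ i, ∀ w ∈ W, ⁅b.e i, w⁆ ∈ W)
    (hW : ¬ (W : Submodule K L) ≤ rootSpace H ρ) :
    (rootSpace H (ρ - ⇑(b.baseSupp j)) : Submodule K L) ≤ W := by
  obtain ⟨l, y, hyW, hyχ, hy0, hye⟩ := exists_min b ρ hρ htop W hWe _ hW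
  have hyne : y ≠ 0 := fun h => hy0 (h ▸ Submodule.zero_mem _)
  have hex : ∃ i, ⁅b.e i, y⁆ ≠ 0 := by
    by_contra hcon
    push Not at hcon
    have hw := hw_unique b ρ hρ htop hyne hyχ hcon
    rw [hw] at hyχ
    exact hy0 hyχ
  obtain ⟨i, hi⟩ := hex
  have hzχ := lie_mem_genWeightSpace_of_mem_genWeightSpace (e_mem b i) hyχ
  have heq := eq_of_mem_of_mem hi hzχ (hye i)
  have hwt : ρ - wt b l = ρ - ⇑(b.baseSupp i) := by
    rw [eq_sub_iff_add_eq, add_comm]
    exact heq
  rw [hwt] at hyχ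
  have hij : i = j := (hN i).mp (apply_h_ne_zero_of_sub b ρ hρ htop (ne_bot_of_mem hyne hyχ))
  subst hij
  have hne0 : ρ - ⇑(b.baseSupp i) ≠ 0 := by
    intro h
    have h1 := congrFun h (b.h' i)
    rw [Pi.sub_apply, hj, b.baseSupp_apply_h', Pi.zero_apply] at h1
    have h2 : b.A i i = 2 := by
      have : IsAddTorsionFree L := .of_isTorsionFree K L
      exact b.A_diag_eq_two i
    rw [h2] at h1
    norm_num at h1
  exact rootSpace_le_of_mem hne0 hyne hyχ W hyW

end Highest2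

end Groth.Agent.H80.AdjHW
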