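import Groth.Agent.H80.AdjBorel3

set_option autoImplicit false
set_option linter.unusedSectionVars false
set_option linter.unusedVariables false

/-!
# Borel semi-invariant quadratic forms on Borel-stable three-dimensional subspaces
-/

namespace Groth.Agent.H80.AdjQuad

open LieAlgebra LieModule Groth.Agent.H80.AdjHW Groth.Agent.H80.AdjBorel
  Groth.Agent.H80.AdjBorel3

universe u v w

section QF

variable {K : Type*} {V : Type*} [Field K] [CharZero K] [AddCommGroup V] [Module K V]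
  (q : QuadraticForm K V)

open QuadraticMap

theorem polarize (D : V →ₗ[K] V) (c : K) (h : ∀ w, polar q (D w) w = c * q w) (w w' : V) :
    polar q (D w) w' + polar q (D w') w = c * polar q w w' := by
  have h1 := h (w + w')
  rw [map_add, polar_add_left, polar_add_right, polar_add_right, QuadraticMap.map_add (⇑q) w w',
    h w, h w'] at h1
  linear_combination h1

theorem qf2 (D : V →ₗ[K] V) (c : K) (h : ∀ w, polar q (D w) w = c * q w) {X Y Z : V}
    (hX : D X = 0) (hY : D Y = X) (hZ : D Z = 0) :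
    q X = 0 ∧ polar q X Y = 0 ∧ polar q X Z = 0 := by
  have e1 := h Y
  have e2 := h X
  have e3 := polarize q D c h Y X
  have e4 := polarize q D c h Y Z
  have e5 := polarize q D c h X Z
  rw [hY] at e1 e3 e4
  rw [hX] at e2 e3 e5
  rw [hZ] at e4 e5
  rw [polar_zero_left] at e2 e3 e4 e5
  rw [polar_zero_left, add_zero] at e5
  rw [add_zero] at e3 e4
  rw [polar_self, nsmul_eq_mul] at e3
  by_cases hc : c = 0
  · rw [hc, zero_mul] at e1 e3 e4
    refine ⟨?_, e1, e4⟩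
    have h2 : (2 : K) ≠ 0 := two_ne_zero
    have : ((2 : ℕ) : K) * q X = 0 := e3
    rcases mul_eq_zero.mp this with h3 | h3
    · exact absurd (by exact_mod_cast h3) (by norm_num : (2 : ℕ) ≠ 0)
    · exact h3
  · have hqX : q X = 0 := by
      rcases mul_eq_zero.mp e2.symm with h3 | h3
      · exact absurd h3 hc
      · exact h3
    have hXZ : polar q X Z = 0 := by
      rcases mul_eq_zero.mp e5.symm with h3 | h3
      · exact absurd h3 hc
      · exact h3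
    refine ⟨hqX, ?_, hXZ⟩
    rw [hqX, mul_zero] at e3
    rcases mul_eq_zero.mp e3.symm with h3 | h3
    · exact absurd h3 hc
    · rw [polar_comm]
      exact h3

theorem qf3 (D : V →ₗ[K] V) (c : K) (h : ∀ w, polar q (D w) w = c * q w) {Y Z : V} {ν : K}
    (hν : ν ≠ 0) (hY : D Y = 0) (hZ : D Z = ν • Y) :
    q Y = 0 ∧ polar q Y Z = 0 := by
  have e7 := h Z
  have e8 := h Y
  have e9 := polarize q D c h Z Y
  rw [hZ] at e7 e9
  rw [hY] at e8 e9
  rw [polar_zero_left] at e8 e9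
  rw [add_zero, polar_smul_left, polar_self, nsmul_eq_mul, smul_eq_mul] at e9
  rw [polar_smul_left, smul_eq_mul] at e7
  have h2 : ((2 : ℕ) : K) ≠ 0 := by exact_mod_cast (by norm_num : (2 : ℕ) ≠ 0)
  by_cases hc : c = 0
  · rw [hc, zero_mul] at e7 e9
    constructor
    · rcases mul_eq_zero.mp e9 with h3 | h3
      · exact absurd h3 hν
      · rcases mul_eq_zero.mp h3 with h4 | h4
        · exact absurd h4 h2
        · exact h4
    · rcases mul_eq_zero.mp e7 with h3 | h3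
      · exact absurd h3 hν
      · exact h3
  · have hqY : q Y = 0 := by
      rcases mul_eq_zero.mp e8.symm with h3 | h3
      · exact absurd h3 hc
      · exact h3
    refine ⟨hqY, ?_⟩
    rw [hqY, mul_zero, mul_zero] at e9
    rcases mul_eq_zero.mp e9.symm with h3 | h3
    · exact absurd h3 hc
    · rw [polar_comm]
      exact h3

theorem qf4 {X Y Z : V} (h1 : q X = 0) (h2 : q Y = 0) (h3 : polar q X Y = 0)
    (h4 : polar q X Z = 0) (h5 : polar q Y Z = 0) (a b c : K) :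
    q (a • X + b • Y + c • Z) = c * c * q Z := by
  rw [QuadraticMap.map_add (⇑q), QuadraticMap.map_add (⇑q), polar_add_left]
  simp only [QuadraticMap.map_smul, polar_smul_left, polar_smul_right, smul_eq_mul, h1, h2, h3,
    h4, h5]
  ring

end QF

variable {ι : Type u} {K : Type v} {L : Type w} [Fintype ι] [Field K] [CharZero K]
  [IsAlgClosed K] [LieRing L] [LieAlgebra K L] [FiniteDimensional K L] [LieAlgebra.IsSimple K L]
  {H : LieSubalgebra K L} [H.IsCartanSubalgebra] (b : LieAlgebra.Basis ι H)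

/-- Elements of a one-dimensional weight space are multiples of a nonzero element. -/
theorem exists_smul_eq {χ : H → K} (hχ0 : χ ≠ 0) {y : L} (hy0 : y ≠ 0)
    (hy : y ∈ rootSpace H χ) {v : L} (hv : v ∈ rootSpace H χ) : ∃ c : K, v = c • y := by
  have hχ : rootSpace H χ ≠ ⊥ := ne_bot_of_mem hy0 hy
  have hnz : (⟨χ, hχ⟩ : Weight K H L).IsNonZero := fun h => hχ0 h
  have h1 := IsKilling.finrank_rootSpace_eq_one (⟨χ, hχ⟩ : Weight K H L) hnz
  have h1' : Module.finrank K (rootSpace H χ) = 1 := h1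
  have hv0 : (⟨y, hy⟩ : rootSpace H χ) ≠ 0 := by
    intro h
    exact hy0 (congrArg Subtype.val h)
  rw [finrank_eq_one_iff_of_nonzero' _ hv0] at h1'
  obtain ⟨c, hc⟩ := h1' ⟨v, hv⟩
  exact ⟨c, (congrArg Subtype.val hc).symm⟩

section Highest

variable (ρ : H → K) (hρ : rootSpace H ρ ≠ ⊥)
  (htop : ∀ i, rootSpace H (ρ + ⇑(b.baseSupp i)) = ⊥)
  (j : ι) (hN : ∀ i, ρ (b.h' i) ≠ 0 ↔ i = j) (hj : ρ (b.h' j) = 1)

include hρ htop hN hj in
/-- A Borel semi-invariant quadratic form on a Borel-stable three-dimensional subspace is a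
multiple of the square of a linear form. -/
theorem quad_rank_le_one (W : Submodule K L) (hW : Module.finrank K W = 3)
    (hst : ∀ x ∈ H.toSubmodule ⊔ (b.borelUpper : Submodule K L), ∀ w ∈ W, ⁅x, w⁆ ∈ W)
    (q : QuadraticForm K W)
    (hq : ∀ (x : L) (hx : x ∈ H.toSubmodule ⊔ (b.borelUpper : Submodule K L)), ∃ c : K,
      ∀ w : W, QuadraticMap.polar q ⟨⁅x, (w : L)⁆, hst x hx w w.property⟩ w = c * q w) :
    ∃ (ℓ : Module.Dual K W) (c : K), ∀ w : W, q w = c * ℓ w ^ 2 := by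
  obtain ⟨hle, i, hij, hA, hγne, hγ0, hWeq⟩ := threeDim b ρ hρ htop j hN hj W hW hst
  have hρ0 := rho_ne_zero b ρ j hj
  have hρj0 := rho_sub_ne_zero b ρ j hj
  -- the three vectors
  obtain ⟨x₀, hx₀, hx₀0⟩ : ∃ x ∈ rootSpace H ρ, x ≠ 0 := by
    by_contra hcon
    push Not at hcon
    exact hρ ((LieSubmodule.eq_bot_iff _).mpr hcon)
  obtain ⟨y₀, hy₀def⟩ : ∃ y₀ : L, y₀ = ⁅b.f j, x₀⁆ := ⟨_, rfl⟩
  obtain ⟨z₀, hz₀def⟩ : ∃ z₀ : L, z₀ = ⁅b.f i, y₀⁆ := ⟨_, rfl⟩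
  have hy₀ : y₀ ∈ rootSpace H (ρ - ⇑(b.baseSupp j)) := by
    have := lie_mem_genWeightSpace_of_mem_genWeightSpace (f_mem b j) hx₀
    rw [neg_add_eq_sub] at this
    rw [hy₀def]
    exact this
  have hz₀ : z₀ ∈ rootSpace H (ρ - ⇑(b.baseSupp j) - ⇑(b.baseSupp i)) := by
    have := lie_mem_genWeightSpace_of_mem_genWeightSpace (f_mem b i) hy₀
    rw [neg_add_eq_sub] at this
    rw [hz₀def]
    exact this
  -- brackets
  have ej_x : ⁅b.e j, x₀⁆ = 0 := lie_e_eq_zero b ρ htop hx₀ j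
  have ei_x : ⁅b.e i, x₀⁆ = 0 := lie_e_eq_zero b ρ htop hx₀ i
  have ej_y : ⁅b.e j, y₀⁆ = x₀ := by
    rw [hy₀def, leibniz_lie, ej_x, lie_zero, add_zero, lie_e_f, if_pos rfl, ← h_eq]
    have h1 : ⁅((b.h' j : H) : L), x₀⁆ = ⁅b.h' j, x₀⁆ := rfl
    rw [h1, IsKilling.lie_eq_smul_of_mem_rootSpace hx₀ (b.h' j), hj, one_smul]
  have hy₀0 : y₀ ≠ 0 := by
    intro h
    rw [h, lie_zero] at ej_y
    exact hx₀0 ej_y.symm
  have ei_y : ⁅b.e i, y₀⁆ = 0 := by
    have h1 := lie_mem_genWeightSpace_of_mem_genWeightSpace (e_mem b i) hy₀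
    have h2 : ⁅b.e i, y₀⁆ ∈ rootSpace H (⇑(b.baseSupp i) + (ρ - ⇑(b.baseSupp j))) := h1
    rw [sub_add_eq_bot b ρ hρ htop j hij] at h2
    exact (LieSubmodule.mem_bot _).mp h2
  obtain ⟨ν, hνdef⟩ : ∃ ν : K, ν = (ρ - ⇑(b.baseSupp j)) (b.h' i) := ⟨_, rfl⟩
  have ei_z : ⁅b.e i, z₀⁆ = ν • y₀ := by
    rw [hz₀def, leibniz_lie, ei_y, lie_zero, add_zero, lie_e_f, if_pos rfl, ← h_eq]
    have h1 : ⁅((b.h' i : H) : L), y₀⁆ = ⁅b.h' i, y₀⁆ := rfl
    rw [h1, IsKilling.lie_eq_smul_of_mem_rootSpace hy₀ (b.h' i), hνdef]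
  have hν : ν ≠ 0 := by
    have hadd : rootSpace H (ρ - ⇑(b.baseSupp j) + ⇑(b.baseSupp i)) = ⊥ := by
      rw [add_comm]
      exact sub_add_eq_bot b ρ hρ htop j hij
    obtain ⟨n, hn, hk⟩ := chain_simple b (sub_ne_bot b ρ hρ htop hj) i hadd
    have h1 : rootSpace H (ρ - ⇑(b.baseSupp j) - (1 : ℕ) • ⇑(b.baseSupp i)) ≠ ⊥ := by
      rw [one_smul]
      exact hγne
    have h2 := (hk 1).mp h1
    rw [hνdef, hn]
    have : n ≠ 0 := by omega
    exact_mod_cast this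
  have hz₀0 : z₀ ≠ 0 := by
    intro h
    rw [h, lie_zero] at ei_z
    exact (smul_ne_zero hν hy₀0) ei_z.symm
  have hρi : rootSpace H (ρ - ⇑(b.baseSupp i)) = ⊥ := by
    by_contra h
    exact hij ((hN i).mp (apply_h_ne_zero_of_sub b ρ hρ htop h))
  have ej_z : ⁅b.e j, z₀⁆ = 0 := by
    have h1 := lie_mem_genWeightSpace_of_mem_genWeightSpace (e_mem b j) hz₀
    have h2 : ⇑(b.baseSupp j) + (ρ - ⇑(b.baseSupp j) - ⇑(b.baseSupp i)) =
        ρ - ⇑(b.baseSupp i) := by abel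
    have h3 : ⁅b.e j, z₀⁆ ∈ rootSpace H (ρ - ⇑(b.baseSupp i)) := by
      rw [← h2]
      exact h1
    rw [hρi] at h3
    exact (LieSubmodule.mem_bot _).mp h3
  -- membership in `W`
  have hxW2 : x₀ ∈ W2 b ρ j := (le_sup_left : rootSpace H ρ ≤ W2 b ρ j) hx₀
  have hyW2 : y₀ ∈ W2 b ρ j :=
    (le_sup_right : rootSpace H (ρ - ⇑(b.baseSupp j)) ≤ W2 b ρ j) hy₀
  have hxW : x₀ ∈ W := hle hxW2
  have hyW : y₀ ∈ W := hle hyW2
  have hzW : z₀ ∈ W := by
    rw [hWeq]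
    exact Submodule.mem_sup_right hz₀
  obtain ⟨X, hXdef⟩ : ∃ X : W, X = ⟨x₀, hxW⟩ := ⟨_, rfl⟩
  obtain ⟨Y, hYdef⟩ : ∃ Y : W, Y = ⟨y₀, hyW⟩ := ⟨_, rfl⟩
  obtain ⟨Z, hZdef⟩ : ∃ Z : W, Z = ⟨z₀, hzW⟩ := ⟨_, rfl⟩
  -- the derivations
  have hemem : ∀ k, b.e k ∈ H.toSubmodule ⊔ (b.borelUpper : Submodule K L) := by
    intro k
    apply Submodule.mem_sup_right
    show b.e k ∈ LieSubalgebra.lieSpan K L (Set.range b.e)
    exact LieSubalgebra.subset_lieSpan (Set.mem_range_self k)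
  let D : ι → (W →ₗ[K] W) := fun k =>
    ((LieAlgebra.ad K L (b.e k) : Module.End K L)).restrict
      (fun w hw => hst (b.e k) (hemem k) w hw)
  have hD : ∀ k (w : W), ((D k w : W) : L) = ⁅b.e k, (w : L)⁆ := fun k w => rfl
  have hDq : ∀ k, ∃ c : K, ∀ w : W, QuadraticMap.polar q (D k w) w = c * q w := by
    intro k
    obtain ⟨c, hc⟩ := hq (b.e k) (hemem k)
    exact ⟨c, fun w => hc w⟩
  obtain ⟨cj, hcj⟩ := hDq j
  obtain ⟨ci, hci⟩ := hDq i
  have hjX : D j X = 0 := by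
    apply Subtype.ext
    rw [hD, hXdef]
    exact ej_x
  have hjY : D j Y = X := by
    apply Subtype.ext
    rw [hD, hYdef, hXdef]
    exact ej_y
  have hjZ : D j Z = 0 := by
    apply Subtype.ext
    rw [hD, hZdef]
    exact ej_z
  have hiY : D i Y = 0 := by
    apply Subtype.ext
    rw [hD, hYdef]
    exact ei_y
  have hiZ : D i Z = ν • Y := by
    apply Subtype.ext
    rw [hD, hZdef, hYdef]
    exact ei_z
  obtain ⟨q1, q2, q3⟩ := qf2 q (D j) cj hcj hjX hjY hjZ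
  obtain ⟨q4, q5⟩ := qf3 q (D i) ci hci hν hiY hiZ
  -- the linear form
  have hγρ : ρ - ⇑(b.baseSupp j) - ⇑(b.baseSupp i) ≠ ρ := by
    intro h
    have := eq_of_mem_of_mem hz₀0 hz₀ (h ▸ hz₀)
    obtain ⟨h₀, hh⟩ := exists_h0 b
    have h1 := congrFun h h₀
    rw [Pi.sub_apply, Pi.sub_apply, hh, hh] at h1
    have : (2 : K) = 0 := by linear_combination -h1
    norm_num at this
  have hγρ' : ρ - ⇑(b.baseSupp j) - ⇑(b.baseSupp i) ≠ ρ - ⇑(b.baseSupp j) := by
    intro h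
    obtain ⟨h₀, hh⟩ := exists_h0 b
    have h1 := congrFun h h₀
    rw [Pi.sub_apply, Pi.sub_apply, hh, hh] at h1
    have : (1 : K) = 0 := by linear_combination -h1
    norm_num at this
  have hznot : z₀ ∉ (W2 b ρ j : Submodule K L) := by
    intro h
    have hd := disjoint_W2 b ρ j hγρ hγρ'
    have hmem : z₀ ∈ (rootSpace H (ρ - ⇑(b.baseSupp j) - ⇑(b.baseSupp i)) ⊓ W2 b ρ j :
        LieSubmodule K H L) := (LieSubmodule.mem_inf _ _ _).mpr ⟨hz₀, h⟩
    rw [hd.eq_bot] at hmem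
    exact hz₀0 ((LieSubmodule.mem_bot _).mp hmem)
  obtain ⟨f, hfz, hfW2⟩ := Submodule.exists_dual_map_eq_bot_of_notMem hznot inferInstance
  have hfx : ∀ u ∈ (W2 b ρ j : Submodule K L), f u = 0 := by
    intro u hu
    have : f u ∈ (W2 b ρ j : Submodule K L).map f := Submodule.mem_map_of_mem hu
    rw [hfW2] at this
    exact (Submodule.mem_bot K).mp this
  refine ⟨(f z₀)⁻¹ • (f ∘ₗ W.subtype), q Z, fun w => ?_⟩
  -- decompose `w`
  have hw : (w : L) ∈ (W2 b ρ j : Submodule K L) ⊔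
      (rootSpace H (ρ - ⇑(b.baseSupp j) - ⇑(b.baseSupp i)) : Submodule K L) := by
    rw [← hWeq]
    exact w.2
  obtain ⟨u, hu, v, hv, huv⟩ := Submodule.mem_sup.mp hw
  have hu' : u ∈ (rootSpace H ρ : Submodule K L) ⊔
      (rootSpace H (ρ - ⇑(b.baseSupp j)) : Submodule K L) := by
    have : (W2 b ρ j : Submodule K L) = (rootSpace H ρ : Submodule K L) ⊔
        (rootSpace H (ρ - ⇑(b.baseSupp j)) : Submodule K L) := by
      unfold W2
      rw [LieSubmodule.sup_toSubmodule]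
    rw [← this]
    exact hu
  obtain ⟨u₁, hu₁, u₂, hu₂, hu12⟩ := Submodule.mem_sup.mp hu'
  obtain ⟨a, ha⟩ := exists_smul_eq hρ0 hx₀0 hx₀ hu₁
  obtain ⟨b', hb'⟩ := exists_smul_eq hρj0 hy₀0 hy₀ hu₂
  obtain ⟨c, hc⟩ := exists_smul_eq hγ0 hz₀0 hz₀ hv
  have hwL : (w : L) = a • x₀ + b' • y₀ + c • z₀ := by
    rw [← huv, ← hu12, ha, hb', hc]
  have hwW : w = a • X + b' • Y + c • Z := by
    apply Subtype.ext
    rw [hwL, hXdef, hYdef, hZdef]
    rfl
  have hℓ : ((f z₀)⁻¹ • (f ∘ₗ W.subtype)) w = c := by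
    rw [LinearMap.smul_apply, LinearMap.comp_apply, Submodule.subtype_apply, hwL, map_add, map_add,
      map_smul, map_smul, map_smul, hfx x₀ hxW2, hfx y₀ hyW2, smul_zero, smul_zero, zero_add,
      zero_add, smul_eq_mul, smul_eq_mul, mul_comm c, ← mul_assoc, inv_mul_cancel₀ hfz, one_mul]
  rw [hℓ, hwW, qf4 q q1 q4 q2 q3 q5 a b' c]
  ring

end Highest

end Groth.Agent.H80.AdjQuad
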