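import Mathlib
import Groth.Agent.H33.Bidual
import Groth.Agent.H46.HomCxPre

/-!
# (LIN) for S1819 (helper46): for `J` K-injective, the cohomology of `Hom•(X, J)` injects
`A`-linearly into `Hom_{D(A)}(X, J[i])`
-/

set_option autoImplicit false
universe u
open CategoryTheory CategoryTheory.Limits HomologicalComplex CochainComplex
open CochainComplex.HomComplex
attribute [local instance] HasDerivedCategory.standard

namespace Groth.Agent.H80.BD_LIN

open Groth.Agent.H12.RGamHDI DerivedCategory

variable {A : Type u} [CommRing A]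

lemma equivHomShift_smul {K L : DRing.Cx A} {n : ℤ} (a : A) (f : K ⟶ L⟦n⟧) :
    Cocycle.equivHomShift (a • f) = a • Cocycle.equivHomShift f := by
  have h1 : Cochain.ofHom (a • f) = a • Cochain.ofHom f := by
    ext p
    simp
  apply Cocycle.ext
  change (Cochain.ofHom (a • f)).rightUnshift n (zero_add n) =
    a • (Cochain.ofHom f).rightUnshift n (zero_add n)
  rw [h1, Cochain.rightUnshift_smul]

lemma equivHomShift_symm_smul {K L : DRing.Cx A} {n : ℤ} (a : A) (x : Cocycle K L n) :
    Cocycle.equivHomShift.symm (a • x) = a • Cocycle.equivHomShift.symm x := by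
  apply Cocycle.equivHomShift.injective
  rw [equivHomShift_smul]
  simp

/-- the class in `D(A)` of a cocycle -/
noncomputable def cls (X J : DRing.Cx A) (i : ℤ) (x : Cocycle X J i) :
    (Q.obj X ⟶ (Q.obj J)⟦i⟧) :=
  Q.map (Cocycle.equivHomShift.symm x) ≫ (Q.commShiftIso i).hom.app J

lemma cls_add (X J : DRing.Cx A) (i : ℤ) (x y : Cocycle X J i) :
    cls X J i (x + y) = cls X J i x + cls X J i y := by
  unfold cls
  rw [map_add, Functor.map_add, Preadditive.add_comp]

lemma cls_smul (X J : DRing.Cx A) (i : ℤ) (a : A) (x : Cocycle X J i) :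
    cls X J i (a • x) = a • cls X J i x := by
  unfold cls
  rw [equivHomShift_symm_smul, Functor.map_smul, Linear.smul_comp]

lemma Q_map_eq (X Y : DRing.Cx A) (f : X ⟶ Y) :
    Q.map f = (quotientCompQhIso (ModuleCat.{u} A)).inv.app X ≫
      Qh.map ((HomotopyCategory.quotient _ _).map f) ≫
        (quotientCompQhIso (ModuleCat.{u} A)).hom.app Y := by
  have h := (quotientCompQhIso (ModuleCat.{u} A)).hom.naturality f
  rw [Functor.comp_map] at h
  rw [h, ← Category.assoc, ← NatTrans.comp_app, Iso.inv_hom_id, NatTrans.id_app, Category.id_comp]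

lemma cls_eq_zero_iff (X J : DRing.Cx A) [J.IsKInjective] (i : ℤ) (x : Cocycle X J i) :
    cls X J i x = 0 ↔ x ∈ coboundaries X J i := by
  rw [← CohomologyClass.toHom_mk_eq_zero_iff, CohomologyClass.toHom_mk]
  unfold cls
  constructor
  · intro h
    have h1 : Q.map (Cocycle.equivHomShift.symm x) = 0 := by
      have := congrArg (fun t => t ≫ (Q.commShiftIso i).inv.app J) h
      simpa using this
    rw [Q_map_eq] at h1
    have h2 : Qh.map ((HomotopyCategory.quotient _ _).map (Cocycle.equivHomShift.symm x)) = 0 := by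
      have := congrArg (fun t => (quotientCompQhIso (ModuleCat.{u} A)).hom.app X ≫ t ≫
        (quotientCompQhIso (ModuleCat.{u} A)).inv.app (J⟦i⟧)) h1
      simpa using this
    have hb := (CochainComplex.IsKInjective.Qh_map_bijective
      ((HomotopyCategory.quotient _ _).obj X) (J⟦i⟧)).1
    apply hb
    rw [h2, Functor.map_zero]
  · intro h
    rw [Q_map_eq, h, Functor.map_zero]
    simp

theorem exists_injective_linearMap_homology (X J : DRing.Cx A) [J.IsKInjective] (i : ℤ) :
    ∃ f : ((DRing.homCx X J).homology i) →ₗ[A]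
      (DerivedCategory.Q.obj X ⟶ (DerivedCategory.Q.obj J)⟦i⟧), Function.Injective f := by
  set H := DRing.homCx X J with hH
  -- cocycle attached to an element of `H.cycles i`
  have hz : ∀ c : H.cycles i, δ i (i + 1) ((H.iCycles i).hom c : Cochain X J i) = 0 := fun c =>
    d_iCycles H i (i + 1) c
  let coc : H.cycles i → Cocycle X J i := fun c =>
    Cocycle.mk ((H.iCycles i).hom c : Cochain X J i) (i + 1) rfl (hz c)
  have coc_add : ∀ c c', coc (c + c') = coc c + coc c' := by
    intro c c'
    ext1
    change (H.iCycles i).hom (c + c') = (H.iCycles i).hom c + (H.iCycles i).hom c'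
    rw [map_add]
  have coc_smul : ∀ (a : A) c, coc (a • c) = a • coc c := by
    intro a c
    ext1
    change (H.iCycles i).hom (a • c) = a • (H.iCycles i).hom c
    rw [map_smul]
  let Φ : H.cycles i →ₗ[A] (Q.obj X ⟶ (Q.obj J)⟦i⟧) :=
    { toFun := fun c => cls X J i (coc c)
      map_add' := fun c c' => by rw [coc_add, cls_add]
      map_smul' := fun a c => by rw [coc_smul, cls_smul]; rfl }
  let π : H.cycles i →ₗ[A] H.homology i := (H.homologyπ i).hom
  have hπ : Function.Surjective π := homologyπ_surjective H i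
  -- kernel of `π` = kernel of `Φ`
  have hker : ∀ c : H.cycles i, π c = 0 ↔ Φ c = 0 := by
    intro c
    change (H.homologyπ i).hom c = 0 ↔ cls X J i (coc c) = 0
    rw [homologyπ_eq_zero_iff H (i - 1) i (by omega), cls_eq_zero_iff,
      mem_coboundaries_iff (coc c) (i - 1) (by omega)]
    constructor
    · rintro ⟨y, hy⟩
      refine ⟨(y : Cochain X J (i - 1)), ?_⟩
      have h1 := iCycles_toCycles H (i - 1) i y
      rw [hy] at h1
      exact h1.symm
    · rintro ⟨β, hβ⟩
      let β' : H.X (i - 1) := β
      refine ⟨β', ?_⟩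
      apply iCycles_injective H i
      exact (iCycles_toCycles H (i - 1) i β').trans hβ
  have hle : LinearMap.ker π ≤ LinearMap.ker Φ := fun c hc =>
    LinearMap.mem_ker.2 ((hker c).1 (LinearMap.mem_ker.1 hc))
  let e := LinearMap.quotKerEquivOfSurjective π hπ
  refine ⟨(Submodule.liftQ (LinearMap.ker π) Φ hle) ∘ₗ e.symm.toLinearMap, ?_⟩
  rw [injective_iff_map_eq_zero]
  intro x hx
  obtain ⟨c, rfl⟩ := hπ x
  have h1 : e.symm (π c) = Submodule.Quotient.mk c := by
    rw [LinearEquiv.symm_apply_eq]
    rfl
  have h2 : Φ c = 0 := by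
    have : (Submodule.liftQ (LinearMap.ker π) Φ hle) (e.symm (π c)) = 0 := hx
    rw [h1, Submodule.liftQ_apply] at this
    exact this
  exact (hker c).2 h2

end Groth.Agent.H80.BD_LIN
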