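import Mathlib
import Groth.Prelude.Def_ChGrp
import Groth.Prelude.Def_NonAbH2
import Groth.Prelude.Def_ActBC

/-!
# (LOC) for S19098 (helper40): `Φ : G × X^h ⟶ S_Ψ` has sections fppf-locally on `S_Ψ`
-/

set_option autoImplicit false
universe u
open CategoryTheory CategoryTheory.Limits AlgebraicGeometry MonoidalCategory CartesianMonoidalCategory MonObj

namespace Groth.Agent.H80.BalStab_LOC

variable {S : Scheme.{u}} {G X Z Ψ Xh SΨ : Over S} [GrpObj G] [GrpObj Z]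
    (a : AlgGrp.Action G X) (h : 𝟙_ (Over S) ⟶ G)
    (i : Z ⟶ G) [IsMonHom i]
    (ψ : Ψ ⟶ G) [Mono ψ] (aΨ : AlgGrp.Action G Ψ)
    (hψ : aΨ.act ≫ ψ = fst G Ψ * (snd G Ψ ≫ ψ) * (fst G Ψ)⁻¹)
    (o : 𝟙_ (Over S) ⟶ Ψ) (ho : o ≫ ψ = h)
    (hhom : ChGrp.IsHomog Scheme.fppfPrecoverage i aΨ o)
    (incl : Xh ⟶ X) [Mono incl]
    (hXh : ∀ (T : Over S) (x : T ⟶ X), (∃ y : T ⟶ Xh, y ≫ incl = x) ↔ lift (toUnit T ≫ h) x ≫ a.act = x)
    (aXh : AlgGrp.Action Z Xh) (hincl : AlgGrp.Action.IsEquivariant aXh (a.restrict i) incl)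
    (σ : SΨ ⟶ G ⊗ X) [Mono σ]
    (hSΨ : ∀ (T : Over S) (g : T ⟶ G) (x : T ⟶ X),
      (∃ q : T ⟶ SΨ, q ≫ σ = lift g x) ↔ ((∃ y : T ⟶ Ψ, y ≫ ψ = g) ∧ lift g x ≫ a.act = x))
    (aS : AlgGrp.Action G SΨ)
    (hσ : aS.act ≫ σ = lift (fst G SΨ * (snd G SΨ ≫ σ ≫ fst G X) * (fst G SΨ)⁻¹)
      (lift (fst G SΨ) (snd G SΨ ≫ σ ≫ snd G X) ≫ a.act))
    (Φ : G ⊗ Xh ⟶ SΨ)
    (hΦ : Φ ≫ σ = lift (fst G Xh * (toUnit (G ⊗ Xh) ≫ h) * (fst G Xh)⁻¹)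
      (lift (fst G Xh) (snd G Xh ≫ incl) ≫ a.act))

include hψ ho hhom hXh hSΨ hΦ in
/-- (LOC) `Φ` has sections fppf-locally on `SΨ` -/
theorem LOC : NonAbH1.IsLocallyTrivialFor Scheme.fppfPrecoverage (Over.mk Φ.left : Over SΨ.left) := by
  have hσeq : (𝟙 SΨ) ≫ σ = lift (σ ≫ fst G X) (σ ≫ snd G X) := by
    rw [Category.id_comp]
    ext1 <;> simp
  obtain ⟨⟨y, hy⟩, -⟩ := (hSΨ SΨ (σ ≫ fst G X) (σ ≫ snd G X)).1 ⟨𝟙 _, hσeq⟩
  obtain ⟨R, hR, hsec⟩ := NonAbH1.isLocallyTrivialFor_bc y.left Scheme.fppfPrecoverage hhom.2.2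
  refine ⟨R, hR, ?_⟩
  intro S' f hf
  obtain ⟨s, hs⟩ := hsec f hf
  change S' ⟶ pullback (aΨ.orbitMap o).left y.left at s
  change s ≫ pullback.snd (aΨ.orbitMap o).left y.left = f at hs
  have hg' : (s ≫ pullback.fst _ _) ≫ (aΨ.orbitMap o).left = f ≫ y.left := by
    rw [Category.assoc, pullback.condition, ← Category.assoc, hs]
  let T : Over S := Over.mk (f ≫ SΨ.hom)
  let q : T ⟶ SΨ := Over.homMk f rfl
  have hgw : (s ≫ pullback.fst _ _) ≫ G.hom = f ≫ SΨ.hom := by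
    rw [← Over.w (aΨ.orbitMap o), ← Category.assoc, hg', Category.assoc, Over.w y]
  let g : T ⟶ G := Over.homMk (s ≫ pullback.fst _ _) hgw
  have hgq : g ≫ aΨ.orbitMap o = q ≫ y := by
    ext1
    exact hg'
  -- γ = g h g⁻¹
  have h1 : q ≫ σ ≫ fst G X = g * (toUnit T ≫ h) * g⁻¹ := by
    calc q ≫ σ ≫ fst G X = (q ≫ y) ≫ ψ := by rw [Category.assoc, hy]
    _ = lift g (toUnit T ≫ o) ≫ aΨ.act ≫ ψ := by
        rw [← hgq, AlgGrp.Action.comp_orbitMap, Category.assoc]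
    _ = g * (toUnit T ≫ h) * g⁻¹ := by
        rw [hψ, comp_mul, comp_mul, GrpObj.comp_inv, lift_fst, lift_snd_assoc, Category.assoc, ho]
  set x : T ⟶ X := q ≫ σ ≫ snd G X with hx
  have hqσ : q ≫ σ = lift (q ≫ σ ≫ fst G X) x := by
    ext1 <;> simp [hx]
  have hfix : lift (q ≫ σ ≫ fst G X) x ≫ a.act = x :=
    ((hSΨ T (q ≫ σ ≫ fst G X) x).1 ⟨q, hqσ⟩).2
  -- x' = g⁻¹ • x is h-fixed
  have hx' : lift (toUnit T ≫ h) (lift g⁻¹ x ≫ a.act) ≫ a.act = lift g⁻¹ x ≫ a.act := by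
    rw [← AlgGrp.Action.lift_mul_act]
    conv_rhs => rw [← hfix, ← AlgGrp.Action.lift_mul_act, h1]
    congr 2
    group
  obtain ⟨y', hy'⟩ := (hXh T (lift g⁻¹ x ≫ a.act)).2 hx'
  refine ⟨(lift g y').left, ?_⟩
  change (lift g y').left ≫ Φ.left = f
  have hfin : lift g y' ≫ Φ = q := by
    rw [← cancel_mono σ, Category.assoc, hΦ, hqσ]
    ext1
    · rw [comp_lift, lift_fst, lift_fst, comp_mul, comp_mul, GrpObj.comp_inv, lift_fst, h1,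
        ← Category.assoc, toUnit_unique (lift g y' ≫ toUnit _) (toUnit T)]
    · rw [comp_lift, lift_snd, lift_snd, comp_lift_assoc, lift_fst, lift_snd_assoc, hy',
        ← AlgGrp.Action.lift_mul_act, mul_inv_cancel, AlgGrp.Action.lift_one_act]
  exact congrArg (fun m => m.left) hfin

end Groth.Agent.H80.BalStab_LOC
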