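import Mathlib
import Groth.Prelude.Def_DualLC
import Groth.Agent.H12.RGamHDI_A

/-!
# (P2) for S1720 (helper58): from vanishing of `mapH J (tr I h)` to a colon condition
-/

set_option autoImplicit false
universe u
open CategoryTheory CategoryTheory.Limits Opposite
attribute [local instance] HasDerivedCategory.standard
open Groth.Agent.H12.RGamHDI

namespace Groth.Agent.H80.CD_P2

open DerivedCategory

theorem mem_pow_of_mapH_tr_eq_zero (A : Type u) [CommRing A] (J I : Ideal A) (N N' : ℕ)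
    (h : N ≤ N')
    (hz : ∀ y : HYI J ((QDI I).obj (op N')), (mapH J (tr I h)).hom y = 0) (k : ℕ) (a : A)
    (ha : ∀ b ∈ J ^ k, b * a ∈ I ^ N') : a ∈ I ^ N := by
  -- the multiplication-by-`a` map `A ⧸ J ^ k → A ⧸ I ^ N'`
  let ψ : (A ⧸ J ^ k) →ₗ[A] (A ⧸ I ^ N') :=
    Submodule.liftQ _ (LinearMap.toSpanSingleton A _ (Ideal.Quotient.mk (I ^ N') a)) (by
      intro b hb
      rw [LinearMap.mem_ker, LinearMap.toSpanSingleton_apply]
      have : b • (Ideal.Quotient.mk (I ^ N') a) = Ideal.Quotient.mk (I ^ N') (b * a) := by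
        rw [map_mul]; rfl
      rw [this, Ideal.Quotient.eq_zero_iff_mem]
      exact ha b hb)
  have hψ : ∀ x : A, ψ (Ideal.Quotient.mk (J ^ k) x) = Ideal.Quotient.mk (I ^ N') (x * a) := by
    intro x
    change x • (Ideal.Quotient.mk (I ^ N') a) = _
    rw [map_mul]; rfl
  let FJ := localCohomology.ringModIdeals (localCohomology.idealPowersDiagram J)
  let FI := localCohomology.ringModIdeals (localCohomology.idealPowersDiagram I)
  let ψ' : FJ.obj (op k) ⟶ FI.obj (op N') := ModuleCat.ofHom ψ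
  let y₀ : (QDI J).obj (op k) ⟶ (QDI I).obj (op N') :=
    (singleFunctor (ModuleCat.{u} A) 0).map ψ'
  have h1 := hz (ι J _ k y₀)
  rw [mapH_ι] at h1
  obtain ⟨k', hk', h2⟩ := exists_res_eq_zero J _ k _ h1
  let g1 : FJ.obj (op k') ⟶ FJ.obj (op k) := FJ.map (homOfLE hk').op
  let g3 : FI.obj (op N') ⟶ FI.obj (op N) := FI.map (homOfLE h).op
  have h3 : (singleFunctor (ModuleCat.{u} A) 0).map (g1 ≫ ψ' ≫ g3) = 0 := by
    rw [Functor.map_comp, Functor.map_comp]
    exact h2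
  have h4 : g1 ≫ ψ' ≫ g3 = 0 :=
    (singleFunctor (ModuleCat.{u} A) 0).map_injective (by rw [h3, Functor.map_zero])
  have h5 : (g1 ≫ ψ' ≫ g3).hom (Ideal.Quotient.mk (J ^ k') (1 : A)) = 0 := by
    rw [h4]; rfl
  have h6 : (g1 ≫ ψ' ≫ g3).hom (Ideal.Quotient.mk (J ^ k') (1 : A)) =
      Ideal.Quotient.mk (I ^ N) a := by
    change (g3.hom (ψ (g1.hom (Ideal.Quotient.mk (J ^ k') (1 : A))))) = _
    have e1 : g1.hom (Ideal.Quotient.mk (J ^ k') (1 : A)) = Ideal.Quotient.mk (J ^ k) (1 : A) := rfl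
    rw [e1, hψ, one_mul]
    rfl
  rw [h6] at h5
  exact Ideal.Quotient.eq_zero_iff_mem.mp h5

end Groth.Agent.H80.CD_P2
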