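import Mathlib

/-!
# (CB) for S1931 (helper34): two generators of a principal ideal of a local ring differ by a unit
-/

set_option autoImplicit false
universe u
open CategoryTheory CategoryTheory.Limits AlgebraicGeometry TopologicalSpace Opposite

namespace Groth.Agent.H80.CMP_CB

theorem exists_isUnit_mul_of_span_eq {R : Type*} [CommRing R] [IsLocalRing R] (a b : R)
    (h : Ideal.span {a} = Ideal.span {b}) : ∃ w : R, IsUnit w ∧ a = w * b := by
  have ha : a ∈ Ideal.span {b} := h ▸ Ideal.subset_span (Set.mem_singleton a)
  have hb : b ∈ Ideal.span {a} := h.symm ▸ Ideal.subset_span (Set.mem_singleton b)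
  obtain ⟨r, hr⟩ := Ideal.mem_span_singleton'.1 ha
  obtain ⟨r', hr'⟩ := Ideal.mem_span_singleton'.1 hb
  -- hr : r * b = a, hr' : r' * a = b
  by_cases hu : IsUnit r
  · exact ⟨r, hu, hr.symm⟩
  · -- r is not a unit, so 1 - r * r' is a unit and a = 0 = b
    have hnu : ¬ IsUnit (r * r') := fun hrr => hu (isUnit_of_mul_isUnit_left hrr)
    have hu' : IsUnit (1 - r * r') := by
      have hm : r * r' ∈ IsLocalRing.maximalIdeal R := (IsLocalRing.mem_maximalIdeal _).2 hnu
      have := IsLocalRing.isUnit_one_sub_self_of_mem_nonunits (r * r') hm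
      exact this
    have ha0 : a * (1 - r * r') = 0 := by
      have : a = r * r' * a := by rw [mul_assoc, hr', hr]
      linear_combination this
    have ha' : a = 0 := by
      have := hu'.mul_left_eq_zero.1 ha0
      exact this
    have hb' : b = 0 := by rw [← hr', ha', mul_zero]
    exact ⟨1, isUnit_one, by rw [ha', hb', mul_zero]⟩

end Groth.Agent.H80.CMP_CB
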