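import Mathlib

/-!
# (CD) for S1931 (helper34): points of an abstract pullback square of schemes
-/

set_option autoImplicit false
universe u
open CategoryTheory CategoryTheory.Limits AlgebraicGeometry TopologicalSpace Opposite

namespace Groth.Agent.H80.CMP_CD

theorem exists_point_of_isPullback {X D D' E : Scheme.{u}} (i : D ⟶ X) (i' : D' ⟶ X)
    (q : E ⟶ D) (q' : E ⟶ D') (hpb : IsPullback q q' i i') (d : D) (d' : D')
    (h : i d = i' d') : ∃ e : E, q e = d ∧ q' e = d' := by
  obtain ⟨z, hz1, hz2⟩ := Scheme.Pullback.exists_preimage_pullback d d' h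
  refine ⟨hpb.isoPullback.inv z, ?_, ?_⟩
  · rw [← Scheme.Hom.comp_apply, hpb.isoPullback_inv_fst, hz1]
  · rw [← Scheme.Hom.comp_apply, hpb.isoPullback_inv_snd, hz2]

end Groth.Agent.H80.CMP_CD
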