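import Mathlib

/-!
# Module-theoretic lemmas used for relative Cartan subalgebras

* `exists_retraction`: a submodule with projective quotient is a retract.
* `isNilpotent_of_fibres`: an endomorphism of a finitely generated projective module that is
  nilpotent on every fibre is nilpotent.
* `exists_det`: for an endomorphism `ψ` of a finitely generated projective module there is a
  "determinant" `δ` with `ψ`-torsion killed by powers of `δ`, `δ • Q ⊆ ψ Q`, and `δ` nonzero
  at every prime where the fibre of `ψ` is injective.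
-/

set_option autoImplicit false
universe u v
open scoped TensorProduct

namespace Groth.Agent.H80.CartanAlg

variable {A : Type u} [CommRing A]

theorem exists_retraction {L : Type v} [AddCommGroup L] [Module A L] (N : Submodule A L)
    [Module.Projective A (L ⧸ N)] : ∃ r : L →ₗ[A] N, r ∘ₗ N.subtype = LinearMap.id := by
  obtain ⟨σ, hσ⟩ := Module.projective_lifting_property N.mkQ LinearMap.id N.mkQ_surjective
  have hmem : ∀ x : L, ((LinearMap.id : L →ₗ[A] L) - σ ∘ₗ N.mkQ) x ∈ N := by
    intro x
    rw [← Submodule.Quotient.mk_eq_zero]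
    have h1 := LinearMap.congr_fun hσ (N.mkQ x)
    simp only [LinearMap.comp_apply, LinearMap.id_apply, Submodule.mkQ_apply] at h1
    simp only [LinearMap.sub_apply, LinearMap.id_apply, LinearMap.comp_apply,
      Submodule.mkQ_apply, Submodule.Quotient.mk_sub, h1, sub_self]
  refine ⟨LinearMap.codRestrict N ((LinearMap.id : L →ₗ[A] L) - σ ∘ₗ N.mkQ) hmem, ?_⟩
  ext ⟨x, hx⟩
  have h0 : (Submodule.Quotient.mk x : L ⧸ N) = 0 := (Submodule.Quotient.mk_eq_zero N).mpr hx
  simp [h0]

section retract

variable {R : Type*} [CommRing R] {H F : Type*} [AddCommGroup H] [Module R H]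
  [AddCommGroup F] [Module R F]

theorem retract_pow_apply (i : H →ₗ[R] F) (s : F →ₗ[R] H) (hsi : s ∘ₗ i = LinearMap.id)
    (φ : H →ₗ[R] H) (k : ℕ) (x : H) :
    ((i ∘ₗ φ ∘ₗ s) ^ k) (i x) = i ((φ ^ k) x) := by
  induction k with
  | zero => simp
  | succ k ih =>
    rw [pow_succ', Module.End.mul_apply, ih, pow_succ', Module.End.mul_apply]
    have h1 : s (i ((φ ^ k) x)) = (φ ^ k) x := LinearMap.congr_fun hsi _
    simp only [LinearMap.comp_apply, h1]

theorem retract_pow_succ_apply (i : H →ₗ[R] F) (s : F →ₗ[R] H) (hsi : s ∘ₗ i = LinearMap.id)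
    (φ : H →ₗ[R] H) (k : ℕ) (v : F) :
    ((i ∘ₗ φ ∘ₗ s) ^ (k + 1)) v = i ((φ ^ (k + 1)) (s v)) := by
  rw [pow_succ, Module.End.mul_apply]
  have h0 : (i ∘ₗ φ ∘ₗ s) v = i (φ (s v)) := rfl
  rw [h0, retract_pow_apply i s hsi, pow_succ, Module.End.mul_apply]

end retract

theorem isNilpotent_of_fibres {H : Type v} [AddCommGroup H] [Module A H] [Module.Finite A H]
    [Module.Projective A H] (φ : H →ₗ[A] H)
    (h : ∀ q : PrimeSpectrum A, IsNilpotent (φ.baseChange q.asIdeal.ResidueField)) :
    IsNilpotent φ := by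
  classical
  obtain ⟨n, s, i, -, -, hsi⟩ := Module.Finite.exists_comp_eq_id_of_projective A H
  set Φ : (Fin n → A) →ₗ[A] (Fin n → A) := i ∘ₗ φ ∘ₗ s with hΦ
  set P := Φ.charpoly with hP
  -- the coefficients of `P - X ^ n` are nilpotent
  have hcoef : ∀ j, IsNilpotent ((P - Polynomial.X ^ n).coeff j) := by
    intro j
    rw [nilpotent_iff_mem_prime]
    intro J hJ
    set q : PrimeSpectrum A := ⟨J, hJ⟩ with hq
    have hnt : Nontrivial A := q.nontrivial
    obtain ⟨m, hm⟩ := h q
    have hsi' : s.baseChange q.asIdeal.ResidueField ∘ₗ i.baseChange q.asIdeal.ResidueField =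
        LinearMap.id := by
      rw [← LinearMap.baseChange_comp, hsi, LinearMap.baseChange_id]
    have h3 : Φ.baseChange q.asIdeal.ResidueField = i.baseChange q.asIdeal.ResidueField ∘ₗ
        φ.baseChange q.asIdeal.ResidueField ∘ₗ s.baseChange q.asIdeal.ResidueField := by
      rw [hΦ, LinearMap.baseChange_comp, LinearMap.baseChange_comp]
    have hnil : IsNilpotent (Φ.baseChange q.asIdeal.ResidueField) := by
      refine ⟨m + 1, ?_⟩
      refine LinearMap.ext fun v => ?_
      rw [h3, retract_pow_succ_apply _ _ hsi', pow_succ, hm]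
      simp
    have h4 : Module.finrank q.asIdeal.ResidueField
        (q.asIdeal.ResidueField ⊗[A] (Fin n → A)) = n := by
      rw [Module.finrank_baseChange, Module.finrank_fin_fun]
    have h5 := hnil.charpoly_eq_X_pow_finrank
    rw [LinearMap.charpoly_baseChange, h4] at h5
    have h6 : algebraMap A q.asIdeal.ResidueField ((P - Polynomial.X ^ n).coeff j) = 0 := by
      rw [← Polynomial.coeff_map, Polynomial.map_sub, Polynomial.map_pow, Polynomial.map_X,
        h5, sub_self, Polynomial.coeff_zero]
    rwa [Ideal.algebraMap_residueField_eq_zero] at h6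
  have hPnil : IsNilpotent (P - Polynomial.X ^ n) := Polynomial.isNilpotent_iff.mpr hcoef
  have h7 : IsNilpotent (Polynomial.aeval Φ (P - Polynomial.X ^ n)) := hPnil.map _
  have h8 : Polynomial.aeval Φ (P - Polynomial.X ^ n) = - Φ ^ n := by
    rw [map_sub, hP, LinearMap.aeval_self_charpoly, zero_sub, map_pow, Polynomial.aeval_X]
  rw [h8] at h7
  obtain ⟨m, hm⟩ := h7.neg
  rw [neg_neg, ← pow_mul] at hm
  refine ⟨n * m, ?_⟩
  refine LinearMap.ext fun x => ?_
  have h9 := retract_pow_apply i s hsi φ (n * m) x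
  rw [← hΦ, hm] at h9
  have h10 : (φ ^ (n * m)) x = s (i ((φ ^ (n * m)) x)) := (LinearMap.congr_fun hsi _).symm
  rw [h10, ← h9]
  simp

theorem exists_det {Q : Type v} [AddCommGroup Q] [Module A Q] [Module.Finite A Q]
    [Module.Projective A Q] (ψ : Q →ₗ[A] Q) : ∃ δ : A,
      (∀ q : PrimeSpectrum A, Function.Injective (ψ.baseChange q.asIdeal.ResidueField) →
        δ ∉ q.asIdeal) ∧
      (∀ (k : ℕ) (x : Q), (ψ ^ k) x = 0 → δ ^ k • x = 0) ∧
      (∀ y : Q, ∃ z : Q, ψ z = δ • y) := by
  classical
  obtain ⟨n, s, i, -, -, hsi⟩ := Module.Finite.exists_comp_eq_id_of_projective A Q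
  have hsi_apply : ∀ x, s (i x) = x := fun x => LinearMap.congr_fun hsi x
  set Ψ : (Fin n → A) →ₗ[A] (Fin n → A) := i ∘ₗ ψ ∘ₗ s + (LinearMap.id - i ∘ₗ s) with hΨ
  have hΨi : ∀ x, Ψ (i x) = i (ψ x) := by
    intro x
    simp [hΨ, hsi_apply]
  have hsΨ : ∀ v, s (Ψ v) = ψ (s v) := by
    intro v
    simp [hΨ, hsi_apply]
  set M := LinearMap.toMatrix' Ψ with hM
  set δ := M.det with hδ
  have hMv : ∀ v, M.mulVec v = Ψ v := fun v => LinearMap.toMatrix'_mulVec Ψ v
  have key1 : ∀ v, Ψ v = 0 → δ • v = 0 := by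
    intro v hv
    have h1 : (M.adjugate * M).mulVec v = 0 := by
      rw [← Matrix.mulVec_mulVec, hMv, hv, Matrix.mulVec_zero]
    rw [Matrix.adjugate_mul, Matrix.smul_mulVec, Matrix.one_mulVec] at h1
    exact h1
  have key2 : ∀ w, ∃ v, Ψ v = δ • w := by
    intro w
    refine ⟨M.adjugate.mulVec w, ?_⟩
    rw [← hMv, Matrix.mulVec_mulVec, Matrix.mul_adjugate, Matrix.smul_mulVec, Matrix.one_mulVec]
  have key3 : ∀ (k : ℕ) (v : Fin n → A), (Ψ ^ k) v = 0 → δ ^ k • v = 0 := by
    intro k
    induction k with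
    | zero => intro v hv; simpa using hv
    | succ k ih =>
      intro v hv
      rw [pow_succ', Module.End.mul_apply] at hv
      have h1 := key1 _ hv
      rw [← map_smul] at h1
      have h2 := ih _ h1
      rw [pow_succ, mul_smul]
      exact h2
  have hΨpow : ∀ (k : ℕ) (x : Q), (Ψ ^ k) (i x) = i ((ψ ^ k) x) := by
    intro k
    induction k with
    | zero => intro x; simp
    | succ k ih =>
      intro x
      rw [pow_succ', Module.End.mul_apply, ih, hΨi, pow_succ', Module.End.mul_apply]
  have hinj : Function.Injective i := LinearMap.injective_of_comp_eq_id _ _ hsi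
  refine ⟨δ, ?_, ?_, ?_⟩
  · intro q hq
    have hsi' : ∀ v, s.baseChange q.asIdeal.ResidueField
        (i.baseChange q.asIdeal.ResidueField v) = v := by
      intro v
      have : s.baseChange q.asIdeal.ResidueField ∘ₗ i.baseChange q.asIdeal.ResidueField =
          LinearMap.id := by
        rw [← LinearMap.baseChange_comp, hsi, LinearMap.baseChange_id]
      exact LinearMap.congr_fun this v
    have h3 : Ψ.baseChange q.asIdeal.ResidueField = i.baseChange q.asIdeal.ResidueField ∘ₗ
        ψ.baseChange q.asIdeal.ResidueField ∘ₗ s.baseChange q.asIdeal.ResidueField +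
        (LinearMap.id - i.baseChange q.asIdeal.ResidueField ∘ₗ
          s.baseChange q.asIdeal.ResidueField) := by
      rw [hΨ, LinearMap.baseChange_add, LinearMap.baseChange_sub, LinearMap.baseChange_comp,
        LinearMap.baseChange_comp, LinearMap.baseChange_comp, LinearMap.baseChange_id]
    have hinjΨ : LinearMap.ker (Ψ.baseChange q.asIdeal.ResidueField) = ⊥ := by
      rw [LinearMap.ker_eq_bot']
      intro v hv
      have h4 : ψ.baseChange q.asIdeal.ResidueField
          (s.baseChange q.asIdeal.ResidueField v) = 0 := by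
        have := congrArg (s.baseChange q.asIdeal.ResidueField) hv
        rw [h3] at this
        simpa [hsi'] using this
      have h5 : s.baseChange q.asIdeal.ResidueField v = 0 := hq (by rw [h4, map_zero])
      rw [h3] at hv
      simpa [h5] using hv
    have hdet : LinearMap.det (Ψ.baseChange q.asIdeal.ResidueField) ≠ 0 := by
      intro h0
      have := LinearMap.bot_lt_ker_of_det_eq_zero h0
      rw [hinjΨ] at this
      exact lt_irrefl _ this
    rw [LinearMap.det_baseChange, ← LinearMap.det_toMatrix', ← hM, ← hδ] at hdet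
    intro hmem
    exact hdet ((Ideal.algebraMap_residueField_eq_zero).mpr hmem)
  · intro k x hx
    have h1 : (Ψ ^ k) (i x) = 0 := by rw [hΨpow, hx, map_zero]
    have h2 := key3 k _ h1
    rw [← map_smul] at h2
    exact hinj (by rw [h2, map_zero])
  · intro y
    obtain ⟨v, hv⟩ := key2 (i y)
    refine ⟨s v, ?_⟩
    rw [← hsΨ, hv, map_smul, hsi_apply]

end Groth.Agent.H80.CartanAlg
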