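import Mathlib

/-!
# Fitting decomposition of an endomorphism of a projective module from fibrewise data

Given an endomorphism `θ` of a projective module annihilated by a polynomial `P` whose
order of vanishing at `0` on the fibres is a locally constant function, the generalised
kernel `E` of `θ` is a direct summand and `θ` is bijective modulo `E`.
-/

set_option autoImplicit false
universe u v
open scoped TensorProduct
open Polynomial

namespace Groth.Agent.H80.Fitting

variable {R : Type u} [CommRing R]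

theorem eq_zero_of_idem_of_forall_mem_prime {e : R} (he : IsIdempotentElem e)
    (h : ∀ q : PrimeSpectrum R, e ∈ q.asIdeal) : e = 0 := by
  have hn : IsNilpotent e := nilpotent_iff_mem_prime.mpr (fun J hJ => h ⟨J, hJ⟩)
  obtain ⟨k, hk⟩ := hn
  rcases Nat.eq_zero_or_pos k with rfl | hk0
  · have h1 : (1 : R) = 0 := by simpa using hk
    calc e = e * 1 := (mul_one e).symm
      _ = 0 := by rw [h1, mul_zero]
  · obtain ⟨m, rfl⟩ : ∃ m, k = m + 1 := ⟨k - 1, by omega⟩
    rw [he.pow_succ_eq] at hk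
    exact hk

theorem exists_factor (P : R[X]) (n : ℕ) (μ : PrimeSpectrum R → ℕ) (hμ : IsLocallyConstant μ)
    (hn : ∀ q, μ q ≤ n)
    (hlow : ∀ (q : PrimeSpectrum R) (j : ℕ), j < μ q → P.coeff j ∈ q.asIdeal)
    (hat : ∀ q : PrimeSpectrum R, P.coeff (μ q) ∉ q.asIdeal) :
    ∃ G G' Q₀ ν : R[X], P = G * Q₀ + ν ∧ IsNilpotent ν ∧ G * G' = X ^ n ∧
      IsUnit (Q₀.coeff 0) := by
  classical
  have hclopen : ∀ k, IsClopen (μ ⁻¹' {k}) := fun k => hμ.isClopen_fiber k
  choose e he_idem he_eq using fun k =>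
    PrimeSpectrum.exists_idempotent_basicOpen_eq_of_isClopen (hclopen k)
  have hmem : ∀ k (q : PrimeSpectrum R), e k ∈ q.asIdeal ↔ μ q ≠ k := by
    intro k q
    have h1 : q ∈ μ ⁻¹' {k} ↔ q ∈ (PrimeSpectrum.basicOpen (e k) : Set (PrimeSpectrum R)) := by
      rw [he_eq k]
    have h2 : q ∈ (PrimeSpectrum.basicOpen (e k) : Set (PrimeSpectrum R)) ↔
        e k ∉ q.asIdeal := Iff.rfl
    rw [h2] at h1
    constructor
    · intro hm hk
      exact (h1.mp hk) hm
    · intro hne
      by_contra hm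
      exact hne (h1.mpr hm)
  have hbar : ∀ k (q : PrimeSpectrum R), algebraMap R q.asIdeal.ResidueField (e k) =
      if μ q = k then 1 else 0 := by
    intro k q
    by_cases hk : μ q = k
    · rw [if_pos hk]
      have h1 : e k ∉ q.asIdeal := fun hm => (hmem k q).mp hm hk
      have h2 : IsIdempotentElem (algebraMap R q.asIdeal.ResidueField (e k)) :=
        (he_idem k).map _
      rcases IsIdempotentElem.iff_eq_zero_or_one.mp h2 with h3 | h3
      · exact absurd ((Ideal.algebraMap_residueField_eq_zero).mp h3) h1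
      · exact h3
    · rw [if_neg hk]
      exact (Ideal.algebraMap_residueField_eq_zero).mpr ((hmem k q).mpr hk)
  have horth : ∀ k l, k ≠ l → e k * e l = 0 := by
    intro k l hkl
    apply eq_zero_of_idem_of_forall_mem_prime ((he_idem k).mul (he_idem l))
    intro q
    by_cases hk : μ q = k
    · exact Ideal.mul_mem_left _ _ ((hmem l q).mpr (fun h => hkl (hk.symm.trans h)))
    · exact Ideal.mul_mem_right _ _ ((hmem k q).mpr hk)
  have hsum : ∑ k ∈ Finset.range (n + 1), e k = 1 := by
    have hff : IsIdempotentElem (∑ k ∈ Finset.range (n + 1), e k) := by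
      unfold IsIdempotentElem
      rw [Finset.sum_mul_sum]
      refine Finset.sum_congr rfl fun k hk => ?_
      rw [Finset.sum_eq_single k]
      · exact he_idem k
      · intro l _ hl
        exact horth k l (Ne.symm hl)
      · intro hk'
        exact absurd hk hk'
    have h1 : 1 - ∑ k ∈ Finset.range (n + 1), e k = 0 := by
      apply eq_zero_of_idem_of_forall_mem_prime hff.one_sub
      intro q
      rw [← Ideal.algebraMap_residueField_eq_zero, map_sub, map_one, map_sum]
      simp only [hbar]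
      rw [Finset.sum_ite_eq, if_pos (Finset.mem_range.mpr (Nat.lt_succ_of_le (hn q))), sub_self]
    exact (sub_eq_zero.mp h1).symm
  refine ⟨∑ k ∈ Finset.range (n + 1), C (e k) * X ^ k,
    ∑ k ∈ Finset.range (n + 1), C (e k) * X ^ (n - k),
    ∑ k ∈ Finset.range (n + 1), C (e k) * (P /ₘ X ^ k),
    ∑ k ∈ Finset.range (n + 1), C (e k) * (P %ₘ X ^ k), ?_, ?_, ?_, ?_⟩
  · -- P = G * Q₀ + ν
    have h1 : (∑ k ∈ Finset.range (n + 1), C (e k) * X ^ k) *
        (∑ k ∈ Finset.range (n + 1), C (e k) * (P /ₘ X ^ k)) =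
        ∑ k ∈ Finset.range (n + 1), C (e k) * (X ^ k * (P /ₘ X ^ k)) := by
      rw [Finset.sum_mul_sum]
      refine Finset.sum_congr rfl fun k hk => ?_
      rw [Finset.sum_eq_single k]
      · have : C (e k) * C (e k) = C (e k) := by rw [← C_mul, (he_idem k).eq]
        calc C (e k) * X ^ k * (C (e k) * (P /ₘ X ^ k))
            = (C (e k) * C (e k)) * (X ^ k * (P /ₘ X ^ k)) := by ring
          _ = C (e k) * (X ^ k * (P /ₘ X ^ k)) := by rw [this]
      · intro l _ hl
        have : C (e k) * C (e l) = 0 := by rw [← C_mul, horth k l (Ne.symm hl), C_0]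
        calc C (e k) * X ^ k * (C (e l) * (P /ₘ X ^ l))
            = (C (e k) * C (e l)) * (X ^ k * (P /ₘ X ^ l)) := by ring
          _ = 0 := by rw [this, zero_mul]
      · intro hk'
        exact absurd hk hk'
    rw [h1, ← Finset.sum_add_distrib]
    have h2 : ∀ k ∈ Finset.range (n + 1),
        C (e k) * (X ^ k * (P /ₘ X ^ k)) + C (e k) * (P %ₘ X ^ k) = C (e k) * P := by
      intro k _
      rw [← mul_add, add_comm, Polynomial.modByMonic_add_div P (X ^ k)]
    rw [Finset.sum_congr rfl h2, ← Finset.sum_mul, ← map_sum, hsum, C_1, one_mul]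
  · -- ν nilpotent
    rw [Polynomial.isNilpotent_iff]
    intro j
    rw [nilpotent_iff_mem_prime]
    intro J hJ
    set q : PrimeSpectrum R := ⟨J, hJ⟩ with hq
    have h1 : (∑ k ∈ Finset.range (n + 1), C (e k) * (P %ₘ X ^ k)).map
        (algebraMap R q.asIdeal.ResidueField) = 0 := by
      rw [Polynomial.map_sum]
      have h2 : ∀ k ∈ Finset.range (n + 1), (C (e k) * (P %ₘ X ^ k)).map
          (algebraMap R q.asIdeal.ResidueField) =
          if μ q = k then (P.map (algebraMap R q.asIdeal.ResidueField)) %ₘ X ^ k else 0 := by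
        intro k _
        rw [Polynomial.map_mul, Polynomial.map_C, hbar, Polynomial.map_modByMonic _ (monic_X_pow k),
          Polynomial.map_pow, Polynomial.map_X]
        split_ifs
        · rw [C_1, one_mul]
        · rw [C_0, zero_mul]
      rw [Finset.sum_congr rfl h2, Finset.sum_ite_eq,
        if_pos (Finset.mem_range.mpr (Nat.lt_succ_of_le (hn q)))]
      rw [Polynomial.modByMonic_eq_zero_iff_dvd (monic_X_pow _), Polynomial.X_pow_dvd_iff]
      intro d hd
      rw [Polynomial.coeff_map, Ideal.algebraMap_residueField_eq_zero]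
      exact hlow q d hd
    have h3 := congrArg (fun p => Polynomial.coeff p j) h1
    simp only [Polynomial.coeff_map, Polynomial.coeff_zero] at h3
    exact (Ideal.algebraMap_residueField_eq_zero).mp h3
  · -- G * G' = X ^ n
    rw [Finset.sum_mul_sum]
    have h1 : ∀ k ∈ Finset.range (n + 1),
        ∑ l ∈ Finset.range (n + 1), C (e k) * X ^ k * (C (e l) * X ^ (n - l)) =
          C (e k) * X ^ n := by
      intro k hk
      rw [Finset.sum_eq_single k]
      · have h2 : C (e k) * C (e k) = C (e k) := by rw [← C_mul, (he_idem k).eq]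
        have h3 : k + (n - k) = n := by
          have := Finset.mem_range.mp hk
          omega
        calc C (e k) * X ^ k * (C (e k) * X ^ (n - k))
            = (C (e k) * C (e k)) * X ^ (k + (n - k)) := by rw [pow_add]; ring
          _ = C (e k) * X ^ n := by rw [h2, h3]
      · intro l _ hl
        have : C (e k) * C (e l) = 0 := by rw [← C_mul, horth k l (Ne.symm hl), C_0]
        calc C (e k) * X ^ k * (C (e l) * X ^ (n - l))
            = (C (e k) * C (e l)) * (X ^ k * X ^ (n - l)) := by ring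
          _ = 0 := by rw [this, zero_mul]
      · intro hk'
        exact absurd hk hk'
    rw [Finset.sum_congr rfl h1, ← Finset.sum_mul, ← map_sum, hsum, C_1, one_mul]
  · -- unit
    by_contra hnu
    obtain ⟨I, hI, hmemI⟩ := exists_max_ideal_of_mem_nonunits hnu
    set q : PrimeSpectrum R := ⟨I, hI.isPrime⟩ with hq
    have h1 : (∑ k ∈ Finset.range (n + 1), C (e k) * (P /ₘ X ^ k)).map
        (algebraMap R q.asIdeal.ResidueField) =
        (P.map (algebraMap R q.asIdeal.ResidueField)) /ₘ X ^ (μ q) := by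
      rw [Polynomial.map_sum]
      have h2 : ∀ k ∈ Finset.range (n + 1), (C (e k) * (P /ₘ X ^ k)).map
          (algebraMap R q.asIdeal.ResidueField) =
          if μ q = k then (P.map (algebraMap R q.asIdeal.ResidueField)) /ₘ X ^ k else 0 := by
        intro k _
        rw [Polynomial.map_mul, Polynomial.map_C, hbar, Polynomial.map_divByMonic _ (monic_X_pow k),
          Polynomial.map_pow, Polynomial.map_X]
        split_ifs
        · rw [C_1, one_mul]
        · rw [C_0, zero_mul]
      rw [Finset.sum_congr rfl h2, Finset.sum_ite_eq,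
        if_pos (Finset.mem_range.mpr (Nat.lt_succ_of_le (hn q)))]
    have h4 : (P.map (algebraMap R q.asIdeal.ResidueField)) %ₘ X ^ (μ q) = 0 := by
      rw [Polynomial.modByMonic_eq_zero_iff_dvd (monic_X_pow _), Polynomial.X_pow_dvd_iff]
      intro d hd
      rw [Polynomial.coeff_map, Ideal.algebraMap_residueField_eq_zero]
      exact hlow q d hd
    have h5 := Polynomial.modByMonic_add_div (P.map (algebraMap R q.asIdeal.ResidueField))
      (X ^ (μ q))
    rw [h4, zero_add] at h5
    have h6 := congrArg (fun p => Polynomial.coeff p (μ q)) h5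
    simp only [Polynomial.coeff_X_pow_mul', le_refl, if_true, Nat.sub_self] at h6
    rw [← h1, Polynomial.coeff_map, Polynomial.coeff_map] at h6
    have h7 : algebraMap R q.asIdeal.ResidueField
        ((∑ k ∈ Finset.range (n + 1), C (e k) * (P /ₘ X ^ k)).coeff 0) = 0 :=
      (Ideal.algebraMap_residueField_eq_zero).mpr hmemI
    rw [h7] at h6
    exact hat q ((Ideal.algebraMap_residueField_eq_zero).mp h6.symm)

theorem fitting_of_factor {M : Type v} [AddCommGroup M] [Module R M] [Module.Projective R M]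
    (θ : Module.End R M) (G₁ G₁' Q₁ : R[X]) (N : ℕ)
    (h1 : Polynomial.aeval θ (G₁ * Q₁) = 0) (h2 : G₁ * G₁' = X ^ N)
    (h3 : IsUnit (Q₁.coeff 0))
    (E : Submodule R M) (hE : ∀ y, y ∈ E ↔ ∃ k : ℕ, (θ ^ k) y = 0) :
    Module.Projective R (M ⧸ E) ∧ ∀ y, ∃ z, θ z - y ∈ E := by
  obtain ⟨D', hD'⟩ := h3.exists_left_inv
  set D := Q₁.coeff 0 with hD
  set S := Q₁.divX with hS
  have hQ : Q₁ = S * X + C D := (Polynomial.divX_mul_X_add Q₁).symm
  have hCC : C D' * C D = (1 : R[X]) := by rw [← C_mul, hD', C_1]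
  set W : R[X] := -(C D' * S) with hW
  have hXW : 1 - X * W = C D' * Q₁ := by
    rw [hW]
    conv_rhs => rw [hQ]
    linear_combination -hCC
  set V : R[X] := C D' * ∑ i ∈ Finset.range N, (X * W) ^ i with hV
  set U : R[X] := G₁' * W ^ N with hU
  have hbez : G₁ * U + Q₁ * V = 1 := by
    have hg : (1 - X * W) * ∑ i ∈ Finset.range N, (X * W) ^ i = 1 - (X * W) ^ N :=
      mul_neg_geom_sum (X * W) N
    calc G₁ * U + Q₁ * V
        = (X * W) ^ N + (C D' * Q₁) * ∑ i ∈ Finset.range N, (X * W) ^ i := by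
          rw [hU, hV, mul_pow, ← h2]; ring
      _ = (X * W) ^ N + (1 - (X * W) ^ N) := by rw [← hXW, hg]
      _ = 1 := by ring
  set ae := Polynomial.aeval (R := R) θ with hae
  have hθ : ae X = θ := Polynomial.aeval_X θ
  have hpow : ∀ k : ℕ, ae (X ^ k) = θ ^ k := fun k => by rw [map_pow, hθ]
  set π₂ := ae (G₁ * U) with hπ₂
  set π₁ := ae (Q₁ * V) with hπ₁
  have hsum : ∀ y, π₁ y + π₂ y = y := by
    intro y
    have h4 : π₁ + π₂ = 1 := by
      rw [hπ₁, hπ₂, ← map_add, add_comm, hbez, map_one]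
    have h5 := LinearMap.congr_fun h4 y
    simpa using h5
  have hπ₁E : ∀ y, π₁ y ∈ E := by
    intro y
    rw [hE]
    refine ⟨N, ?_⟩
    have h4 : X ^ N * (Q₁ * V) = (G₁' * V) * (G₁ * Q₁) := by rw [← h2]; ring
    have h5 : θ ^ N * π₁ = 0 := by
      rw [← hpow, hπ₁, ← map_mul, h4, map_mul, h1, mul_zero]
    have h6 := LinearMap.congr_fun h5 y
    simpa using h6
  have hQ₁ : ∀ w, ae Q₁ w = ae S (θ w) + D • w := by
    intro w
    conv_lhs => rw [hQ]
    rw [map_add, map_mul, hθ, LinearMap.add_apply, Module.End.mul_apply, hae, Polynomial.aeval_C,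
      Module.algebraMap_end_apply]
  have hcomm : ∀ (T : R[X]) w, ae T (θ w) = θ (ae T w) := by
    intro T w
    have h4 : ae T * θ = θ * ae T := by
      rw [← hθ, ← map_mul, ← map_mul, mul_comm]
    exact LinearMap.congr_fun h4 w
  have hcommpow : ∀ (T : R[X]) (k : ℕ) w, ae T ((θ ^ k) w) = (θ ^ k) (ae T w) := by
    intro T k w
    have h4 : ae T * θ ^ k = θ ^ k * ae T := by
      rw [← hpow, ← map_mul, ← map_mul, mul_comm]
    exact LinearMap.congr_fun h4 w
  have hkey : ∀ (k : ℕ) (w : M), ae Q₁ w = 0 → (θ ^ k) w = 0 → w = 0 := by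
    intro k
    induction k with
    | zero => intro w _ hw; simpa using hw
    | succ k ih =>
      intro w hq hw
      rw [pow_succ, Module.End.mul_apply] at hw
      have h4 : θ w = 0 := ih (θ w) (by rw [hcomm, hq, map_zero]) hw
      rw [hQ₁, h4, map_zero, zero_add] at hq
      calc w = (D' * D) • w := by rw [hD', one_smul]
        _ = 0 := by rw [mul_smul, hq, smul_zero]
  have hQπ₂ : ∀ y, ae Q₁ (π₂ y) = 0 := by
    intro y
    have h4 : ae Q₁ * π₂ = 0 := by
      rw [hπ₂, ← map_mul]
      have : Q₁ * (G₁ * U) = U * (G₁ * Q₁) := by ring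
      rw [this, map_mul, h1, mul_zero]
    exact LinearMap.congr_fun h4 y
  have hπ₂E : ∀ y ∈ E, π₂ y = 0 := by
    intro y hy
    obtain ⟨k, hk⟩ := (hE y).mp hy
    refine hkey k (π₂ y) (hQπ₂ y) ?_
    rw [hπ₂, ← hcommpow, hk, map_zero]
  refine ⟨?_, ?_⟩
  · have hle : E ≤ LinearMap.ker π₂ := fun y hy => LinearMap.mem_ker.mpr (hπ₂E y hy)
    refine Module.Projective.of_split (E.liftQ π₂ hle) E.mkQ ?_
    refine LinearMap.ext fun t => ?_
    obtain ⟨y, rfl⟩ := E.mkQ_surjective t
    show E.mkQ (E.liftQ π₂ hle (Submodule.Quotient.mk y)) = Submodule.Quotient.mk y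
    rw [Submodule.liftQ_apply, Submodule.mkQ_apply]
    have h4 := hsum y
    have h5 : π₂ y = y - π₁ y :=
      calc π₂ y = (π₁ y + π₂ y) - π₁ y := by abel
        _ = y - π₁ y := by rw [h4]
    rw [h5, Submodule.Quotient.mk_sub, (Submodule.Quotient.mk_eq_zero E).mpr (hπ₁E y), sub_zero]
  · intro y
    refine ⟨-(D' • ae S (π₂ y)), ?_⟩
    have h4 : θ (ae S (π₂ y)) = -(D • π₂ y) := by
      have h5 := hQ₁ (π₂ y)
      rw [hQπ₂, hcomm] at h5
      exact eq_neg_of_add_eq_zero_left h5.symm
    have h6 : θ (-(D' • ae S (π₂ y))) = π₂ y := by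
      rw [map_neg, map_smul, h4, smul_neg, neg_neg, ← mul_smul, hD', one_smul]
    rw [h6]
    have h7 : π₂ y - y = -π₁ y :=
      calc π₂ y - y = π₂ y - (π₁ y + π₂ y) := by rw [hsum y]
        _ = -π₁ y := by abel
    rw [h7]
    exact E.neg_mem (hπ₁E y)

theorem fitting_main {M : Type v} [AddCommGroup M] [Module R M] [Module.Projective R M]
    (θ : Module.End R M) (P : R[X]) (hP : Polynomial.aeval θ P = 0) (n : ℕ)
    (μ : PrimeSpectrum R → ℕ) (hμ : IsLocallyConstant μ) (hn : ∀ q, μ q ≤ n)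
    (hlow : ∀ (q : PrimeSpectrum R) (j : ℕ), j < μ q → P.coeff j ∈ q.asIdeal)
    (hat : ∀ q : PrimeSpectrum R, P.coeff (μ q) ∉ q.asIdeal)
    (E : Submodule R M) (hE : ∀ y, y ∈ E ↔ ∃ k : ℕ, (θ ^ k) y = 0) :
    Module.Projective R (M ⧸ E) ∧ ∀ y, ∃ z, θ z - y ∈ E := by
  obtain ⟨G, G', Q₀, ν, hPeq, hν, hGG', hunit⟩ := exists_factor P n μ hμ hn hlow hat
  obtain ⟨K, hK⟩ := hν
  have h1 : Polynomial.aeval θ ((G ^ K) * (Q₀ ^ K)) = 0 := by
    rw [← mul_pow]
    have h2 : G * Q₀ = P - ν := by rw [hPeq]; ring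
    rw [h2, map_pow, map_sub, hP, zero_sub, neg_pow, ← map_pow, hK, map_zero, mul_zero]
  refine fitting_of_factor θ (G ^ K) (G' ^ K) (Q₀ ^ K) (n * K) h1
    (by rw [← mul_pow, hGG', ← pow_mul]) ?_ E hE
  rw [Polynomial.coeff_zero_eq_eval_zero, Polynomial.eval_pow,
    ← Polynomial.coeff_zero_eq_eval_zero]
  exact hunit.pow K

end Groth.Agent.H80.Fitting
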