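import Groth.Agent.H80.CartanField
import Mathlib

/-!
# Rank and regular elements of Lie algebras under isomorphisms and towers of base changes
-/

set_option autoImplicit false
universe u v
open scoped TensorProduct

namespace Groth.Agent.H80.LieBC

open LieAlgebra Module

section iso

attribute [local instance 100] LieRing.ofAssociativeRing

variable {R : Type*} [CommRing R] [Nontrivial R] {V V' : Type*} [LieRing V] [LieAlgebra R V]
  [LieRing V'] [LieAlgebra R V'] [Module.Finite R V] [Module.Free R V] [Module.Finite R V']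
  [Module.Free R V']

theorem rank_eq_of_lieEquiv (e : V ≃ₗ⁅R⁆ V') : LieAlgebra.rank R V' = LieAlgebra.rank R V := by
  classical
  let b := Module.Free.chooseBasis R V
  let b' := b.map e.toLinearEquiv
  rw [LieAlgebra.rank_eq_natTrailingDegree R V b, LieAlgebra.rank_eq_natTrailingDegree R V' b',
    LinearMap.polyCharpoly_eq_of_basis _ b' b', LinearMap.polyCharpoly_eq_of_basis _ b b]
  have key : LinearMap.toMvPolynomial b' b'.end (LieAlgebra.ad R V').toLinearMap =
      LinearMap.toMvPolynomial b b.end (LieAlgebra.ad R V).toLinearMap := by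
    funext ij
    simp only [LinearMap.toMvPolynomial]
    congr 1
    ext ij k
    have hM : LinearMap.toMatrix b' b' ((LieAlgebra.ad R V').toLinearMap (b' k)) =
        LinearMap.toMatrix b b ((LieAlgebra.ad R V).toLinearMap (b k)) := by
      ext i j
      rw [LinearMap.toMatrix_apply, LinearMap.toMatrix_apply]
      simp only [b', Module.Basis.map_apply, Module.Basis.map_repr, LieHom.coe_toLinearMap,
        LieAlgebra.ad_apply, LinearEquiv.trans_apply]
      have h1 : ⁅e.toLinearEquiv (b k), e.toLinearEquiv (b j)⁆ = e.toLinearEquiv ⁅b k, b j⁆ :=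
        (e.map_lie _ _).symm
      rw [h1, LinearEquiv.symm_apply_apply]
    rw [LinearMap.toMatrix_apply, LinearMap.toMatrix_apply, Module.Basis.end_repr_apply,
      Module.Basis.end_repr_apply, hM]
  rw [key]

theorem isRegular_lieEquiv_iff (e : V ≃ₗ⁅R⁆ V') (x : V) :
    LieAlgebra.IsRegular R (e x) ↔ LieAlgebra.IsRegular R x := by
  rw [isRegular_def, isRegular_def, rank_eq_of_lieEquiv e]
  have h : LieAlgebra.ad R V' (e x) = e.toLinearEquiv.conj (LieAlgebra.ad R V x) := by
    refine LinearMap.ext fun y => ?_
    rw [LinearEquiv.conj_apply_apply, LieAlgebra.ad_apply, LieAlgebra.ad_apply]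
    have h1 : e.toLinearEquiv ⁅x, e.toLinearEquiv.symm y⁆ =
        ⁅e x, e (e.toLinearEquiv.symm y)⁆ := e.map_lie _ _
    rw [h1]
    congr 1
    exact (e.toLinearEquiv.apply_symm_apply y).symm
  rw [h, LinearEquiv.charpoly_conj]

end iso

section cancel

variable (A : Type*) [CommRing A] (B : Type*) [CommRing B] [Algebra A B] (C : Type*) [CommRing C]
  [Algebra A C] [Algebra B C] [IsScalarTower A B C] (L : Type*) [LieRing L] [LieAlgebra A L]

theorem cancel_lie (x y : C ⊗[B] (B ⊗[A] L)) :
    TensorProduct.AlgebraTensorModule.cancelBaseChange A B C C L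
        ((LieAlgebra.ad C (C ⊗[B] (B ⊗[A] L)) x) y) =
      (LieAlgebra.ad C (C ⊗[A] L)
        (TensorProduct.AlgebraTensorModule.cancelBaseChange A B C C L x))
        (TensorProduct.AlgebraTensorModule.cancelBaseChange A B C C L y) := by
  induction x using TensorProduct.induction_on with
  | zero => simp
  | add x₁ x₂ h₁ h₂ =>
    rw [map_add, LinearMap.add_apply, map_add, h₁, h₂, map_add, map_add, LinearMap.add_apply]
  | tmul c t =>
    induction y using TensorProduct.induction_on with
    | zero => simp
    | add y₁ y₂ h₁ h₂ => rw [map_add, map_add, h₁, h₂, map_add, map_add]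
    | tmul c' t' =>
      induction t using TensorProduct.induction_on with
      | zero => simp
      | add t₁ t₂ h₁ h₂ =>
        rw [TensorProduct.tmul_add, map_add, LinearMap.add_apply, map_add, h₁, h₂, map_add,
          map_add, LinearMap.add_apply]
      | tmul b l =>
        induction t' using TensorProduct.induction_on with
        | zero => simp
        | add t₁ t₂ h₁ h₂ =>
          rw [TensorProduct.tmul_add, map_add, map_add, h₁, h₂, map_add, map_add]
        | tmul b' l' =>
          rw [LieAlgebra.ad_apply, LieAlgebra.ad_apply,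
            LieAlgebra.ExtendScalars.bracket_tmul, LieAlgebra.ExtendScalars.bracket_tmul,
            TensorProduct.AlgebraTensorModule.cancelBaseChange_tmul,
            TensorProduct.AlgebraTensorModule.cancelBaseChange_tmul,
            TensorProduct.AlgebraTensorModule.cancelBaseChange_tmul,
            LieAlgebra.ExtendScalars.bracket_tmul, smul_mul_smul_comm]

/-- `C ⊗[B] (B ⊗[A] L) ≃ C ⊗[A] L` as an isomorphism of Lie algebras over `C`. -/
noncomputable def cancelLie : C ⊗[B] (B ⊗[A] L) ≃ₗ⁅C⁆ C ⊗[A] L :=
  { TensorProduct.AlgebraTensorModule.cancelBaseChange A B C C L with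
    map_lie' := fun {x y} => cancel_lie A B C L x y }

theorem cancelLie_tmul (l : L) :
    cancelLie A B C L ((1 : C) ⊗ₜ[B] ((1 : B) ⊗ₜ[A] l)) = (1 : C) ⊗ₜ[A] l := by
  show TensorProduct.AlgebraTensorModule.cancelBaseChange A B C C L _ = _
  rw [TensorProduct.AlgebraTensorModule.cancelBaseChange_tmul, one_smul]

end cancel

section tower

variable {A : Type u} [CommRing A] {L : Type u} [LieRing L] [LieAlgebra A L] [Module.Finite A L]

/-- the kernel of `A → K'` as a point of the spectrum -/
noncomputable def kerPt (K' : Type*) [Field K'] [Algebra A K'] : PrimeSpectrum A :=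
  ⟨RingHom.ker (algebraMap A K'), RingHom.ker_isPrime _⟩

theorem mem_kerPt (K' : Type*) [Field K'] [Algebra A K'] (x : A) :
    x ∈ (kerPt (A := A) K').asIdeal ↔ algebraMap A K' x = 0 := Iff.rfl

theorem field_tower (K' : Type*) [Field K'] [Algebra A K'] (a : L) :
    LieAlgebra.rank K' (K' ⊗[A] L) =
      LieAlgebra.rank (kerPt (A := A) K').asIdeal.ResidueField
        ((kerPt (A := A) K').asIdeal.ResidueField ⊗[A] L) ∧
    (LieAlgebra.IsRegular K' ((1 : K') ⊗ₜ[A] a) ↔
      LieAlgebra.IsRegular (kerPt (A := A) K').asIdeal.ResidueField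
        ((1 : (kerPt (A := A) K').asIdeal.ResidueField) ⊗ₜ[A] a)) := by
  set q := kerPt (A := A) K' with hq
  have hf₂ : q.asIdeal.primeCompl ≤ Submonoid.comap (algebraMap A K') (IsUnit.submonoid K') := by
    intro s hs
    show IsUnit (algebraMap A K' s)
    exact isUnit_iff_ne_zero.mpr hs
  let ι : q.asIdeal.ResidueField →+* K' :=
    Ideal.ResidueField.lift q.asIdeal (algebraMap A K') le_rfl hf₂
  letI : Algebra q.asIdeal.ResidueField K' := ι.toAlgebra
  haveI : IsScalarTower A q.asIdeal.ResidueField K' :=
    IsScalarTower.of_algebraMap_eq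
      (fun x => (Ideal.ResidueField.lift_algebraMap q.asIdeal (algebraMap A K') le_rfl hf₂ x).symm)
  constructor
  · rw [rank_eq_of_lieEquiv (cancelLie A q.asIdeal.ResidueField K' L),
      CartanField.rank_baseChange]
  · rw [← cancelLie_tmul A q.asIdeal.ResidueField K' L a,
      isRegular_lieEquiv_iff (cancelLie A q.asIdeal.ResidueField K' L),
      CartanField.isRegular_baseChange_iff]

variable (B : Type u) [CommRing B] [Algebra A B]

theorem prime_tower (q' : PrimeSpectrum B) (a : L) :
    LieAlgebra.rank q'.asIdeal.ResidueField (q'.asIdeal.ResidueField ⊗[B] (B ⊗[A] L)) =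
      LieAlgebra.rank (kerPt (A := A) q'.asIdeal.ResidueField).asIdeal.ResidueField
        ((kerPt (A := A) q'.asIdeal.ResidueField).asIdeal.ResidueField ⊗[A] L) ∧
    (LieAlgebra.IsRegular q'.asIdeal.ResidueField
        ((1 : q'.asIdeal.ResidueField) ⊗ₜ[B] ((1 : B) ⊗ₜ[A] a)) ↔
      LieAlgebra.IsRegular (kerPt (A := A) q'.asIdeal.ResidueField).asIdeal.ResidueField
        ((1 : (kerPt (A := A) q'.asIdeal.ResidueField).asIdeal.ResidueField) ⊗ₜ[A] a)) := by
  obtain ⟨h1, h2⟩ := field_tower (A := A) (L := L) q'.asIdeal.ResidueField a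
  constructor
  · rw [← h1]
    exact (rank_eq_of_lieEquiv (cancelLie A B q'.asIdeal.ResidueField L)).symm
  · rw [← h2, ← cancelLie_tmul A B q'.asIdeal.ResidueField L a,
      isRegular_lieEquiv_iff (cancelLie A B q'.asIdeal.ResidueField L)]

theorem mem_kerPt_prime (q' : PrimeSpectrum B) (x : A) :
    x ∈ (kerPt (A := A) q'.asIdeal.ResidueField).asIdeal ↔ algebraMap A B x ∈ q'.asIdeal := by
  rw [mem_kerPt, IsScalarTower.algebraMap_apply A B q'.asIdeal.ResidueField,
    Ideal.algebraMap_residueField_eq_zero]

end tower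

end Groth.Agent.H80.LieBC
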