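import Groth.Agent.H80.CartanRel2
import Groth.Agent.H80.LieBC
import Groth.Agent.H80.Fitting
import Mathlib

/-!
# Locally constant nilpotent rank implies that quasi-regular sections are regular
-/

set_option autoImplicit false
universe u
open scoped TensorProduct
open SGA3t2b LieSubalgebra Polynomial

namespace Groth.Agent.H80.CartanC2

theorem charpoly_retract {K : Type*} [Field K] {V W : Type*} [AddCommGroup V] [Module K V]
    [FiniteDimensional K V] [AddCommGroup W] [Module K W] [FiniteDimensional K W]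
    (f : V →ₗ[K] V) (i : V →ₗ[K] W) (s : W →ₗ[K] V) (hsi : s ∘ₗ i = LinearMap.id) :
    (i ∘ₗ f ∘ₗ s).charpoly =
      X ^ (Module.finrank K W - Module.finrank K V) * f.charpoly := by
  classical
  have hinj : Function.Injective i := LinearMap.injective_of_comp_eq_id _ _ hsi
  have hle : Module.finrank K V ≤ Module.finrank K W :=
    LinearMap.finrank_le_finrank_of_injective hinj
  let bV := Module.finBasis K V
  let bW := Module.finBasis K W
  let Am : Matrix (Fin (Module.finrank K W)) (Fin (Module.finrank K V)) K :=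
    LinearMap.toMatrix bV bW i
  let Bm : Matrix (Fin (Module.finrank K V)) (Fin (Module.finrank K W)) K :=
    LinearMap.toMatrix bW bV (f ∘ₗ s)
  have hAB : Am * Bm = LinearMap.toMatrix bW bW (i ∘ₗ f ∘ₗ s) := by
    rw [LinearMap.toMatrix_comp bW bV bW]
  have hBA : Bm * Am = LinearMap.toMatrix bV bV f := by
    rw [← LinearMap.toMatrix_comp bV bW bV, LinearMap.comp_assoc, hsi, LinearMap.comp_id]
  have h := Matrix.charpoly_mul_comm' Am Bm
  rw [hAB, hBA, LinearMap.charpoly_toMatrix, LinearMap.charpoly_toMatrix, Fintype.card_fin,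
    Fintype.card_fin] at h
  have h2 : X ^ Module.finrank K V * (i ∘ₗ f ∘ₗ s).charpoly =
      X ^ Module.finrank K V * (X ^ (Module.finrank K W - Module.finrank K V) * f.charpoly) := by
    rw [h, ← mul_assoc, ← pow_add, Nat.add_sub_cancel' hle]
  exact mul_left_cancel₀ (pow_ne_zero _ X_ne_zero) h2

theorem aeval_retract {R : Type*} [CommRing R] {H F : Type*} [AddCommGroup H] [Module R H]
    [AddCommGroup F] [Module R F] (i : H →ₗ[R] F) (s : F →ₗ[R] H) (hsi : s ∘ₗ i = LinearMap.id)
    (φ : H →ₗ[R] H) (T : R[X]) (x : H) :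
    i (Polynomial.aeval φ T x) = Polynomial.aeval (i ∘ₗ φ ∘ₗ s) T (i x) := by
  rw [Polynomial.aeval_eq_sum_range, Polynomial.aeval_eq_sum_range, LinearMap.sum_apply,
    LinearMap.sum_apply, map_sum]
  refine Finset.sum_congr rfl fun k _ => ?_
  rw [LinearMap.smul_apply, LinearMap.smul_apply, map_smul,
    CartanAlg.retract_pow_apply i s hsi φ k x]

variable {A : Type u} [CommRing A] {L : Type u} [LieRing L] [LieAlgebra A L]
  [Module.Finite A L] [Module.Projective A L]

theorem isLocallyConstant_rank
    (hC0 : ∀ p : PrimeSpectrum A, ∃ f : A, f ∉ p.asIdeal ∧ ∀ q : PrimeSpectrum A, f ∉ q.asIdeal →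
        LieAlgebra.rank q.asIdeal.ResidueField (q.asIdeal.ResidueField ⊗[A] L) =
          LieAlgebra.rank p.asIdeal.ResidueField (p.asIdeal.ResidueField ⊗[A] L)) :
    IsLocallyConstant (fun q : PrimeSpectrum A =>
      LieAlgebra.rank q.asIdeal.ResidueField (q.asIdeal.ResidueField ⊗[A] L)) := by
  rw [IsLocallyConstant.iff_exists_open]
  intro p
  obtain ⟨f, hfp, hf⟩ := hC0 p
  exact ⟨PrimeSpectrum.basicOpen f, (PrimeSpectrum.basicOpen f).isOpen, hfp,
    fun q hq => hf q hq⟩

theorem main
    (hC0 : ∀ p : PrimeSpectrum A, ∃ f : A, f ∉ p.asIdeal ∧ ∀ q : PrimeSpectrum A, f ∉ q.asIdeal →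
        LieAlgebra.rank q.asIdeal.ResidueField (q.asIdeal.ResidueField ⊗[A] L) =
          LieAlgebra.rank p.asIdeal.ResidueField (p.asIdeal.ResidueField ⊗[A] L))
    (A' : Type u) [CommRing A'] [Algebra A A'] (a' : A' ⊗[A] L)
    (ha' : SGA3t2b.IsQuasiRegular A' (A' ⊗[A] L) a') :
    SGA3t2b.IsRegularRel A' (A' ⊗[A] L) a' := by
  classical
  obtain ⟨n, s, i, -, -, hsi⟩ := Module.Finite.exists_comp_eq_id_of_projective A' (A' ⊗[A] L)
  set θ : (A' ⊗[A] L) →ₗ[A'] (A' ⊗[A] L) := (LieAlgebra.ad A' (A' ⊗[A] L) a') with hθ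
  set T : (Fin n → A') →ₗ[A'] (Fin n → A') := i ∘ₗ θ ∘ₗ s with hT
  set P := T.charpoly with hP
  have hinj_i : Function.Injective i := LinearMap.injective_of_comp_eq_id _ _ hsi
  have hPθ : Polynomial.aeval θ P = 0 := by
    refine LinearMap.ext fun y => ?_
    apply hinj_i
    rw [aeval_retract i s hsi θ P y, ← hT, hP, LinearMap.aeval_self_charpoly]
    simp
  -- the locally constant function μ
  set r' : PrimeSpectrum A' → ℕ := fun q' =>
    LieAlgebra.rank q'.asIdeal.ResidueField (q'.asIdeal.ResidueField ⊗[A'] (A' ⊗[A] L)) with hr'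
  set d' : PrimeSpectrum A' → ℕ := fun q' =>
    Module.finrank q'.asIdeal.ResidueField (q'.asIdeal.ResidueField ⊗[A'] (A' ⊗[A] L)) with hd'
  have hr'lc : IsLocallyConstant r' := by
    have h1 := (isLocallyConstant_rank hC0).comp_continuous
      (PrimeSpectrum.continuous_comap (algebraMap A A'))
    have h2 : r' = (fun q : PrimeSpectrum A =>
        LieAlgebra.rank q.asIdeal.ResidueField (q.asIdeal.ResidueField ⊗[A] L)) ∘
        PrimeSpectrum.comap (algebraMap A A') := by
      funext q'
      have h3 := (Groth.Agent.H80.LieBC.prime_tower (A := A) A' q' (0 : L)).1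
      have h4 : Groth.Agent.H80.LieBC.kerPt (A := A) q'.asIdeal.ResidueField =
          PrimeSpectrum.comap (algebraMap A A') q' := by
        apply PrimeSpectrum.ext
        ext x
        rw [Groth.Agent.H80.LieBC.mem_kerPt_prime]
        rfl
      rw [h4] at h3
      exact h3
    rw [h2]
    exact h1
  have hd'lc : IsLocallyConstant d' := by
    have hfpres : Module.FinitePresentation A' (A' ⊗[A] L) :=
      Module.finitePresentation_of_projective A' _
    have h1 := Module.isLocallyConstant_rankAtStalk (R := A') (M := A' ⊗[A] L)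
    have h2 : d' = Module.rankAtStalk (R := A') (A' ⊗[A] L) := by
      funext q'
      exact (Module.rankAtStalk_eq q').symm
    rw [h2]
    exact h1
  set μ : PrimeSpectrum A' → ℕ := fun q' => r' q' + n - d' q' with hμ
  have hμlc : IsLocallyConstant μ := by
    have h1 := (hr'lc.prodMk hd'lc).comp (fun x : ℕ × ℕ => x.1 + n - x.2)
    exact h1
  have hrd : ∀ q', r' q' ≤ d' q' := fun q' => LieAlgebra.rank_le_finrank _ _
  -- the fibre of the characteristic polynomial
  have hfib : ∀ q' : PrimeSpectrum A', P.map (algebraMap A' q'.asIdeal.ResidueField) =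
      X ^ (n - d' q') * (LieAlgebra.ad q'.asIdeal.ResidueField
        (q'.asIdeal.ResidueField ⊗[A'] (A' ⊗[A] L))
        ((1 : q'.asIdeal.ResidueField) ⊗ₜ[A'] a')).charpoly := by
    intro q'
    have hnt : Nontrivial A' := q'.nontrivial
    have h1 : (LieAlgebra.ad q'.asIdeal.ResidueField (q'.asIdeal.ResidueField ⊗[A'] (A' ⊗[A] L))
        ((1 : q'.asIdeal.ResidueField) ⊗ₜ[A'] a')) = θ.baseChange q'.asIdeal.ResidueField :=
      LieModule.toEnd_baseChange _ _ _ _ _
    have hsi' : s.baseChange q'.asIdeal.ResidueField ∘ₗ i.baseChange q'.asIdeal.ResidueField =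
        LinearMap.id := by
      rw [← LinearMap.baseChange_comp, hsi, LinearMap.baseChange_id]
    have h2 := charpoly_retract (θ.baseChange q'.asIdeal.ResidueField)
      (i.baseChange q'.asIdeal.ResidueField) (s.baseChange q'.asIdeal.ResidueField) hsi'
    have h3 : i.baseChange q'.asIdeal.ResidueField ∘ₗ θ.baseChange q'.asIdeal.ResidueField ∘ₗ
        s.baseChange q'.asIdeal.ResidueField = T.baseChange q'.asIdeal.ResidueField := by
      rw [hT, LinearMap.baseChange_comp, LinearMap.baseChange_comp]
    have h4 : Module.finrank q'.asIdeal.ResidueField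
        (q'.asIdeal.ResidueField ⊗[A'] (Fin n → A')) = n := by
      rw [Module.finrank_baseChange, Module.finrank_fin_fun]
    rw [h3, LinearMap.charpoly_baseChange, h4] at h2
    rw [h1, hP]
    exact h2
  have hdn : ∀ q', d' q' ≤ n := by
    intro q'
    have hnt : Nontrivial A' := q'.nontrivial
    have hsi' : s.baseChange q'.asIdeal.ResidueField ∘ₗ i.baseChange q'.asIdeal.ResidueField =
        LinearMap.id := by
      rw [← LinearMap.baseChange_comp, hsi, LinearMap.baseChange_id]
    have h1 := LinearMap.finrank_le_finrank_of_injective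
      (LinearMap.injective_of_comp_eq_id _ _ hsi')
    have h4 : Module.finrank q'.asIdeal.ResidueField
        (q'.asIdeal.ResidueField ⊗[A'] (Fin n → A')) = n := by
      rw [Module.finrank_baseChange, Module.finrank_fin_fun]
    rw [h4] at h1
    exact h1
  have hlow : ∀ (q' : PrimeSpectrum A') (j : ℕ), j < μ q' → P.coeff j ∈ q'.asIdeal := by
    intro q' j hj
    rw [← Ideal.algebraMap_residueField_eq_zero, ← Polynomial.coeff_map, hfib,
      Polynomial.coeff_X_pow_mul']
    split_ifs with hle
    · apply Polynomial.coeff_eq_zero_of_lt_natTrailingDegree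
      rw [(LieAlgebra.isRegular_iff_natTrailingDegree_charpoly_eq_rank _ _).mp (ha' q')]
      have h1 := hrd q'
      have h2 := hdn q'
      simp only [hμ] at hj
      show j - (n - d' q') < r' q'
      omega
    · rfl
  have hat : ∀ q' : PrimeSpectrum A', P.coeff (μ q') ∉ q'.asIdeal := by
    intro q'
    rw [← Ideal.algebraMap_residueField_eq_zero, ← Polynomial.coeff_map, hfib,
      Polynomial.coeff_X_pow_mul']
    have h1 := hrd q'
    have h2 := hdn q'
    have h3 : n - d' q' ≤ μ q' := by simp only [hμ]; omega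
    have h4 : μ q' - (n - d' q') = r' q' := by simp only [hμ]; omega
    rw [if_pos h3, h4]
    exact (LieAlgebra.isRegular_def _ _).mp (ha' q')
  have hn : ∀ q', μ q' ≤ n := by
    intro q'
    have h1 := hrd q'
    have h2 := hdn q'
    simp only [hμ]
    omega
  obtain ⟨hproj, hsurj⟩ := Groth.Agent.H80.Fitting.fitting_main θ P hPθ n μ hμlc hn hlow hat
    (engel A' a').toSubmodule (fun y => mem_engel_iff A' a' y)
  refine ⟨ha', engel A' a', ?_, self_mem_engel A' a'⟩
  exact Groth.Agent.H80.CartanRel.isCartanRel_engel ha' hproj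
    (fun z hz => Groth.Agent.H80.CartanField.mem_engel_of_lie_mem a' z hz) hsurj

end Groth.Agent.H80.CartanC2
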