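import Groth.Agent.H80.CartanRel2
import Groth.Agent.H80.LieBC
import Groth.Agent.S8375
import Mathlib

/-!
# Relative Cartan subalgebras: a quasi-regular section over a finite product of localisations
-/

set_option autoImplicit false
universe u
open scoped TensorProduct
open SGA3t2b

namespace Groth.Agent.H80.CartanEtale

variable {A : Type u} [CommRing A] {L : Type u} [LieRing L] [LieAlgebra A L]
  [Module.Finite A L] [Module.Projective A L]

theorem exists_local_regular
    (hC0 : ∀ p : PrimeSpectrum A, ∃ f : A, f ∉ p.asIdeal ∧ ∀ q : PrimeSpectrum A, f ∉ q.asIdeal →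
        LieAlgebra.rank q.asIdeal.ResidueField (q.asIdeal.ResidueField ⊗[A] L) =
          LieAlgebra.rank p.asIdeal.ResidueField (p.asIdeal.ResidueField ⊗[A] L))
    (p : PrimeSpectrum A)
    (hp : ∃ x : p.asIdeal.ResidueField ⊗[A] L, LieAlgebra.IsRegular p.asIdeal.ResidueField x) :
    ∃ f : A, f ∉ p.asIdeal ∧ ∃ a : L, ∀ q : PrimeSpectrum A, f ∉ q.asIdeal →
      LieAlgebra.IsRegular q.asIdeal.ResidueField ((1 : q.asIdeal.ResidueField) ⊗ₜ[A] a) := by
  classical
  obtain ⟨x, hx⟩ := hp
  obtain ⟨s, hs, a, ha⟩ := Groth.Agent.H80.CartanRel.exists_smul_eq_tmul p x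
  have hne : algebraMap A p.asIdeal.ResidueField s ≠ 0 := by
    rw [Ne, Ideal.algebraMap_residueField_eq_zero]
    exact hs
  have hareg : LieAlgebra.IsRegular p.asIdeal.ResidueField
      ((1 : p.asIdeal.ResidueField) ⊗ₜ[A] a) := by
    rw [← ha, ← algebraMap_smul p.asIdeal.ResidueField s x]
    exact Groth.Agent.H80.CartanField.isRegular_smul hne hx
  have hopen := Groth.Agent.S8375.result hC0 a
  obtain ⟨_, ⟨f, rfl⟩, hpf, hf⟩ :=
    PrimeSpectrum.isTopologicalBasis_basic_opens.exists_subset_of_mem_open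
      (show p ∈ {q : PrimeSpectrum A | LieAlgebra.IsRegular q.asIdeal.ResidueField
        ((1 : q.asIdeal.ResidueField) ⊗ₜ[A] a)} from hareg) hopen
  exact ⟨f, hpf, a, fun q hq => hf hq⟩

section pi

variable {I : Type u} [Fintype I] [DecidableEq I] (f : I → A) (a : I → L)

/-- the glued section over the product of the localisations -/
noncomputable def glued : (∀ i : I, Localization.Away (f i)) ⊗[A] L :=
  ∑ i : I, (Pi.single i (1 : Localization.Away (f i)) : ∀ i : I, Localization.Away (f i)) ⊗ₜ[A] a i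

theorem single_mul_single (i j : I) (hij : i ≠ j) :
    (Pi.single i (1 : Localization.Away (f i)) : ∀ i : I, Localization.Away (f i)) *
      Pi.single j (1 : Localization.Away (f j)) = 0 := by
  funext k
  rw [Pi.mul_apply, Pi.zero_apply]
  by_cases hk : k = i
  · subst hk
    rw [Pi.single_eq_of_ne hij, mul_zero]
  · rw [Pi.single_eq_of_ne hk, zero_mul]

theorem single_mul_self (i : I) :
    (Pi.single i (1 : Localization.Away (f i)) : ∀ i : I, Localization.Away (f i)) *
      Pi.single i (1 : Localization.Away (f i)) = Pi.single i 1 := by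
  funext k
  rw [Pi.mul_apply]
  by_cases hk : k = i
  · subst hk
    rw [Pi.single_eq_same, mul_one]
  · rw [Pi.single_eq_of_ne hk, zero_mul]

theorem algebraMap_mul_single (i : I) :
    algebraMap A (∀ i : I, Localization.Away (f i)) (f i) *
      Pi.single i (IsLocalization.Away.invSelf (S := Localization.Away (f i)) (f i)) =
      Pi.single i 1 := by
  funext k
  rw [Pi.mul_apply, Pi.algebraMap_apply]
  by_cases hk : k = i
  · subst hk
    rw [Pi.single_eq_same, Pi.single_eq_same, IsLocalization.Away.mul_invSelf]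
  · rw [Pi.single_eq_of_ne hk, Pi.single_eq_of_ne hk, mul_zero]

theorem glued_quasiRegular
    (h : ∀ (i : I) (q : PrimeSpectrum A), f i ∉ q.asIdeal →
      LieAlgebra.IsRegular q.asIdeal.ResidueField ((1 : q.asIdeal.ResidueField) ⊗ₜ[A] a i)) :
    IsQuasiRegular (∀ i : I, Localization.Away (f i))
      ((∀ i : I, Localization.Away (f i)) ⊗[A] L) (glued f a) := by
  intro q'
  set e : I → q'.asIdeal.ResidueField := fun j =>
    algebraMap (∀ i : I, Localization.Away (f i)) q'.asIdeal.ResidueField (Pi.single j 1) with he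
  have hsum : ∑ j, e j = 1 := by
    simp only [he]
    rw [← map_sum, Finset.univ_sum_single]
    exact map_one _
  have horth : ∀ i j, i ≠ j → e i * e j = 0 := by
    intro i j hij
    simp only [he]
    rw [← map_mul, single_mul_single f i j hij, map_zero]
  have hidem : ∀ i, e i * e i = e i := by
    intro i
    simp only [he]
    rw [← map_mul, single_mul_self]
  obtain ⟨i, hi⟩ : ∃ i, e i ≠ 0 := by
    by_contra hcon
    push Not at hcon
    rw [Finset.sum_eq_zero (fun j _ => hcon j)] at hsum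
    exact zero_ne_one hsum
  have hi1 : e i = 1 := by
    have h1 : e i * (e i - 1) = 0 := by rw [mul_sub, hidem, mul_one, sub_self]
    rcases mul_eq_zero.mp h1 with h2 | h2
    · exact absurd h2 hi
    · exact sub_eq_zero.mp h2
  have hj0 : ∀ j, j ≠ i → e j = 0 := by
    intro j hj
    have h1 := horth i j (Ne.symm hj)
    rw [hi1, one_mul] at h1
    exact h1
  have hterm : ∀ j, (1 : q'.asIdeal.ResidueField) ⊗ₜ[∀ i : I, Localization.Away (f i)]
      ((Pi.single j (1 : Localization.Away (f j)) : ∀ i : I, Localization.Away (f i)) ⊗ₜ[A] a j) =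
      e j • ((1 : q'.asIdeal.ResidueField) ⊗ₜ[∀ i : I, Localization.Away (f i)]
        ((1 : ∀ i : I, Localization.Away (f i)) ⊗ₜ[A] a j)) := by
    intro j
    have h1 : (Pi.single j (1 : Localization.Away (f j)) : ∀ i : I, Localization.Away (f i)) ⊗ₜ[A]
        a j = (Pi.single j (1 : Localization.Away (f j)) : ∀ i : I, Localization.Away (f i)) •
        ((1 : ∀ i : I, Localization.Away (f i)) ⊗ₜ[A] a j) := by
      rw [TensorProduct.smul_tmul', smul_eq_mul, mul_one]
    rw [h1, TensorProduct.tmul_smul, ← algebraMap_smul q'.asIdeal.ResidueField]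
  have hglue : (1 : q'.asIdeal.ResidueField) ⊗ₜ[∀ i : I, Localization.Away (f i)] (glued f a) =
      (1 : q'.asIdeal.ResidueField) ⊗ₜ[∀ i : I, Localization.Away (f i)]
        ((1 : ∀ i : I, Localization.Away (f i)) ⊗ₜ[A] a i) := by
    rw [glued, TensorProduct.tmul_sum]
    rw [Finset.sum_eq_single i]
    · rw [hterm, hi1, one_smul]
    · intro j _ hj
      rw [hterm, hj0 j hj, zero_smul]
    · intro hni
      exact absurd (Finset.mem_univ i) hni
  rw [hglue, (Groth.Agent.H80.LieBC.prime_tower (∀ i : I, Localization.Away (f i)) q' (a i)).2]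
  apply h i
  rw [Groth.Agent.H80.LieBC.mem_kerPt_prime]
  intro hmem
  have h2 : (Pi.single i (1 : Localization.Away (f i)) : ∀ i : I, Localization.Away (f i)) ∈
      q'.asIdeal := by
    rw [← algebraMap_mul_single f i]
    exact Ideal.mul_mem_right _ _ hmem
  apply hi
  simp only [he]
  exact (Ideal.algebraMap_residueField_eq_zero).mpr h2

omit [DecidableEq I] in
theorem faithfullyFlat_pi (hcover : ∀ q : PrimeSpectrum A, ∃ i, f i ∉ q.asIdeal) :
    Module.FaithfullyFlat A (∀ i : I, Localization.Away (f i)) := by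
  apply Module.FaithfullyFlat.of_comap_surjective
  intro q
  obtain ⟨i, hi⟩ := hcover q
  have hrange := PrimeSpectrum.localization_away_comap_range (Localization.Away (f i)) (f i)
  have hq : q ∈ Set.range (PrimeSpectrum.comap (algebraMap A (Localization.Away (f i)))) := by
    rw [hrange]
    exact hi
  obtain ⟨q₁, hq₁⟩ := hq
  refine ⟨PrimeSpectrum.comap (Pi.evalRingHom (fun i : I => Localization.Away (f i)) i) q₁, ?_⟩
  rw [← hq₁]
  rfl

end pi

theorem main
    (hC2 : ((∀ p : PrimeSpectrum A, ∃ f : A, f ∉ p.asIdeal ∧ ∀ q : PrimeSpectrum A, f ∉ q.asIdeal →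
        LieAlgebra.rank q.asIdeal.ResidueField (q.asIdeal.ResidueField ⊗[A] L) =
          LieAlgebra.rank p.asIdeal.ResidueField (p.asIdeal.ResidueField ⊗[A] L)) ∧
      ∀ (A' : Type u) [CommRing A'] [Algebra A A'] (a' : A' ⊗[A] L),
        SGA3t2b.IsQuasiRegular A' (A' ⊗[A] L) a' → SGA3t2b.IsRegularRel A' (A' ⊗[A] L) a'))
    (hreg : ∀ p : PrimeSpectrum A, ∃ x : p.asIdeal.ResidueField ⊗[A] L,
      LieAlgebra.IsRegular p.asIdeal.ResidueField x) :
    ∃ (A' : Type u) (_ : CommRing A') (_ : Algebra A A'), Algebra.Etale A A' ∧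
      Module.FaithfullyFlat A A' ∧
        ∃ H : LieSubalgebra A' (A' ⊗[A] L), SGA3t2b.IsCartanRel H := by
  classical
  obtain ⟨hC0, hC2'⟩ := hC2
  set T : Set A := {g : A | ∃ a : L, ∀ q : PrimeSpectrum A, g ∉ q.asIdeal →
    LieAlgebra.IsRegular q.asIdeal.ResidueField ((1 : q.asIdeal.ResidueField) ⊗ₜ[A] a)} with hT
  have hspan : Ideal.span T = ⊤ := by
    by_contra hne
    obtain ⟨m, hm, hle⟩ := Ideal.exists_le_maximal _ hne
    obtain ⟨g, hg, a, ha⟩ := exists_local_regular hC0 ⟨m, hm.isPrime⟩ (hreg _)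
    exact hg (hle (Ideal.subset_span ⟨a, ha⟩))
  obtain ⟨s', hs'T, hs'⟩ := (Ideal.span_eq_top_iff_finite T).mp hspan
  let I : Type u := ↥s'
  let f : I → A := fun i => (i : A)
  have hex : ∀ i : I, ∃ a : L, ∀ q : PrimeSpectrum A, f i ∉ q.asIdeal →
      LieAlgebra.IsRegular q.asIdeal.ResidueField ((1 : q.asIdeal.ResidueField) ⊗ₜ[A] a) :=
    fun i => hs'T i.2
  choose a ha using hex
  have hcover : ∀ q : PrimeSpectrum A, ∃ i, f i ∉ q.asIdeal := by
    intro q
    by_contra hcon
    push Not at hcon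
    have hle : Ideal.span (s' : Set A) ≤ q.asIdeal := by
      rw [Ideal.span_le]
      intro g hg
      exact hcon ⟨g, hg⟩
    rw [hs'] at hle
    exact q.isPrime.ne_top (top_le_iff.mp hle)
  refine ⟨∀ i : I, Localization.Away (f i), inferInstance, inferInstance, inferInstance,
    faithfullyFlat_pi f hcover, ?_⟩
  obtain ⟨-, H, hH, -⟩ := hC2' (∀ i : I, Localization.Away (f i)) (glued f a)
    (glued_quasiRegular f a ha)
  exact ⟨H, hH⟩

end Groth.Agent.H80.CartanEtale
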