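import Mathlib

/-!
# Field-level lemmas on Engel subalgebras and regular elements

* `mem_engel_of_lie_mem`, `eq_engel_of_le_of_finrank`
* `rank_baseChange`, `isRegular_baseChange_iff`: the rank and regularity are invariant under
  extension of the base field.
* `engel_le_engel`: for `x` regular and `y ∈ engel x`, `engel x ≤ engel y` (over any field).
* `exists_isRegular_mem`: a nilpotent self-normalizing subalgebra of dimension the rank contains
  a regular element when the field is large.
-/

set_option autoImplicit false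
universe u v
open scoped TensorProduct

namespace Groth.Agent.H80.CartanField

open LieSubalgebra LieAlgebra Module

section ring

variable {R : Type*} [CommRing R] {L : Type*} [LieRing L] [LieAlgebra R L]

theorem mem_engel_of_lie_mem (x v : L) (h : ⁅x, v⁆ ∈ engel R x) : v ∈ engel R x := by
  rw [mem_engel_iff] at h ⊢
  obtain ⟨n, hn⟩ := h
  refine ⟨n + 1, ?_⟩
  rw [pow_succ, Module.End.mul_apply]
  exact hn

theorem lie_mem_engel (x v : L) (h : v ∈ engel R x) : ⁅x, v⁆ ∈ engel R x :=
  (engel R x).lie_mem (self_mem_engel R x) h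

variable (B : Type*) [CommRing B] [Algebra R B]

theorem ad_pow_baseChange (x y : L) (n : ℕ) :
    ((LieAlgebra.ad B (B ⊗[R] L) ((1 : B) ⊗ₜ[R] x)) ^ n) ((1 : B) ⊗ₜ[R] y) =
      (1 : B) ⊗ₜ[R] (((LieAlgebra.ad R L x) ^ n) y) := by
  induction n with
  | zero => simp
  | succ n ih =>
    rw [pow_succ', Module.End.mul_apply, ih, pow_succ', Module.End.mul_apply, LieAlgebra.ad_apply,
      LieAlgebra.ExtendScalars.bracket_tmul, mul_one, LieAlgebra.ad_apply]

theorem tmul_mem_engel {x y : L} (h : y ∈ engel R x) :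
    (1 : B) ⊗ₜ[R] y ∈ engel B ((1 : B) ⊗ₜ[R] x) := by
  rw [mem_engel_iff] at h ⊢
  obtain ⟨n, hn⟩ := h
  exact ⟨n, by rw [ad_pow_baseChange, hn, TensorProduct.tmul_zero]⟩

theorem baseChange_engel_le (x : L) :
    (engel R x).toSubmodule.baseChange B ≤ (engel B ((1 : B) ⊗ₜ[R] x)).toSubmodule := by
  rw [Submodule.baseChange_eq_span, Submodule.span_le]
  rintro _ ⟨y, hy, rfl⟩
  exact tmul_mem_engel B hy

end ring

theorem natTrailingDegree_map_of_injective {R S : Type*} [Semiring R] [Semiring S] (f : R →+* S)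
    (hf : Function.Injective f) (p : Polynomial R) :
    (p.map f).natTrailingDegree = p.natTrailingDegree := by
  unfold Polynomial.natTrailingDegree Polynomial.trailingDegree
  rw [Polynomial.support_map_of_injective _ hf]

variable {K : Type u} [Field K] {V : Type v} [LieRing V] [LieAlgebra K V] [Module.Finite K V]

theorem eq_engel_of_le_of_finrank {x : V} (hx : IsRegular K x) (W : Submodule K V)
    (hW : W ≤ (engel K x).toSubmodule) (hr : finrank K W = rank K V) :
    W = (engel K x).toSubmodule := by
  apply Submodule.eq_of_le_of_finrank_eq hW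
  rw [hr]
  exact ((isRegular_iff_finrank_engel_eq_rank K x).mp hx).symm

theorem isRegular_smul {x : V} {c : K} (hc : c ≠ 0) (hx : IsRegular K x) :
    IsRegular K (c • x) := by
  rw [isRegular_iff_finrank_engel_eq_rank] at hx ⊢
  have h : engel K (c • x) = engel K x := by
    ext y
    rw [mem_engel_iff, mem_engel_iff]
    constructor
    · rintro ⟨n, hn⟩
      refine ⟨n, ?_⟩
      rw [map_smul, smul_pow, LinearMap.smul_apply] at hn
      exact (smul_eq_zero.mp hn).resolve_left (pow_ne_zero _ hc)
    · rintro ⟨n, hn⟩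
      refine ⟨n, ?_⟩
      rw [map_smul, smul_pow, LinearMap.smul_apply, hn, smul_zero]
  rw [h, hx]

section baseChange

attribute [local instance 100] LieRing.ofAssociativeRing

variable (K' : Type*) [Field K'] [Algebra K K']

theorem ad_baseChange_eq :
    (LieAlgebra.ad K' (K' ⊗[K] V)).toLinearMap =
      LinearMap.tensorProduct K K' V V ∘ₗ (LieAlgebra.ad K V).toLinearMap.baseChange K' := by
  refine TensorProduct.AlgebraTensorModule.ext fun a v => ?_
  refine TensorProduct.AlgebraTensorModule.ext fun b w => ?_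
  simp [LinearMap.tensorProduct, TensorProduct.smul_tmul']

theorem rank_baseChange : LieAlgebra.rank K' (K' ⊗[K] V) = LieAlgebra.rank K V := by
  classical
  let b := Module.Free.chooseBasis K V
  rw [LieAlgebra.rank_eq_natTrailingDegree K' (K' ⊗[K] V) (Algebra.TensorProduct.basis K' b),
    LieAlgebra.rank_eq_natTrailingDegree K V b, ad_baseChange_eq, LinearMap.polyCharpoly_baseChange]
  exact natTrailingDegree_map_of_injective _
    (MvPolynomial.map_injective _ (algebraMap K K').injective) _

theorem isRegular_baseChange_iff {x : V} :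
    IsRegular K' ((1 : K') ⊗ₜ[K] x) ↔ IsRegular K x := by
  rw [isRegular_def, isRegular_def, rank_baseChange]
  have h1 : LieAlgebra.ad K' (K' ⊗[K] V) ((1 : K') ⊗ₜ[K] x) =
      (LieAlgebra.ad K V x).baseChange K' := LieModule.toEnd_baseChange _ _ _ _ _
  rw [h1, LinearMap.charpoly_baseChange, Polynomial.coeff_map]
  exact (map_ne_zero_iff _ (algebraMap K K').injective)

end baseChange

open Cardinal in
theorem engel_le_engel_of_card (hc : (finrank K V : Cardinal) ≤ #K) {x : V} (hx : IsRegular K x)
    {y : V} (hy : y ∈ engel K x) : engel K x ≤ engel K y := by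
  set Ex : {engel K z | z ∈ engel K x} := ⟨engel K x, x, self_mem_engel _ _, rfl⟩
  suffices IsBot Ex from @this ⟨engel K y, y, hy, rfl⟩
  apply engel_isBot_of_isMin hc (engel K x) Ex le_rfl
  rintro ⟨_, y, hy, rfl⟩ hyx
  suffices finrank K (engel K x) ≤ finrank K (engel K y) by
    suffices engel K y = engel K x from this.ge
    apply LieSubalgebra.toSubmodule_injective
    exact Submodule.eq_of_le_of_finrank_le hyx this
  rw [(isRegular_iff_finrank_engel_eq_rank K x).mp hx]
  apply rank_le_finrank_engel

open Cardinal in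
theorem engel_le_engel {x : V} (hx : IsRegular K x) {y : V} (hy : y ∈ engel K x) :
    engel K x ≤ engel K y := by
  have hinf : Infinite (AlgebraicClosure K) := inferInstance
  have hc : (finrank (AlgebraicClosure K) (AlgebraicClosure K ⊗[K] V) : Cardinal) ≤
      #(AlgebraicClosure K) :=
    (natCast_le_aleph0).trans (Cardinal.infinite_iff.mp hinf)
  have hx' := (isRegular_baseChange_iff (AlgebraicClosure K)).mpr hx
  have hy' := tmul_mem_engel (AlgebraicClosure K) hy
  have hle := engel_le_engel_of_card hc hx' hy'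
  intro z hz
  have hz' := hle (tmul_mem_engel (AlgebraicClosure K) hz)
  rw [mem_engel_iff] at hz' ⊢
  obtain ⟨m, hm⟩ := hz'
  rw [ad_pow_baseChange] at hm
  refine ⟨m, ?_⟩
  have hinj := Module.Flat.tensorProduct_mk_injective K V (AlgebraicClosure K)
  apply hinj
  rw [map_zero]
  exact hm

open Cardinal in
theorem exists_isRegular_mem (hc : (finrank K V : Cardinal) ≤ #K) (W : LieSubalgebra K V)
    (hnil : ∀ x ∈ W, W ≤ engel K x) (hnorm : ∀ v, (∀ y ∈ W, ⁅v, y⁆ ∈ W) → v ∈ W)
    (hr : finrank K W = rank K V) : ∃ x ∈ W, IsRegular K x := by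
  classical
  have hex : ∃ n, ∃ x ∈ W, finrank K (engel K x) = n := ⟨_, 0, W.zero_mem, rfl⟩
  obtain ⟨x₀, hx₀W, hx₀⟩ := Nat.find_spec hex
  have hmin : ∀ y ∈ W, finrank K (engel K x₀) ≤ finrank K (engel K y) := fun y hy =>
    hx₀ ▸ Nat.find_min' hex ⟨y, hy, rfl⟩
  have hnilW : LieRing.IsNilpotent W := isNilpotent_of_forall_le_engel W hnil
  have hcartan : W.IsCartanSubalgebra :=
    { nilpotent := hnilW
      self_normalizing := le_antisymm
        (fun v hv => hnorm v ((mem_normalizer_iff _ v).mp hv)) (le_normalizer W) }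
  set Ex : {engel K z | z ∈ W} := ⟨engel K x₀, x₀, hx₀W, rfl⟩
  have hbot : IsBot Ex := by
    apply engel_isBot_of_isMin hc W Ex (hnil x₀ hx₀W)
    rintro ⟨_, y, hy, rfl⟩ hyx
    have h1 := hmin y hy
    suffices engel K y = engel K x₀ from this.ge
    apply LieSubalgebra.toSubmodule_injective
    exact Submodule.eq_of_le_of_finrank_le hyx h1
  have hle : engel K x₀ ≤ W := by
    rw [← zeroRootSubalgebra_eq_of_is_cartan K V W]
    intro v hv
    rw [mem_zeroRootSubalgebra]
    rintro ⟨y, hy⟩
    have h2 : engel K x₀ ≤ engel K y := @hbot ⟨engel K y, y, hy, rfl⟩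
    obtain ⟨k, hk⟩ := (mem_engel_iff K y v).mp (h2 hv)
    exact ⟨k, hk⟩
  have heq : engel K x₀ = W := le_antisymm hle (hnil x₀ hx₀W)
  refine ⟨x₀, hx₀W, ?_⟩
  rw [isRegular_iff_finrank_engel_eq_rank, heq, hr]

end Groth.Agent.H80.CartanField
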