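import Groth.Prelude.Def_W4sga3xiixivxvCartan
import Groth.Agent.H80.CartanAlg
import Groth.Agent.H80.CartanField
import Mathlib

/-!
# Relative Cartan subalgebras and Engel subalgebras of quasi-regular elements
-/

set_option autoImplicit false
universe u
open scoped TensorProduct
open SGA3t2b LieSubalgebra

namespace Groth.Agent.H80.CartanRel

variable {A : Type u} [CommRing A] {L : Type u} [LieRing L] [LieAlgebra A L]

section adQ

variable (a : L) (N : Submodule A L) (hN : ∀ y ∈ N, ⁅a, y⁆ ∈ N)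

/-- the endomorphism of `L ⧸ N` induced by `ad a` -/
noncomputable def adQ : (L ⧸ N) →ₗ[A] (L ⧸ N) :=
  N.mapQ N (LieAlgebra.ad A L a) (fun y hy => hN y hy)

theorem adQ_mk (x : L) :
    adQ a N hN (Submodule.Quotient.mk x) = Submodule.Quotient.mk ⁅a, x⁆ := rfl

theorem adQ_pow_mk (k : ℕ) (x : L) :
    ((adQ a N hN) ^ k) (Submodule.Quotient.mk x) =
      Submodule.Quotient.mk (((LieAlgebra.ad A L a) ^ k) x) := by
  induction k generalizing x with
  | zero => simp
  | succ k ih =>
    rw [pow_succ, Module.End.mul_apply, adQ_mk, ih, pow_succ, Module.End.mul_apply,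
      LieAlgebra.ad_apply]

variable (B : Type*) [CommRing B] [Algebra A B]

theorem mem_baseChange_iff_mkQ (v : B ⊗[A] L) :
    v ∈ N.baseChange B ↔ N.mkQ.baseChange B v = 0 := by
  have hex := lTensor_exact B (LinearMap.exact_subtype_mkQ N) N.mkQ_surjective
  have h1 := hex v
  rw [Submodule.baseChange, LinearMap.mem_range]
  constructor
  · rintro ⟨t, rfl⟩
    exact h1.mpr ⟨t, rfl⟩
  · intro h
    obtain ⟨t, ht⟩ := h1.mp h
    exact ⟨t, ht⟩

theorem baseChange_mkQ_surjective : Function.Surjective (N.mkQ.baseChange B) := by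
  have := LinearMap.lTensor_surjective B N.mkQ_surjective
  exact this

theorem adQ_baseChange_mkQ (v : B ⊗[A] L) :
    (adQ a N hN).baseChange B (N.mkQ.baseChange B v) =
      N.mkQ.baseChange B ⁅(1 : B) ⊗ₜ[A] a, v⁆ := by
  have h1 : (adQ a N hN) ∘ₗ N.mkQ = N.mkQ ∘ₗ (LieAlgebra.ad A L a : L →ₗ[A] L) := rfl
  have h2 := congrArg (LinearMap.baseChange B) h1
  rw [LinearMap.baseChange_comp, LinearMap.baseChange_comp] at h2
  have h3 := LinearMap.congr_fun h2 v
  rw [LinearMap.comp_apply, LinearMap.comp_apply] at h3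
  rw [h3]
  have h4 : LieAlgebra.ad B (B ⊗[A] L) ((1 : B) ⊗ₜ[A] a) =
      (LieAlgebra.ad A L a).baseChange B := LieModule.toEnd_baseChange _ _ _ _ _
  rw [← h4, LieAlgebra.ad_apply]

theorem adQ_baseChange_pow_mkQ (k : ℕ) (v : B ⊗[A] L) :
    (((adQ a N hN).baseChange B) ^ k) (N.mkQ.baseChange B v) =
      N.mkQ.baseChange B (((LieAlgebra.ad B (B ⊗[A] L) ((1 : B) ⊗ₜ[A] a)) ^ k) v) := by
  induction k generalizing v with
  | zero => simp
  | succ k ih =>
    rw [pow_succ, Module.End.mul_apply, adQ_baseChange_mkQ, ih, pow_succ, Module.End.mul_apply,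
      LieAlgebra.ad_apply]

theorem adQ_baseChange_injective
    (h : N.baseChange B = (engel B ((1 : B) ⊗ₜ[A] a)).toSubmodule) :
    Function.Injective ((adQ a N hN).baseChange B) := by
  rw [injective_iff_map_eq_zero]
  intro t ht
  obtain ⟨v, rfl⟩ := baseChange_mkQ_surjective N B t
  rw [adQ_baseChange_mkQ, ← mem_baseChange_iff_mkQ, h] at ht
  rw [← mem_baseChange_iff_mkQ, h]
  exact CartanField.mem_engel_of_lie_mem _ _ ht

theorem engel_le_baseChange (h : Function.Injective ((adQ a N hN).baseChange B)) :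
    (engel B ((1 : B) ⊗ₜ[A] a)).toSubmodule ≤ N.baseChange B := by
  intro v hv
  obtain ⟨k, hk⟩ := (mem_engel_iff B _ v).mp hv
  rw [mem_baseChange_iff_mkQ]
  have h1 : (((adQ a N hN).baseChange B) ^ k) (N.mkQ.baseChange B v) = 0 := by
    rw [adQ_baseChange_pow_mkQ, hk, map_zero]
  have hinj : Function.Injective ⇑(((adQ a N hN).baseChange B) ^ k) := by
    rw [Module.End.coe_pow]
    exact h.iterate k
  exact hinj (by rw [h1, map_zero])

end adQ

section lieHom

variable (B : Type*) [CommRing B] [Algebra A B] (E : LieSubalgebra A L)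

/-- the map `B ⊗ E → B ⊗ L` as a Lie homomorphism -/
noncomputable def inclB : B ⊗[A] E →ₗ⁅A⁆ B ⊗[A] L :=
  LieAlgebra.ExtendScalars.map (AlgHom.id A B) E.incl

theorem inclB_apply (t : B ⊗[A] E) : inclB B E t = (E.toSubmodule.subtype.baseChange B) t := by
  induction t using TensorProduct.induction_on with
  | zero => simp
  | tmul b e => rfl
  | add x y hx hy => rw [map_add, map_add, hx, hy]

theorem inclB_mem (t : B ⊗[A] E) : inclB B E t ∈ E.toSubmodule.baseChange B := by
  rw [inclB_apply]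
  exact LinearMap.mem_range_self _ t

theorem exists_inclB_eq {v : B ⊗[A] L} (hv : v ∈ E.toSubmodule.baseChange B) :
    ∃ t, inclB B E t = v := by
  obtain ⟨t, ht⟩ := hv
  exact ⟨t, by rw [inclB_apply, ht]⟩

theorem inclB_ad_pow (t s : B ⊗[A] E) (k : ℕ) :
    inclB B E (((LieAlgebra.ad B (B ⊗[A] E) t) ^ k) s) =
      ((LieAlgebra.ad B (B ⊗[A] L) (inclB B E t)) ^ k) (inclB B E s) := by
  induction k generalizing s with
  | zero => simp
  | succ k ih =>
    rw [pow_succ, Module.End.mul_apply, ih, LieAlgebra.ad_apply, LieHom.map_lie, pow_succ,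
      Module.End.mul_apply, LieAlgebra.ad_apply]

theorem inclB_injective [Module.Projective A (L ⧸ E.toSubmodule)] :
    Function.Injective (inclB B E) := by
  obtain ⟨r, hr⟩ := CartanAlg.exists_retraction E.toSubmodule
  have h1 : (r.baseChange B) ∘ₗ (E.toSubmodule.subtype.baseChange B) = LinearMap.id := by
    rw [← LinearMap.baseChange_comp, hr, LinearMap.baseChange_id]
  intro s t hst
  rw [inclB_apply, inclB_apply] at hst
  exact LinearMap.injective_of_comp_eq_id _ _ h1 hst

/-- the fibre of a Lie subalgebra as a Lie subalgebra -/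
noncomputable def fibreSubalgebra : LieSubalgebra B (B ⊗[A] L) :=
  { E.toSubmodule.baseChange B with
    lie_mem' := by
      intro x y hx hy
      obtain ⟨t, rfl⟩ := exists_inclB_eq B E hx
      obtain ⟨s, rfl⟩ := exists_inclB_eq B E hy
      rw [← LieHom.map_lie]
      exact inclB_mem B E _ }

theorem fibreSubalgebra_toSubmodule :
    (fibreSubalgebra B E).toSubmodule = E.toSubmodule.baseChange B := rfl

theorem mem_fibreSubalgebra (v : B ⊗[A] L) :
    v ∈ fibreSubalgebra B E ↔ v ∈ E.toSubmodule.baseChange B := Iff.rfl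

end lieHom

variable [Module.Finite A L] [Module.Projective A L]

theorem finite_projective_of_quotient (N : Submodule A L) [Module.Projective A (L ⧸ N)] :
    Module.Finite A N ∧ Module.Projective A N := by
  obtain ⟨r, hr⟩ := CartanAlg.exists_retraction N
  have hsurj : Function.Surjective r := LinearMap.surjective_of_comp_eq_id _ _ hr
  exact ⟨Module.Finite.of_surjective r hsurj, Module.Projective.of_split N.subtype r hr⟩

theorem le_engel_of_isCartanRel (H : LieSubalgebra A L) (hH : IsCartanRel H) {a : L}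
    (haH : a ∈ H) : H ≤ engel A a := by
  have : Module.Projective A (L ⧸ H.toSubmodule) := hH.1
  obtain ⟨hfin, hproj⟩ := finite_projective_of_quotient H.toSubmodule
  have : Module.Finite A H := hfin
  have : Module.Projective A H := hproj
  have hnil : IsNilpotent (LieAlgebra.ad A H ⟨a, haH⟩ : H →ₗ[A] H) := by
    apply CartanAlg.isNilpotent_of_fibres
    intro q
    have := (hH.2 q).1
    have h1 := LieModule.isNilpotent_toEnd_of_isNilpotent q.asIdeal.ResidueField
      (q.asIdeal.ResidueField ⊗[A] H) (q.asIdeal.ResidueField ⊗[A] H)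
      ((1 : q.asIdeal.ResidueField) ⊗ₜ[A] (⟨a, haH⟩ : H))
    rwa [LieModule.toEnd_baseChange] at h1
  obtain ⟨n, hn⟩ := hnil
  intro h hh
  rw [mem_engel_iff]
  refine ⟨n, ?_⟩
  have h2 := LieSubalgebra.coe_ad_pow A L H ⟨a, haH⟩ ⟨h, hh⟩ n
  rw [hn] at h2
  simpa using h2.symm

theorem fibre_eq_engel (H : LieSubalgebra A L) (hH : IsCartanRel H) {a : L} (haH : a ∈ H)
    (q : PrimeSpectrum A)
    (hq : LieAlgebra.IsRegular q.asIdeal.ResidueField ((1 : q.asIdeal.ResidueField) ⊗ₜ[A] a)) :
    H.toSubmodule.baseChange q.asIdeal.ResidueField =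
      (engel q.asIdeal.ResidueField ((1 : q.asIdeal.ResidueField) ⊗ₜ[A] a)).toSubmodule := by
  apply CartanField.eq_engel_of_le_of_finrank hq
  · exact (Submodule.baseChange_mono _
      (show H.toSubmodule ≤ (engel A a).toSubmodule from
        le_engel_of_isCartanRel H hH haH)).trans
      (CartanField.baseChange_engel_le q.asIdeal.ResidueField a)
  · exact (hH.2 q).2.2

theorem part1 {a : L} (ha : IsQuasiRegular A L a) (H : LieSubalgebra A L) (hH : IsCartanRel H)
    (haH : a ∈ H) :
    H = engel A a ∧ (∀ z, ⁅a, z⁆ ∈ H → z ∈ H) ∧ (∀ y, ∃ z, ⁅a, z⁆ - y ∈ H) := by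
  have : Module.Projective A (L ⧸ H.toSubmodule) := hH.1
  have hN : ∀ y ∈ H.toSubmodule, ⁅a, y⁆ ∈ H.toSubmodule := fun y hy => H.lie_mem haH hy
  obtain ⟨δ, hδ1, hδ2, hδ3⟩ := CartanAlg.exists_det (adQ a H.toSubmodule hN)
  have hunit : IsUnit δ := by
    by_contra hnu
    obtain ⟨I, hI, hmem⟩ := exists_max_ideal_of_mem_nonunits hnu
    exact hδ1 ⟨I, hI.isPrime⟩ (adQ_baseChange_injective a _ hN _
      (fibre_eq_engel H hH haH _ (ha _))) hmem
  obtain ⟨ε, hε⟩ := hunit.exists_left_inv
  have hinj : ∀ (k : ℕ) (x : L ⧸ H.toSubmodule), ((adQ a _ hN) ^ k) x = 0 → x = 0 := by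
    intro k x hx
    have h1 := hδ2 k x hx
    have h2 : (ε ^ k * δ ^ k) • x = 0 := by rw [mul_smul, h1, smul_zero]
    rwa [← mul_pow, hε, one_pow, one_smul] at h2
  refine ⟨le_antisymm (le_engel_of_isCartanRel H hH haH) ?_, ?_, ?_⟩
  · intro y hy
    obtain ⟨k, hk⟩ := (mem_engel_iff A a y).mp hy
    have h1 : ((adQ a _ hN) ^ k) (Submodule.Quotient.mk y) = 0 := by
      rw [adQ_pow_mk, hk, Submodule.Quotient.mk_zero]
    exact (Submodule.Quotient.mk_eq_zero _).mp (hinj k _ h1)
  · intro z hz
    have h1 : ((adQ a _ hN) ^ 1) (Submodule.Quotient.mk z) = 0 := by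
      rw [pow_one, adQ_mk]
      exact (Submodule.Quotient.mk_eq_zero _).mpr hz
    exact (Submodule.Quotient.mk_eq_zero _).mp (hinj 1 _ h1)
  · intro y
    obtain ⟨t, ht⟩ := hδ3 (ε • Submodule.Quotient.mk y)
    obtain ⟨z, rfl⟩ := Submodule.Quotient.mk_surjective _ t
    refine ⟨z, ?_⟩
    rw [adQ_mk, smul_smul, mul_comm, hε, one_smul] at ht
    exact (Submodule.Quotient.mk_eq_zero H.toSubmodule).mp
      (by rw [Submodule.Quotient.mk_sub, ht, sub_self])

theorem isCartanRel_engel {a : L} (ha : IsQuasiRegular A L a)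
    (hP : Module.Projective A (L ⧸ (engel A a).toSubmodule))
    (hinj : ∀ z : L, ⁅a, z⁆ ∈ engel A a → z ∈ engel A a)
    (hsurj : ∀ y : L, ∃ z : L, ⁅a, z⁆ - y ∈ engel A a) : IsCartanRel (engel A a) := by
  have hN : ∀ y ∈ (engel A a).toSubmodule, ⁅a, y⁆ ∈ (engel A a).toSubmodule :=
    fun y hy => CartanField.lie_mem_engel a y hy
  set ψ := adQ a (engel A a).toSubmodule hN with hψ
  have hψinj : Function.Injective ψ := by
    rw [injective_iff_map_eq_zero]
    intro t ht
    obtain ⟨z, rfl⟩ := Submodule.Quotient.mk_surjective _ t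
    rw [hψ, adQ_mk, Submodule.Quotient.mk_eq_zero] at ht
    exact (Submodule.Quotient.mk_eq_zero _).mpr (hinj z ht)
  have hψsurj : Function.Surjective ψ := by
    intro t
    obtain ⟨y, rfl⟩ := Submodule.Quotient.mk_surjective _ t
    obtain ⟨z, hz⟩ := hsurj y
    refine ⟨Submodule.Quotient.mk z, ?_⟩
    rw [hψ, adQ_mk]
    have h1 := (Submodule.Quotient.mk_eq_zero (engel A a).toSubmodule).mpr hz
    rwa [Submodule.Quotient.mk_sub, sub_eq_zero] at h1
  let e := LinearEquiv.ofBijective ψ ⟨hψinj, hψsurj⟩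
  have : Module.Projective A (L ⧸ (engel A a).toSubmodule) := hP
  obtain ⟨hfin, hproj⟩ := finite_projective_of_quotient (engel A a).toSubmodule
  have : Module.Finite A (engel A a) := hfin
  refine ⟨hP, fun q => ?_⟩
  have hψκ : Function.Injective (ψ.baseChange q.asIdeal.ResidueField) := by
    have h1 : (e.symm.toLinearMap.baseChange q.asIdeal.ResidueField) ∘ₗ
        (ψ.baseChange q.asIdeal.ResidueField) = LinearMap.id := by
      rw [← LinearMap.baseChange_comp]
      have h2 : e.symm.toLinearMap ∘ₗ ψ = LinearMap.id := by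
        refine LinearMap.ext fun x => ?_
        exact e.symm_apply_apply x
      rw [h2, LinearMap.baseChange_id]
    exact LinearMap.injective_of_comp_eq_id _ _ h1
  have hW : (engel A a).toSubmodule.baseChange q.asIdeal.ResidueField =
      (engel q.asIdeal.ResidueField ((1 : q.asIdeal.ResidueField) ⊗ₜ[A] a)).toSubmodule :=
    le_antisymm (CartanField.baseChange_engel_le q.asIdeal.ResidueField a)
      (engel_le_baseChange a _ hN _ hψκ)
  have hreg := ha q
  refine ⟨?_, ?_, ?_⟩
  · rw [LieAlgebra.isNilpotent_iff_forall (R := q.asIdeal.ResidueField)]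
    intro t
    refine ((LinearMap.charpoly_nilpotent_tfae _).out 0 2).mpr ?_
    intro s
    have hmem : ∀ t', inclB q.asIdeal.ResidueField (engel A a) t' ∈
        engel q.asIdeal.ResidueField ((1 : q.asIdeal.ResidueField) ⊗ₜ[A] a) := by
      intro t'
      have := inclB_mem q.asIdeal.ResidueField (engel A a) t'
      rw [hW] at this
      exact this
    have hle := CartanField.engel_le_engel hreg (hmem t)
    obtain ⟨k, hk⟩ := (mem_engel_iff _ _ _).mp (hle (hmem s))
    refine ⟨k, ?_⟩
    apply inclB_injective q.asIdeal.ResidueField (engel A a)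
    rw [inclB_ad_pow, hk, map_zero]
  · intro v hv
    show v ∈ (engel A a).toSubmodule.baseChange q.asIdeal.ResidueField
    rw [hW]
    have h1 : ((1 : q.asIdeal.ResidueField) ⊗ₜ[A] a) ∈ fibreSubmodule q (engel A a) :=
      Submodule.tmul_mem_baseChange_of_mem _ (self_mem_engel A a)
    have h2 := hv _ h1
    change ⁅v, _⁆ ∈ (engel A a).toSubmodule.baseChange q.asIdeal.ResidueField at h2
    rw [hW] at h2
    apply CartanField.mem_engel_of_lie_mem ((1 : q.asIdeal.ResidueField) ⊗ₜ[A] a) v
    rw [← lie_skew]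
    exact neg_mem h2
  · show Module.finrank q.asIdeal.ResidueField
      ((engel A a).toSubmodule.baseChange q.asIdeal.ResidueField) = _
    rw [hW]
    exact (LieAlgebra.isRegular_iff_finrank_engel_eq_rank q.asIdeal.ResidueField _).mp hreg

end Groth.Agent.H80.CartanRel
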