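import Groth.Agent.H80.CartanRel
import Mathlib

/-!
# Relative Cartan subalgebras: automorphisms, regular sections near a point
-/

set_option autoImplicit false
universe u
open scoped TensorProduct
open SGA3t2b LieSubalgebra

namespace Groth.Agent.H80.CartanRel

variable {A : Type u} [CommRing A] {L : Type u} [LieRing L] [LieAlgebra A L]

theorem lieHom_ad_pow {L' : Type*} [LieRing L'] [LieAlgebra A L'] (f : L →ₗ⁅A⁆ L') (a z : L)
    (n : ℕ) : f (((LieAlgebra.ad A L a) ^ n) z) = ((LieAlgebra.ad A L' (f a)) ^ n) (f z) := by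
  induction n generalizing z with
  | zero => simp
  | succ k ih =>
    rw [pow_succ, Module.End.mul_apply, ih, LieAlgebra.ad_apply, LieHom.map_lie, pow_succ,
      Module.End.mul_apply, LieAlgebra.ad_apply]

theorem map_engel (u : L ≃ₗ⁅A⁆ L) (a : L) :
    (engel A a).map u.toLieHom = engel A (u a) := by
  ext y
  rw [LieSubalgebra.mem_map]
  constructor
  · rintro ⟨z, hz, rfl⟩
    obtain ⟨n, hn⟩ := (mem_engel_iff A a z).mp hz
    rw [mem_engel_iff]
    refine ⟨n, ?_⟩
    have h1 := lieHom_ad_pow u.toLieHom a z n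
    rw [hn, map_zero] at h1
    exact h1.symm
  · intro hy
    obtain ⟨n, hn⟩ := (mem_engel_iff A (u a) y).mp hy
    refine ⟨u.symm y, ?_, ?_⟩
    · rw [mem_engel_iff]
      refine ⟨n, ?_⟩
      have h1 := lieHom_ad_pow u.symm.toLieHom (u a) y n
      rw [hn, map_zero] at h1
      have h2 : u.symm.toLieHom (u a) = a := u.symm_apply_apply a
      have h3 : u.symm.toLieHom y = u.symm y := rfl
      rw [h2, h3] at h1
      exact h1.symm
    · exact u.apply_symm_apply y

variable [Module.Finite A L] [Module.Projective A L]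

theorem isQuasiRegular_map (u : L ≃ₗ⁅A⁆ L) {a : L} (ha : IsQuasiRegular A L a) :
    IsQuasiRegular A L (u a) := by
  intro q
  have hq := ha q
  rw [LieAlgebra.isRegular_def] at hq ⊢
  have h1 : ∀ b : L, LieAlgebra.ad q.asIdeal.ResidueField (q.asIdeal.ResidueField ⊗[A] L)
      ((1 : q.asIdeal.ResidueField) ⊗ₜ[A] b) =
      (LieAlgebra.ad A L b).baseChange q.asIdeal.ResidueField :=
    fun b => LieModule.toEnd_baseChange _ _ _ _ _
  set uL : L →ₗ[A] L := (u : L →ₗ[A] L) with huL
  set uL' : L →ₗ[A] L := (u.symm : L →ₗ[A] L) with huL'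
  have h12 : uL ∘ₗ uL' = LinearMap.id := LinearMap.ext fun x => u.apply_symm_apply x
  have h21 : uL' ∘ₗ uL = LinearMap.id := LinearMap.ext fun x => u.symm_apply_apply x
  have h2 : (LieAlgebra.ad A L (u a) : L →ₗ[A] L) =
      uL ∘ₗ (LieAlgebra.ad A L a : L →ₗ[A] L) ∘ₗ uL' := by
    refine LinearMap.ext fun y => ?_
    show ⁅u a, y⁆ = u ⁅a, u.symm y⁆
    rw [LieEquiv.map_lie, u.apply_symm_apply]
  let e : (q.asIdeal.ResidueField ⊗[A] L) ≃ₗ[q.asIdeal.ResidueField]
      (q.asIdeal.ResidueField ⊗[A] L) :=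
    LinearEquiv.ofLinear (uL.baseChange q.asIdeal.ResidueField)
      (uL'.baseChange q.asIdeal.ResidueField)
      (by rw [← LinearMap.baseChange_comp, h12, LinearMap.baseChange_id])
      (by rw [← LinearMap.baseChange_comp, h21, LinearMap.baseChange_id])
  have h3 : (LieAlgebra.ad A L (u a)).baseChange q.asIdeal.ResidueField =
      e.conj ((LieAlgebra.ad A L a).baseChange q.asIdeal.ResidueField) := by
    rw [h2, LinearMap.baseChange_comp, LinearMap.baseChange_comp]
    rfl
  rw [h1, h3, LinearEquiv.charpoly_conj, ← h1]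
  exact hq

theorem map_eq_iff (H : LieSubalgebra A L) (hH : IsCartanRel H) (a : L) (haH : a ∈ H)
    (ha : IsQuasiRegular A L a) (u : L ≃ₗ⁅A⁆ L) : H.map u.toLieHom = H ↔ u a ∈ H := by
  constructor
  · intro h
    rw [← h, LieSubalgebra.mem_map]
    exact ⟨a, haH, rfl⟩
  · intro hu
    have h1 := (part1 ha H hH haH).1
    have h2 := (part1 (isQuasiRegular_map u ha) H hH hu).1
    exact (congrArg (fun K => K.map u.toLieHom) h1).trans ((map_engel u a).trans h2.symm)

/-! ### clearing denominators in a fibre -/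

theorem exists_smul_eq_tmul (p : PrimeSpectrum A) {M : Type*} [AddCommGroup M] [Module A M]
    (t : p.asIdeal.ResidueField ⊗[A] M) :
    ∃ s : A, s ∉ p.asIdeal ∧ ∃ m : M, s • t = (1 : p.asIdeal.ResidueField) ⊗ₜ[A] m := by
  induction t using TensorProduct.induction_on with
  | zero => exact ⟨1, p.asIdeal.one_notMem, 0, by simp⟩
  | tmul b m =>
    obtain ⟨x, y, hy, rfl⟩ := IsFractionRing.div_surjective (A := A ⧸ p.asIdeal) b
    obtain ⟨a', rfl⟩ := Ideal.Quotient.mk_surjective x
    obtain ⟨s, rfl⟩ := Ideal.Quotient.mk_surjective y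
    have hs : s ∉ p.asIdeal := by
      intro hs
      have h0 : Ideal.Quotient.mk p.asIdeal s = 0 := Ideal.Quotient.eq_zero_iff_mem.mpr hs
      rw [h0] at hy
      exact zero_notMem_nonZeroDivisors hy
    have hne : algebraMap A p.asIdeal.ResidueField s ≠ 0 := by
      rw [Ne, Ideal.algebraMap_residueField_eq_zero]
      exact hs
    refine ⟨s, hs, a' • m, ?_⟩
    rw [TensorProduct.smul_tmul', Ideal.algebraMap_quotient_residueField_mk,
      Ideal.algebraMap_quotient_residueField_mk, Algebra.smul_def, mul_div_cancel₀ _ hne,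
      ← TensorProduct.smul_tmul, Algebra.smul_def, mul_one]
  | add t₁ t₂ h₁ h₂ =>
    obtain ⟨s₁, hs₁, m₁, hm₁⟩ := h₁
    obtain ⟨s₂, hs₂, m₂, hm₂⟩ := h₂
    refine ⟨s₁ * s₂, fun h => (p.isPrime.mem_or_mem h).elim hs₁ hs₂, s₂ • m₁ + s₁ • m₂, ?_⟩
    rw [smul_add, mul_comm s₁ s₂, mul_smul, hm₁, mul_comm s₂ s₁, mul_smul, hm₂,
      TensorProduct.tmul_add, TensorProduct.tmul_smul, TensorProduct.tmul_smul]

open Cardinal in
theorem exists_regular_lift (H : LieSubalgebra A L) (hH : IsCartanRel H) (p : PrimeSpectrum A)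
    (hp : Infinite p.asIdeal.ResidueField) :
    ∃ a : L, a ∈ H ∧
      LieAlgebra.IsRegular p.asIdeal.ResidueField ((1 : p.asIdeal.ResidueField) ⊗ₜ[A] a) := by
  have hproj : Module.Projective A (L ⧸ H.toSubmodule) := hH.1
  obtain ⟨hnilp, hnorm, hrank⟩ := hH.2 p
  set W := fibreSubalgebra p.asIdeal.ResidueField H with hW
  have hc : (Module.finrank p.asIdeal.ResidueField (p.asIdeal.ResidueField ⊗[A] L) : Cardinal) ≤
      #(p.asIdeal.ResidueField) :=
    (natCast_le_aleph0).trans (Cardinal.infinite_iff.mp hp)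
  have hnil : ∀ x ∈ W, W ≤ engel p.asIdeal.ResidueField x := by
    intro x hx w hw
    obtain ⟨t, rfl⟩ := exists_inclB_eq p.asIdeal.ResidueField H hx
    obtain ⟨s, rfl⟩ := exists_inclB_eq p.asIdeal.ResidueField H hw
    obtain ⟨k, hk⟩ := LieAlgebra.nilpotent_ad_of_nilpotent_algebra p.asIdeal.ResidueField
      (p.asIdeal.ResidueField ⊗[A] H)
    rw [mem_engel_iff]
    exact ⟨k, by rw [← inclB_ad_pow, hk, LinearMap.zero_apply, map_zero]⟩
  obtain ⟨x₀, hx₀W, hx₀⟩ := CartanField.exists_isRegular_mem hc W hnil hnorm hrank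
  obtain ⟨t₀, rfl⟩ := exists_inclB_eq p.asIdeal.ResidueField H hx₀W
  obtain ⟨s, hs, m, hm⟩ := exists_smul_eq_tmul p t₀
  refine ⟨m, m.2, ?_⟩
  have hne : algebraMap A p.asIdeal.ResidueField s ≠ 0 := by
    rw [Ne, Ideal.algebraMap_residueField_eq_zero]
    exact hs
  have h1 : (1 : p.asIdeal.ResidueField) ⊗ₜ[A] (m : L) =
      algebraMap A p.asIdeal.ResidueField s • inclB p.asIdeal.ResidueField H t₀ := by
    rw [algebraMap_smul, ← map_smul, hm]
    rfl
  rw [h1]
  exact CartanField.isRegular_smul hne hx₀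

theorem finrank_fibre (H : LieSubalgebra A L) (hH : IsCartanRel H) (q : PrimeSpectrum A) :
    Module.finrank q.asIdeal.ResidueField (fibreSubmodule q H) =
      Module.rankAtStalk H.toSubmodule q := by
  have hproj : Module.Projective A (L ⧸ H.toSubmodule) := hH.1
  obtain ⟨hfin, hprojH⟩ := finite_projective_of_quotient H.toSubmodule
  obtain ⟨r, hr⟩ := CartanAlg.exists_retraction H.toSubmodule
  have h1 : (r.baseChange q.asIdeal.ResidueField) ∘ₗ
      (H.toSubmodule.subtype.baseChange q.asIdeal.ResidueField) = LinearMap.id := by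
    rw [← LinearMap.baseChange_comp, hr, LinearMap.baseChange_id]
  have hinj : Function.Injective (H.toSubmodule.subtype.baseChange q.asIdeal.ResidueField) :=
    LinearMap.injective_of_comp_eq_id _ _ h1
  rw [Module.rankAtStalk_eq q]
  exact (LinearEquiv.ofInjective _ hinj).finrank_eq.symm

theorem rank_locally_constant (H : LieSubalgebra A L) (hH : IsCartanRel H) :
    ∀ p : PrimeSpectrum A, ∃ f : A, f ∉ p.asIdeal ∧ ∀ q : PrimeSpectrum A, f ∉ q.asIdeal →
        LieAlgebra.rank q.asIdeal.ResidueField (q.asIdeal.ResidueField ⊗[A] L) =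
          LieAlgebra.rank p.asIdeal.ResidueField (p.asIdeal.ResidueField ⊗[A] L) := by
  intro p
  have hproj : Module.Projective A (L ⧸ H.toSubmodule) := hH.1
  obtain ⟨hfin, hprojH⟩ := finite_projective_of_quotient H.toSubmodule
  have hfpres : Module.FinitePresentation A H.toSubmodule :=
    Module.finitePresentation_of_projective A _
  have hlc := Module.isLocallyConstant_rankAtStalk (R := A) (M := H.toSubmodule)
  have hV : IsOpen {q : PrimeSpectrum A |
      Module.rankAtStalk H.toSubmodule q = Module.rankAtStalk H.toSubmodule p} :=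
    hlc.isOpen_fiber _
  obtain ⟨_, ⟨f, rfl⟩, hpf, hfV⟩ :=
    PrimeSpectrum.isTopologicalBasis_basic_opens.exists_subset_of_mem_open
      (show p ∈ {q : PrimeSpectrum A |
        Module.rankAtStalk H.toSubmodule q = Module.rankAtStalk H.toSubmodule p} from rfl) hV
  refine ⟨f, hpf, fun q hq => ?_⟩
  have h2 : Module.rankAtStalk H.toSubmodule q = Module.rankAtStalk H.toSubmodule p := hfV hq
  rw [← (hH.2 q).2.2, ← (hH.2 p).2.2, finrank_fibre H hH, finrank_fibre H hH, h2]

end Groth.Agent.H80.CartanRel
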