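import Groth.Agent.H80.ClBasic

set_option autoImplicit false
set_option linter.unusedSectionVars false

namespace Groth.Agent.H80.ClBC

open CliffordAlgebra TensorProduct Groth.Agent.H80.ClBasic

section Phi

variable {R : Type*} [CommRing R] {R' : Type*} [CommRing R'] [Algebra R R']
  {M : Type*} [AddCommGroup M] [Module R M]
  {N : Type*} [AddCommGroup N] [Module R' N] [Module R N] [IsScalarTower R R' N]
  (Q : QuadraticForm R M) (Q' : QuadraticForm R' N) (f : M →ₗ[R] N)
  (hf : ∀ m, Q' (f m) = algebraMap R R' (Q m))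

/-- The map of Clifford algebras over a ring homomorphism induced by a semilinear isometry. -/
noncomputable def Phi : CliffordAlgebra Q →ₐ[R] CliffordAlgebra Q' :=
  CliffordAlgebra.lift Q ⟨((ι Q').restrictScalars R) ∘ₗ f, fun m => by
    rw [LinearMap.comp_apply, LinearMap.restrictScalars_apply, ι_sq_scalar, hf,
      ← IsScalarTower.algebraMap_apply]⟩

theorem Phi_ι (m : M) : Phi Q Q' f hf (ι Q m) = ι Q' (f m) := by
  unfold Phi
  rw [CliffordAlgebra.lift_ι_apply]
  rfl

theorem Phi_even {x : CliffordAlgebra Q} (hx : x ∈ evenOdd Q 0) :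
    Phi Q Q' f hf x ∈ evenOdd Q' 0 := by
  induction x, hx using even_induction with
  | algebraMap r =>
    rw [AlgHom.commutes, IsScalarTower.algebraMap_apply R R' (CliffordAlgebra Q')]
    exact SetLike.algebraMap_mem_graded _ _
  | add x y _ _ ihx ihy =>
    rw [map_add]
    exact Submodule.add_mem _ ihx ihy
  | ι_mul_ι_mul m₁ m₂ x _ ih =>
    rw [map_mul, map_mul, Phi_ι, Phi_ι]
    have h1 := mul_mem_evenOdd Q' (ι_mem_evenOdd_one Q' (f m₁)) (ι_mem_evenOdd_one Q' (f m₂))
    have h2 := mul_mem_evenOdd Q' h1 ih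
    have h3 : (1 : ZMod 2) + 1 + 0 = 0 := by decide
    rwa [h3] at h2

theorem Phi_odd {x : CliffordAlgebra Q} (hx : x ∈ evenOdd Q 1) :
    Phi Q Q' f hf x ∈ evenOdd Q' 1 := by
  induction x, hx using odd_induction with
  | ι v =>
    rw [Phi_ι]
    exact ι_mem_evenOdd_one Q' _
  | add x y _ _ ihx ihy =>
    rw [map_add]
    exact Submodule.add_mem _ ihx ihy
  | ι_mul_ι_mul m₁ m₂ x _ ih =>
    rw [map_mul, map_mul, Phi_ι, Phi_ι]
    have h1 := mul_mem_evenOdd Q' (ι_mem_evenOdd_one Q' (f m₁)) (ι_mem_evenOdd_one Q' (f m₂))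
    have h2 := mul_mem_evenOdd Q' h1 ih
    have h3 : (1 : ZMod 2) + 1 + 1 = 1 := by decide
    rwa [h3] at h2

/-- The base-change comparison map. -/
noncomputable def Psi : R' ⊗[R] CliffordAlgebra Q →ₐ[R'] CliffordAlgebra Q' :=
  Algebra.TensorProduct.lift (Algebra.ofId R' (CliffordAlgebra Q')) (Phi Q Q' f hf)
    (fun r x => Algebra.commute_algebraMap_left r _)

theorem Psi_tmul (r : R') (x : CliffordAlgebra Q) :
    Psi Q Q' f hf (r ⊗ₜ[R] x) = r • Phi Q Q' f hf x := by
  unfold Psi
  refine (Algebra.TensorProduct.lift_tmul _ _ _ r x).trans ?_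
  rw [Algebra.ofId_apply, Algebra.smul_def]

theorem Psi_surjective (hspan : Submodule.span R' (Set.range f) = ⊤) :
    Function.Surjective (Psi Q Q' f hf) := by
  rw [← AlgHom.range_eq_top, eq_top_iff, ← adjoin_range_ι (Q := Q')]
  apply Algebra.adjoin_le
  rintro _ ⟨n, rfl⟩
  have hn : n ∈ Submodule.span R' (Set.range f) := by rw [hspan]; exact Submodule.mem_top
  induction hn using Submodule.span_induction with
  | mem y hy =>
    obtain ⟨m, rfl⟩ := hy
    refine ⟨(1 : R') ⊗ₜ[R] ι Q m, ?_⟩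
    show Psi Q Q' f hf _ = _
    rw [Psi_tmul, one_smul, Phi_ι]
  | zero => rw [map_zero]; exact Subalgebra.zero_mem _
  | add y z _ _ hy hz => rw [map_add]; exact Subalgebra.add_mem _ hy hz
  | smul r y _ hy => rw [map_smul]; exact Subalgebra.smul_mem _ hy r

end Phi

section Bij

variable {R : Type*} [CommRing R] {R' : Type*} [CommRing R'] [Algebra R R']
  {M : Type*} [AddCommGroup M] [Module R M]
  {N : Type*} [AddCommGroup N] [Module R' N] [Module R N] [IsScalarTower R R' N]
  (Q : QuadraticForm R M) (Q' : QuadraticForm R' N) (f : M →ₗ[R] N)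
  (hf : ∀ m, Q' (f m) = algebraMap R R' (Q m))
  {ι₀ : Type*} [Fintype ι₀] (b : Module.Basis ι₀ R M) (b' : Module.Basis ι₀ R' N)
  (hb : ∀ i, f (b i) = b' i)

include hb in
theorem span_range_eq_top : Submodule.span R' (Set.range f) = ⊤ := by
  rw [eq_top_iff, ← b'.span_eq]
  apply Submodule.span_mono
  rintro _ ⟨i, rfl⟩
  exact ⟨b i, hb i⟩

include hb in
theorem Psi_bijective : Function.Bijective (Psi Q Q' f hf) := by
  obtain ⟨bC, _⟩ := exists_basis_finset b Q
  obtain ⟨bC', _⟩ := exists_basis_finset b' Q'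
  exact bijective_of_surjective_of_bases (Algebra.TensorProduct.basis R' bC) bC' (Equiv.refl _)
    (Psi Q Q' f hf).toLinearMap (Psi_surjective Q Q' f hf (span_range_eq_top f b b' hb))

/-- The base change isomorphism for Clifford algebras of free modules. -/
noncomputable def PsiEquiv : R' ⊗[R] CliffordAlgebra Q ≃ₐ[R'] CliffordAlgebra Q' :=
  AlgEquiv.ofBijective (Psi Q Q' f hf) (Psi_bijective Q Q' f hf b b' hb)

theorem PsiEquiv_apply (y : R' ⊗[R] CliffordAlgebra Q) :
    PsiEquiv Q Q' f hf b b' hb y = Psi Q Q' f hf y := rfl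

include hb in
/-- Descent of scalars: if the image of `z` is a scalar then so is `z`
(when `R → R'` is injective). -/
theorem mem_range_algebraMap_of_Phi (hinj : Function.Injective (algebraMap R R'))
    (z : CliffordAlgebra Q)
    (hz : Phi Q Q' f hf z ∈ (algebraMap R' (CliffordAlgebra Q')).range) :
    z ∈ (algebraMap R (CliffordAlgebra Q)).range := by
  obtain ⟨bC, hbC⟩ := exists_basis_finset b Q
  obtain ⟨r', hr'⟩ := hz
  -- the transported basis
  obtain ⟨bT, hbT⟩ : ∃ bT : Module.Basis (Finset (Fin (Fintype.card ι₀))) R' (CliffordAlgebra Q'),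
      bT = (Algebra.TensorProduct.basis R' bC).map (PsiEquiv Q Q' f hf b b' hb).toLinearEquiv :=
    ⟨_, rfl⟩
  have h1 : ∀ S, bT.repr (Phi Q Q' f hf z) S = algebraMap R R' (bC.repr z S) := by
    intro S
    have h2 : Phi Q Q' f hf z = (PsiEquiv Q Q' f hf b b' hb).toLinearEquiv ((1 : R') ⊗ₜ[R] z) := by
      show _ = Psi Q Q' f hf _
      rw [Psi_tmul, one_smul]
    rw [h2, hbT, Module.Basis.map_repr, LinearEquiv.trans_apply, LinearEquiv.symm_apply_apply,
      Algebra.TensorProduct.basis_repr_tmul]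
    simp
  have h3 : bT ∅ = 1 := by
    rw [hbT, Module.Basis.map_apply, Algebra.TensorProduct.basis_apply, hbC]
    show Psi Q Q' f hf _ = 1
    rw [Psi_tmul, one_smul, map_one]
  have h4 : ∀ S, S ≠ ∅ → bC.repr z S = 0 := by
    intro S hS
    apply hinj
    rw [← h1, ← hr', map_zero, Algebra.algebraMap_eq_smul_one, ← h3, map_smul,
      Module.Basis.repr_self, Finsupp.smul_apply, Finsupp.single_apply, if_neg (Ne.symm hS),
      smul_zero]
  refine ⟨bC.repr z ∅, ?_⟩
  conv_rhs => rw [← bC.sum_repr z]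
  rw [Finset.sum_eq_single ∅]
  · rw [hbC, Algebra.algebraMap_eq_smul_one]
  · intro S _ hS
    rw [h4 S hS, zero_smul]
  · intro h
    exact absurd (Finset.mem_univ _) h

end Bij

end Groth.Agent.H80.ClBC
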