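import Mathlib

set_option autoImplicit false
set_option linter.unusedSectionVars false

namespace Groth.Agent.H80.ClBasic

open CliffordAlgebra

section Basis

variable {R : Type*} [CommRing R] {M : Type*} [AddCommGroup M] [Module R M]

theorem ext_proof (Q : QuadraticForm R M) (B : LinearMap.BilinForm R M)
    (hB : B.toQuadraticMap = Q) : B.toQuadraticMap = Q - (0 : QuadraticForm R M) := by
  rw [hB, sub_zero]

/-- The linear isomorphism from the exterior algebra given a bilinear lift of the quadratic form. -/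
noncomputable def extEquiv (Q : QuadraticForm R M) (B : LinearMap.BilinForm R M)
    (hB : B.toQuadraticMap = Q) : ExteriorAlgebra R M ≃ₗ[R] CliffordAlgebra Q :=
  changeFormEquiv (Q := (0 : QuadraticForm R M)) (Q' := Q) (B := B) (ext_proof Q B hB)

theorem extEquiv_ι (Q : QuadraticForm R M) (B : LinearMap.BilinForm R M)
    (hB : B.toQuadraticMap = Q) (m : M) :
    extEquiv Q B hB (ExteriorAlgebra.ι R m) = ι Q m :=
  changeForm_ι (ext_proof Q B hB) m

theorem extEquiv_symm_ι (Q : QuadraticForm R M) (B : LinearMap.BilinForm R M)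
    (hB : B.toQuadraticMap = Q) (m : M) :
    (extEquiv Q B hB).symm (ι Q m) = ExteriorAlgebra.ι R m := by
  rw [LinearEquiv.symm_apply_eq, extEquiv_ι]

theorem extEquiv_one (Q : QuadraticForm R M) (B : LinearMap.BilinForm R M)
    (hB : B.toQuadraticMap = Q) : extEquiv Q B hB 1 = 1 :=
  changeForm_one (ext_proof Q B hB)

/-- A basis of the Clifford algebra of a quadratic form on a free module. -/
noncomputable def cliffBasis {I : Type*} [LinearOrder I] (b : Module.Basis I R M)
    (Q : QuadraticForm R M) (B : LinearMap.BilinForm R M) (hB : B.toQuadraticMap = Q) :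
    Module.Basis (Finset I) R (CliffordAlgebra Q) :=
  b.ExteriorAlgebra.map (extEquiv Q B hB)

theorem extBasis_empty {I : Type*} [LinearOrder I] (b : Module.Basis I R M) :
    b.ExteriorAlgebra (∅ : Finset I) = 1 := by
  rw [ExteriorAlgebra.basis_apply_ofCard b (Finset.card_empty)]
  exact ExteriorAlgebra.ιMulti_zero_apply _

theorem cliffBasis_empty {I : Type*} [LinearOrder I] (b : Module.Basis I R M)
    (Q : QuadraticForm R M) (B : LinearMap.BilinForm R M) (hB : B.toQuadraticMap = Q) :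
    cliffBasis b Q B hB ∅ = 1 := by
  unfold cliffBasis
  rw [Module.Basis.map_apply, extBasis_empty, extEquiv_one]

/-- `ι` is injective onto a direct summand, for a quadratic form on a free module. -/
theorem ι_summand [Module.Free R M] (Q : QuadraticForm R M) :
    Function.Injective (ι Q) ∧
      ∃ W : Submodule R (CliffordAlgebra Q), IsCompl (LinearMap.range (ι Q)) W := by
  obtain ⟨B, hB⟩ := LinearMap.BilinMap.toQuadraticMap_surjective Q
  obtain ⟨r, hr⟩ : ∃ r : CliffordAlgebra Q →ₗ[R] M, ∀ m, r (ι Q m) = m := by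
    refine ⟨ExteriorAlgebra.ιInv ∘ₗ (extEquiv Q B hB).symm.toLinearMap, fun m => ?_⟩
    rw [LinearMap.comp_apply, LinearEquiv.coe_coe, extEquiv_symm_ι]
    exact ExteriorAlgebra.ι_leftInverse m
  refine ⟨Function.LeftInverse.injective hr, LinearMap.ker r, IsCompl.of_eq ?_ ?_⟩
  · rw [eq_bot_iff]
    rintro x ⟨⟨m, rfl⟩, hx⟩
    have hx' : r (ι Q m) = 0 := hx
    rw [hr] at hx'
    rw [hx', map_zero]
    exact Submodule.zero_mem _
  · rw [eq_top_iff]
    intro x _
    have h1 : x = ι Q (r x) + (x - ι Q (r x)) := by abel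
    rw [h1]
    refine Submodule.add_mem_sup ⟨r x, rfl⟩ ?_
    rw [LinearMap.mem_ker, map_sub, hr, sub_self]

/-- For a finite basis of `M`, the Clifford algebra has a basis indexed by finite subsets,
with the empty set giving `1`. -/
theorem exists_basis_finset {ι : Type*} [Fintype ι] (b : Module.Basis ι R M)
    (Q : QuadraticForm R M) :
    ∃ bC : Module.Basis (Finset (Fin (Fintype.card ι))) R (CliffordAlgebra Q), bC ∅ = 1 := by
  have hfree : Module.Free R M := Module.Free.of_basis b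
  obtain ⟨B, hB⟩ := LinearMap.BilinMap.toQuadraticMap_surjective Q
  exact ⟨cliffBasis (b.reindex (Fintype.equivFin ι)) Q B hB, cliffBasis_empty _ Q B hB⟩

/-- A surjective linear map between free modules with equivalent finite bases is bijective. -/
theorem bijective_of_surjective_of_bases {N₁ N₂ : Type*} [AddCommGroup N₁] [Module R N₁]
    [AddCommGroup N₂] [Module R N₂] {ι₁ ι₂ : Type*} [Finite ι₁] (b₁ : Module.Basis ι₁ R N₁)
    (b₂ : Module.Basis ι₂ R N₂) (e : ι₁ ≃ ι₂) (f : N₁ →ₗ[R] N₂) (hf : Function.Surjective f) :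
    Function.Bijective f := by
  have hfin : Module.Finite R N₁ := Module.Finite.of_basis b₁
  obtain ⟨θ, hθ⟩ : ∃ θ : N₂ ≃ₗ[R] N₁, θ = b₂.equiv b₁ e.symm := ⟨_, rfl⟩
  have hg : Function.Surjective (θ.toLinearMap ∘ₗ f) := by
    rw [LinearMap.coe_comp]
    exact θ.surjective.comp hf
  have hinj := OrzechProperty.injective_of_surjective_endomorphism (θ.toLinearMap ∘ₗ f) hg
  refine ⟨fun x y hxy => hinj ?_, hf⟩
  rw [LinearMap.comp_apply, LinearMap.comp_apply, hxy]

end Basis

section Grading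

variable {R : Type*} [CommRing R] {M : Type*} [AddCommGroup M] [Module R M]

/-- Decomposition of an element into even and odd parts. -/
theorem exists_even_odd (Q : QuadraticForm R M) (x : CliffordAlgebra Q) :
    ∃ x₀ ∈ evenOdd Q 0, ∃ x₁ ∈ evenOdd Q 1, x = x₀ + x₁ := by
  have h := (evenOdd_isCompl Q).sup_eq_top
  have hx : x ∈ evenOdd Q 0 ⊔ evenOdd Q 1 := by rw [h]; exact Submodule.mem_top
  obtain ⟨x₀, h₀, x₁, h₁, rfl⟩ := Submodule.mem_sup.mp hx
  exact ⟨x₀, h₀, x₁, h₁, rfl⟩

theorem even_inter_odd (Q : QuadraticForm R M) {x : CliffordAlgebra Q} (h₀ : x ∈ evenOdd Q 0)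
    (h₁ : x ∈ evenOdd Q 1) : x = 0 := by
  have h := (evenOdd_isCompl Q).inf_eq_bot
  have hx : x ∈ evenOdd Q 0 ⊓ evenOdd Q 1 := ⟨h₀, h₁⟩
  rw [h] at hx
  exact hx

/-- Uniqueness of the even/odd decomposition. -/
theorem even_odd_unique (Q : QuadraticForm R M) {a₀ a₁ b₀ b₁ : CliffordAlgebra Q}
    (ha₀ : a₀ ∈ evenOdd Q 0) (ha₁ : a₁ ∈ evenOdd Q 1) (hb₀ : b₀ ∈ evenOdd Q 0)
    (hb₁ : b₁ ∈ evenOdd Q 1) (h : a₀ + a₁ = b₀ + b₁) : a₀ = b₀ ∧ a₁ = b₁ := by
  have h1 : a₀ - b₀ = b₁ - a₁ := by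
    rw [sub_eq_sub_iff_add_eq_add, h, add_comm]
  have h2 : a₀ - b₀ = 0 :=
    even_inter_odd Q (Submodule.sub_mem _ ha₀ hb₀) (h1 ▸ Submodule.sub_mem _ hb₁ ha₁)
  have h3 : b₁ - a₁ = 0 := by rw [← h1, h2]
  exact ⟨sub_eq_zero.mp h2, (sub_eq_zero.mp h3).symm⟩

theorem mul_mem_evenOdd (Q : QuadraticForm R M) {i j : ZMod 2} {x y : CliffordAlgebra Q}
    (hx : x ∈ evenOdd Q i) (hy : y ∈ evenOdd Q j) : x * y ∈ evenOdd Q (i + j) :=
  evenOdd_mul_le Q i j (Submodule.mul_mem_mul hx hy)

end Grading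

end Groth.Agent.H80.ClBasic
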