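import Groth.Agent.H80.ClBasic

set_option autoImplicit false
set_option linter.unusedSectionVars false

namespace Groth.Agent.H80.ClCentre

open CliffordAlgebra TensorProduct Groth.Agent.H80.ClBasic

section Proj

variable {R : Type*} [CommRing R] {M : Type*} [AddCommGroup M] [Module R M]
  (Q : QuadraticForm R M)

/-- The even projection. -/
noncomputable def P0 : CliffordAlgebra Q →ₗ[R] CliffordAlgebra Q :=
  (evenOdd Q 0).projection (evenOdd Q 1) (evenOdd_isCompl Q)

/-- The odd projection. -/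
noncomputable def P1 : CliffordAlgebra Q →ₗ[R] CliffordAlgebra Q :=
  (evenOdd Q 1).projection (evenOdd Q 0) (evenOdd_isCompl Q).symm

theorem P0_mem (x : CliffordAlgebra Q) : P0 Q x ∈ evenOdd Q 0 :=
  Submodule.projection_apply_mem _ x

theorem P1_mem (x : CliffordAlgebra Q) : P1 Q x ∈ evenOdd Q 1 :=
  Submodule.projection_apply_mem _ x

theorem P0_add_P1 (x : CliffordAlgebra Q) : P0 Q x + P1 Q x = x :=
  Submodule.projection_add_projection_eq_self (evenOdd_isCompl Q) x

theorem P0_even {x : CliffordAlgebra Q} (hx : x ∈ evenOdd Q 0) : P0 Q x = x :=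
  Submodule.projection_apply_of_mem_left _ hx

theorem P0_odd {x : CliffordAlgebra Q} (hx : x ∈ evenOdd Q 1) : P0 Q x = 0 :=
  Submodule.projection_apply_of_mem_right _ hx

theorem P1_odd {x : CliffordAlgebra Q} (hx : x ∈ evenOdd Q 1) : P1 Q x = x :=
  Submodule.projection_apply_of_mem_left _ hx

theorem P1_even {x : CliffordAlgebra Q} (hx : x ∈ evenOdd Q 0) : P1 Q x = 0 :=
  Submodule.projection_apply_of_mem_right _ hx

theorem P0_eq {x x₀ x₁ : CliffordAlgebra Q} (h₀ : x₀ ∈ evenOdd Q 0) (h₁ : x₁ ∈ evenOdd Q 1)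
    (h : x = x₀ + x₁) : P0 Q x = x₀ := by
  rw [h, map_add, P0_even Q h₀, P0_odd Q h₁, add_zero]

theorem P1_eq {x x₀ x₁ : CliffordAlgebra Q} (h₀ : x₀ ∈ evenOdd Q 0) (h₁ : x₁ ∈ evenOdd Q 1)
    (h : x = x₀ + x₁) : P1 Q x = x₁ := by
  rw [h, map_add, P1_even Q h₀, P1_odd Q h₁, zero_add]

theorem mem_odd_iff (x : CliffordAlgebra Q) : x ∈ evenOdd Q 1 ↔ P0 Q x = 0 := by
  constructor
  · exact P0_odd Q
  · intro h
    have := P0_add_P1 Q x
    rw [h, zero_add] at this
    rw [← this]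
    exact P1_mem Q x

theorem even_mul_even {x y : CliffordAlgebra Q} (hx : x ∈ evenOdd Q 0) (hy : y ∈ evenOdd Q 0) :
    x * y ∈ evenOdd Q 0 := by
  have := mul_mem_evenOdd Q hx hy
  rwa [add_zero] at this

theorem odd_mul_odd {x y : CliffordAlgebra Q} (hx : x ∈ evenOdd Q 1) (hy : y ∈ evenOdd Q 1) :
    x * y ∈ evenOdd Q 0 := by
  have := mul_mem_evenOdd Q hx hy
  have h3 : (1 : ZMod 2) + 1 = 0 := by decide
  rwa [h3] at this

theorem odd_mul_even {x y : CliffordAlgebra Q} (hx : x ∈ evenOdd Q 1) (hy : y ∈ evenOdd Q 0) :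
    x * y ∈ evenOdd Q 1 := by
  have := mul_mem_evenOdd Q hx hy
  rwa [add_zero] at this

theorem even_mul_odd {x y : CliffordAlgebra Q} (hx : x ∈ evenOdd Q 0) (hy : y ∈ evenOdd Q 1) :
    x * y ∈ evenOdd Q 1 := by
  have := mul_mem_evenOdd Q hx hy
  rwa [zero_add] at this

/-- An element commuting with all vectors is central. -/
theorem central_of_comm_ι {x : CliffordAlgebra Q} (h : ∀ m, x * ι Q m = ι Q m * x) :
    x ∈ Subalgebra.center R (CliffordAlgebra Q) := by
  rw [Subalgebra.mem_center_iff]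
  intro y
  induction y using CliffordAlgebra.induction with
  | algebraMap r => exact Algebra.commutes r _
  | ι m => exact (h m).symm
  | mul a b ha hb => rw [mul_assoc, hb, ← mul_assoc, ha, mul_assoc]
  | add a b ha hb => rw [add_mul, mul_add, ha, hb]

/-- Commuting with basis vectors suffices. -/
theorem comm_ι_of_basis {ι₀ : Type*} [Fintype ι₀] (b : Module.Basis ι₀ R M)
    {x : CliffordAlgebra Q} (h : ∀ i, x * ι Q (b i) = ι Q (b i) * x) (m : M) :
    x * ι Q m = ι Q m * x := by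
  rw [← b.sum_repr m, map_sum, Finset.mul_sum, Finset.sum_mul]
  refine Finset.sum_congr rfl fun i _ => ?_
  rw [map_smul, mul_smul_comm, smul_mul_assoc, h i]

/-- The centre is graded. -/
theorem center_parts {z : CliffordAlgebra Q} (hz : z ∈ Subalgebra.center R (CliffordAlgebra Q)) :
    P0 Q z ∈ Subalgebra.center R (CliffordAlgebra Q) ∧
      P1 Q z ∈ Subalgebra.center R (CliffordAlgebra Q) := by
  have key : ∀ m, P0 Q z * ι Q m = ι Q m * P0 Q z ∧ P1 Q z * ι Q m = ι Q m * P1 Q z := by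
    intro m
    have h1 : z * ι Q m = ι Q m * z := (Subalgebra.mem_center_iff.mp hz (ι Q m)).symm
    have h2 : P1 Q z * ι Q m + P0 Q z * ι Q m = ι Q m * P1 Q z + ι Q m * P0 Q z := by
      rw [← add_mul, ← mul_add, add_comm, P0_add_P1, h1]
    have h3 := even_odd_unique Q (odd_mul_odd Q (P1_mem Q z) (ι_mem_evenOdd_one Q m))
      (even_mul_odd Q (P0_mem Q z) (ι_mem_evenOdd_one Q m))
      (odd_mul_odd Q (ι_mem_evenOdd_one Q m) (P1_mem Q z))
      (odd_mul_even Q (ι_mem_evenOdd_one Q m) (P0_mem Q z)) h2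
    exact ⟨h3.2, h3.1⟩
  exact ⟨central_of_comm_ι Q fun m => (key m).1, central_of_comm_ι Q fun m => (key m).2⟩

/-- The odd part of the centre. -/
noncomputable def Z1 : Submodule R (CliffordAlgebra Q) :=
  evenOdd Q 1 ⊓ Subalgebra.toSubmodule (Subalgebra.center R (CliffordAlgebra Q))

theorem mem_Z1 (x : CliffordAlgebra Q) :
    x ∈ Z1 Q ↔ x ∈ evenOdd Q 1 ∧ x ∈ Subalgebra.center R (CliffordAlgebra Q) := Iff.rfl

theorem Z1_odd {x : CliffordAlgebra Q} (h : x ∈ Z1 Q) : x ∈ evenOdd Q 1 := h.1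

theorem Z1_center {x : CliffordAlgebra Q} (h : x ∈ Z1 Q) :
    x ∈ Subalgebra.center R (CliffordAlgebra Q) := h.2

end Proj

section Theta

variable {R : Type*} [CommRing R] {M : Type*} [AddCommGroup M] [Module R M]
  (Q : QuadraticForm R M) {ι₀ : Type*} [Fintype ι₀] (b : Module.Basis ι₀ R M)

/-- The commutator with a basis vector. -/
noncomputable def comm (i : ι₀) : CliffordAlgebra Q →ₗ[R] CliffordAlgebra Q :=
  LinearMap.mulRight R (ι Q (b i)) - LinearMap.mulLeft R (ι Q (b i))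

theorem comm_apply (i : ι₀) (x : CliffordAlgebra Q) :
    comm Q b i x = x * ι Q (b i) - ι Q (b i) * x := rfl

/-- The map whose kernel is the odd part of the centre. -/
noncomputable def Theta : CliffordAlgebra Q →ₗ[R] (Option ι₀ → CliffordAlgebra Q) :=
  LinearMap.pi fun o => Option.elim o (P0 Q) (comm Q b)

theorem Theta_none (x : CliffordAlgebra Q) : Theta Q b x none = P0 Q x := rfl

theorem Theta_some (x : CliffordAlgebra Q) (i : ι₀) : Theta Q b x (some i) = comm Q b i x := rfl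

theorem ker_Theta : LinearMap.ker (Theta Q b) = Z1 Q := by
  ext x
  rw [LinearMap.mem_ker, mem_Z1]
  constructor
  · intro h
    have h0 : P0 Q x = 0 := by rw [← Theta_none Q b, h]; rfl
    have hi : ∀ i, x * ι Q (b i) = ι Q (b i) * x := by
      intro i
      have : comm Q b i x = 0 := by rw [← Theta_some Q b, h]; rfl
      rw [comm_apply] at this
      exact sub_eq_zero.mp this
    exact ⟨(mem_odd_iff Q x).mpr h0, central_of_comm_ι Q (comm_ι_of_basis Q b hi)⟩
  · rintro ⟨h1, h2⟩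
    funext o
    rcases o with _ | i
    · rw [Theta_none, P0_odd Q h1]; rfl
    · rw [Theta_some, comm_apply, Subalgebra.mem_center_iff.mp h2 (ι Q (b i)), sub_self]; rfl

end Theta

section Mul

variable {R : Type*} [CommRing R] {M : Type*} [AddCommGroup M] [Module R M]
  (Q : QuadraticForm R M)

/-- The multiplication map in part (c). -/
noncomputable abbrev mu :
    ↥(Subalgebra.center R (CliffordAlgebra Q)) ⊗[R] ↥(even Q) →ₗ[R] CliffordAlgebra Q :=
  TensorProduct.lift
    (((LinearMap.mul R (CliffordAlgebra Q)).comp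
      (Subalgebra.center R (CliffordAlgebra Q)).val.toLinearMap).compl₂
        (CliffordAlgebra.even Q).val.toLinearMap)

theorem mu_tmul (z : Subalgebra.center R (CliffordAlgebra Q)) (x : even Q) :
    mu Q (z ⊗ₜ[R] x) = (z : CliffordAlgebra Q) * (x : CliffordAlgebra Q) := rfl

variable (hsc : ∀ z ∈ Subalgebra.center R (CliffordAlgebra Q), z ∈ evenOdd Q 0 →
    z ∈ (algebraMap R (CliffordAlgebra Q)).range)
  {n : ℕ} (ζ η : Fin n → CliffordAlgebra Q) (hζ : ∀ i, ζ i ∈ Z1 Q) (hη : ∀ i, η i ∈ Z1 Q)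
  (hone : ∑ i, ζ i * η i = 1)

include hζ hη hone in
theorem mu_surjective : Function.Surjective (mu Q) := by
  intro c
  refine ⟨(1 : Subalgebra.center R (CliffordAlgebra Q)) ⊗ₜ[R] (⟨P0 Q c, P0_mem Q c⟩ : even Q) +
    ∑ i, (⟨ζ i, (Z1_center Q (hζ i))⟩ : Subalgebra.center R (CliffordAlgebra Q)) ⊗ₜ[R]
      (⟨η i * P1 Q c, odd_mul_odd Q (Z1_odd Q (hη i)) (P1_mem Q c)⟩ : even Q), ?_⟩
  rw [map_add, map_sum, mu_tmul]
  simp only [mu_tmul]
  rw [OneMemClass.coe_one, one_mul]
  have h1 : ∑ i, ζ i * (η i * P1 Q c) = P1 Q c := by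
    simp only [← mul_assoc]
    rw [← Finset.sum_mul, hone, one_mul]
  rw [h1, P0_add_P1]

/-- The even projection into the even subalgebra. -/
noncomputable def p0 : CliffordAlgebra Q →ₗ[R] even Q where
  toFun c := ⟨P0 Q c, P0_mem Q c⟩
  map_add' x y := Subtype.ext (map_add (P0 Q) x y)
  map_smul' r x := Subtype.ext (map_smul (P0 Q) r x)

/-- `c ↦ η * P1 c` into the even subalgebra. -/
noncomputable def g1 (e : CliffordAlgebra Q) (he : e ∈ evenOdd Q 1) :
    CliffordAlgebra Q →ₗ[R] even Q where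
  toFun c := ⟨e * P1 Q c, odd_mul_odd Q he (P1_mem Q c)⟩
  map_add' x y := Subtype.ext (by
    show e * P1 Q (x + y) = e * P1 Q x + e * P1 Q y
    rw [map_add, mul_add])
  map_smul' r x := Subtype.ext (by
    show e * P1 Q (r • x) = r • (e * P1 Q x)
    rw [map_smul, mul_smul_comm])

/-- The inverse of the multiplication map. -/
noncomputable def nu :
    CliffordAlgebra Q →ₗ[R] ↥(Subalgebra.center R (CliffordAlgebra Q)) ⊗[R] ↥(even Q) :=
  (TensorProduct.mk R (Subalgebra.center R (CliffordAlgebra Q)) (even Q) 1) ∘ₗ p0 Q +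
    ∑ i, (TensorProduct.mk R (Subalgebra.center R (CliffordAlgebra Q)) (even Q)
      ⟨ζ i, (Z1_center Q (hζ i))⟩) ∘ₗ g1 Q (η i) (Z1_odd Q (hη i))

theorem nu_apply (c : CliffordAlgebra Q) :
    nu Q ζ η hζ hη c = (1 : Subalgebra.center R (CliffordAlgebra Q)) ⊗ₜ[R] p0 Q c +
      ∑ i, (⟨ζ i, (Z1_center Q (hζ i))⟩ : Subalgebra.center R (CliffordAlgebra Q)) ⊗ₜ[R]
        g1 Q (η i) (Z1_odd Q (hη i)) c := by
  unfold nu
  rw [LinearMap.add_apply, LinearMap.sum_apply]
  rfl

include hsc hone in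
theorem nu_mu (t : ↥(Subalgebra.center R (CliffordAlgebra Q)) ⊗[R] ↥(even Q)) :
    nu Q ζ η hζ hη (mu Q t) = t := by
  induction t using TensorProduct.induction_on with
  | zero => rw [map_zero, map_zero]
  | add y z hy hz => rw [map_add, map_add, hy, hz]
  | tmul z x =>
    obtain ⟨z, hz⟩ := z
    obtain ⟨x, hx⟩ := x
    have hx' : x ∈ evenOdd Q 0 := hx
    obtain ⟨hz0, hz1⟩ := center_parts Q hz
    obtain ⟨r, hr⟩ := hsc _ hz0 (P0_mem Q z)
    rw [mu_tmul, nu_apply]
    show _ ⊗ₜ[R] p0 Q (z * x) + ∑ i, _ ⊗ₜ[R] g1 Q (η i) (Z1_odd Q (hη i)) (z * x) = _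
    have hzx : z * x = P0 Q z * x + P1 Q z * x := by rw [← add_mul, P0_add_P1]
    have e0 : P0 Q (z * x) = P0 Q z * x :=
      P0_eq Q (even_mul_even Q (P0_mem Q z) hx') (odd_mul_even Q (P1_mem Q z) hx') hzx
    have e1 : P1 Q (z * x) = P1 Q z * x :=
      P1_eq Q (even_mul_even Q (P0_mem Q z) hx') (odd_mul_even Q (P1_mem Q z) hx') hzx
    -- the scalars `η i * P1 z`
    have hs : ∀ i, ∃ s : R, algebraMap R (CliffordAlgebra Q) s = η i * P1 Q z := by
      intro i
      apply hsc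
      · exact Subalgebra.mul_mem _ (Z1_center Q (hη i)) hz1
      · exact odd_mul_odd Q (Z1_odd Q (hη i)) (P1_mem Q z)
    choose s hs using hs
    have t0 : p0 Q (z * x) = r • (⟨x, hx⟩ : even Q) := by
      apply Subtype.ext
      show P0 Q (z * x) = r • x
      rw [e0, ← hr, Algebra.smul_def]
    have t1 : ∀ i, g1 Q (η i) (Z1_odd Q (hη i)) (z * x) = s i • (⟨x, hx⟩ : even Q) := by
      intro i
      apply Subtype.ext
      show η i * P1 Q (z * x) = s i • x
      rw [e1, ← mul_assoc, ← hs i, Algebra.smul_def]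
    rw [t0]
    simp only [t1, TensorProduct.tmul_smul]
    simp only [TensorProduct.smul_tmul']
    rw [← TensorProduct.sum_tmul, ← TensorProduct.add_tmul]
    congr 1
    apply Subtype.ext
    rw [Subalgebra.coe_add, Subalgebra.coe_smul, OneMemClass.coe_one, AddSubmonoidClass.coe_finset_sum]
    simp only [Subalgebra.coe_smul]
    have h5 : ∀ i, s i • ζ i = ζ i * η i * P1 Q z := by
      intro i
      rw [mul_assoc, ← hs i, ← Algebra.commutes, Algebra.smul_def]
    simp only [h5]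
    rw [← Finset.sum_mul, hone, one_mul, Algebra.smul_def, mul_one, hr, P0_add_P1]

include hsc hζ hη hone in
/-- Part (c) from the scalar property (b) and a partition of unity in the odd centre. -/
theorem mu_bijective : Function.Bijective (mu Q) := by
  refine ⟨?_, mu_surjective Q ζ η hζ hη hone⟩
  intro t t' h
  rw [← nu_mu Q hsc ζ η hζ hη hone t, ← nu_mu Q hsc ζ η hζ hη hone t', h]

end Mul

end Groth.Agent.H80.ClCentre
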