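import Groth.Agent.H80.ClVol
import Groth.Agent.H80.ClCentre

set_option autoImplicit false
set_option linter.unusedSectionVars false

namespace Groth.Agent.H80.ClEvenSplit

open CliffordAlgebra Groth.Agent.H80.QuadMat Groth.Agent.H80.ClBasic Groth.Agent.H80.ClSplit
  Groth.Agent.H80.ClBC Groth.Agent.H80.ClVol Groth.Agent.H80.ClCentre

section Parity

variable (R : Type*) [CommRing R] (J : Type*) [Fintype J] [LinearOrder J]

theorem w_parity (l : List J) :
    w R J l ∈ evenOdd (0 : QuadraticForm R (J → R)) (l.length : ZMod 2) := by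
  induction l with
  | nil =>
    rw [w_nil, List.length_nil, Nat.cast_zero]
    exact SetLike.one_mem_graded _
  | cons i l ih =>
    rw [w_cons, List.length_cons, Nat.cast_succ, add_comm]
    exact mul_mem_evenOdd _ (ι_mem_evenOdd_one _ _) ih

theorem lS_length (S : Finset J) : (lS J S).length = S.card := by
  unfold lS
  rw [List.length_ofFn]

theorem bE_parity (S : Finset J) :
    bE R J S ∈ evenOdd (0 : QuadraticForm R (J → R)) (S.card : ZMod 2) := by
  rw [bE_eq, ← lS_length]
  exact w_parity R J _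

theorem bE_even (S : Finset J) (h : Even S.card) :
    bE R J S ∈ evenOdd (0 : QuadraticForm R (J → R)) 0 := by
  have := bE_parity R J S
  rwa [(ZMod.natCast_eq_zero_iff_even).mpr h] at this

theorem bE_odd (S : Finset J) (h : ¬ Even S.card) :
    bE R J S ∈ evenOdd (0 : QuadraticForm R (J → R)) 1 := by
  have := bE_parity R J S
  rwa [(ZMod.natCast_eq_one_iff_odd).mpr (Nat.not_even_iff_odd.mp h)] at this

/-- Coordinates of an even element vanish at odd sets. -/
theorem repr_even {x : Ext R J} (hx : x ∈ evenOdd (0 : QuadraticForm R (J → R)) 0)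
    (S : Finset J) (hS : ¬ Even S.card) : (bE R J).repr x S = 0 := by
  have hx' : x = P0 (0 : QuadraticForm R (J → R)) x := (P0_even _ hx).symm
  rw [hx']
  conv_lhs => rw [← (bE R J).sum_repr x]
  rw [map_sum, map_sum, Finsupp.coe_finsetSum, Finset.sum_apply]
  apply Finset.sum_eq_zero
  intro T _
  rw [map_smul, map_smul, Finsupp.smul_apply]
  by_cases hT : Even T.card
  · rw [P0_even _ (bE_even R J T hT), Module.Basis.repr_self, Finsupp.single_apply,
      if_neg (fun h : T = S => hS (h ▸ hT)), smul_zero]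
  · rw [P0_odd _ (bE_odd R J T hT), map_zero, Finsupp.zero_apply, smul_zero]

/-- Coordinates of an odd element vanish at even sets. -/
theorem repr_odd {x : Ext R J} (hx : x ∈ evenOdd (0 : QuadraticForm R (J → R)) 1)
    (S : Finset J) (hS : Even S.card) : (bE R J).repr x S = 0 := by
  have hx' : x = P1 (0 : QuadraticForm R (J → R)) x := (P1_odd _ hx).symm
  rw [hx']
  conv_lhs => rw [← (bE R J).sum_repr x]
  rw [map_sum, map_sum, Finsupp.coe_finsetSum, Finset.sum_apply]
  apply Finset.sum_eq_zero
  intro T _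
  rw [map_smul, map_smul, Finsupp.smul_apply]
  by_cases hT : Even T.card
  · rw [P1_even _ (bE_even R J T hT), map_zero, Finsupp.zero_apply, smul_zero]
  · rw [P1_odd _ (bE_odd R J T hT), Module.Basis.repr_self, Finsupp.single_apply,
      if_neg (fun h : T = S => hT (h ▸ hS)), smul_zero]

/-- An element whose action preserves parity is even. -/
theorem even_of_rho_parity {x : CliffordAlgebra (qH R J)}
    (h0 : ∀ y ∈ evenOdd (0 : QuadraticForm R (J → R)) 0,
      rho R J x y ∈ evenOdd (0 : QuadraticForm R (J → R)) 0)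
    (h1 : ∀ y ∈ evenOdd (0 : QuadraticForm R (J → R)) 1,
      rho R J x y ∈ evenOdd (0 : QuadraticForm R (J → R)) 1) :
    x ∈ evenOdd (qH R J) 0 := by
  obtain ⟨x₀, hx₀, x₁, hx₁, rfl⟩ := exists_even_odd (qH R J) x
  have e0 := rho_even_parity R J hx₀
  have e1 := rho_odd_parity R J hx₁
  have hz : rho R J x₁ = 0 := by
    refine LinearMap.ext fun y => ?_
    obtain ⟨y₀, hy₀, y₁, hy₁, rfl⟩ := exists_even_odd (0 : QuadraticForm R (J → R)) y
    have k0 : rho R J x₁ y₀ = 0 := by
      apply even_inter_odd (0 : QuadraticForm R (J → R)) _ (e1.1 y₀ hy₀)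
      have := Submodule.sub_mem _ (h0 y₀ hy₀) (e0.1 y₀ hy₀)
      rwa [map_add, LinearMap.add_apply, add_sub_cancel_left] at this
    have k1 : rho R J x₁ y₁ = 0 := by
      apply even_inter_odd (0 : QuadraticForm R (J → R)) (e1.2 y₁ hy₁)
      have := Submodule.sub_mem _ (h1 y₁ hy₁) (e0.2 y₁ hy₁)
      rwa [map_add, LinearMap.add_apply, add_sub_cancel_left] at this
    rw [map_add, k0, k1, add_zero, LinearMap.zero_apply]
  have hx1 : x₁ = 0 := (rho_bijective R J).1 (by rw [hz, map_zero])
  rw [hx1, add_zero]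
  exact hx₀

/-- The idempotent of the even subalgebra projecting the exterior algebra onto its even part. -/
noncomputable def ep : CliffordAlgebra (qH R J) :=
  (rhoEquiv R J).symm (P0 (0 : QuadraticForm R (J → R)))

theorem rho_ep : rho R J (ep R J) = P0 (0 : QuadraticForm R (J → R)) :=
  (rhoEquiv R J).apply_symm_apply _

theorem ep_even : ep R J ∈ evenOdd (qH R J) 0 := by
  apply even_of_rho_parity
  · intro y hy
    rw [rho_ep, P0_even _ hy]
    exact hy
  · intro y hy
    rw [rho_ep, P0_odd _ hy]
    exact Submodule.zero_mem _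

theorem even_comm_ep {x : CliffordAlgebra (qH R J)} (hx : x ∈ evenOdd (qH R J) 0) :
    x * ep R J = ep R J * x := by
  apply (rho_bijective R J).1
  rw [map_mul, map_mul, rho_ep]
  refine LinearMap.ext fun y => ?_
  obtain ⟨y₀, hy₀, y₁, hy₁, rfl⟩ := exists_even_odd (0 : QuadraticForm R (J → R)) y
  have e0 := rho_even_parity R J hx
  rw [Module.End.mul_apply, Module.End.mul_apply, map_add, P0_even _ hy₀, P0_odd _ hy₁, add_zero,
    map_add, map_add, P0_even _ (e0.1 y₀ hy₀), P0_odd _ (e0.2 y₁ hy₁), add_zero]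

theorem odd_mul_ep {x : CliffordAlgebra (qH R J)} (hx : x ∈ evenOdd (qH R J) 1) :
    x * ep R J = (1 - ep R J) * x := by
  apply (rho_bijective R J).1
  rw [map_mul, map_mul, map_sub, map_one, rho_ep]
  refine LinearMap.ext fun y => ?_
  obtain ⟨y₀, hy₀, y₁, hy₁, rfl⟩ := exists_even_odd (0 : QuadraticForm R (J → R)) y
  have e1 := rho_odd_parity R J hx
  rw [Module.End.mul_apply, Module.End.mul_apply, map_add, P0_even _ hy₀, P0_odd _ hy₁, add_zero,
    LinearMap.sub_apply, Module.End.one_apply, map_add, map_add, P0_odd _ (e1.1 y₀ hy₀),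
    P0_even _ (e1.2 y₁ hy₁), zero_add, add_sub_cancel_right]

theorem ep_mul_ep : ep R J * ep R J = ep R J := by
  apply (rho_bijective R J).1
  rw [map_mul, rho_ep]
  refine LinearMap.ext fun y => ?_
  rw [Module.End.mul_apply, P0_even _ (P0_mem _ y)]

theorem even_of_comm_ep {x : CliffordAlgebra (qH R J)} (h : x * ep R J = ep R J * x) :
    x ∈ evenOdd (qH R J) 0 := by
  obtain ⟨x₀, hx₀, x₁, hx₁, rfl⟩ := exists_even_odd (qH R J) x
  have h0 := even_comm_ep R J hx₀
  have h1 := odd_mul_ep R J hx₁
  have h2 : x₁ * ep R J = ep R J * x₁ := by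
    have : x₀ * ep R J + x₁ * ep R J = ep R J * x₀ + ep R J * x₁ := by
      rw [← add_mul, ← mul_add, h]
    rw [h0] at this
    exact add_left_cancel this
  have h3 : ep R J * x₁ = (1 - ep R J) * x₁ := by rw [← h2, h1]
  have h4 : ep R J * x₁ = 0 := by
    have := congrArg (fun t => ep R J * t) h3
    simp only [← mul_assoc, mul_sub, mul_one, ep_mul_ep, sub_self, zero_mul] at this
    exact this
  have h5 : x₁ = 0 := by
    have : x₁ = ep R J * x₁ + (1 - ep R J) * x₁ := by
      rw [← add_mul, add_sub_cancel, one_mul]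
    rw [this, ← h3, h4, add_zero]
  rw [h5, add_zero]
  exact hx₀

end Parity


section Blocks

variable (R : Type*) [CommRing R]

/-- Block-diagonal matrices as an algebra homomorphism. -/
def blockHom (α β : Type*) [Fintype α] [Fintype β] [DecidableEq α] [DecidableEq β] :
    (Matrix α α R × Matrix β β R) →ₐ[R] Matrix (α ⊕ β) (α ⊕ β) R where
  toFun p := Matrix.fromBlocks p.1 0 0 p.2
  map_one' := Matrix.fromBlocks_one
  map_mul' p q := by
    rw [Matrix.fromBlocks_multiply]
    simp
  map_zero' := by simp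
  map_add' p q := by
    rw [Matrix.fromBlocks_add]
    simp
  commutes' r := by
    ext (i | i) (j | j) <;>
      simp [Matrix.algebraMap_matrix_apply, Sum.inl.injEq, Sum.inr.injEq]

theorem blockHom_apply (α β : Type*) [Fintype α] [Fintype β] [DecidableEq α] [DecidableEq β]
    (p : Matrix α α R × Matrix β β R) : blockHom R α β p = Matrix.fromBlocks p.1 0 0 p.2 := rfl

theorem blockHom_injective (α β : Type*) [Fintype α] [Fintype β] [DecidableEq α]
    [DecidableEq β] : Function.Injective (blockHom R α β) := by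
  intro p q h
  rw [blockHom_apply, blockHom_apply, Matrix.fromBlocks_inj] at h
  exact Prod.ext h.1 h.2.2.2

variable (J : Type*) [Fintype J] [LinearOrder J]

/-- Even subsets. -/
abbrev Ev := {S : Finset J // Even S.card}

/-- Odd subsets. -/
abbrev Od := {S : Finset J // ¬ Even S.card}

/-- Subsets split into even and odd ones. -/
noncomputable def eEO : Ev J ⊕ Od J ≃ Finset J := Equiv.sumCompl (fun S : Finset J => Even S.card)

theorem eEO_inl (a : Ev J) : eEO J (Sum.inl a) = a.1 := rfl

theorem eEO_inr (a : Od J) : eEO J (Sum.inr a) = a.1 := rfl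

/-- The Clifford algebra as block matrices. -/
noncomputable def theta :
    CliffordAlgebra (qH R J) ≃ₐ[R] Matrix (Ev J ⊕ Od J) (Ev J ⊕ Od J) R :=
  (rhoEquiv R J).trans ((LinearMap.toMatrixAlgEquiv (bE R J)).trans
    (Matrix.reindexAlgEquiv R R (eEO J).symm))

theorem theta_apply (x : CliffordAlgebra (qH R J)) (a b : Ev J ⊕ Od J) :
    theta R J x a b = (bE R J).repr (rho R J x (bE R J (eEO J b))) (eEO J a) := by
  unfold theta
  rw [AlgEquiv.trans_apply, AlgEquiv.trans_apply, Matrix.reindexAlgEquiv_apply,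
    Matrix.reindex_apply, Matrix.submatrix_apply, LinearMap.toMatrixAlgEquiv_apply,
    Equiv.symm_symm, rhoEquiv_apply]

/-- The block-diagonal embedding into the Clifford algebra. -/
noncomputable def Omega :
    (Matrix (Ev J) (Ev J) R × Matrix (Od J) (Od J) R) →ₐ[R] CliffordAlgebra (qH R J) :=
  ((theta R J).symm : _ →ₐ[R] _).comp (blockHom R (Ev J) (Od J))

theorem theta_Omega (p : Matrix (Ev J) (Ev J) R × Matrix (Od J) (Od J) R) :
    theta R J (Omega R J p) = Matrix.fromBlocks p.1 0 0 p.2 := by
  unfold Omega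
  rw [AlgHom.comp_apply]
  exact (theta R J).apply_symm_apply _

theorem Omega_injective : Function.Injective (Omega R J) := by
  intro p q h
  apply blockHom_injective R
  have := congrArg (theta R J) h
  rwa [theta_Omega, theta_Omega] at this

/-- The action on basis vectors in terms of `theta`. -/
theorem rho_bE (x : CliffordAlgebra (qH R J)) (b : Ev J ⊕ Od J) :
    rho R J x (bE R J (eEO J b)) = ∑ a : Ev J ⊕ Od J, theta R J x a b • bE R J (eEO J a) := by
  conv_lhs => rw [← (bE R J).sum_repr (rho R J x (bE R J (eEO J b)))]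
  rw [← Equiv.sum_comp (eEO J)]
  refine Finset.sum_congr rfl fun a _ => ?_
  rw [theta_apply]

theorem Omega_even (p : Matrix (Ev J) (Ev J) R × Matrix (Od J) (Od J) R) :
    Omega R J p ∈ evenOdd (qH R J) 0 := by
  have key : ∀ b : Ev J ⊕ Od J, rho R J (Omega R J p) (bE R J (eEO J b)) ∈
      evenOdd (0 : QuadraticForm R (J → R)) (((eEO J b).card : ℕ) : ZMod 2) := by
    intro b
    rw [rho_bE, theta_Omega]
    apply Submodule.sum_mem
    intro a _
    rcases b with b | b
    · rcases a with a | a
      · rw [eEO_inl, eEO_inl, (ZMod.natCast_eq_zero_iff_even).mpr b.2]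
        exact Submodule.smul_mem _ _ (bE_even R J a.1 a.2)
      · rw [Matrix.fromBlocks_apply₂₁, Matrix.zero_apply, zero_smul]
        exact Submodule.zero_mem _
    · rcases a with a | a
      · rw [Matrix.fromBlocks_apply₁₂, Matrix.zero_apply, zero_smul]
        exact Submodule.zero_mem _
      · rw [eEO_inr, eEO_inr,
          (ZMod.natCast_eq_one_iff_odd).mpr (Nat.not_even_iff_odd.mp b.2)]
        exact Submodule.smul_mem _ _ (bE_odd R J a.1 a.2)
  apply even_of_rho_parity
  · intro y hy
    rw [← (bE R J).sum_repr y, map_sum]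
    apply Submodule.sum_mem
    intro S _
    rw [map_smul]
    by_cases hS : Even S.card
    · apply Submodule.smul_mem
      have := key (Sum.inl ⟨S, hS⟩)
      rwa [eEO_inl, (ZMod.natCast_eq_zero_iff_even).mpr hS] at this
    · rw [repr_even R J hy S hS, zero_smul]
      exact Submodule.zero_mem _
  · intro y hy
    rw [← (bE R J).sum_repr y, map_sum]
    apply Submodule.sum_mem
    intro S _
    rw [map_smul]
    by_cases hS : Even S.card
    · rw [repr_odd R J hy S hS, zero_smul]
      exact Submodule.zero_mem _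
    · apply Submodule.smul_mem
      have := key (Sum.inr ⟨S, hS⟩)
      rwa [eEO_inr, (ZMod.natCast_eq_one_iff_odd).mpr (Nat.not_even_iff_odd.mp hS)] at this

theorem Omega_range : (Omega R J).range = even (qH R J) := by
  apply le_antisymm
  · rintro _ ⟨p, rfl⟩
    exact Omega_even R J p
  · intro x hx
    have hx' : x ∈ evenOdd (qH R J) 0 := hx
    have e0 := rho_even_parity R J hx'
    refine ⟨((theta R J x).toBlocks₁₁, (theta R J x).toBlocks₂₂), ?_⟩
    apply (theta R J).injective
    show theta R J (Omega R J _) = _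
    rw [theta_Omega]
    have h12 : (theta R J x).toBlocks₁₂ = 0 := by
      ext a b
      rw [Matrix.toBlocks₁₂, Matrix.of_apply, theta_apply, eEO_inr, eEO_inl, Matrix.zero_apply]
      exact repr_odd R J (e0.2 _ (bE_odd R J b.1 b.2)) a.1 a.2
    have h21 : (theta R J x).toBlocks₂₁ = 0 := by
      ext a b
      rw [Matrix.toBlocks₂₁, Matrix.of_apply, theta_apply, eEO_inr, eEO_inl, Matrix.zero_apply]
      exact repr_even R J (e0.1 _ (bE_even R J b.1 b.2)) a.1 a.2
    conv_rhs => rw [← Matrix.fromBlocks_toBlocks (theta R J x), h12, h21]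

/-- The even subalgebra is a product of two matrix algebras. -/
noncomputable def evenBlockEquiv :
    even (qH R J) ≃ₐ[R] (Matrix (Ev J) (Ev J) R × Matrix (Od J) (Od J) R) :=
  ((AlgEquiv.ofInjective (Omega R J) (Omega_injective R J)).trans
    (Subalgebra.equivOfEq _ _ (Omega_range R J))).symm

end Blocks


section Card

variable (J : Type*) [Fintype J] [LinearOrder J]

/-- Toggle membership of `j₀`. -/
def flipS (j₀ : J) (S : Finset J) : Finset J := if j₀ ∈ S then S.erase j₀ else insert j₀ S

theorem flipS_invol (j₀ : J) : Function.Involutive (flipS J j₀) := by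
  intro S
  unfold flipS
  by_cases h : j₀ ∈ S
  · rw [if_pos h, if_neg (Finset.notMem_erase j₀ S), Finset.insert_erase h]
  · rw [if_neg h, if_pos (Finset.mem_insert_self j₀ S), Finset.erase_insert h]

theorem flipS_parity (j₀ : J) (S : Finset J) : Even (flipS J j₀ S).card ↔ ¬ Even S.card := by
  unfold flipS
  by_cases h : j₀ ∈ S
  · rw [if_pos h, Finset.card_erase_of_mem h]
    have hpos : 0 < S.card := Finset.card_pos.mpr ⟨j₀, h⟩
    obtain ⟨k, hk⟩ : ∃ k, S.card = k + 1 := ⟨S.card - 1, by omega⟩
    rw [hk, Nat.add_sub_cancel, Nat.even_add_one, not_not]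
  · rw [if_neg h, Finset.card_insert_of_notMem h, Nat.even_add_one]

/-- Even and odd subsets of a nonempty set are equinumerous. -/
noncomputable def evOdEquiv (j₀ : J) : Ev J ≃ Od J :=
  Equiv.subtypeEquiv (flipS_invol J j₀).toPerm (fun S => by
    show Even S.card ↔ ¬ Even (flipS J j₀ S).card
    rw [flipS_parity, not_not])

theorem card_Ev (m : ℕ) (hm : Fintype.card J = m) (h1 : 1 ≤ m) :
    Fintype.card (Ev J) = 2 ^ (m - 1) := by
  have hne : Nonempty J := Fintype.card_pos_iff.mp (by omega)
  obtain ⟨j₀⟩ := hne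
  have h2 : Fintype.card (Ev J) + Fintype.card (Od J) = 2 ^ m := by
    rw [← Fintype.card_sum, Fintype.card_congr (eEO J), Fintype.card_finset, hm]
  rw [← Fintype.card_congr (evOdEquiv J j₀)] at h2
  obtain ⟨k, rfl⟩ : ∃ k, m = k + 1 := ⟨m - 1, by omega⟩
  rw [pow_succ] at h2
  rw [Nat.add_sub_cancel]
  omega

theorem card_Od (m : ℕ) (hm : Fintype.card J = m) (h1 : 1 ≤ m) :
    Fintype.card (Od J) = 2 ^ (m - 1) := by
  have hne : Nonempty J := Fintype.card_pos_iff.mp (by omega)
  obtain ⟨j₀⟩ := hne
  rw [← Fintype.card_congr (evOdEquiv J j₀), card_Ev J m hm h1]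

variable (R : Type*) [CommRing R]

/-- The even Clifford algebra of the hyperbolic form is a product of two matrix algebras. -/
noncomputable def evenMatEquiv (m : ℕ) (hm : Fintype.card J = m) (h1 : 1 ≤ m) :
    even (qH R J) ≃ₐ[R] (Matrix (Fin (2 ^ (m - 1))) (Fin (2 ^ (m - 1))) R ×
      Matrix (Fin (2 ^ (m - 1))) (Fin (2 ^ (m - 1))) R) :=
  (evenBlockEquiv R J).trans (AlgEquiv.prodCongr
    (Matrix.reindexAlgEquiv R R (Fintype.equivFinOfCardEq (card_Ev J m hm h1)))
    (Matrix.reindexAlgEquiv R R (Fintype.equivFinOfCardEq (card_Od J m hm h1))))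

end Card

end Groth.Agent.H80.ClEvenSplit
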