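import Groth.Agent.H80.ClStar
import Groth.Agent.H80.ClEvenSplit

set_option autoImplicit false
set_option linter.unusedSectionVars false

/-!
# The supertrace on the Clifford algebra of the hyperbolic form and determinants of isometries

`T x = tr (ε ∘ ρ x)` is a linear functional on `C(qH)` which kills all words of length `< 2m`
and takes the value `1` on a word of length `2m`.  It follows that `v ↦ T (ι v₁ ⋯ ι v₂ₘ)` is a
non-zero alternating form, invariant (resp. anti-invariant) under conjugation by even (resp. odd)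
units normalising the module; hence the induced map has determinant `1` (resp. `-1`).
-/

namespace Groth.Agent.H80.ClDetSplit

open CliffordAlgebra Groth.Agent.H80.QuadMat Groth.Agent.H80.ClBasic Groth.Agent.H80.ClSplit
  Groth.Agent.H80.ClVol Groth.Agent.H80.ClCentre Groth.Agent.H80.ClStar
  Groth.Agent.H80.ClEvenSplit

section Str

variable (A : Type*) [CommRing A] (J : Type*) [Fintype J] [LinearOrder J]

/-- The supertrace. -/
noncomputable def T : CliffordAlgebra (qH A J) →ₗ[A] A :=
  (LinearMap.trace A (Ext A J)) ∘ₗ (rho A J).toLinearMap ∘ₗ (LinearMap.mulLeft A (vol A J))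

theorem T_apply (x : CliffordAlgebra (qH A J)) :
    T A J x = LinearMap.trace A (Ext A J) (rho A J (vol A J * x)) := rfl

theorem vol_comm_even {x : CliffordAlgebra (qH A J)} (hx : x ∈ evenOdd (qH A J) 0) :
    vol A J * x = x * vol A J := by
  induction x, hx using even_induction with
  | algebraMap r => exact (Algebra.commutes r _).symm
  | add a c _ _ ha hc => rw [mul_add, add_mul, ha, hc]
  | ι_mul_ι_mul m₁ m₂ a _ ih =>
    have hv1 := vol_mul_ι A J m₁
    have hv2 := vol_mul_ι A J m₂
    calc vol A J * (ι (qH A J) m₁ * ι (qH A J) m₂ * a)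
        = (vol A J * ι (qH A J) m₁) * ι (qH A J) m₂ * a := by simp only [mul_assoc]
      _ = -(ι (qH A J) m₁ * vol A J) * ι (qH A J) m₂ * a := by rw [hv1]
      _ = -(ι (qH A J) m₁ * (vol A J * ι (qH A J) m₂) * a) := by
          simp only [neg_mul, mul_assoc]
      _ = -(ι (qH A J) m₁ * -(ι (qH A J) m₂ * vol A J) * a) := by rw [hv2]
      _ = ι (qH A J) m₁ * ι (qH A J) m₂ * (vol A J * a) := by
          simp only [mul_neg, neg_mul, neg_neg, mul_assoc]
      _ = ι (qH A J) m₁ * ι (qH A J) m₂ * (a * vol A J) := by rw [ih]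
      _ = ι (qH A J) m₁ * ι (qH A J) m₂ * a * vol A J := by simp only [mul_assoc]

theorem vol_anticomm_odd {x : CliffordAlgebra (qH A J)} (hx : x ∈ evenOdd (qH A J) 1) :
    vol A J * x = -(x * vol A J) := by
  induction x, hx using odd_induction with
  | ι v => exact vol_mul_ι A J v
  | add a c _ _ ha hc => rw [mul_add, add_mul, ha, hc, neg_add]
  | ι_mul_ι_mul m₁ m₂ a _ ih =>
    have he : vol A J * (ι (qH A J) m₁ * ι (qH A J) m₂) =
        (ι (qH A J) m₁ * ι (qH A J) m₂) * vol A J :=
      vol_comm_even A J (ι_mul_ι_mem_evenOdd_zero _ _ _)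
    calc vol A J * (ι (qH A J) m₁ * ι (qH A J) m₂ * a)
        = (vol A J * (ι (qH A J) m₁ * ι (qH A J) m₂)) * a := by simp only [mul_assoc]
      _ = (ι (qH A J) m₁ * ι (qH A J) m₂) * (vol A J * a) := by rw [he, mul_assoc]
      _ = (ι (qH A J) m₁ * ι (qH A J) m₂) * -(a * vol A J) := by rw [ih]
      _ = -(ι (qH A J) m₁ * ι (qH A J) m₂ * a * vol A J) := by
          simp only [mul_neg, mul_assoc]

theorem T_comm_even {x : CliffordAlgebra (qH A J)} (hx : x ∈ evenOdd (qH A J) 0)
    (y : CliffordAlgebra (qH A J)) : T A J (x * y) = T A J (y * x) := by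
  have h1 : vol A J * (x * y) = x * (vol A J * y) := by
    rw [← mul_assoc, vol_comm_even A J hx, mul_assoc]
  rw [T_apply, T_apply, h1, map_mul, LinearMap.trace_mul_comm, ← map_mul, mul_assoc]

theorem T_anticomm_odd (x : CliffordAlgebra (qH A J)) {y : CliffordAlgebra (qH A J)}
    (hy : y ∈ evenOdd (qH A J) 1) : T A J (x * y) = -T A J (y * x) := by
  have h1 : y * (vol A J * x) = -(vol A J * (y * x)) := by
    rw [← mul_assoc, ← mul_assoc, vol_anticomm_odd A J hy, neg_mul, neg_neg]
  have h2 : vol A J * (x * y) = (vol A J * x) * y := (mul_assoc _ _ _).symm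
  rw [T_apply, T_apply, h2, map_mul, LinearMap.trace_mul_comm, ← map_mul, h1, map_neg, map_neg]

theorem lS_empty : lS J (∅ : Finset J) = [] :=
  List.length_eq_zero_iff.mp (by rw [lS_length]; rfl)

theorem T_Pc : T A J (Pc A J (Finset.univ : Finset J).toList) = 1 := by
  classical
  have hop : rho A J (vol A J * Pc A J (Finset.univ : Finset J).toList) =
      epsOp A J * PP A J := by
    rw [map_mul, rho_vol, rho_Pc]
    rfl
  rw [T_apply, hop, LinearMap.trace_eq_matrix_trace A (bE A J), Matrix.trace,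
    Finset.sum_eq_single (∅ : Finset J)]
  · rw [Matrix.diag_apply, LinearMap.toMatrix_apply, Module.End.mul_apply, bE_eq, lS_empty, w_nil,
      PP_one, epsOp_even A J (SetLike.one_mem_graded _)]
    have h1 : (1 : Ext A J) = bE A J ∅ := by rw [bE_eq, lS_empty, w_nil]
    rw [h1, Module.Basis.repr_self, Finsupp.single_eq_same]
  · intro S _ hS
    rw [Matrix.diag_apply, LinearMap.toMatrix_apply, Module.End.mul_apply, bE_eq,
      PP_w_of_ne_nil, map_zero, map_zero, Finsupp.zero_apply]
    intro h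
    apply hS
    rw [← lS_toFinset J S, h]
    rfl
  · intro h
    exact absurd (Finset.mem_univ _) h

end Str

section Letters

variable (A : Type*) [CommRing A] (J : Type*) [Fintype J] [LinearOrder J]

/-- The letters: images of the standard basis vectors. -/
noncomputable def lt (p : J ⊕ J) : CliffordAlgebra (qH A J) := ι (qH A J) (sv A J p)

theorem lt_odd (p : J ⊕ J) : lt A J p ∈ evenOdd (qH A J) 1 := ι_mem_evenOdd_one _ _

theorem lt_sq (p : J ⊕ J) : lt A J p * lt A J p = 0 := by
  unfold lt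
  rw [ι_sq_scalar, qH_sv, map_zero]

theorem polar_sv_sv (p q : J ⊕ J) (h : idx J p ≠ idx J q) :
    QuadraticMap.polar (qH A J) (sv A J p) (sv A J q) = 0 := by
  rcases q with k | k
  · rw [polar_sv_inl]
    unfold sv
    rw [Pi.single_apply, if_neg]
    intro h'
    apply h
    rw [← h']
    rfl
  · rw [polar_sv_inr]
    unfold sv
    rw [Pi.single_apply, if_neg]
    intro h'
    apply h
    rw [← h']
    rfl

theorem lt_anti (p q : J ⊕ J) (h : idx J p ≠ idx J q) :
    lt A J p * lt A J q = -(lt A J q * lt A J p) := by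
  unfold lt
  rw [eq_neg_iff_add_eq_zero, ι_mul_ι_add_swap, polar_sv_sv A J p q h, map_zero]

theorem lt_pair (a : J) :
    lt A J (Sum.inl a) * lt A J (Sum.inr a) + lt A J (Sum.inr a) * lt A J (Sum.inl a) = 1 := by
  unfold lt
  rw [ι_mul_ι_add_swap, polar_sv_inr]
  unfold sv
  rw [Pi.single_eq_same, map_one]

/-- Words in the letters. -/
noncomputable def Wl (l : List (J ⊕ J)) : CliffordAlgebra (qH A J) := (l.map (lt A J)).prod

theorem Wl_nil : Wl A J [] = 1 := rfl

theorem Wl_cons (p : J ⊕ J) (l : List (J ⊕ J)) : Wl A J (p :: l) = lt A J p * Wl A J l := by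
  unfold Wl
  rw [List.map_cons, List.prod_cons]

theorem Wl_append (l₁ l₂ : List (J ⊕ J)) : Wl A J (l₁ ++ l₂) = Wl A J l₁ * Wl A J l₂ := by
  unfold Wl
  rw [List.map_append, List.prod_append]

theorem Wl_parity (l : List (J ⊕ J)) : Wl A J l ∈ evenOdd (qH A J) (l.length : ZMod 2) := by
  induction l with
  | nil =>
    rw [Wl_nil, List.length_nil, Nat.cast_zero]
    exact SetLike.one_mem_graded _
  | cons p l ih =>
    rw [Wl_cons, List.length_cons, Nat.cast_succ, add_comm]
    exact mul_mem_evenOdd _ (lt_odd A J p) ih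

theorem Wl_even (l : List (J ⊕ J)) (h : Even l.length) : Wl A J l ∈ evenOdd (qH A J) 0 := by
  have := Wl_parity A J l
  rwa [(ZMod.natCast_eq_zero_iff_even).mpr h] at this

/-- A word anticommutes/commutes with a letter of a foreign index. -/
theorem Wl_mul_lt (r : J ⊕ J) (l : List (J ⊕ J)) (h : ∀ p ∈ l, idx J p ≠ idx J r) :
    Wl A J l * lt A J r = ((-1 : A) ^ l.length) • (lt A J r * Wl A J l) := by
  induction l with
  | nil => rw [Wl_nil, one_mul, mul_one, List.length_nil, pow_zero, one_smul]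
  | cons p l ih =>
    have h1 := ih (fun q hq => h q (List.mem_cons_of_mem _ hq))
    have h2 := lt_anti A J p r (h p List.mem_cons_self)
    rw [List.length_cons]
    calc Wl A J (p :: l) * lt A J r = lt A J p * (Wl A J l * lt A J r) := by
          rw [Wl_cons, mul_assoc]
      _ = lt A J p * (((-1 : A) ^ l.length) • (lt A J r * Wl A J l)) := by rw [h1]
      _ = ((-1 : A) ^ l.length) • ((lt A J p * lt A J r) * Wl A J l) := by
          rw [mul_smul_comm, mul_assoc]
      _ = ((-1 : A) ^ l.length) • (-(lt A J r * lt A J p) * Wl A J l) := by rw [h2]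
      _ = ((-1 : A) ^ l.length * -1) • (lt A J r * (lt A J p * Wl A J l)) := by
          rw [neg_mul, smul_neg, mul_neg_one, neg_smul, mul_assoc]
      _ = ((-1 : A) ^ (l.length + 1)) • (lt A J r * Wl A J (p :: l)) := by
          rw [pow_succ, Wl_cons]

theorem Wl_comm_lt (r : J ⊕ J) (l : List (J ⊕ J)) (h : ∀ p ∈ l, idx J p ≠ idx J r)
    (he : Even l.length) : Wl A J l * lt A J r = lt A J r * Wl A J l := by
  rw [Wl_mul_lt A J r l h, he.neg_one_pow, one_smul]

/-- The number operator of index `a`. -/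
noncomputable def Nop (a : J) : CliffordAlgebra (qH A J) :=
  lt A J (Sum.inl a) * lt A J (Sum.inr a)

theorem Nop_even (a : J) : Nop A J a ∈ evenOdd (qH A J) 0 :=
  ι_mul_ι_mem_evenOdd_zero _ _ _

theorem Nop_comm_lt (a : J) (p : J ⊕ J) (h : idx J p ≠ a) :
    Nop A J a * lt A J p = lt A J p * Nop A J a := by
  unfold Nop
  have h1 := lt_anti A J (Sum.inr a) p (fun h' => h h'.symm)
  have h2 := lt_anti A J (Sum.inl a) p (fun h' => h h'.symm)
  rw [mul_assoc, h1, mul_neg, ← mul_assoc, h2, neg_mul, neg_neg, mul_assoc]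

theorem Nop_comm_Wl (a : J) (l : List (J ⊕ J)) (h : ∀ p ∈ l, idx J p ≠ a) :
    Nop A J a * Wl A J l = Wl A J l * Nop A J a := by
  induction l with
  | nil => rw [Wl_nil, one_mul, mul_one]
  | cons p l ih =>
    rw [Wl_cons, ← mul_assoc, Nop_comm_lt A J a p (h p List.mem_cons_self), mul_assoc,
      ih (fun q hq => h q (List.mem_cons_of_mem _ hq)), mul_assoc]

theorem Nop_inl (a : J) :
    Nop A J a * lt A J (Sum.inl a) = lt A J (Sum.inl a) * Nop A J a + lt A J (Sum.inl a) := by
  unfold Nop
  have h1 : lt A J (Sum.inr a) * lt A J (Sum.inl a) =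
      1 - lt A J (Sum.inl a) * lt A J (Sum.inr a) := by
    rw [eq_sub_iff_add_eq, add_comm]
    exact lt_pair A J a
  have hL : lt A J (Sum.inl a) * lt A J (Sum.inr a) * lt A J (Sum.inl a) =
      lt A J (Sum.inl a) := by
    rw [mul_assoc, h1, mul_sub, mul_one, ← mul_assoc, lt_sq, zero_mul, sub_zero]
  have hR : lt A J (Sum.inl a) * (lt A J (Sum.inl a) * lt A J (Sum.inr a)) = 0 := by
    rw [← mul_assoc, lt_sq, zero_mul]
  rw [hL, hR, zero_add]

theorem Nop_inr (a : J) :
    Nop A J a * lt A J (Sum.inr a) = lt A J (Sum.inr a) * Nop A J a - lt A J (Sum.inr a) := by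
  unfold Nop
  have h1 : lt A J (Sum.inr a) * lt A J (Sum.inl a) =
      1 - lt A J (Sum.inl a) * lt A J (Sum.inr a) := by
    rw [eq_sub_iff_add_eq, add_comm]
    exact lt_pair A J a
  have hL : lt A J (Sum.inl a) * lt A J (Sum.inr a) * lt A J (Sum.inr a) = 0 := by
    rw [mul_assoc, lt_sq, mul_zero]
  have hR : lt A J (Sum.inr a) * (lt A J (Sum.inl a) * lt A J (Sum.inr a)) =
      lt A J (Sum.inr a) := by
    rw [← mul_assoc, h1, sub_mul, one_mul, mul_assoc, lt_sq, mul_zero, sub_zero]
  rw [hL, hR, sub_self]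

end Letters

section Vanish

variable (A : Type*) [CommRing A] (J : Type*) [Fintype J] [LinearOrder J]

theorem exists_rare_index (l : List (J ⊕ J)) (hl : l.length + 2 = 2 * Fintype.card J) :
    ∃ a : J, (l.map (idx J)).count a ≤ 1 := by
  classical
  by_contra hcon
  push Not at hcon
  have h1 : (l.map (idx J)).toFinset = Finset.univ := by
    ext a
    simp only [Finset.mem_univ, iff_true, List.mem_toFinset]
    exact List.count_pos_iff.mp (by have := hcon a; omega)
  have h2 := List.sum_toFinset_count_eq_length (l.map (idx J))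
  rw [h1, List.length_map] at h2
  have h3 : ∑ a : J, 2 ≤ ∑ a : J, (l.map (idx J)).count a :=
    Finset.sum_le_sum fun a _ => hcon a
  rw [Finset.sum_const, Finset.card_univ, smul_eq_mul] at h3
  omega

theorem T_Wl_absent (l : List (J ⊕ J)) (he : Even l.length) (a : J)
    (h : ∀ p ∈ l, idx J p ≠ a) : T A J (Wl A J l) = 0 := by
  have hc := Wl_comm_lt A J (Sum.inl a) l h he
  have hc' := Wl_comm_lt A J (Sum.inr a) l h he
  have hW := Wl_even A J l he
  have hodd : lt A J (Sum.inl a) * Wl A J l ∈ evenOdd (qH A J) 1 :=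
    odd_mul_even _ (lt_odd A J _) hW
  have h1 : T A J (lt A J (Sum.inr a) * (lt A J (Sum.inl a) * Wl A J l)) =
      -T A J (lt A J (Sum.inl a) * (lt A J (Sum.inr a) * Wl A J l)) := by
    rw [T_anticomm_odd A J _ hodd, mul_assoc, hc']
  calc T A J (Wl A J l)
      = T A J ((lt A J (Sum.inl a) * lt A J (Sum.inr a) +
          lt A J (Sum.inr a) * lt A J (Sum.inl a)) * Wl A J l) := by rw [lt_pair, one_mul]
    _ = T A J (lt A J (Sum.inl a) * (lt A J (Sum.inr a) * Wl A J l)) +
          T A J (lt A J (Sum.inr a) * (lt A J (Sum.inl a) * Wl A J l)) := by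
        rw [add_mul, map_add, mul_assoc, mul_assoc]
    _ = 0 := by rw [h1, add_neg_cancel]

theorem T_Wl_once (l₁ l₂ : List (J ⊕ J)) (p₀ : J ⊕ J)
    (h₁ : ∀ p ∈ l₁, idx J p ≠ idx J p₀) (h₂ : ∀ p ∈ l₂, idx J p ≠ idx J p₀) :
    T A J (Wl A J (l₁ ++ p₀ :: l₂)) = 0 := by
  have e1 := Nop_comm_Wl A J (idx J p₀) l₁ h₁
  have e2 := Nop_comm_Wl A J (idx J p₀) l₂ h₂
  have hT := T_comm_even A J (Nop_even A J (idx J p₀)) (Wl A J (l₁ ++ p₀ :: l₂))
  rw [Wl_append, Wl_cons] at hT ⊢
  rcases p₀ with a | a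
  · have e0 := Nop_inl A J a
    have hI : idx J (Sum.inl a : J ⊕ J) = a := rfl
    rw [hI] at e1 e2 hT
    have key : Nop A J a * (Wl A J l₁ * (lt A J (Sum.inl a) * Wl A J l₂)) =
        Wl A J l₁ * (lt A J (Sum.inl a) * Wl A J l₂) * Nop A J a +
          Wl A J l₁ * (lt A J (Sum.inl a) * Wl A J l₂) := by
      calc Nop A J a * (Wl A J l₁ * (lt A J (Sum.inl a) * Wl A J l₂))
          = Wl A J l₁ * ((Nop A J a * lt A J (Sum.inl a)) * Wl A J l₂) := by
            rw [← mul_assoc, e1]
            simp only [mul_assoc]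
        _ = Wl A J l₁ * (lt A J (Sum.inl a) * (Nop A J a * Wl A J l₂)) +
              Wl A J l₁ * (lt A J (Sum.inl a) * Wl A J l₂) := by
            rw [e0, add_mul, mul_add, mul_assoc]
        _ = _ := by
            rw [e2]
            simp only [mul_assoc]
    rw [key, map_add] at hT
    have := hT
    simpa using this
  · have e0 := Nop_inr A J a
    have hI : idx J (Sum.inr a : J ⊕ J) = a := rfl
    rw [hI] at e1 e2 hT
    have key : Nop A J a * (Wl A J l₁ * (lt A J (Sum.inr a) * Wl A J l₂)) =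
        Wl A J l₁ * (lt A J (Sum.inr a) * Wl A J l₂) * Nop A J a -
          Wl A J l₁ * (lt A J (Sum.inr a) * Wl A J l₂) := by
      calc Nop A J a * (Wl A J l₁ * (lt A J (Sum.inr a) * Wl A J l₂))
          = Wl A J l₁ * ((Nop A J a * lt A J (Sum.inr a)) * Wl A J l₂) := by
            rw [← mul_assoc, e1]
            simp only [mul_assoc]
        _ = Wl A J l₁ * (lt A J (Sum.inr a) * (Nop A J a * Wl A J l₂)) -
              Wl A J l₁ * (lt A J (Sum.inr a) * Wl A J l₂) := by
            rw [e0, sub_mul, mul_sub, mul_assoc]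
        _ = _ := by
            rw [e2]
            simp only [mul_assoc]
    rw [key, map_sub] at hT
    have := hT
    simpa using this

/-- The supertrace kills the words of length `2m - 2` in the letters. -/
theorem T_Wl_eq_zero (l : List (J ⊕ J)) (hl : l.length + 2 = 2 * Fintype.card J) :
    T A J (Wl A J l) = 0 := by
  classical
  have he : Even l.length := by
    rw [Nat.even_iff]
    omega
  obtain ⟨a, ha⟩ := exists_rare_index J l hl
  rcases Nat.lt_or_ge 0 ((l.map (idx J)).count a) with hpos | hzero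
  · -- exactly once
    have hmem : a ∈ l.map (idx J) := List.count_pos_iff.mp hpos
    obtain ⟨p₀, hp₀, hidx⟩ := List.mem_map.mp hmem
    obtain ⟨l₁, l₂, rfl⟩ := List.append_of_mem hp₀
    have hcount : (List.map (idx J) (l₁ ++ p₀ :: l₂)).count a =
        (l₁.map (idx J)).count a + 1 + (l₂.map (idx J)).count a := by
      rw [List.map_append, List.map_cons, List.count_append, List.count_cons, hidx]
      simp
      ring
    have hz1 : (l₁.map (idx J)).count a = 0 := by omega
    have hz2 : (l₂.map (idx J)).count a = 0 := by omega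
    apply T_Wl_once
    · intro p hp hpa
      have : a ∈ l₁.map (idx J) := List.mem_map.mpr ⟨p, hp, by rw [hpa, hidx]⟩
      exact (List.count_eq_zero.mp hz1) this
    · intro p hp hpa
      have : a ∈ l₂.map (idx J) := List.mem_map.mpr ⟨p, hp, by rw [hpa, hidx]⟩
      exact (List.count_eq_zero.mp hz2) this
  · apply T_Wl_absent A J l he a
    intro p hp hpa
    have : a ∈ l.map (idx J) := List.mem_map.mpr ⟨p, hp, hpa⟩
    have h0 : (l.map (idx J)).count a = 0 := by omega
    exact (List.count_eq_zero.mp h0) this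

/-- Words in arbitrary vectors. -/
noncomputable def Wd (L : List (J ⊕ J → A)) : CliffordAlgebra (qH A J) :=
  (L.map (ι (qH A J))).prod

theorem Wd_nil : Wd A J [] = 1 := rfl

theorem Wd_cons (v : J ⊕ J → A) (L : List (J ⊕ J → A)) :
    Wd A J (v :: L) = ι (qH A J) v * Wd A J L := by
  unfold Wd
  rw [List.map_cons, List.prod_cons]

theorem Wd_append (L₁ L₂ : List (J ⊕ J → A)) : Wd A J (L₁ ++ L₂) = Wd A J L₁ * Wd A J L₂ := by
  unfold Wd
  rw [List.map_append, List.prod_append]

theorem ι_eq_sum (v : J ⊕ J → A) : ι (qH A J) v = ∑ p, v p • lt A J p := by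
  have h := (Pi.basisFun A (J ⊕ J)).sum_repr v
  conv_lhs => rw [← h]
  rw [map_sum]
  refine Finset.sum_congr rfl fun p _ => ?_
  rw [map_smul, Pi.basisFun_repr, Pi.basisFun_apply]
  rfl

theorem T_mixed (L : List (J ⊕ J → A)) : ∀ l : List (J ⊕ J),
    l.length + L.length + 2 = 2 * Fintype.card J → T A J (Wl A J l * Wd A J L) = 0 := by
  induction L with
  | nil =>
    intro l hl
    rw [Wd_nil, mul_one]
    exact T_Wl_eq_zero A J l (by simpa using hl)
  | cons v L ih =>
    intro l hl
    rw [Wd_cons, ι_eq_sum, Finset.sum_mul, Finset.mul_sum, map_sum]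
    apply Finset.sum_eq_zero
    intro p _
    rw [smul_mul_assoc, mul_smul_comm, map_smul, ← mul_assoc]
    have h1 : Wl A J l * lt A J p = Wl A J (l ++ [p]) := by
      rw [Wl_append, Wl_cons, Wl_nil, mul_one]
    rw [h1, ih (l ++ [p]) (by
      simp only [List.length_append, List.length_cons, List.length_nil] at hl ⊢
      omega), smul_zero]

theorem T_Wd_short (L : List (J ⊕ J → A)) (hL : L.length + 2 = 2 * Fintype.card J) :
    T A J (Wd A J L) = 0 := by
  have := T_mixed A J L [] (by simpa using hL)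
  rwa [Wl_nil, one_mul] at this

theorem T_rep (L₂ : List (J ⊕ J → A)) : ∀ (L₁ L₃ : List (J ⊕ J → A)) (v : J ⊕ J → A),
    L₁.length + L₂.length + L₃.length + 2 = 2 * Fintype.card J →
    T A J (Wd A J (L₁ ++ v :: (L₂ ++ v :: L₃))) = 0 := by
  induction L₂ with
  | nil =>
    intro L₁ L₃ v h
    rw [List.nil_append, Wd_append, Wd_cons, Wd_cons, ← mul_assoc (ι (qH A J) v), ι_sq_scalar,
      ← Algebra.smul_def, mul_smul_comm, map_smul, ← Wd_append,
      T_Wd_short A J (L₁ ++ L₃) (by rw [List.length_append]; simpa using h), smul_zero]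
  | cons x L₂ ih =>
    intro L₁ L₃ v h
    have hsw : ι (qH A J) v * ι (qH A J) x =
        algebraMap A _ (QuadraticMap.polar (qH A J) v x) - ι (qH A J) x * ι (qH A J) v := by
      rw [eq_sub_iff_add_eq, ι_mul_ι_add_swap]
    have hR : Wd A J (L₁ ++ v :: (x :: L₂ ++ v :: L₃)) =
        Wd A J L₁ * (ι (qH A J) v * (ι (qH A J) x * Wd A J (L₂ ++ v :: L₃))) := by
      rw [Wd_append, Wd_cons, List.cons_append, Wd_cons]
    have h1' : Wd A J (L₁ ++ (L₂ ++ v :: L₃)) = Wd A J L₁ * Wd A J (L₂ ++ v :: L₃) :=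
      Wd_append A J _ _
    have h2' : Wd A J ((L₁ ++ [x]) ++ v :: (L₂ ++ v :: L₃)) =
        Wd A J L₁ * ι (qH A J) x * (ι (qH A J) v * Wd A J (L₂ ++ v :: L₃)) := by
      rw [Wd_append, Wd_append, Wd_cons, Wd_cons, Wd_nil, mul_one]
    have e1 : Wd A J (L₁ ++ v :: (x :: L₂ ++ v :: L₃)) =
        QuadraticMap.polar (qH A J) v x • Wd A J (L₁ ++ (L₂ ++ v :: L₃)) -
          Wd A J ((L₁ ++ [x]) ++ v :: (L₂ ++ v :: L₃)) := by
      rw [hR, h1', h2', ← mul_assoc (ι (qH A J) v), hsw, sub_mul, mul_sub, ← Algebra.smul_def,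
        mul_smul_comm]
      simp only [mul_assoc]
    rw [e1, map_sub, map_smul,
      T_Wd_short A J (L₁ ++ (L₂ ++ v :: L₃)) (by
        simp only [List.length_append, List.length_cons] at h ⊢
        omega),
      ih (L₁ ++ [x]) L₃ v (by
        simp only [List.length_append, List.length_cons, List.length_nil] at h ⊢
        omega),
      smul_zero, sub_zero]

end Vanish

section Det

variable (A : Type*) [CommRing A] (J : Type*) [Fintype J] [LinearOrder J]

/-- The multilinear form `v ↦ T (ι v₁ ⋯ ι vₙ)`. -/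
noncomputable def Dm (n : ℕ) : MultilinearMap A (fun _ : Fin n => J ⊕ J → A) A :=
  (T A J).compMultilinearMap
    ((MultilinearMap.mkPiAlgebraFin A n (CliffordAlgebra (qH A J))).compLinearMap
      fun _ => ι (qH A J))

theorem Dm_apply (n : ℕ) (v : Fin n → (J ⊕ J → A)) :
    Dm A J n v = T A J (Wd A J (List.ofFn v)) := by
  unfold Dm Wd
  rw [List.map_ofFn]
  rfl

theorem Dm_alt (v : Fin (2 * Fintype.card J) → (J ⊕ J → A))
    (x y : Fin (2 * Fintype.card J)) (hxy : v x = v y) (hne : x ≠ y) :
    Dm A J (2 * Fintype.card J) v = 0 := by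
  rw [Dm_apply, List.ofFn_eq_map]
  obtain ⟨l₁, r, h1⟩ := List.append_of_mem (List.mem_finRange x)
  have hlen := List.length_finRange (n := 2 * Fintype.card J)
  have hy : y ∈ l₁ ++ x :: r := h1 ▸ List.mem_finRange y
  rcases List.mem_append.mp hy with hy1 | hy2
  · obtain ⟨l₁', l₂', rfl⟩ := List.append_of_mem hy1
    rw [h1]
    have e : (l₁' ++ y :: l₂' ++ x :: r).map v =
        l₁'.map v ++ v y :: (l₂'.map v ++ v y :: r.map v) := by
      simp [hxy]
    rw [e]
    apply T_rep
    rw [h1] at hlen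
    simp only [List.length_append, List.length_cons, List.length_map] at hlen ⊢
    omega
  · rcases List.mem_cons.mp hy2 with hy3 | hy3
    · exact absurd hy3.symm hne
    · obtain ⟨l₂, l₃, rfl⟩ := List.append_of_mem hy3
      rw [h1]
      have e : (l₁ ++ x :: (l₂ ++ y :: l₃)).map v =
          l₁.map v ++ v x :: (l₂.map v ++ v x :: l₃.map v) := by
        simp [hxy]
      rw [e]
      apply T_rep
      rw [h1] at hlen
      simp only [List.length_append, List.length_cons, List.length_map] at hlen ⊢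
      omega

/-- The alternating form `v ↦ T (ι v₁ ⋯ ι v₂ₘ)`. -/
noncomputable def Da : (J ⊕ J → A) [⋀^Fin (2 * Fintype.card J)]→ₗ[A] A :=
  { Dm A J (2 * Fintype.card J) with
    map_eq_zero_of_eq' := fun v x y hxy hne => Dm_alt A J v x y hxy hne }

theorem Da_apply (v : Fin (2 * Fintype.card J) → (J ⊕ J → A)) :
    Da A J v = T A J (Wd A J (List.ofFn v)) := Dm_apply A J _ v

/-- The list of vectors whose word is `Pc`. -/
noncomputable def Lp : List J → List (J ⊕ J → A)
  | [] => []
  | a :: s => Lp s ++ [sv A J (Sum.inr a), sv A J (Sum.inl a)]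

theorem Lp_length : ∀ s : List J, (Lp A J s).length = 2 * s.length := by
  intro s
  induction s with
  | nil => rfl
  | cons a s ih =>
    have h0 : Lp A J (a :: s) = Lp A J s ++ [sv A J (Sum.inr a), sv A J (Sum.inl a)] := rfl
    rw [h0, List.length_append, ih, List.length_cons, List.length_cons, List.length_cons,
      List.length_nil]
    ring

theorem Wd_Lp : ∀ s : List J, Wd A J (Lp A J s) = Pc A J s := by
  intro s
  induction s with
  | nil => rfl
  | cons a s ih =>
    have h0 : Lp A J (a :: s) = Lp A J s ++ [sv A J (Sum.inr a), sv A J (Sum.inl a)] := rfl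
    have h1 : Pc A J (a :: s) = Pc A J s * (cc A J a * ca A J a) := rfl
    rw [h0, h1, Wd_append, ih, Wd_cons, Wd_cons, Wd_nil, mul_one]
    rfl

theorem conj_Wd (u : (CliffordAlgebra (qH A J))ˣ) (G : (J ⊕ J → A) →ₗ[A] (J ⊕ J → A))
    (hu : ∀ x, (u : CliffordAlgebra (qH A J)) * ι (qH A J) x * ↑u⁻¹ = ι (qH A J) (G x))
    (L : List (J ⊕ J → A)) :
    (u : CliffordAlgebra (qH A J)) * Wd A J L * ↑u⁻¹ = Wd A J (L.map G) := by
  induction L with
  | nil => rw [List.map_nil, Wd_nil, mul_one, Units.mul_inv]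
  | cons v L ih =>
    rw [List.map_cons, Wd_cons, Wd_cons, ← ih, ← hu]
    simp only [mul_assoc, Units.inv_mul_cancel_left]

/-- The determinant of the map induced by a homogeneous unit normalising the module. -/
theorem det_of_lift (u : (CliffordAlgebra (qH A J))ˣ) (G : (J ⊕ J → A) →ₗ[A] (J ⊕ J → A))
    (hu : ∀ x, (u : CliffordAlgebra (qH A J)) * ι (qH A J) x * ↑u⁻¹ = ι (qH A J) (G x)) :
    ((u : CliffordAlgebra (qH A J)) ∈ evenOdd (qH A J) 0 → LinearMap.det G = 1) ∧
    ((u : CliffordAlgebra (qH A J)) ∈ evenOdd (qH A J) 1 → LinearMap.det G = -1) := by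
  classical
  have hlen : (Lp A J (Finset.univ : Finset J).toList).length = 2 * Fintype.card J := by
    rw [Lp_length, Finset.length_toList, Finset.card_univ]
  obtain ⟨y, hy⟩ : ∃ y : Fin (2 * Fintype.card J) → (J ⊕ J → A),
      List.ofFn y = Lp A J (Finset.univ : Finset J).toList := by
    have : ∀ (n : ℕ) (L : List (J ⊕ J → A)), L.length = n →
        ∃ y : Fin n → (J ⊕ J → A), List.ofFn y = L := by
      rintro n L rfl
      exact ⟨L.get, List.ofFn_get L⟩
    exact this _ _ hlen
  have hDy : Da A J y = 1 := by rw [Da_apply, hy, Wd_Lp, T_Pc]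
  have hcard : Fintype.card (J ⊕ J) = 2 * Fintype.card J := by
    rw [Fintype.card_sum]
    ring
  let e : Module.Basis (Fin (2 * Fintype.card J)) A (J ⊕ J → A) :=
    (Pi.basisFun A (J ⊕ J)).reindex (Fintype.equivFinOfCardEq hcard)
  have key := AlternatingMap.eq_smul_basis_det e (Da A J)
  have h1 : Da A J (G ∘ y) = LinearMap.det G * Da A J y := by
    have e1 : Da A J (G ∘ y) = Da A J e * e.det (G ∘ y) := by
      conv_lhs => rw [key]
      rfl
    have e2 : Da A J y = Da A J e * e.det y := by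
      conv_lhs => rw [key]
      rfl
    rw [e1, e2, Module.Basis.det_comp]
    ring
  have h2 : Da A J (G ∘ y) =
      T A J ((u : CliffordAlgebra (qH A J)) * Wd A J (Lp A J (Finset.univ : Finset J).toList) *
        ↑u⁻¹) := by
    rw [Da_apply, conj_Wd A J u G hu, ← hy, List.map_ofFn]
  have hWe : Wd A J (Lp A J (Finset.univ : Finset J).toList) ∈ evenOdd (qH A J) 0 := by
    rw [Wd_Lp]
    have hP : ∀ s : List J, Pc A J s ∈ evenOdd (qH A J) 0 := by
      intro s
      induction s with
      | nil => exact SetLike.one_mem_graded _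
      | cons a s ih =>
        exact even_mul_even _ ih (ι_mul_ι_mem_evenOdd_zero _ _ _)
    exact hP _
  rw [hDy, mul_one] at h1
  constructor
  · intro he
    rw [← h1, h2, mul_assoc, T_comm_even A J he, mul_assoc, Units.inv_mul, mul_one, ← hy,
      ← Da_apply, hDy]
  · intro ho
    have hinv : (↑u⁻¹ : CliffordAlgebra (qH A J)) ∈ evenOdd (qH A J) 1 := by
      have := QuadGrp.isLocHomog_inv_aux (qH A J) u 0
        (by rw [zero_smul]; exact Submodule.zero_mem _) (by rw [sub_zero, one_smul]; exact ho)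
      simpa using this.2
    have hodd : Wd A J (Lp A J (Finset.univ : Finset J).toList) * ↑u⁻¹ ∈ evenOdd (qH A J) 1 :=
      even_mul_odd _ hWe hinv
    have h3 : (u : CliffordAlgebra (qH A J)) ∈ evenOdd (qH A J) 1 := ho
    rw [← h1, h2, mul_assoc]
    -- T (u * (W * u⁻¹)) = - T ((W * u⁻¹) * u)
    have h4 : T A J ((u : CliffordAlgebra (qH A J)) *
        (Wd A J (Lp A J (Finset.univ : Finset J).toList) * ↑u⁻¹)) =
        -T A J ((Wd A J (Lp A J (Finset.univ : Finset J).toList) * ↑u⁻¹) * u) := by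
      have h5 := T_anticomm_odd A J
        (Wd A J (Lp A J (Finset.univ : Finset J).toList) * ↑u⁻¹) h3
      rw [h5, neg_neg]
    rw [h4, mul_assoc, Units.inv_mul, mul_one, ← hy, ← Da_apply, hDy]

end Det

end Groth.Agent.H80.ClDetSplit
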