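import Groth.Agent.H80.ClSNApp
import Groth.Agent.H80.ClDetSplit

set_option autoImplicit false
set_option linter.unusedSectionVars false

universe u v w

/-!
# Determinant and Dickson condition for isometries of regular forms of even rank

Descent of the split computation (`ClDetSplit.det_of_lift`) along an fppf splitting followed by
localisation at the maximal ideals of the splitting ring.
-/

namespace Groth.Agent.H80.ClDet

open CliffordAlgebra TensorProduct Groth.Agent.H80.QuadMat Groth.Agent.H80.ClBasic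
  Groth.Agent.H80.ClBC Groth.Agent.H80.ClGenA Groth.Agent.H80.ClCentre Groth.Agent.H80.ClSplit
  Groth.Agent.H80.ClEvenData Groth.Agent.H80.ClOddLocal Groth.Agent.H80.ClEvenSplit
  Groth.Agent.H80.ClEvenC Groth.Agent.H80.ClSN Groth.Agent.H80.ClSNApp Groth.Agent.H80.ClStar
  Groth.Agent.H80.ClDetSplit

section QH

variable (A : Type*) [CommRing A] (J : Type*) [Fintype J] [DecidableEq J]

/-- The hyperbolic form is regular. -/
theorem qH_regular : Function.Bijective (QuadraticMap.polarBilin (qH A J)) := by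
  have h : ∀ x y, QuadraticMap.polarBilin (qH A J) x y =
      dotProductEquiv A (J ⊕ J) (x ∘ Sum.swap) y := by
    intro x y
    rw [QuadraticMap.polarBilin_apply_apply, polar_qH]
    show _ = (x ∘ Sum.swap) ⬝ᵥ y
    rw [dotProduct, Fintype.sum_sum_type]
    simp only [Function.comp, Sum.swap_inl, Sum.swap_inr]
    rw [← Finset.sum_add_distrib]
    exact Finset.sum_congr rfl fun j _ => by ring
  have heq : ⇑(QuadraticMap.polarBilin (qH A J)) =
      (dotProductEquiv A (J ⊕ J)) ∘ (fun x : J ⊕ J → A => x ∘ Sum.swap) := by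
    funext x
    apply LinearMap.ext
    intro y
    exact h x y
  rw [heq]
  refine (dotProductEquiv A (J ⊕ J)).bijective.comp (Function.Involutive.bijective ?_)
  intro x
  funext p
  simp

end QH

section Localize

variable {R : Type*} [CommRing R] {A' : Type*} [CommRing A'] [Algebra R A']
  (B : Type*) [CommRing B] [Algebra A' B] [Algebra R B] [IsScalarTower R A' B]
  {M : Type*} [AddCommGroup M] [Module R M] (Q : QuadraticForm R M)
  (J : Type*) [Fintype J] [DecidableEq J]
  {ι₀ : Type*} [Fintype ι₀] [DecidableEq ι₀]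

/-- Transport of splitting data along a ring map `A' → B`. -/
theorem localize_data (f : M →ₗ[R] (J ⊕ J → A')) (hf : ∀ x, qH A' J (f x) = algebraMap R A' (Q x))
    (b : Module.Basis ι₀ R M) (b' : Module.Basis ι₀ A' (J ⊕ J → A')) (hb : ∀ i, f (b i) = b' i) :
    ∃ (fB : M →ₗ[R] (J ⊕ J → B)) (bB : Module.Basis ι₀ B (J ⊕ J → B)),
      (∀ x, qH B J (fB x) = algebraMap R B (Q x)) ∧ (∀ i, fB (b i) = bB i) := by
  let fB : M →ₗ[R] (J ⊕ J → B) :=
    (((Algebra.linearMap A' B).restrictScalars R).compLeft (J ⊕ J)) ∘ₗ f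
  have hfB : ∀ x p, fB x p = algebraMap A' B (f x p) := fun x p => rfl
  let bB : Module.Basis ι₀ B (J ⊕ J → B) :=
    (Algebra.TensorProduct.basis B b').map (TensorProduct.piScalarRight A' B B (J ⊕ J))
  refine ⟨fB, bB, ?_, ?_⟩
  · intro x
    rw [qH_apply]
    simp only [hfB]
    rw [IsScalarTower.algebraMap_apply R A' B, ← hf x, qH_apply, map_sum]
    exact Finset.sum_congr rfl fun j _ => (map_mul _ _ _).symm
  · intro i
    funext p
    rw [hfB, hb]
    show _ = (TensorProduct.piScalarRight A' B B (J ⊕ J))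
      ((Algebra.TensorProduct.basis B b') i) p
    rw [Algebra.TensorProduct.basis_apply, TensorProduct.piScalarRight_apply,
      TensorProduct.piScalarRightHom_tmul]
    show _ = b' i p • (1 : B)
    rw [Algebra.smul_def, mul_one]

end Localize

section Coord

variable {R : Type*} [CommRing R] {A : Type*} [CommRing A] [Algebra R A]
  {M : Type*} [AddCommGroup M] [Module R M]
  {N : Type*} [AddCommGroup N] [Module A N] [Module R N] [IsScalarTower R A N]
  (Q : QuadraticForm R M) (Q' : QuadraticForm A N)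
  (f : M →ₗ[R] N)
  (hf : ∀ m, Q' (f m) = algebraMap R A (Q m))
  {ι₀ : Type*} [Fintype ι₀] (b : Module.Basis ι₀ R M)
  (b' : Module.Basis ι₀ A N)
  (hb : ∀ i, f (b i) = b' i)

include hb in
/-- Coordinates of `Phi z`. -/
theorem coord_of_Phi_eq_zero
    (bC : Module.Basis (Finset (Fin (Fintype.card ι₀))) R (CliffordAlgebra Q))
    (z : CliffordAlgebra Q) (hz : Phi Q Q' f hf z = 0) (S : Finset (Fin (Fintype.card ι₀))) :
    algebraMap R A (bC.repr z S) = 0 := by
  obtain ⟨bT, hbT⟩ : ∃ bT : Module.Basis (Finset (Fin (Fintype.card ι₀))) A (CliffordAlgebra Q'),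
      bT = (Algebra.TensorProduct.basis A bC).map (PsiEquiv Q Q' f hf b b' hb).toLinearEquiv :=
    ⟨_, rfl⟩
  have h1 : bT.repr (Phi Q Q' f hf z) S = algebraMap R A (bC.repr z S) := by
    have h2 : Phi Q Q' f hf z = (PsiEquiv Q Q' f hf b b' hb).toLinearEquiv ((1 : A) ⊗ₜ[R] z) := by
      show _ = Psi Q Q' f hf _
      rw [Psi_tmul, one_smul]
    rw [h2, hbT, Module.Basis.map_repr, LinearEquiv.trans_apply, LinearEquiv.symm_apply_apply,
      Algebra.TensorProduct.basis_repr_tmul]
    simp
  rw [← h1, hz, map_zero, Finsupp.zero_apply]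

include hb in
/-- Coordinates of `f v`. -/
theorem repr_f [DecidableEq ι₀] (v : M) (i : ι₀) :
    b'.repr (f v) i = algebraMap R A (b.repr v i) := by
  conv_lhs => rw [← b.sum_repr v]
  rw [map_sum, map_sum, Finsupp.coe_finsetSum, Finset.sum_apply, Finset.sum_eq_single i]
  · rw [map_smul, hb, ← algebraMap_smul A, map_smul, Module.Basis.repr_self, Finsupp.smul_apply,
      Finsupp.single_eq_same, smul_eq_mul, mul_one]
  · intro k _ hk
    rw [map_smul, hb, ← algebraMap_smul A, map_smul, Module.Basis.repr_self, Finsupp.smul_apply,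
      Finsupp.single_apply, if_neg hk, smul_zero]
  · intro h
    exact absurd (Finset.mem_univ _) h

end Coord

section Homog

variable {R : Type*} [CommRing R] {M : Type*} [AddCommGroup M] [Module R M]
  (Q : QuadraticForm R M) {ι₀ : Type*} [Fintype ι₀] (b : Module.Basis ι₀ R M)

include b in
/-- Over a local ring, a unit inducing a graded inner automorphism is homogeneous. -/
theorem homog_of_local' [IsLocalRing R]
    (hZ : Subalgebra.center R (CliffordAlgebra Q) = ⊥)
    (σ : CliffordAlgebra Q →ₐ[R] CliffordAlgebra Q) (G : M → M)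
    (hσG : ∀ v, σ (ι Q v) = ι Q (G v))
    (u : (CliffordAlgebra Q)ˣ) (hσ : ∀ a, σ a = ↑u * a * ↑u⁻¹) :
    (u : CliffordAlgebra Q) ∈ evenOdd Q 0 ∨ (u : CliffordAlgebra Q) ∈ evenOdd Q 1 := by
  have hinjR := algebraMap_injective_of_basis b Q
  have hu' : ∀ v, (u : CliffordAlgebra Q) * ι Q v = ι Q (G v) * u := by
    intro v
    rw [← hσG, hσ, mul_assoc, Units.inv_mul, mul_one]
  have hp0 : ∀ a, P0 Q (u : CliffordAlgebra Q) * a = σ a * P0 Q u :=
    twisted_of_basis Q b σ (fun i => by
      rw [hσG]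
      exact (parts_twisted Q hu' (b i)).1)
  have hp1 : ∀ a, P1 Q (u : CliffordAlgebra Q) * a = σ a * P1 Q u :=
    twisted_of_basis Q b σ (fun i => by
      rw [hσG]
      exact (parts_twisted Q hu' (b i)).2)
  obtain ⟨s, hs⟩ := eq_smul_of_twisted Q σ hZ u hσ hp0
  obtain ⟨t, ht⟩ := eq_smul_of_twisted Q σ hZ u hσ hp1
  have hst : s + t = 1 := by
    apply hinjR
    have h1 : (s + t) • (u : CliffordAlgebra Q) = u := by
      rw [add_smul, ← hs, ← ht, P0_add_P1]
    have h2 : algebraMap R (CliffordAlgebra Q) (s + t) * u = u := by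
      rw [← Algebra.smul_def, h1]
    calc algebraMap R (CliffordAlgebra Q) (s + t)
        = algebraMap R (CliffordAlgebra Q) (s + t) * u * ↑u⁻¹ := by
          rw [mul_assoc, Units.mul_inv, mul_one]
      _ = u * ↑u⁻¹ := by rw [h2]
      _ = 1 := Units.mul_inv u
      _ = algebraMap R (CliffordAlgebra Q) 1 := (map_one _).symm
  rcases IsLocalRing.isUnit_or_isUnit_of_add_one hst with hs' | ht'
  · left
    obtain ⟨su, rfl⟩ := hs'
    have h1 : (u : CliffordAlgebra Q) = (↑su⁻¹ : R) • P0 Q (u : CliffordAlgebra Q) := by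
      rw [hs, smul_smul, Units.inv_mul, one_smul]
    rw [h1]
    exact Submodule.smul_mem _ _ (P0_mem Q _)
  · right
    obtain ⟨tu, rfl⟩ := ht'
    have h1 : (u : CliffordAlgebra Q) = (↑tu⁻¹ : R) • P1 Q (u : CliffordAlgebra Q) := by
      rw [ht, smul_smul, Units.inv_mul, one_smul]
    rw [h1]
    exact Submodule.smul_mem _ _ (P1_mem Q _)

end Homog

section SplitLocal

variable {R : Type u} [CommRing R] {B : Type v} [CommRing B] [Algebra R B] [IsLocalRing B]
  [Module.Flat R B]
  {M : Type w} [AddCommGroup M] [Module R M] (Q : QuadraticForm R M) (m : ℕ)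
  (f : M →ₗ[R] (Fin m ⊕ Fin m → B))
  (hf : ∀ x, qH B (Fin m) (f x) = algebraMap R B (Q x))
  (b : Module.Basis (Fin (2 * m)) R M)
  (b' : Module.Basis (Fin (2 * m)) B (Fin m ⊕ Fin m → B))
  (hb : ∀ i, f (b i) = b' i)
  (g : M ≃ₗ[R] M) (hg : g ∈ QuadGrp.O Q)

include hb in
/-- The local lift over a split local ring, with its parity and determinant. -/
theorem exists_local_lift :
    ∃ u : (CliffordAlgebra (qH B (Fin m)))ˣ,
      ((u : CliffordAlgebra (qH B (Fin m))) ∈ evenOdd (qH B (Fin m)) 0 ∨
        (u : CliffordAlgebra (qH B (Fin m))) ∈ evenOdd (qH B (Fin m)) 1) ∧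
      (∀ x, Phi Q (qH B (Fin m)) f hf (sigmaOf Q g hg x) =
        ↑u * Phi Q (qH B (Fin m)) f hf x * ↑u⁻¹) ∧
      ((u : CliffordAlgebra (qH B (Fin m))) ∈ evenOdd (qH B (Fin m)) 0 →
        algebraMap R B (LinearMap.det (g : M →ₗ[R] M)) = 1) ∧
      ((u : CliffordAlgebra (qH B (Fin m))) ∈ evenOdd (qH B (Fin m)) 1 →
        algebraMap R B (LinearMap.det (g : M →ₗ[R] M)) = -1) := by
  classical
  obtain ⟨P, hP⟩ : ∃ P : B ⊗[R] CliffordAlgebra Q ≃ₐ[B] CliffordAlgebra (qH B (Fin m)),
      P = PsiEquiv Q (qH B (Fin m)) f hf b b' hb := ⟨_, rfl⟩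
  have hP1 : ∀ x, P ((1 : B) ⊗ₜ[R] x) = Phi Q (qH B (Fin m)) f hf x := by
    intro x
    rw [hP, PsiEquiv_apply, Psi_tmul, one_smul]
  let σB : CliffordAlgebra (qH B (Fin m)) ≃ₐ[B] CliffordAlgebra (qH B (Fin m)) :=
    (P.symm.trans (Algebra.TensorProduct.congr AlgEquiv.refl (sigmaOf Q g hg))).trans P
  have hσB : ∀ x, σB (Phi Q (qH B (Fin m)) f hf x) =
      Phi Q (qH B (Fin m)) f hf (sigmaOf Q g hg x) := by
    intro x
    show P (Algebra.TensorProduct.congr AlgEquiv.refl (sigmaOf Q g hg) (P.symm _)) = _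
    rw [← hP1 x, AlgEquiv.symm_apply_apply, Algebra.TensorProduct.congr_apply,
      Algebra.TensorProduct.map_tmul, ← hP1]
    rfl
  obtain ⟨u, hu⟩ := skolem_noether m b' (qH B (Fin m)) (qH_regular B (Fin m)) σB
  have hconj : ∀ x, Phi Q (qH B (Fin m)) f hf (sigmaOf Q g hg x) =
      ↑u * Phi Q (qH B (Fin m)) f hf x * ↑u⁻¹ := by
    intro x
    rw [← hσB, hu]
  let G : (Fin m ⊕ Fin m → B) →ₗ[B] (Fin m ⊕ Fin m → B) :=
    b'.constr B (fun i => f (g (b i)))
  have hGb : ∀ i, G (b' i) = f (g (b i)) := fun i => Module.Basis.constr_basis b' B _ i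
  have hG : ∀ x, (u : CliffordAlgebra (qH B (Fin m))) * ι (qH B (Fin m)) x * ↑u⁻¹ =
      ι (qH B (Fin m)) (G x) := by
    have hlin : (LinearMap.mulRight B (↑u⁻¹ : CliffordAlgebra (qH B (Fin m)))).comp
        ((LinearMap.mulLeft B (u : CliffordAlgebra (qH B (Fin m)))).comp (ι (qH B (Fin m)))) =
        (ι (qH B (Fin m))).comp G := by
      apply b'.ext
      intro i
      show (u : CliffordAlgebra (qH B (Fin m))) * ι (qH B (Fin m)) (b' i) * ↑u⁻¹ =
        ι (qH B (Fin m)) (G (b' i))
      rw [hGb, ← hb i, ← Phi_ι Q (qH B (Fin m)) f hf, ← hconj, sigmaOf_ι, Phi_ι]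
    intro x
    exact LinearMap.congr_fun hlin x
  have hdet : LinearMap.det G = algebraMap R B (LinearMap.det (g : M →ₗ[R] M)) := by
    rw [← LinearMap.det_toMatrix b' G, ← LinearMap.det_toMatrix b (g : M →ₗ[R] M),
      RingHom.map_det]
    congr 1
    ext i j
    rw [LinearMap.toMatrix_apply, hGb, repr_f f b b' hb, RingHom.mapMatrix_apply,
      Matrix.map_apply, LinearMap.toMatrix_apply]
    rfl
  have hZB := center_eq_bot B (Fin m)
  have hpar := homog_of_local' (qH B (Fin m)) b' hZB
    (σB : CliffordAlgebra (qH B (Fin m)) →ₐ[B] CliffordAlgebra (qH B (Fin m))) G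
    (fun x => by
      show σB (ι (qH B (Fin m)) x) = _
      rw [hu, hG]) u hu
  have hd := det_of_lift B (Fin m) u G hG
  refine ⟨u, hpar, hconj, ?_, ?_⟩
  · intro he
    rw [← hdet]
    exact hd.1 he
  · intro ho
    rw [← hdet]
    exact hd.2 ho

include hb in
/-- A Dickson-trivial isometry has even local lifts. -/
theorem even_of_dickson (hD : QuadGrp.IsDicksonTrivial Q g hg)
    (u : (CliffordAlgebra (qH B (Fin m)))ˣ)
    (hconj : ∀ x, Phi Q (qH B (Fin m)) f hf (sigmaOf Q g hg x) =
      ↑u * Phi Q (qH B (Fin m)) f hf x * ↑u⁻¹) :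
    (u : CliffordAlgebra (qH B (Fin m))) ∈ evenOdd (qH B (Fin m)) 0 := by
  have hep : ep B (Fin m) ∈ SE Q (qH B (Fin m)) f hf b :=
    mem_SE Q (qH B (Fin m)) f hf b b' hb (ep_even B (Fin m))
      (fun i j => (even_comm_ep B (Fin m) (ι_mul_ι_mem_evenOdd_zero _ _ _)).symm)
  have hfix : ∀ w' ∈ SE Q (qH B (Fin m)) f hf b,
      (u : CliffordAlgebra (qH B (Fin m))) * w' * ↑u⁻¹ = w' := by
    intro w' hw
    unfold SE at hw
    induction hw using Submodule.span_induction with
    | mem y hy =>
      obtain ⟨z, hz, rfl⟩ := hy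
      have hz' := (mem_ker_ThetaE Q b z).mp hz
      have hcz : (⟨z, hz'.1⟩ : even Q) ∈ Subalgebra.center R (even Q) := by
        rw [Subalgebra.mem_center_iff]
        intro y
        apply Subtype.ext
        show (y : CliffordAlgebra Q) * z = z * y
        exact (hz'.2 y.1 y.2).symm
      have h1 : CliffordAlgebra.map (QuadGrp.isometryOfMem Q g hg) z = z := hD ⟨z, hz'.1⟩ hcz
      rw [← sigmaOf_eq_map] at h1
      rw [← hconj, h1]
    | zero => rw [mul_zero, zero_mul]
    | add y z _ _ hy hz => rw [mul_add, add_mul, hy, hz]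
    | smul c y _ hy => rw [mul_smul_comm, smul_mul_assoc, hy]
  have h2 := hfix _ hep
  apply even_of_comm_ep B (Fin m)
  calc (u : CliffordAlgebra (qH B (Fin m))) * ep B (Fin m)
      = (↑u * ep B (Fin m) * ↑u⁻¹) * u := by rw [mul_assoc, Units.inv_mul, mul_one]
    _ = ep B (Fin m) * u := by rw [h2]

include hb in
/-- If the local lift is even, the isometry acts trivially on the image of the centre of the
even subalgebra. -/
theorem Phi_fixed_of_even (u : (CliffordAlgebra (qH B (Fin m)))ˣ)
    (hconj : ∀ x, Phi Q (qH B (Fin m)) f hf (sigmaOf Q g hg x) =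
      ↑u * Phi Q (qH B (Fin m)) f hf x * ↑u⁻¹)
    (he : (u : CliffordAlgebra (qH B (Fin m))) ∈ evenOdd (qH B (Fin m)) 0)
    (z : CliffordAlgebra Q) (hz : z ∈ evenOdd Q 0) (hzc : ∀ y ∈ evenOdd Q 0, z * y = y * z) :
    Phi Q (qH B (Fin m)) f hf (sigmaOf Q g hg z - z) = 0 := by
  -- `Phi z` commutes with all even elements
  have hcomm : ∀ y' : even (qH B (Fin m)),
      Phi Q (qH B (Fin m)) f hf z * (y' : CliffordAlgebra (qH B (Fin m))) =
        (y' : CliffordAlgebra (qH B (Fin m))) * Phi Q (qH B (Fin m)) f hf z := by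
    intro y'
    obtain ⟨t, rfl⟩ := evenMap_surjective Q (qH B (Fin m)) f hf b b' hb y'
    rw [evenMap_coe]
    induction t using TensorProduct.induction_on with
    | zero => rw [map_zero, mul_zero, zero_mul]
    | tmul a y =>
      rw [evenMap₀_tmul, mul_smul_comm, smul_mul_assoc, ← map_mul, ← map_mul, hzc y.1 y.2]
    | add s t hs ht => rw [map_add, mul_add, add_mul, hs, ht]
  have h1 := hcomm ⟨u, he⟩
  have h2 : Phi Q (qH B (Fin m)) f hf z * (u : CliffordAlgebra (qH B (Fin m))) =
      u * Phi Q (qH B (Fin m)) f hf z := h1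
  rw [map_sub, hconj, ← h2, mul_assoc, Units.mul_inv, mul_one, sub_self]

end SplitLocal

section Global

variable {R : Type u} [CommRing R] {M : Type v} [AddCommGroup M] [Module R M]
  (Q : QuadraticForm R M)

/-- An element of `R` vanishing in all localisations of a faithfully flat `R`-algebra at maximal
ideals is zero. -/
theorem eq_zero_of_forall_localization {A' : Type*} [CommRing A'] [Algebra R A']
    (hinj : Function.Injective (algebraMap R A')) (r : R)
    (h : ∀ (q : Ideal A') (hq : q.IsMaximal), algebraMap R (Localization.AtPrime q) r = 0) :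
    r = 0 := by
  apply hinj
  rw [map_zero]
  apply eq_zero_of_localization
  intro q hq
  rw [← IsScalarTower.algebraMap_apply R A' (Localization.AtPrime q)]
  exact h q hq

/-- S16988: a Dickson-trivial isometry has determinant one. -/
theorem det_eq_one_of_dickson (m : ℕ) (b : Module.Basis (Fin (2 * m)) R M)
    (hQ : Function.Bijective (QuadraticMap.polarBilin Q))
    (g : M ≃ₗ[R] M) (hg : g ∈ QuadGrp.O Q) (hD : QuadGrp.IsDicksonTrivial Q g hg) :
    LinearMap.det (g : M →ₗ[R] M) = 1 := by
  classical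
  obtain ⟨A', instA, algA, hff, hfp, f, b', hf, hb⟩ := exists_split_data_even m b Q hQ
  have hinj : Function.Injective (algebraMap R A') := FaithfulSMul.algebraMap_injective R A'
  have hflat : Module.Flat R A' := inferInstance
  rw [← sub_eq_zero]
  apply eq_zero_of_forall_localization hinj
  intro q hq
  have hfl : Module.Flat R (Localization.AtPrime q) :=
    Module.Flat.trans R A' (Localization.AtPrime q)
  obtain ⟨fB, bB, hfB, hbB⟩ := localize_data (Localization.AtPrime q) Q (Fin m) f hf b b' hb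
  obtain ⟨u, hpar, hconj, hev, hod⟩ := exists_local_lift Q m fB hfB b bB hbB g hg
  have he := even_of_dickson Q m fB hfB b bB hbB g hg hD u hconj
  rw [map_sub, map_one, hev he, sub_self]

/-- S16990 (converse direction): if `2` is invertible, an isometry of determinant one is
Dickson-trivial. -/
theorem dickson_of_det_eq_one [Invertible (2 : R)] (m : ℕ)
    (b : Module.Basis (Fin (2 * m)) R M)
    (hQ : Function.Bijective (QuadraticMap.polarBilin Q))
    (g : M ≃ₗ[R] M) (hg : g ∈ QuadGrp.O Q) (hdet : LinearMap.det (g : M →ₗ[R] M) = 1) :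
    QuadGrp.IsDicksonTrivial Q g hg := by
  classical
  obtain ⟨A', instA, algA, hff, hfp, f, b', hf, hb⟩ := exists_split_data_even m b Q hQ
  have hinj : Function.Injective (algebraMap R A') := FaithfulSMul.algebraMap_injective R A'
  have hflat : Module.Flat R A' := inferInstance
  obtain ⟨bC, hbC⟩ := exists_basis_finset b Q
  intro z hz
  rw [← sigmaOf_eq_map]
  have hzc : ∀ y ∈ evenOdd Q 0, (z : CliffordAlgebra Q) * y = y * z := by
    intro y hy
    have h1 := Subalgebra.mem_center_iff.mp hz ⟨y, hy⟩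
    exact (congrArg Subtype.val h1).symm
  rw [← sub_eq_zero, ← bC.repr.map_eq_zero_iff]
  ext S
  rw [Finsupp.zero_apply]
  apply eq_zero_of_forall_localization hinj
  intro q hq
  have hfl : Module.Flat R (Localization.AtPrime q) :=
    Module.Flat.trans R A' (Localization.AtPrime q)
  obtain ⟨fB, bB, hfB, hbB⟩ := localize_data (Localization.AtPrime q) Q (Fin m) f hf b b' hb
  obtain ⟨u, hpar, hconj, hev, hod⟩ := exists_local_lift Q m fB hfB b bB hbB g hg
  have he : (u : CliffordAlgebra (qH (Localization.AtPrime q) (Fin m))) ∈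
      evenOdd (qH (Localization.AtPrime q) (Fin m)) 0 := by
    rcases hpar with h0 | h1
    · exact h0
    · exfalso
      have h2 := hod h1
      rw [hdet, map_one] at h2
      have h3 : (2 : Localization.AtPrime q) = 0 := by
        have : (1 : Localization.AtPrime q) + 1 = 0 := by
          nth_rewrite 1 [h2]
          exact neg_add_cancel 1
        rw [← this]
        norm_num
      have h4 : algebraMap R (Localization.AtPrime q) (2 * ⅟2) = 0 := by
        rw [map_mul, map_ofNat, h3, zero_mul]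
      rw [mul_invOf_self, map_one] at h4
      exact one_ne_zero h4
  have h5 := Phi_fixed_of_even Q m fB hfB b bB hbB g hg u hconj he z z.2 hzc
  exact coord_of_Phi_eq_zero Q (qH (Localization.AtPrime q) (Fin m)) fB hfB b bB hbB bC _ h5 S

end Global

end Groth.Agent.H80.ClDet
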