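import Groth.Agent.H80.ClVol

set_option autoImplicit false
set_option linter.unusedSectionVars false

namespace Groth.Agent.H80.ClOdd

open CliffordAlgebra Groth.Agent.H80.QuadMat Groth.Agent.H80.ClBasic Groth.Agent.H80.ClSplit
  Groth.Agent.H80.ClBC Groth.Agent.H80.ClVol

section Model

variable (R : Type*) [CommRing R] (J : Type*) [Fintype J] [LinearOrder J]

/-- The odd split model form on `(J ⊕ J → R) × R`. -/
noncomputable def Qp : QuadraticForm R ((J ⊕ J → R) × R) := (qH R J).prod QuadraticMap.sq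

theorem Qp_apply (x : (J ⊕ J → R) × R) : Qp R J x = qH R J x.1 + x.2 * x.2 := rfl

/-- The model with the opposite sign, in Mathlib's form. -/
noncomputable abbrev Qn : QuadraticForm R ((J ⊕ J → R) × R) :=
  CliffordAlgebra.EquivEven.Q' (-qH R J)

theorem Qn_eq : Qn R J = -Qp R J := by
  ext x
  rw [CliffordAlgebra.EquivEven.Q'_apply, _root_.neg_apply, _root_.neg_apply,
    Qp_apply]
  ring

theorem Qp_eq : Qp R J = -Qn R J := by
  rw [Qn_eq, neg_neg]

/-- `even Qp ≃ even Qn`. -/
noncomputable def evenNegEquiv : even (Qp R J) ≃ₐ[R] even (Qn R J) :=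
  AlgEquiv.ofAlgHom (evenToNeg (Qp R J) (Qn R J) (Qn_eq R J))
    (evenToNeg (Qn R J) (Qp R J) (Qp_eq R J))
    (evenToNeg_comp_evenToNeg _ _ _ _) (evenToNeg_comp_evenToNeg _ _ _ _)

/-- The sign change on the second half of the hyperbolic coordinates. -/
noncomputable def sigmaMap : (J ⊕ J → R) →ₗ[R] (J ⊕ J → R) where
  toFun u := fun k => Sum.elim (fun j => u (Sum.inl j)) (fun j => -u (Sum.inr j)) k
  map_add' u v := by
    funext k
    rcases k with j | j
    · simp
    · simp [add_comm]
  map_smul' r u := by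
    funext k
    rcases k with j | j
    · simp
    · simp

theorem sigmaMap_invol : Function.Involutive (sigmaMap R J) := by
  intro u
  funext k
  rcases k with j | j
  · simp [sigmaMap]
  · simp [sigmaMap]

/-- The isometry `-qH ≅ qH`. -/
noncomputable def negIso : (-qH R J).IsometryEquiv (qH R J) where
  toLinearEquiv := LinearEquiv.ofInvolutive (sigmaMap R J) (sigmaMap_invol R J)
  map_app' u := by
    show qH R J (sigmaMap R J u) = (-qH R J) u
    rw [_root_.neg_apply, qH_apply, qH_apply, ← Finset.sum_neg_distrib]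
    refine Finset.sum_congr rfl fun j _ => ?_
    simp [sigmaMap]

/-- The even Clifford algebra of the odd split model is the Clifford algebra of the hyperbolic
form. -/
noncomputable def chainEquiv : even (Qp R J) ≃ₐ[R] CliffordAlgebra (qH R J) :=
  (evenNegEquiv R J).trans ((equivEven (-qH R J)).symm.trans (equivOfIsometry (negIso R J)))

theorem mem_even_iff (x : CliffordAlgebra (Qp R J)) :
    x ∈ even (Qp R J) ↔ x ∈ evenOdd (Qp R J) 0 := Iff.rfl

/-- Even central elements are scalars. -/
theorem even_central_scalar {x : CliffordAlgebra (Qp R J)}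
    (hc : x ∈ Subalgebra.center R (CliffordAlgebra (Qp R J))) (he : x ∈ evenOdd (Qp R J) 0) :
    x ∈ (algebraMap R (CliffordAlgebra (Qp R J))).range := by
  obtain ⟨x', hx'⟩ : ∃ x' : even (Qp R J), (x' : CliffordAlgebra (Qp R J)) = x := ⟨⟨x, he⟩, rfl⟩
  have h1 : x' ∈ Subalgebra.center R (even (Qp R J)) := by
    rw [Subalgebra.mem_center_iff]
    intro y
    apply Subtype.ext
    show (y : CliffordAlgebra (Qp R J)) * x' = x' * y
    rw [hx']
    exact Subalgebra.mem_center_iff.mp hc y
  have h2 : chainEquiv R J x' ∈ Subalgebra.center R (CliffordAlgebra (qH R J)) := by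
    rw [Subalgebra.mem_center_iff] at h1 ⊢
    intro y
    obtain ⟨y', rfl⟩ := (chainEquiv R J).surjective y
    rw [← map_mul, ← map_mul, h1 y']
  rw [center_eq_bot] at h2
  obtain ⟨r, hr⟩ := Algebra.mem_bot.mp h2
  have h3 : x' = algebraMap R (even (Qp R J)) r := by
    apply (chainEquiv R J).injective
    rw [← hr, AlgEquiv.commutes]
  refine ⟨r, ?_⟩
  rw [← hx', h3]
  rfl

/-- The inclusion of the Clifford algebra of the hyperbolic part. -/
noncomputable def jmap : CliffordAlgebra (qH R J) →ₐ[R] CliffordAlgebra (Qp R J) :=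
  Phi (qH R J) (Qp R J) (LinearMap.inl R (J ⊕ J → R) R) (fun m => by
    rw [Qp_apply]
    simp)

theorem jmap_ι (u : J ⊕ J → R) : jmap R J (ι (qH R J) u) = ι (Qp R J) (u, 0) := by
  unfold jmap
  rw [Phi_ι]
  rfl

theorem jmap_even {y : CliffordAlgebra (qH R J)} (hy : y ∈ evenOdd (qH R J) 0) :
    jmap R J y ∈ evenOdd (Qp R J) 0 := Phi_even _ _ _ _ hy

/-- The extra basis vector. -/
noncomputable def e1 : CliffordAlgebra (Qp R J) := ι (Qp R J) (0, 1)

theorem e1_mul_e1 : e1 R J * e1 R J = 1 := by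
  unfold e1
  rw [ι_sq_scalar, Qp_apply]
  simp

theorem e1_mul_jι (u : J ⊕ J → R) :
    e1 R J * jmap R J (ι (qH R J) u) = -(jmap R J (ι (qH R J) u) * e1 R J) := by
  rw [jmap_ι]
  unfold e1
  have h := ι_mul_ι_add_swap (Q := Qp R J) ((0 : J ⊕ J → R), (1 : R)) (u, (0 : R))
  have h0 : QuadraticMap.polar (⇑(Qp R J)) ((0 : J ⊕ J → R), (1 : R)) (u, (0 : R)) = 0 := by
    simp [QuadraticMap.polar, Qp_apply]
  rw [h0, map_zero] at h
  exact eq_neg_of_add_eq_zero_left h

theorem e1_comm_even {y : CliffordAlgebra (qH R J)} (hy : y ∈ evenOdd (qH R J) 0) :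
    e1 R J * jmap R J y = jmap R J y * e1 R J := by
  induction y, hy using even_induction with
  | algebraMap r =>
    rw [AlgHom.commutes]
    exact (Algebra.commutes r _).symm
  | add a b _ _ iha ihb =>
    rw [map_add, mul_add, add_mul, iha, ihb]
  | ι_mul_ι_mul m₁ m₂ a _ ih =>
    rw [map_mul, map_mul]
    have hA := e1_mul_jι R J m₁
    have hB := e1_mul_jι R J m₂
    obtain ⟨A, hA'⟩ : ∃ A, A = jmap R J (ι (qH R J) m₁) := ⟨_, rfl⟩
    obtain ⟨B, hB'⟩ : ∃ B, B = jmap R J (ι (qH R J) m₂) := ⟨_, rfl⟩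
    obtain ⟨C, hC'⟩ : ∃ C, C = jmap R J a := ⟨_, rfl⟩
    rw [← hA'] at hA ⊢
    rw [← hB'] at hB ⊢
    rw [← hC'] at ih ⊢
    calc e1 R J * (A * B * C) = (e1 R J * A) * B * C := by simp only [mul_assoc]
      _ = -(A * e1 R J) * B * C := by rw [hA]
      _ = -(A * (e1 R J * B)) * C := by simp only [mul_assoc, neg_mul]
      _ = -(A * -(B * e1 R J)) * C := by rw [hB]
      _ = A * B * (e1 R J * C) := by simp only [mul_neg, neg_neg, mul_assoc]
      _ = A * B * (C * e1 R J) := by rw [ih]
      _ = A * B * C * e1 R J := by simp only [mul_assoc]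

/-- The central odd element. -/
noncomputable def zc : CliffordAlgebra (Qp R J) := jmap R J (vol R J) * e1 R J

theorem zc_odd : zc R J ∈ evenOdd (Qp R J) 1 := by
  have := mul_mem_evenOdd (Qp R J) (jmap_even R J (vol_even R J))
    (ι_mem_evenOdd_one (Qp R J) ((0 : J ⊕ J → R), (1 : R)))
  rw [zero_add] at this
  exact this

theorem zc_mul_self : zc R J * zc R J = 1 := by
  unfold zc
  have h1 := e1_comm_even R J (vol_even R J)
  calc jmap R J (vol R J) * e1 R J * (jmap R J (vol R J) * e1 R J)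
      = jmap R J (vol R J) * (e1 R J * jmap R J (vol R J)) * e1 R J := by
        simp only [mul_assoc]
    _ = jmap R J (vol R J * vol R J) * (e1 R J * e1 R J) := by
        rw [h1, map_mul]
        simp only [mul_assoc]
    _ = 1 := by rw [vol_mul_self, map_one, e1_mul_e1, mul_one]

theorem zc_comm_ι (n : (J ⊕ J → R) × R) : zc R J * ι (Qp R J) n = ι (Qp R J) n * zc R J := by
  have hn : ι (Qp R J) n = jmap R J (ι (qH R J) n.1) + n.2 • e1 R J := by
    rw [jmap_ι]
    unfold e1
    rw [← map_smul, ← map_add]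
    congr 1
    ext <;> simp
  have h1 : zc R J * jmap R J (ι (qH R J) n.1) = jmap R J (ι (qH R J) n.1) * zc R J := by
    unfold zc
    rw [mul_assoc, e1_mul_jι, mul_neg, ← mul_assoc, ← map_mul, vol_mul_ι, map_neg, neg_mul,
      neg_neg, map_mul, mul_assoc]
  have h2 : zc R J * e1 R J = e1 R J * zc R J := by
    unfold zc
    rw [← mul_assoc, e1_comm_even R J (vol_even R J)]
  rw [hn, mul_add, add_mul, h1, mul_smul_comm, smul_mul_assoc, h2]

theorem zc_central : zc R J ∈ Subalgebra.center R (CliffordAlgebra (Qp R J)) := by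
  rw [Subalgebra.mem_center_iff]
  intro b
  induction b using CliffordAlgebra.induction with
  | algebraMap r => exact Algebra.commutes r _
  | ι x => exact (zc_comm_ι R J x).symm
  | mul a b ha hb => rw [mul_assoc, hb, ← mul_assoc, ha, mul_assoc]
  | add a b ha hb => rw [add_mul, mul_add, ha, hb]

end Model

end Groth.Agent.H80.ClOdd
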