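import Groth.Agent.H80.ClDetSplit
import Groth.Agent.H80.ClOdd

set_option autoImplicit false
set_option linter.unusedSectionVars false

/-!
# Determinants of isometries induced by the naive Clifford group, odd rank (split case)

For the split form `Qp = qH ⊥ ⟨1⟩` the Clifford algebra has a representation `rt` on the exterior
algebra (the extra vector acting by the parity operator).  Its trace `F` is a conjugation
invariant functional which kills the odd words of length `< 2m+1` and is `1` on a word of length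
`2m+1`; hence conjugation by any unit normalising the module has determinant `1`.
-/

namespace Groth.Agent.H80.ClDetOdd

open CliffordAlgebra Groth.Agent.H80.QuadMat Groth.Agent.H80.ClBasic Groth.Agent.H80.ClSplit
  Groth.Agent.H80.ClVol Groth.Agent.H80.ClCentre Groth.Agent.H80.ClStar
  Groth.Agent.H80.ClEvenSplit Groth.Agent.H80.ClDetSplit Groth.Agent.H80.ClOdd

section Generic

variable {A : Type*} [CommRing A] {V : Type*} [AddCommGroup V] [Module A V]
  (Q : QuadraticForm A V) (F : CliffordAlgebra Q →ₗ[A] A) (n : ℕ)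

/-- Words in vectors. -/
noncomputable def WdQ (L : List V) : CliffordAlgebra Q := (L.map (ι Q)).prod

theorem WdQ_nil : WdQ Q [] = 1 := rfl

theorem WdQ_cons (v : V) (L : List V) : WdQ Q (v :: L) = ι Q v * WdQ Q L := by
  unfold WdQ
  rw [List.map_cons, List.prod_cons]

theorem WdQ_append (L₁ L₂ : List V) : WdQ Q (L₁ ++ L₂) = WdQ Q L₁ * WdQ Q L₂ := by
  unfold WdQ
  rw [List.map_append, List.prod_append]

theorem F_rep (hF : ∀ L : List V, L.length + 2 = n → F (WdQ Q L) = 0) (L₂ : List V) :
    ∀ (L₁ L₃ : List V) (v : V), L₁.length + L₂.length + L₃.length + 2 = n →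
    F (WdQ Q (L₁ ++ v :: (L₂ ++ v :: L₃))) = 0 := by
  induction L₂ with
  | nil =>
    intro L₁ L₃ v h
    rw [List.nil_append, WdQ_append, WdQ_cons, WdQ_cons, ← mul_assoc (ι Q v), ι_sq_scalar,
      ← Algebra.smul_def, mul_smul_comm, map_smul, ← WdQ_append,
      hF (L₁ ++ L₃) (by rw [List.length_append]; simpa using h), smul_zero]
  | cons x L₂ ih =>
    intro L₁ L₃ v h
    have hsw : ι Q v * ι Q x = algebraMap A _ (QuadraticMap.polar Q v x) - ι Q x * ι Q v := by
      rw [eq_sub_iff_add_eq, ι_mul_ι_add_swap]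
    have hR : WdQ Q (L₁ ++ v :: (x :: L₂ ++ v :: L₃)) =
        WdQ Q L₁ * (ι Q v * (ι Q x * WdQ Q (L₂ ++ v :: L₃))) := by
      rw [WdQ_append, WdQ_cons, List.cons_append, WdQ_cons]
    have h1' : WdQ Q (L₁ ++ (L₂ ++ v :: L₃)) = WdQ Q L₁ * WdQ Q (L₂ ++ v :: L₃) :=
      WdQ_append Q _ _
    have h2' : WdQ Q ((L₁ ++ [x]) ++ v :: (L₂ ++ v :: L₃)) =
        WdQ Q L₁ * ι Q x * (ι Q v * WdQ Q (L₂ ++ v :: L₃)) := by
      rw [WdQ_append, WdQ_append, WdQ_cons, WdQ_cons, WdQ_nil, mul_one]
    have e1 : WdQ Q (L₁ ++ v :: (x :: L₂ ++ v :: L₃)) =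
        QuadraticMap.polar Q v x • WdQ Q (L₁ ++ (L₂ ++ v :: L₃)) -
          WdQ Q ((L₁ ++ [x]) ++ v :: (L₂ ++ v :: L₃)) := by
      rw [hR, h1', h2', ← mul_assoc (ι Q v), hsw, sub_mul, mul_sub, ← Algebra.smul_def,
        mul_smul_comm]
      simp only [mul_assoc]
    rw [e1, map_sub, map_smul,
      hF (L₁ ++ (L₂ ++ v :: L₃)) (by
        simp only [List.length_append, List.length_cons] at h ⊢
        omega),
      ih (L₁ ++ [x]) L₃ v (by
        simp only [List.length_append, List.length_cons, List.length_nil] at h ⊢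
        omega),
      smul_zero, sub_zero]

/-- The multilinear form `v ↦ F (ι v₁ ⋯ ι vₙ)`. -/
noncomputable def DmQ : MultilinearMap A (fun _ : Fin n => V) A :=
  F.compMultilinearMap
    ((MultilinearMap.mkPiAlgebraFin A n (CliffordAlgebra Q)).compLinearMap fun _ => ι Q)

theorem DmQ_apply (v : Fin n → V) : DmQ Q F n v = F (WdQ Q (List.ofFn v)) := by
  unfold DmQ WdQ
  rw [List.map_ofFn]
  rfl

theorem DmQ_alt (hF : ∀ L : List V, L.length + 2 = n → F (WdQ Q L) = 0) (v : Fin n → V)
    (x y : Fin n) (hxy : v x = v y) (hne : x ≠ y) : DmQ Q F n v = 0 := by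
  rw [DmQ_apply, List.ofFn_eq_map]
  obtain ⟨l₁, r, h1⟩ := List.append_of_mem (List.mem_finRange x)
  have hlen := List.length_finRange (n := n)
  have hy : y ∈ l₁ ++ x :: r := h1 ▸ List.mem_finRange y
  rcases List.mem_append.mp hy with hy1 | hy2
  · obtain ⟨l₁', l₂', rfl⟩ := List.append_of_mem hy1
    rw [h1]
    have e : (l₁' ++ y :: l₂' ++ x :: r).map v =
        l₁'.map v ++ v y :: (l₂'.map v ++ v y :: r.map v) := by
      simp [hxy]
    rw [e]
    apply F_rep Q F n hF
    rw [h1] at hlen
    simp only [List.length_append, List.length_cons, List.length_map] at hlen ⊢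
    omega
  · rcases List.mem_cons.mp hy2 with hy3 | hy3
    · exact absurd hy3.symm hne
    · obtain ⟨l₂, l₃, rfl⟩ := List.append_of_mem hy3
      rw [h1]
      have e : (l₁ ++ x :: (l₂ ++ y :: l₃)).map v =
          l₁.map v ++ v x :: (l₂.map v ++ v x :: l₃.map v) := by
        simp [hxy]
      rw [e]
      apply F_rep Q F n hF
      rw [h1] at hlen
      simp only [List.length_append, List.length_cons, List.length_map] at hlen ⊢
      omega

/-- The alternating form `v ↦ F (ι v₁ ⋯ ι vₙ)`. -/
noncomputable def DaQ (hF : ∀ L : List V, L.length + 2 = n → F (WdQ Q L) = 0) :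
    V [⋀^Fin n]→ₗ[A] A :=
  { DmQ Q F n with
    map_eq_zero_of_eq' := fun v x y hxy hne => DmQ_alt Q F n hF v x y hxy hne }

theorem DaQ_apply (hF : ∀ L : List V, L.length + 2 = n → F (WdQ Q L) = 0) (v : Fin n → V) :
    DaQ Q F n hF v = F (WdQ Q (List.ofFn v)) := DmQ_apply Q F n v

/-- A linear map whose action on words does not change `F` has determinant one. -/
theorem det_eq_of_invariant (hF : ∀ L : List V, L.length + 2 = n → F (WdQ Q L) = 0)
    (e : Module.Basis (Fin n) A V) (L : List V) (hL : L.length = n) (hy : F (WdQ Q L) = 1)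
    (G : V →ₗ[A] V) (c : A) (hG : F (WdQ Q (L.map G)) = c * F (WdQ Q L)) :
    LinearMap.det G = c := by
  classical
  obtain ⟨y, rfl⟩ : ∃ y : Fin n → V, List.ofFn y = L := by
    subst hL
    exact ⟨L.get, List.ofFn_get L⟩
  have key := AlternatingMap.eq_smul_basis_det e (DaQ Q F n hF)
  have hDy : DaQ Q F n hF y = 1 := by rw [DaQ_apply, hy]
  have h1 : DaQ Q F n hF (G ∘ y) = LinearMap.det G * DaQ Q F n hF y := by
    have e1 : DaQ Q F n hF (G ∘ y) = DaQ Q F n hF e * e.det (G ∘ y) := by
      conv_lhs => rw [key]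
      rfl
    have e2 : DaQ Q F n hF y = DaQ Q F n hF e * e.det y := by
      conv_lhs => rw [key]
      rfl
    rw [e1, e2, Module.Basis.det_comp]
    ring
  have h2 : DaQ Q F n hF (G ∘ y) = c * DaQ Q F n hF y := by
    rw [DaQ_apply, DaQ_apply, ← List.map_ofFn, hG]
  rw [hDy, mul_one] at h1 h2
  rw [← h1, h2]

end Generic

section Odd

variable (A : Type*) [CommRing A] (J : Type*) [Fintype J] [LinearOrder J]

/-- The action of the vectors of the odd split form on the exterior algebra. -/
noncomputable def rtLin : ((J ⊕ J → A) × A) →ₗ[A] Module.End A (Ext A J) :=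
  (gen A J).comp (LinearMap.fst A _ _) +
    (LinearMap.toSpanSingleton A _ (epsOp A J)).comp (LinearMap.snd A _ _)

theorem rtLin_apply (x : (J ⊕ J → A) × A) : rtLin A J x = gen A J x.1 + x.2 • epsOp A J := rfl

theorem rtLin_sq (x : (J ⊕ J → A) × A) :
    rtLin A J x * rtLin A J x = algebraMap A _ (Qp A J x) := by
  rw [rtLin_apply]
  have h1 : gen A J x.1 * (x.2 • epsOp A J) + (x.2 • epsOp A J) * gen A J x.1 = 0 := by
    rw [mul_smul_comm, smul_mul_assoc, epsOp_gen, smul_neg, add_neg_cancel]
  have h2 : (x.2 • epsOp A J) * (x.2 • epsOp A J) = (x.2 * x.2) • 1 := by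
    rw [smul_mul_smul_comm, epsOp_mul_self]
  calc (gen A J x.1 + x.2 • epsOp A J) * (gen A J x.1 + x.2 • epsOp A J)
      = gen A J x.1 * gen A J x.1 +
        (gen A J x.1 * (x.2 • epsOp A J) + (x.2 • epsOp A J) * gen A J x.1) +
          (x.2 • epsOp A J) * (x.2 • epsOp A J) := by
        rw [add_mul, mul_add, mul_add]
        abel
    _ = algebraMap A _ (Qp A J x) := by
        rw [h1, h2, gen_sq, add_zero, Qp_apply, map_add, Algebra.algebraMap_eq_smul_one (x.2 * x.2)]

/-- The representation of `C(Qp)` on the exterior algebra. -/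
noncomputable def rt : CliffordAlgebra (Qp A J) →ₐ[A] Module.End A (Ext A J) :=
  CliffordAlgebra.lift (Qp A J) ⟨rtLin A J, rtLin_sq A J⟩

theorem rt_ι (x : (J ⊕ J → A) × A) : rt A J (ι (Qp A J) x) = rtLin A J x := by
  unfold rt
  rw [CliffordAlgebra.lift_ι_apply]

/-- The trace functional. -/
noncomputable def F : CliffordAlgebra (Qp A J) →ₗ[A] A :=
  (LinearMap.trace A (Ext A J)) ∘ₗ (rt A J).toLinearMap

theorem F_apply (x : CliffordAlgebra (Qp A J)) :
    F A J x = LinearMap.trace A (Ext A J) (rt A J x) := rfl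

theorem F_cyclic (x y : CliffordAlgebra (Qp A J)) : F A J (x * y) = F A J (y * x) := by
  rw [F_apply, F_apply, map_mul (rt A J), map_mul (rt A J)]
  exact LinearMap.trace_mul_comm A _ _

/-- Extended letters in `C(qH)`: the volume element and the basis vectors. -/
noncomputable def lv : Option (J ⊕ J) → CliffordAlgebra (qH A J)
  | none => vol A J
  | some p => lt A J p

/-- Extended letters as vectors of the odd form. -/
noncomputable def le : Option (J ⊕ J) → (J ⊕ J → A) × A
  | none => (0, 1)
  | some p => (sv A J p, 0)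

theorem rt_le (o : Option (J ⊕ J)) : rt A J (ι (Qp A J) (le A J o)) = rho A J (lv A J o) := by
  rw [rt_ι, rtLin_apply]
  rcases o with _ | p
  · show gen A J 0 + (1 : A) • epsOp A J = rho A J (vol A J)
    rw [map_zero, zero_add, one_smul, rho_vol]
  · show gen A J (sv A J p) + (0 : A) • epsOp A J = rho A J (lt A J p)
    rw [zero_smul, add_zero]
    unfold lt
    rw [rho_ι]

/-- Words in the extended letters. -/
noncomputable def Wv (l : List (Option (J ⊕ J))) : CliffordAlgebra (qH A J) :=
  (l.map (lv A J)).prod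

theorem Wv_nil : Wv A J [] = 1 := rfl

theorem Wv_cons (o : Option (J ⊕ J)) (l : List (Option (J ⊕ J))) :
    Wv A J (o :: l) = lv A J o * Wv A J l := by
  unfold Wv
  rw [List.map_cons, List.prod_cons]

theorem rt_WdQ_le (l : List (Option (J ⊕ J))) :
    rt A J (WdQ (Qp A J) (l.map (le A J))) = rho A J (Wv A J l) := by
  induction l with
  | nil => rw [List.map_nil, WdQ_nil, Wv_nil, map_one, map_one]
  | cons o l ih => rw [List.map_cons, WdQ_cons, Wv_cons, map_mul, map_mul, rt_le, ih]

theorem lt_mul_vol_pow (p : J ⊕ J) (j : ℕ) :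
    lt A J p * vol A J ^ j = ((-1 : A) ^ j) • (vol A J ^ j * lt A J p) := by
  induction j with
  | zero => rw [pow_zero, pow_zero, mul_one, one_mul, one_smul]
  | succ j ih =>
    have h1 : lt A J p * vol A J = -(vol A J * lt A J p) := by
      unfold lt
      rw [vol_mul_ι, neg_neg]
    rw [pow_succ, ← mul_assoc, ih, smul_mul_assoc, mul_assoc, h1, mul_neg, ← mul_assoc,
      pow_succ (-1 : A), mul_smul, neg_one_smul (R := A), smul_neg]

/-- Normal form of a word in the extended letters. -/
theorem Wv_normal (l : List (Option (J ⊕ J))) :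
    ∃ (s : A) (j : ℕ) (l' : List (J ⊕ J)),
      Wv A J l = s • (vol A J ^ j * Wl A J l') ∧ j + l'.length = l.length := by
  induction l with
  | nil => exact ⟨1, 0, [], by rw [Wv_nil, Wl_nil, pow_zero, mul_one, one_smul], rfl⟩
  | cons o l ih =>
    obtain ⟨s, j, l', h1, h2⟩ := ih
    rcases o with _ | p
    · refine ⟨s, j + 1, l', ?_, by rw [List.length_cons]; omega⟩
      rw [Wv_cons, h1, mul_smul_comm, ← mul_assoc, pow_succ']
      rfl
    · refine ⟨s * (-1) ^ j, j, p :: l', ?_, by rw [List.length_cons, List.length_cons]; omega⟩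
      rw [Wv_cons, h1, mul_smul_comm, ← mul_assoc]
      show s • (lt A J p * vol A J ^ j * Wl A J l') = _
      rw [lt_mul_vol_pow, smul_mul_assoc, smul_smul, mul_assoc, Wl_cons]

theorem trace_rho_odd {y : CliffordAlgebra (qH A J)} (hy : y ∈ evenOdd (qH A J) 1) :
    LinearMap.trace A (Ext A J) (rho A J y) = 0 := by
  classical
  rw [LinearMap.trace_eq_matrix_trace A (bE A J), Matrix.trace]
  apply Finset.sum_eq_zero
  intro S _
  rw [Matrix.diag_apply, LinearMap.toMatrix_apply]
  by_cases hS : Even S.card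
  · exact repr_odd A J ((rho_odd_parity A J hy).1 _ (bE_even A J S hS)) S hS
  · exact repr_even A J ((rho_odd_parity A J hy).2 _ (bE_odd A J S hS)) S hS

theorem exists_rare_index' (l : List (J ⊕ J)) (hl : l.length + 2 ≤ 2 * Fintype.card J) :
    ∃ a : J, (l.map (idx J)).count a ≤ 1 := by
  classical
  by_contra hcon
  push Not at hcon
  have h1 : (l.map (idx J)).toFinset = Finset.univ := by
    ext a
    simp only [Finset.mem_univ, iff_true, List.mem_toFinset]
    exact List.count_pos_iff.mp (by have := hcon a; omega)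
  have h2 := List.sum_toFinset_count_eq_length (l.map (idx J))
  rw [h1, List.length_map] at h2
  have h3 : ∑ a : J, 2 ≤ ∑ a : J, (l.map (idx J)).count a :=
    Finset.sum_le_sum fun a _ => hcon a
  rw [Finset.sum_const, Finset.card_univ, smul_eq_mul] at h3
  omega

/-- The supertrace kills all even words of length `< 2m`. -/
theorem T_Wl_eq_zero' (l : List (J ⊕ J)) (he : Even l.length)
    (hl : l.length + 2 ≤ 2 * Fintype.card J) : T A J (Wl A J l) = 0 := by
  classical
  obtain ⟨a, ha⟩ := exists_rare_index' J l hl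
  rcases Nat.lt_or_ge 0 ((l.map (idx J)).count a) with hpos | hzero
  · have hmem : a ∈ l.map (idx J) := List.count_pos_iff.mp hpos
    obtain ⟨p₀, hp₀, hidx⟩ := List.mem_map.mp hmem
    obtain ⟨l₁, l₂, rfl⟩ := List.append_of_mem hp₀
    have hcount : (List.map (idx J) (l₁ ++ p₀ :: l₂)).count a =
        (l₁.map (idx J)).count a + 1 + (l₂.map (idx J)).count a := by
      rw [List.map_append, List.map_cons, List.count_append, List.count_cons, hidx]
      simp
      ring
    have hz1 : (l₁.map (idx J)).count a = 0 := by omega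
    have hz2 : (l₂.map (idx J)).count a = 0 := by omega
    apply T_Wl_once
    · intro p hp hpa
      have : a ∈ l₁.map (idx J) := List.mem_map.mpr ⟨p, hp, by rw [hpa, hidx]⟩
      exact (List.count_eq_zero.mp hz1) this
    · intro p hp hpa
      have : a ∈ l₂.map (idx J) := List.mem_map.mpr ⟨p, hp, by rw [hpa, hidx]⟩
      exact (List.count_eq_zero.mp hz2) this
  · apply T_Wl_absent A J l he a
    intro p hp hpa
    have : a ∈ l.map (idx J) := List.mem_map.mpr ⟨p, hp, hpa⟩
    have h0 : (l.map (idx J)).count a = 0 := by omega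
    exact (List.count_eq_zero.mp h0) this

theorem vol_pow_even (j : ℕ) (hj : Even j) : vol A J ^ j = 1 := by
  obtain ⟨k, rfl⟩ := hj
  rw [← two_mul, pow_mul, pow_two, vol_mul_self, one_pow]

theorem vol_pow_odd (j : ℕ) (hj : Odd j) : vol A J ^ j = vol A J := by
  obtain ⟨k, rfl⟩ := hj
  rw [pow_succ, vol_pow_even A J (2 * k) (even_two_mul k), one_mul]

/-- The trace kills the odd words of length `< 2m+1` in the extended letters. -/
theorem trace_rho_Wv (l : List (Option (J ⊕ J))) (hodd : Odd l.length)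
    (hl : l.length + 2 ≤ 2 * Fintype.card J + 1) :
    LinearMap.trace A (Ext A J) (rho A J (Wv A J l)) = 0 := by
  obtain ⟨s, j, l', h1, h2⟩ := Wv_normal A J l
  rw [h1, map_smul, map_smul]
  rcases Nat.even_or_odd j with hj | hj
  · rw [vol_pow_even A J j hj, one_mul]
    have hl' : Odd l'.length := by
      rcases Nat.even_or_odd l'.length with h | h
      · exfalso
        have : Even l.length := by rw [← h2]; exact hj.add h
        exact (Nat.not_even_iff_odd.mpr hodd) this
      · exact h
    have hW : Wl A J l' ∈ evenOdd (qH A J) 1 := by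
      have := Wl_parity A J l'
      rwa [(ZMod.natCast_eq_one_iff_odd).mpr hl'] at this
    rw [trace_rho_odd A J hW, smul_zero]
  · rw [vol_pow_odd A J j hj]
    have hl' : Even l'.length := by
      rcases Nat.even_or_odd l'.length with h | h
      · exact h
      · exfalso
        have : Even l.length := by rw [← h2]; exact hj.add_odd h
        exact (Nat.not_even_iff_odd.mpr hodd) this
    have hj1 : 1 ≤ j := hj.pos
    have := T_Wl_eq_zero' A J l' hl' (by omega)
    rw [T_apply] at this
    rw [this, smul_zero]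

theorem ι_eq_sum' (x : (J ⊕ J → A) × A) :
    ι (Qp A J) x = ∑ p, x.1 p • ι (Qp A J) (le A J (some p)) + x.2 • ι (Qp A J) (le A J none) := by
  have h := (Pi.basisFun A (J ⊕ J)).sum_repr x.1
  have hx : x = ∑ p, x.1 p • le A J (some p) + x.2 • le A J none := by
    refine Prod.ext ?_ ?_
    · show x.1 = (∑ p, x.1 p • le A J (some p) + x.2 • le A J none).1
      rw [Prod.fst_add, Prod.fst_sum]
      show x.1 = ∑ p, x.1 p • sv A J p + x.2 • (0 : J ⊕ J → A)
      rw [smul_zero, add_zero]
      conv_lhs => rw [← h]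
      refine Finset.sum_congr rfl fun p _ => ?_
      rw [Pi.basisFun_repr, Pi.basisFun_apply]
      rfl
    · show x.2 = (∑ p, x.1 p • le A J (some p) + x.2 • le A J none).2
      rw [Prod.snd_add, Prod.snd_sum]
      show x.2 = ∑ p, x.1 p • (0 : A) + x.2 • (1 : A)
      simp
  conv_lhs => rw [hx]
  rw [map_add, map_sum, map_smul]
  congr 1
  exact Finset.sum_congr rfl fun p _ => map_smul _ _ _

theorem F_mixed (L : List ((J ⊕ J → A) × A)) : ∀ l : List (Option (J ⊕ J)),
    Odd (l.length + L.length) → l.length + L.length + 2 ≤ 2 * Fintype.card J + 1 →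
    F A J (WdQ (Qp A J) (l.map (le A J)) * WdQ (Qp A J) L) = 0 := by
  induction L with
  | nil =>
    intro l hodd hl
    rw [WdQ_nil, mul_one, F_apply, rt_WdQ_le]
    exact trace_rho_Wv A J l (by simpa using hodd) (by simpa using hl)
  | cons x L ih =>
    intro l hodd hl
    have hstep : ∀ o : Option (J ⊕ J),
        F A J (WdQ (Qp A J) (l.map (le A J)) * (ι (Qp A J) (le A J o) * WdQ (Qp A J) L)) = 0 := by
      intro o
      have h1 : WdQ (Qp A J) (l.map (le A J)) * (ι (Qp A J) (le A J o) * WdQ (Qp A J) L) =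
          WdQ (Qp A J) ((l ++ [o]).map (le A J)) * WdQ (Qp A J) L := by
        rw [List.map_append, WdQ_append, List.map_cons, List.map_nil, WdQ_cons, WdQ_nil, mul_one,
          mul_assoc]
      rw [h1]
      apply ih
      · rw [List.length_append, List.length_cons, List.length_nil]
        rw [List.length_cons] at hodd
        convert hodd using 1
        ring
      · rw [List.length_append, List.length_cons, List.length_nil]
        rw [List.length_cons] at hl
        omega
    rw [WdQ_cons, ι_eq_sum', add_mul, mul_add, map_add, Finset.sum_mul, Finset.mul_sum, map_sum]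
    rw [Finset.sum_eq_zero, zero_add]
    · rw [smul_mul_assoc, mul_smul_comm, map_smul, hstep, smul_zero]
    · intro p _
      rw [smul_mul_assoc, mul_smul_comm, map_smul, hstep, smul_zero]

theorem F_short (L : List ((J ⊕ J → A) × A)) (hL : L.length + 2 = 2 * Fintype.card J + 1) :
    F A J (WdQ (Qp A J) L) = 0 := by
  have h := F_mixed A J L [] (by
    rw [List.length_nil, zero_add]
    rw [Nat.odd_iff]
    omega) (by rw [List.length_nil, zero_add]; omega)
  rwa [List.map_nil, WdQ_nil, one_mul] at h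

theorem rt_WdQ_inl (L : List (J ⊕ J → A)) :
    rt A J (WdQ (Qp A J) (L.map (fun v => (v, (0 : A))))) = rho A J (Wd A J L) := by
  induction L with
  | nil => rw [List.map_nil, WdQ_nil, Wd_nil, map_one, map_one]
  | cons v L ih =>
    rw [List.map_cons, WdQ_cons, Wd_cons, map_mul, map_mul, ih, rt_ι, rtLin_apply]
    show (gen A J v + (0 : A) • epsOp A J) * _ = _
    rw [zero_smul, add_zero, rho_ι]

/-- The top word. -/
noncomputable def Ltop : List ((J ⊕ J → A) × A) :=
  (0, 1) :: (Lp A J (Finset.univ : Finset J).toList).map (fun v => (v, (0 : A)))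

theorem Ltop_length : (Ltop A J).length = 2 * Fintype.card J + 1 := by
  unfold Ltop
  rw [List.length_cons, List.length_map, Lp_length, Finset.length_toList, Finset.card_univ]

theorem F_Ltop : F A J (WdQ (Qp A J) (Ltop A J)) = 1 := by
  unfold Ltop
  rw [WdQ_cons, F_apply, map_mul, rt_WdQ_inl, Wd_Lp]
  have h1 : rt A J (ι (Qp A J) ((0 : J ⊕ J → A), (1 : A))) = rho A J (vol A J) := rt_le A J none
  rw [h1, ← map_mul, ← T_apply, T_Pc]

theorem conj_WdQ {V : Type*} [AddCommGroup V] [Module A V] (Q : QuadraticForm A V)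
    (u : (CliffordAlgebra Q)ˣ) (G : V →ₗ[A] V)
    (hu : ∀ x, (u : CliffordAlgebra Q) * ι Q x * ↑u⁻¹ = ι Q (G x)) (L : List V) :
    (u : CliffordAlgebra Q) * WdQ Q L * ↑u⁻¹ = WdQ Q (L.map G) := by
  induction L with
  | nil => rw [List.map_nil, WdQ_nil, mul_one, Units.mul_inv]
  | cons v L ih =>
    rw [List.map_cons, WdQ_cons, WdQ_cons, ← ih, ← hu]
    simp only [mul_assoc, Units.inv_mul_cancel_left]

/-- Conjugation by any unit of `C(Qp)` normalising the module has determinant one. -/
theorem det_of_conj_odd (u : (CliffordAlgebra (Qp A J))ˣ)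
    (G : ((J ⊕ J → A) × A) →ₗ[A] ((J ⊕ J → A) × A))
    (hu : ∀ x, (u : CliffordAlgebra (Qp A J)) * ι (Qp A J) x * ↑u⁻¹ = ι (Qp A J) (G x)) :
    LinearMap.det G = 1 := by
  classical
  have hcard : Fintype.card ((J ⊕ J) ⊕ Fin 1) = 2 * Fintype.card J + 1 := by
    rw [Fintype.card_sum, Fintype.card_sum, Fintype.card_fin]
    ring
  let e : Module.Basis (Fin (2 * Fintype.card J + 1)) A ((J ⊕ J → A) × A) :=
    ((Pi.basisFun A (J ⊕ J)).prod (Module.Basis.singleton (Fin 1) A)).reindex
      (Fintype.equivFinOfCardEq hcard)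
  apply det_eq_of_invariant (Qp A J) (F A J) (2 * Fintype.card J + 1) (F_short A J) e (Ltop A J)
    (Ltop_length A J) (F_Ltop A J) G 1
  rw [one_mul, ← conj_WdQ A (Qp A J) u G hu, mul_assoc, F_cyclic, mul_assoc, Units.inv_mul,
    mul_one]

end Odd

end Groth.Agent.H80.ClDetOdd
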