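import Groth.Agent.H80.ClOddMain

set_option autoImplicit false
set_option linter.unusedSectionVars false

universe u v

namespace Groth.Agent.H80.ClOddLocal

open Matrix CliffordAlgebra TensorProduct Groth.Agent.H80.QuadMat Groth.Agent.H80.ClBasic
  Groth.Agent.H80.ClSplit Groth.Agent.H80.ClBC Groth.Agent.H80.ClVol Groth.Agent.H80.ClOdd
  Groth.Agent.H80.ClOddA Groth.Agent.H80.ClCentre Groth.Agent.H80.ClOddC
  Groth.Agent.H80.QuadOdd Groth.Agent.H80.QuadOdd2 Groth.Agent.H80.QuadOdd3 Groth.Agent.H84 QuadGrp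
  Groth.Agent.H80.ClOddMain

/-- The data of an fppf splitting (module in an arbitrary universe). -/
theorem exists_split_data' {R : Type u} [CommRing R] {M : Type v} [AddCommGroup M] [Module R M]
    (m : ℕ) (b : Module.Basis (Fin (2 * m + 1)) R M) (Q : QuadraticForm R M)
    (hQ : QuadGrp.IsSemiregular b (LinearEquiv.refl R R) Q) :
    ∃ (A : Type u) (_ : CommRing A) (_ : Algebra R A), Module.FaithfullyFlat R A ∧
      Algebra.FinitePresentation R A ∧
      ∃ (f : M →ₗ[R] ((Fin m ⊕ Fin m → A) × A))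
        (b' : Module.Basis (Fin (2 * m + 1)) A ((Fin m ⊕ Fin m → A) × A)),
        (∀ x, Qp A (Fin m) (f x) = algebraMap R A (Q x)) ∧ (∀ i, f (b i) = b' i) := by
  have hfree : Module.Free R M := Module.Free.of_basis b
  obtain ⟨B, hB⟩ := LinearMap.BilinMap.toQuadraticMap_surjective Q
  obtain ⟨W, hW⟩ : ∃ W, W = LinearMap.BilinForm.toMatrix b B := ⟨_, rfl⟩
  have hW1 : ∀ x, Q x = qf W (b.equivFun x) := by
    intro x
    rw [← hB, LinearMap.BilinMap.toQuadraticMap_apply,
      LinearMap.BilinForm.apply_eq_dotProduct_toMatrix_mulVec b B x x, hW]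
    rfl
  have hW2 : hdM W = halfDisc b (LinearEquiv.refl R R) Q := by
    rw [← hB, hW]
    unfold hdM
    rw [halfDisc_eq_hdEval, coeffs_eq_coeffOfMat]
  have hu : IsUnit (hdM W) := by
    rw [hW2]
    exact hQ
  obtain ⟨A, instA, algA, hff, hfp, hc⟩ := global_split_odd m R W hu
  obtain ⟨g, g', hgg', hg'g, hs⟩ := hc
  refine ⟨A, instA, algA, hff, hfp, ?_⟩
  let L : (Fin (2 * m + 1) → A) ≃ₗ[A] (((Fin m ⊕ Fin m) ⊕ Unit) → A) :=
    LinearEquiv.ofLinearMap (Matrix.toLin' g') (Matrix.toLin' g)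
      (by rw [← Matrix.toLin'_mul, hg'g, Matrix.toLin'_one])
      (by rw [← Matrix.toLin'_mul, hgg', Matrix.toLin'_one])
  let E : (Fin (2 * m + 1) → A) ≃ₗ[A] ((Fin m ⊕ Fin m → A) × A) := L.trans (e4 A (Fin m))
  let f : M →ₗ[R] ((Fin m ⊕ Fin m → A) × A) :=
    (E.toLinearMap.restrictScalars R) ∘ₗ ((Algebra.linearMap R A).compLeft (Fin (2 * m + 1))) ∘ₗ
      b.equivFun.toLinearMap
  have hfx : ∀ x, f x = e4 A (Fin m) (g' *ᵥ (algebraMap R A ∘ b.equivFun x)) := fun x => rfl
  refine ⟨f, (Pi.basisFun A (Fin (2 * m + 1))).map E, ?_, ?_⟩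
  · intro x
    rw [hfx, Qp_e4, ← hs.qf_eq, qf_conj, Matrix.mulVec_mulVec, hgg', Matrix.one_mulVec, qf_map,
      hW1]
  · intro i
    rw [hfx, Module.Basis.map_apply, Pi.basisFun_apply]
    show _ = e4 A (Fin m) (g' *ᵥ Pi.single i 1)
    congr 2
    funext j
    rw [Function.comp_apply, Module.Basis.equivFun_self, Pi.single_apply]
    split_ifs with h1 h2 h2
    · exact map_one _
    · exact absurd h1.symm h2
    · exact absurd h2.symm h1
    · exact map_zero _

section Gen

variable {R : Type u} [CommRing R] {M : Type v} [AddCommGroup M] [Module R M]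

theorem algebraMap_injective_of_basis {ι₀ : Type*} [Fintype ι₀] (b : Module.Basis ι₀ R M)
    (Q : QuadraticForm R M) : Function.Injective (algebraMap R (CliffordAlgebra Q)) := by
  obtain ⟨bC, hbC⟩ := exists_basis_finset b Q
  intro a a' h
  have h1 : a • bC ∅ = a' • bC ∅ := by
    rw [hbC, ← Algebra.algebraMap_eq_smul_one, ← Algebra.algebraMap_eq_smul_one, h]
  have h2 := congrArg (fun x => bC.repr x ∅) h1
  simpa using h2

/-- The scalar property and the partition of unity in the odd centre. -/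
theorem exists_partition (m : ℕ) (b : Module.Basis (Fin (2 * m + 1)) R M) (Q : QuadraticForm R M)
    (hQ : QuadGrp.IsSemiregular b (LinearEquiv.refl R R) Q) :
    (∀ z ∈ Subalgebra.center R (CliffordAlgebra Q), z ∈ CliffordAlgebra.evenOdd Q 0 →
        z ∈ (algebraMap R (CliffordAlgebra Q)).range) ∧
    ∃ (n : ℕ) (ζ η : Fin n → CliffordAlgebra Q), (∀ i, ζ i ∈ Z1 Q) ∧ (∀ i, η i ∈ Z1 Q) ∧
      ∑ i, ζ i * η i = 1 := by
  obtain ⟨A, instA, algA, hff, hfp, f, b', hf, hb⟩ := exists_split_data' m b Q hQ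
  have hflat : Module.Flat R A := inferInstance
  have hinj : Function.Injective (algebraMap R A) := FaithfulSMul.algebraMap_injective R A
  have hsc : ∀ z ∈ Subalgebra.center R (CliffordAlgebra Q), z ∈ CliffordAlgebra.evenOdd Q 0 →
      z ∈ (algebraMap R (CliffordAlgebra Q)).range := fun z hz he =>
    even_central_scalar' (Fin m) Q f hf b b' hb hinj hz he
  exact ⟨hsc, exists_families Q (one_mem_Z1_mul (Fin m) Q f hf b b' hb hsc)⟩

/-- The centre over a local ring. -/
theorem local_centre [IsLocalRing R] (m : ℕ) (b : Module.Basis (Fin (2 * m + 1)) R M)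
    (Q : QuadraticForm R M) (hQ : QuadGrp.IsSemiregular b (LinearEquiv.refl R R) Q) :
    ∃ z : CliffordAlgebra Q, z ∈ Subalgebra.center R (CliffordAlgebra Q) ∧
      z ∈ CliffordAlgebra.evenOdd Q 1 ∧ IsUnit z ∧
      z * z ∈ (algebraMap R (CliffordAlgebra Q)).range ∧
      LinearIndependent R ![(1 : CliffordAlgebra Q), z] ∧
      Subalgebra.toSubmodule (Subalgebra.center R (CliffordAlgebra Q)) =
        Submodule.span R {1, z} := by
  obtain ⟨hsc, n, ζ, η, hζ, hη, hone⟩ := exists_partition m b Q hQ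
  have hinj := algebraMap_injective_of_basis b Q
  -- scalars `ζ i * η i`
  have hs : ∀ i, ∃ s : R, algebraMap R (CliffordAlgebra Q) s = ζ i * η i := fun i =>
    hsc _ (Subalgebra.mul_mem _ (Z1_center Q (hζ i)) (Z1_center Q (hη i)))
      (odd_mul_odd Q (Z1_odd Q (hζ i)) (Z1_odd Q (hη i)))
  choose s hs using hs
  have hsum : ∑ i, s i = 1 := by
    apply hinj
    rw [map_sum, map_one, ← hone]
    exact Finset.sum_congr rfl fun i _ => hs i
  have hex : ∃ i, IsUnit (s i) := by
    by_contra hcon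
    push Not at hcon
    have h1 : ∑ i, s i ∈ IsLocalRing.maximalIdeal R :=
      Ideal.sum_mem _ fun i _ => (IsLocalRing.mem_maximalIdeal _).mpr (hcon i)
    rw [hsum] at h1
    exact (IsLocalRing.maximalIdeal.isMaximal R).ne_top ((Ideal.eq_top_iff_one _).mpr h1)
  obtain ⟨i, hi⟩ := hex
  obtain ⟨z, hz⟩ : ∃ z, z = ζ i := ⟨_, rfl⟩
  have hzc : z ∈ Subalgebra.center R (CliffordAlgebra Q) := by rw [hz]; exact Z1_center Q (hζ i)
  have hzo : z ∈ evenOdd Q 1 := by rw [hz]; exact Z1_odd Q (hζ i)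
  obtain ⟨si, hsi⟩ := hi
  have hzη : z * η i = algebraMap R (CliffordAlgebra Q) (si : R) := by rw [hz, hsi, hs i]
  have hz1 : z * ((↑si⁻¹ : R) • η i) = 1 := by
    rw [mul_smul_comm, hzη, Algebra.algebraMap_eq_smul_one, smul_smul, Units.inv_mul, one_smul]
  have hz2 : ((↑si⁻¹ : R) • η i) * z = 1 := by
    rw [Subalgebra.mem_center_iff.mp hzc, hz1]
  have hzu : IsUnit z := ⟨⟨z, (↑si⁻¹ : R) • η i, hz1, hz2⟩, rfl⟩
  obtain ⟨r, hr⟩ := hsc (z * z) (Subalgebra.mul_mem _ hzc hzc) (odd_mul_odd Q hzo hzo)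
  have hr' : algebraMap R (CliffordAlgebra Q) r = z * z := hr
  obtain ⟨t, ht⟩ := hsc (η i * η i) (Subalgebra.mul_mem _ (Z1_center Q (hη i)) (Z1_center Q (hη i)))
    (odd_mul_odd Q (Z1_odd Q (hη i)) (Z1_odd Q (hη i)))
  have ht' : algebraMap R (CliffordAlgebra Q) t = η i * η i := ht
  have hru : IsUnit r := by
    have h1 : r * t = (si : R) * si := by
      apply hinj
      rw [map_mul, map_mul, hr', ht', ← hzη]
      have h2 : η i * z = z * η i := Subalgebra.mem_center_iff.mp hzc (η i)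
      calc z * z * (η i * η i) = z * (z * η i) * η i := by simp only [mul_assoc]
        _ = z * (η i * z) * η i := by rw [h2]
        _ = z * η i * (z * η i) := by simp only [mul_assoc]
    exact isUnit_of_mul_isUnit_left (h1 ▸ (si.isUnit.mul si.isUnit))
  refine ⟨z, hzc, hzo, hzu, ⟨r, hr⟩, ?_, ?_⟩
  · rw [LinearIndependent.pair_iff]
    intro a c hac
    have h0 := even_odd_unique Q (a₀ := a • (1 : CliffordAlgebra Q)) (a₁ := c • z) (b₀ := 0)
      (b₁ := 0) (Submodule.smul_mem _ _ (SetLike.one_mem_graded _)) (Submodule.smul_mem _ _ hzo)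
      (Submodule.zero_mem _) (Submodule.zero_mem _) (by rw [hac, add_zero])
    constructor
    · apply hinj
      rw [map_zero, Algebra.algebraMap_eq_smul_one]
      exact h0.1
    · apply hinj
      rw [map_zero, Algebra.algebraMap_eq_smul_one]
      have h1 := h0.2
      have h2 : c • (1 : CliffordAlgebra Q) = (c • z) * ((↑si⁻¹ : R) • η i) := by
        rw [smul_mul_assoc, hz1]
      rw [h2, h1, zero_mul]
  · apply le_antisymm
    · intro w hw
      have hw' : w ∈ Subalgebra.center R (CliffordAlgebra Q) := hw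
      obtain ⟨hw0, hw1⟩ := center_parts Q hw'
      obtain ⟨a, ha⟩ := hsc _ hw0 (P0_mem Q w)
      have ha' : algebraMap R (CliffordAlgebra Q) a = P0 Q w := ha
      obtain ⟨c, hc⟩ := hsc (P1 Q w * z) (Subalgebra.mul_mem _ hw1 hzc)
        (odd_mul_odd Q (P1_mem Q w) hzo)
      have hc' : algebraMap R (CliffordAlgebra Q) c = P1 Q w * z := hc
      obtain ⟨ru, hru'⟩ := hru
      have h3 : r • P1 Q w = c • z := by
        rw [Algebra.smul_def, hr', Algebra.smul_def, hc']
        rw [Subalgebra.mem_center_iff.mp hw1 (z * z)]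
        simp only [mul_assoc]
      have h4 : P1 Q w = ((↑ru⁻¹ : R) * c) • z := by
        rw [mul_smul, ← h3, smul_smul, ← hru', Units.inv_mul, one_smul]
      rw [Submodule.mem_span_pair]
      refine ⟨a, (↑ru⁻¹ : R) * c, ?_⟩
      rw [← h4, ← Algebra.algebraMap_eq_smul_one, ha', P0_add_P1]
    · rw [Submodule.span_le]
      rintro x (rfl | rfl)
      · exact Subalgebra.one_mem _
      · exact hzc

end Gen

end Groth.Agent.H80.ClOddLocal
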