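import Groth.Agent.H80.ClStar

set_option autoImplicit false
set_option linter.unusedSectionVars false

universe u v

namespace Groth.Agent.H80.ClPin

open scoped Pointwise

open CliffordAlgebra Groth.Agent.H80.ClBasic Groth.Agent.H80.ClCentre Groth.Agent.H80.ClOddLocal
  QuadGrp

section Conj

variable {R : Type*} [CommRing R] {M : Type*} [AddCommGroup M] [Module R M]
  (Q : QuadraticForm R M)

theorem conj_mem_of_GPin' {u : (CliffordAlgebra Q)ˣ} (hu : u ∈ QuadGrp.GPin' Q) (v : M) :
    ∃ w, (u : CliffordAlgebra Q) * ι Q v * ↑u⁻¹ = ι Q w := by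
  rw [QuadGrp.mem_GPin'] at hu
  have h1 : ConjAct.toConjAct u • ι Q v ∈ ConjAct.toConjAct u • LinearMap.range (ι Q) :=
    Submodule.smul_mem_pointwise_smul _ _ _ (LinearMap.mem_range_self _ v)
  rw [hu] at h1
  obtain ⟨w, hw⟩ := h1
  refine ⟨w, ?_⟩
  rw [hw, ConjAct.units_smul_def]
  rfl

theorem even_of_involute_eq [Invertible (2 : R)] {x : CliffordAlgebra Q} (h : involute x = x) :
    x ∈ evenOdd Q 0 := by
  have hx := P0_add_P1 Q x
  have h1 : involute x = P0 Q x - P1 Q x := by
    conv_lhs => rw [← hx]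
    rw [map_add, involute_eq_of_mem_even (P0_mem Q x), involute_eq_of_mem_odd (P1_mem Q x),
      sub_eq_add_neg]
  have h2 : (2 : R) • P1 Q x = 0 := by
    have h3 : P0 Q x - P1 Q x = P0 Q x + P1 Q x := by rw [← h1, h, hx]
    rw [two_smul]
    have h4 : P1 Q x + P1 Q x = (P0 Q x + P1 Q x) - (P0 Q x - P1 Q x) := by abel
    rw [h4, h3, sub_self]
  have h3 : P1 Q x = 0 := by
    have := congrArg (fun y => (⅟2 : R) • y) h2
    simpa [smul_smul] using this
  rw [← hx, h3, add_zero]
  exact P0_mem Q x

theorem odd_of_involute_eq_neg [Invertible (2 : R)] {x : CliffordAlgebra Q}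
    (h : involute x = -x) : x ∈ evenOdd Q 1 := by
  have hx := P0_add_P1 Q x
  have h1 : involute x = P0 Q x - P1 Q x := by
    conv_lhs => rw [← hx]
    rw [map_add, involute_eq_of_mem_even (P0_mem Q x), involute_eq_of_mem_odd (P1_mem Q x),
      sub_eq_add_neg]
  have h2 : (2 : R) • P0 Q x = 0 := by
    have h3 : P0 Q x - P1 Q x = -(P0 Q x + P1 Q x) := by rw [← h1, h, hx]
    rw [two_smul]
    have h4 : P0 Q x + P0 Q x = (P0 Q x + P1 Q x) + (P0 Q x - P1 Q x) := by abel
    rw [h4, h3, add_neg_cancel]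
  have h3 : P0 Q x = 0 := by
    have := congrArg (fun y => (⅟2 : R) • y) h2
    simpa [smul_smul] using this
  rw [← hx, h3, zero_add]
  exact P1_mem Q x

theorem star_involute (x : CliffordAlgebra Q) : star (involute x) = involute (star x) := by
  rw [star_def, star_def', involute_involute, involute_involute]

end Conj

/-- S16997. -/
theorem pin_eq {R : Type u} [CommRing R] [Invertible (2 : R)]
    {M : Type v} [AddCommGroup M] [Module R M]
    (m : ℕ) (hm : Odd m) (b : Module.Basis (Fin (2 * m + 1)) R M) (Q : QuadraticForm R M)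
    (hQ : QuadGrp.IsSemiregular b (LinearEquiv.refl R R) Q) :
    QuadGrp.Pin Q = QuadGrp.Pin' Q := by
  apply le_antisymm
  · intro u hu
    exact ⟨hu.1.1, hu.2⟩
  · intro u hu
    obtain ⟨hG, hN⟩ := hu
    refine ⟨⟨hG, ?_⟩, hN⟩
    obtain ⟨hsc, -⟩ := exists_partition m b Q hQ
    have hinj := algebraMap_injective_of_basis b Q
    obtain ⟨x, hx⟩ : ∃ x : CliffordAlgebra Q, x = (u : CliffordAlgebra Q) := ⟨_, rfl⟩
    obtain ⟨y, hy⟩ : ∃ y : CliffordAlgebra Q, y = (↑u⁻¹ : CliffordAlgebra Q) := ⟨_, rfl⟩
    have hxy : x * y = 1 := by rw [hx, hy, Units.mul_inv]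
    have hyx : y * x = 1 := by rw [hx, hy, Units.inv_mul]
    obtain ⟨a, ha⟩ : ∃ a : CliffordAlgebra Q, a = involute x := ⟨_, rfl⟩
    obtain ⟨a', ha'⟩ : ∃ a' : CliffordAlgebra Q, a' = involute y := ⟨_, rfl⟩
    have haa' : a * a' = 1 := by rw [ha, ha', ← map_mul, hxy, map_one]
    have ha'a : a' * a = 1 := by rw [ha, ha', ← map_mul, hyx, map_one]
    have hN' : star x * x = 1 := by rw [hx]; exact hN
    obtain ⟨c, hcdef⟩ : ∃ c : CliffordAlgebra Q, c = y * a := ⟨_, rfl⟩
    have hcc : c ∈ Subalgebra.center R (CliffordAlgebra Q) := by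
      apply central_of_comm_ι
      intro v
      obtain ⟨w, hw⟩ := conj_mem_of_GPin' Q hG v
      rw [← hx, ← hy] at hw
      have h1 : a * ι Q v * a' = ι Q w := by
        have := congrArg involute hw
        rw [map_mul, map_mul, involute_ι, involute_ι, ← ha, ← ha'] at this
        simpa using this
      rw [hcdef]
      calc y * a * ι Q v = y * a * ι Q v * (a' * a) := by rw [ha'a, mul_one]
        _ = y * (a * ι Q v * a') * a := by simp only [mul_assoc]
        _ = y * (x * ι Q v * y) * a := by rw [h1, hw]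
        _ = (y * x) * ι Q v * (y * a) := by simp only [mul_assoc]
        _ = ι Q v * (y * a) := by rw [hyx, one_mul]
    have hax : a = x * c := by rw [hcdef, ← mul_assoc, hxy, one_mul]
    have hic : involute c = a' * x := by
      rw [hcdef, map_mul, ha, involute_involute, ← ha']
    have h1 : c * involute c = 1 := by
      rw [hic, hcdef]
      calc y * a * (a' * x) = y * (a * a') * x := by simp only [mul_assoc]
        _ = 1 := by rw [haa', mul_one, hyx]
    have h2 : star c * c = 1 := by
      have h3 : star a * a = 1 := by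
        rw [ha, star_involute, ← map_mul, hN', map_one]
      rw [hax, star_mul] at h3
      calc star c * c = star c * (star x * x) * c := by rw [hN', mul_one]
        _ = star c * star x * (x * c) := by simp only [mul_assoc]
        _ = 1 := h3
    obtain ⟨hc0, hc1⟩ := center_parts Q hcc
    obtain ⟨r₀, hr₀⟩ := hsc _ hc0 (P0_mem Q c)
    have hr₀' : algebraMap R (CliffordAlgebra Q) r₀ = P0 Q c := hr₀
    have hs1 : star (P1 Q c) = P1 Q c := by
      rw [Groth.Agent.H80.ClStar.main m b Q hQ _ hc1 (P1_mem Q c)]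
      have : Even (m + 1) := Odd.add_one hm
      rw [this.neg_one_pow, one_smul]
    have hs0 : star (P0 Q c) = P0 Q c := by rw [← hr₀', star_algebraMap]
    have hsc' : star c = c := by
      conv_lhs => rw [← P0_add_P1 Q c]
      rw [star_add, hs0, hs1, P0_add_P1]
    rw [hsc'] at h2
    have h4 : involute c = c := by
      calc involute c = (c * c) * involute c := by rw [h2, one_mul]
        _ = c * (c * involute c) := by rw [mul_assoc]
        _ = c := by rw [h1, mul_one]
    have hce : c ∈ evenOdd Q 0 := even_of_involute_eq Q h4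
    have hcr : c = algebraMap R (CliffordAlgebra Q) r₀ := by
      rw [hr₀', P0_even Q hce]
    have hrr : r₀ * r₀ = 1 := by
      apply hinj
      rw [map_mul, ← hcr, h2, map_one]
    have hinv : involute x = r₀ • x := by
      rw [← ha, hax, hcr, ← Algebra.commutes, ← Algebra.smul_def]
    have h2t : (2 : R) * ⅟2 = 1 := mul_invOf_self 2
    show IsLocHomog Q (u : CliffordAlgebra Q)
    rw [← hx]
    refine ⟨⅟2 * (1 + r₀), ?_, ?_, ?_⟩
    · show ⅟2 * (1 + r₀) * (⅟2 * (1 + r₀)) = ⅟2 * (1 + r₀)
      linear_combination (⅟2 : R) ^ 2 * hrr + (⅟2 * (1 + r₀)) * h2t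
    · apply even_of_involute_eq
      rw [map_smul, hinv, smul_smul]
      congr 1
      linear_combination (⅟2 : R) * hrr
    · apply odd_of_involute_eq_neg
      rw [map_smul, hinv, smul_smul, ← neg_smul]
      congr 1
      linear_combination (-⅟2 : R) * hrr - (r₀ + 1) * h2t

end Groth.Agent.H80.ClPin
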