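import Groth.Agent.H80.ClDetOdd
import Groth.Agent.H80.ClDet
import Groth.Agent.H80.ClOddLocal
import Groth.Agent.H80.ClPin

set_option autoImplicit false
set_option linter.unusedSectionVars false

/-!
# The conjugation representation of the naive Clifford group, odd rank

Every unit of the Clifford algebra normalising the module induces an isometry; in odd rank
(semiregular form) this isometry has determinant one.
-/

namespace Groth.Agent.H80.ClDetOddApp

open CliffordAlgebra Groth.Agent.H80.ClBasic Groth.Agent.H80.ClBC Groth.Agent.H80.ClOdd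
  Groth.Agent.H80.ClOddLocal Groth.Agent.H80.ClPin Groth.Agent.H80.ClDetOdd
  Groth.Agent.H80.ClDet

universe u v

section Iso

variable {R : Type*} [CommRing R] {M : Type*} [AddCommGroup M] [Module R M]
  (Q : QuadraticForm R M)

/-- The linear map induced by conjugation with an element of the naive Clifford group. -/
theorem exists_linear_of_GPin' (hinj : Function.Injective (ι Q))
    (u : (CliffordAlgebra Q)ˣ) (hu : u ∈ QuadGrp.GPin' Q) :
    ∃ G : M →ₗ[R] M, ∀ v, (u : CliffordAlgebra Q) * ι Q v * ↑u⁻¹ = ι Q (G v) := by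
  have hex := fun v => conj_mem_of_GPin' (Q := Q) hu v
  choose G0 hG0 using hex
  refine ⟨{ toFun := G0, map_add' := ?_, map_smul' := ?_ }, fun v => hG0 v⟩
  · intro x y
    apply hinj
    rw [map_add, ← hG0 x, ← hG0 y, ← hG0 (x + y), map_add, mul_add, add_mul]
  · intro r x
    apply hinj
    rw [RingHom.id_apply, map_smul, ← hG0 x, ← hG0 (r • x), map_smul, mul_smul_comm,
      smul_mul_assoc]

/-- The isometry induced by conjugation with an element of the naive Clifford group. -/
theorem exists_isometry_of_GPin' {ι₀ : Type*} [Fintype ι₀] (b : Module.Basis ι₀ R M)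
    (u : (CliffordAlgebra Q)ˣ) (hu : u ∈ QuadGrp.GPin' Q) :
    ∃ g : M ≃ₗ[R] M, g ∈ QuadGrp.O Q ∧
      ∀ v, (u : CliffordAlgebra Q) * ι Q v * ↑u⁻¹ = ι Q (g v) := by
  have hfree : Module.Free R M := Module.Free.of_basis b
  have hinj : Function.Injective (ι Q) := (ι_summand Q).1
  have hinjR := algebraMap_injective_of_basis b Q
  obtain ⟨G, hG⟩ := exists_linear_of_GPin' Q hinj u hu
  obtain ⟨G', hG'⟩ := exists_linear_of_GPin' Q hinj u⁻¹ ((QuadGrp.GPin' Q).inv_mem hu)
  rw [inv_inv] at hG'
  have h1 : G.comp G' = LinearMap.id := by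
    ext v
    apply hinj
    rw [LinearMap.comp_apply, LinearMap.id_apply, ← hG, ← hG']
    simp only [mul_assoc, Units.mul_inv_cancel_left, Units.mul_inv, mul_one]
  have h2 : G'.comp G = LinearMap.id := by
    ext v
    apply hinj
    rw [LinearMap.comp_apply, LinearMap.id_apply, ← hG', ← hG]
    simp only [mul_assoc, Units.inv_mul_cancel_left, Units.inv_mul, mul_one]
  refine ⟨LinearEquiv.ofLinearMap G G' h1 h2, ?_, fun v => hG v⟩
  rw [QuadGrp.mem_O]
  intro v
  apply hinjR
  show algebraMap R _ (Q (G v)) = _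
  rw [← ι_sq_scalar, ← hG, ← ι_sq_scalar Q v]
  simp only [mul_assoc, Units.inv_mul_cancel_left]
  rw [← mul_assoc (ι Q v), ι_sq_scalar, Algebra.commutes, ← mul_assoc, Units.mul_inv, one_mul]

end Iso

section Main

variable {R : Type u} [CommRing R] {M : Type v} [AddCommGroup M] [Module R M]

/-- Odd rank: conjugation by a unit normalising the module has determinant one. -/
theorem det_eq_one_of_conj (m : ℕ) (b : Module.Basis (Fin (2 * m + 1)) R M)
    (Q : QuadraticForm R M) (hQ : QuadGrp.IsSemiregular b (LinearEquiv.refl R R) Q)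
    (u : (CliffordAlgebra Q)ˣ) (g : M →ₗ[R] M)
    (hg : ∀ v, (u : CliffordAlgebra Q) * ι Q v * ↑u⁻¹ = ι Q (g v)) :
    LinearMap.det g = 1 := by
  classical
  obtain ⟨A, instA, algA, hff, hfp, f, b', hf, hb⟩ := exists_split_data' m b Q hQ
  have hinjA : Function.Injective (algebraMap R A) := FaithfulSMul.algebraMap_injective R A
  let P := Phi Q (Qp A (Fin m)) f hf
  let u' : (CliffordAlgebra (Qp A (Fin m)))ˣ := Units.map P.toMonoidHom u
  have hu'1 : (u' : CliffordAlgebra (Qp A (Fin m))) = P u := rfl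
  have hu'2 : ((u'⁻¹ : (CliffordAlgebra (Qp A (Fin m)))ˣ) : CliffordAlgebra (Qp A (Fin m))) =
      P ↑u⁻¹ := by
    show ((Units.map P.toMonoidHom u)⁻¹ : (CliffordAlgebra (Qp A (Fin m)))ˣ).val = _
    rw [← map_inv]
    rfl
  let G : ((Fin m ⊕ Fin m → A) × A) →ₗ[A] ((Fin m ⊕ Fin m → A) × A) :=
    b'.constr A (fun i => f (g (b i)))
  have hGb : ∀ i, G (b' i) = f (g (b i)) := fun i => Module.Basis.constr_basis b' A _ i
  have hG : ∀ x, (u' : CliffordAlgebra (Qp A (Fin m))) * ι (Qp A (Fin m)) x * ↑u'⁻¹ =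
      ι (Qp A (Fin m)) (G x) := by
    have hlin : (LinearMap.mulRight A (↑u'⁻¹ : CliffordAlgebra (Qp A (Fin m)))).comp
        ((LinearMap.mulLeft A (u' : CliffordAlgebra (Qp A (Fin m)))).comp (ι (Qp A (Fin m)))) =
        (ι (Qp A (Fin m))).comp G := by
      apply b'.ext
      intro i
      show (u' : CliffordAlgebra (Qp A (Fin m))) * ι (Qp A (Fin m)) (b' i) * ↑u'⁻¹ =
        ι (Qp A (Fin m)) (G (b' i))
      rw [hGb, ← hb i, hu'1, hu'2, ← Phi_ι Q (Qp A (Fin m)) f hf,
        ← Phi_ι Q (Qp A (Fin m)) f hf, ← hg]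
      show P ↑u * P (ι Q (b i)) * P ↑u⁻¹ = P _
      rw [map_mul, map_mul]
    intro x
    exact LinearMap.congr_fun hlin x
  have hdet : LinearMap.det G = algebraMap R A (LinearMap.det g) := by
    rw [← LinearMap.det_toMatrix b' G, ← LinearMap.det_toMatrix b g, RingHom.map_det]
    congr 1
    ext i j
    rw [LinearMap.toMatrix_apply, hGb, repr_f f b b' hb, RingHom.mapMatrix_apply,
      Matrix.map_apply, LinearMap.toMatrix_apply]
  have h1 := det_of_conj_odd A (Fin m) u' G hG
  apply hinjA
  rw [← hdet, h1, map_one]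

end Main

end Groth.Agent.H80.ClDetOddApp
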