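import Groth.Agent.H80.ClDet

set_option autoImplicit false
set_option linter.unusedSectionVars false

universe u v

/-!
# The Dickson idempotent of an isometry and the determinant over a connected base

For an isometry `g` of a regular form of even rank, the intertwiner module `L` of the induced
automorphism of the Clifford algebra is invertible and graded; the even part of a partition of
unity gives an idempotent `e` of the base with `g` Dickson-trivial over `e = 1` and of
determinant `-1` over `e = 0`.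
-/

namespace Groth.Agent.H80.ClDickson

open CliffordAlgebra TensorProduct Groth.Agent.H80.QuadMat Groth.Agent.H80.ClBasic
  Groth.Agent.H80.ClBC Groth.Agent.H80.ClGenA Groth.Agent.H80.ClCentre Groth.Agent.H80.ClSplit
  Groth.Agent.H80.ClEvenData Groth.Agent.H80.ClOddLocal Groth.Agent.H80.ClEvenSplit
  Groth.Agent.H80.ClEvenC Groth.Agent.H80.ClSN Groth.Agent.H80.ClSNApp Groth.Agent.H80.ClStar
  Groth.Agent.H80.ClDetSplit Groth.Agent.H80.ClDet

section Scalars

variable {R : Type*} [CommRing R] {M : Type*} [AddCommGroup M] [Module R M]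
  (Q : QuadraticForm R M) (σ : CliffordAlgebra Q →ₐ[R] CliffordAlgebra Q)

/-- The product of an intertwiner and an inverse intertwiner is a scalar. -/
theorem prod_scalar (hZ : Subalgebra.center R (CliffordAlgebra Q) = ⊥)
    (hsurj : Function.Surjective σ) {x y : CliffordAlgebra Q}
    (hx : ∀ a, x * a = σ a * x) (hy : ∀ a, y * σ a = a * y) :
    ∃ r : R, algebraMap R (CliffordAlgebra Q) r = x * y := by
  have hc : x * y ∈ Subalgebra.center R (CliffordAlgebra Q) := by
    rw [Subalgebra.mem_center_iff]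
    intro a
    obtain ⟨c, rfl⟩ := hsurj a
    calc σ c * (x * y) = (σ c * x) * y := (mul_assoc _ _ _).symm
      _ = (x * c) * y := by rw [hx c]
      _ = x * (c * y) := mul_assoc _ _ _
      _ = x * (y * σ c) := by rw [hy c]
      _ = x * y * σ c := (mul_assoc _ _ _).symm
  rw [hZ] at hc
  obtain ⟨r, hr⟩ := Algebra.mem_bot.mp hc
  exact ⟨r, hr⟩

/-- The product in the other order is a scalar too. -/
theorem prod_scalar' (hZ : Subalgebra.center R (CliffordAlgebra Q) = ⊥)
    {x y : CliffordAlgebra Q}
    (hx : ∀ a, x * a = σ a * x) (hy : ∀ a, y * σ a = a * y) :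
    ∃ r : R, algebraMap R (CliffordAlgebra Q) r = y * x := by
  have hc : y * x ∈ Subalgebra.center R (CliffordAlgebra Q) := by
    rw [Subalgebra.mem_center_iff]
    intro a
    calc a * (y * x) = (a * y) * x := (mul_assoc _ _ _).symm
      _ = (y * σ a) * x := by rw [hy a]
      _ = y * (σ a * x) := mul_assoc _ _ _
      _ = y * (x * a) := by rw [hx a]
      _ = y * x * a := (mul_assoc _ _ _).symm
  rw [hZ] at hc
  obtain ⟨r, hr⟩ := Algebra.mem_bot.mp hc
  exact ⟨r, hr⟩

end Scalars

section Abstract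

variable {R : Type*} [CommRing R] {A : Type*} [CommRing A] [Algebra R A]
  {M : Type*} [AddCommGroup M] [Module R M]
  {N : Type*} [AddCommGroup N] [Module A N] [Module R N] [IsScalarTower R A N]
  (Q : QuadraticForm R M) (Q' : QuadraticForm A N)
  (f : M →ₗ[R] N)
  (hf : ∀ m, Q' (f m) = algebraMap R A (Q m))
  {ι₀ : Type*} [Fintype ι₀] (b : Module.Basis ι₀ R M)
  (b' : Module.Basis ι₀ A N)
  (hb : ∀ i, f (b i) = b' i)
  (σ : CliffordAlgebra Q →ₐ[R] CliffordAlgebra Q)
  (σ' : CliffordAlgebra Q' →ₐ[A] CliffordAlgebra Q')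
  (hσ : ∀ x, σ' (Phi Q Q' f hf x) = Phi Q Q' f hf (σ x))

/-- The ideal of scalars which are sums of products of intertwiners. -/
def partIdeal : Ideal R where
  carrier := {r | ∃ l : List (CliffordAlgebra Q × CliffordAlgebra Q),
    (∀ z ∈ l, (∀ a, z.1 * a = σ a * z.1) ∧ (∀ a, z.2 * σ a = a * z.2)) ∧
      (l.map (fun z => z.1 * z.2)).sum = algebraMap R (CliffordAlgebra Q) r}
  add_mem' := by
    rintro r s ⟨l₁, h₁, e₁⟩ ⟨l₂, h₂, e₂⟩
    refine ⟨l₁ ++ l₂, ?_, ?_⟩
    · intro z hz
      rcases List.mem_append.mp hz with h | h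
      · exact h₁ z h
      · exact h₂ z h
    · rw [List.map_append, List.sum_append, e₁, e₂, map_add]
  zero_mem' := ⟨[], by simp, by simp⟩
  smul_mem' := by
    rintro c r ⟨l, h, e⟩
    refine ⟨l.map (fun z => (c • z.1, z.2)), ?_, ?_⟩
    · intro z hz
      obtain ⟨z₀, hz₀, rfl⟩ := List.mem_map.mp hz
      refine ⟨fun a => ?_, (h z₀ hz₀).2⟩
      show c • z₀.1 * a = σ a * (c • z₀.1)
      rw [smul_mul_assoc, mul_smul_comm, (h z₀ hz₀).1 a]
    · rw [List.map_map, smul_eq_mul, map_mul, ← e, ← Algebra.smul_def, List.smul_sum,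
        List.map_map]
      congr 1
      apply List.map_congr_left
      intro z _
      simp only [Function.comp, smul_mul_assoc]

include hb hσ in
theorem partIdeal_eq_top [Module.FaithfullyFlat R A]
    (hZ : Subalgebra.center R (CliffordAlgebra Q) = ⊥)
    (hinjA : Function.Injective (algebraMap A (CliffordAlgebra Q')))
    (hsurj : Function.Surjective σ)
    {K : Type*} [Fintype K] (p q : K → CliffordAlgebra Q')
    (hp : ∀ k a, p k * a = σ' a * p k) (hq : ∀ k a, q k * σ' a = a * q k)
    (hpq : ∑ k, p k * q k = 1) : partIdeal Q σ = ⊤ := by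
  classical
  have hflat : Module.Flat R A := inferInstance
  let J : Ideal A := Ideal.map (algebraMap R A) (partIdeal Q σ)
  let NJ : Submodule A (CliffordAlgebra Q') :=
    Submodule.map (Algebra.linearMap A (CliffordAlgebra Q')) J
  have hprod : ∀ x' ∈ Submodule.span A ((Phi Q Q' f hf) ''
        (LinearMap.ker (LinearMap.pi (twL Q b σ)) : Set (CliffordAlgebra Q))),
      ∀ y' ∈ Submodule.span A ((Phi Q Q' f hf) ''
        (LinearMap.ker (LinearMap.pi (twR Q b σ)) : Set (CliffordAlgebra Q))),
      x' * y' ∈ NJ := by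
    intro x' hx' y' hy'
    induction hx' using Submodule.span_induction with
    | mem x1 hx1 =>
      obtain ⟨x, hx, rfl⟩ := hx1
      induction hy' using Submodule.span_induction with
      | mem y1 hy1 =>
        obtain ⟨y, hy, rfl⟩ := hy1
        have hx' := (mem_ker_twL Q b σ x).mp hx
        have hy' := (mem_ker_twR Q b σ y).mp hy
        obtain ⟨r, hr⟩ := prod_scalar Q σ hZ hsurj hx' hy'
        have hrm : r ∈ partIdeal Q σ := by
          refine ⟨[(x, y)], ?_, ?_⟩
          · intro z hz
            rw [List.mem_singleton] at hz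
            subst hz
            exact ⟨hx', hy'⟩
          · simp [hr]
        refine ⟨algebraMap R A r, Ideal.mem_map_of_mem _ hrm, ?_⟩
        rw [← map_mul, ← hr, AlgHom.commutes]
        exact (IsScalarTower.algebraMap_apply R A (CliffordAlgebra Q') r).symm
      | zero => rw [mul_zero]; exact Submodule.zero_mem _
      | add y z _ _ hy hz => rw [mul_add]; exact Submodule.add_mem _ hy hz
      | smul c y _ hy => rw [mul_smul_comm]; exact Submodule.smul_mem _ _ hy
    | zero => rw [zero_mul]; exact Submodule.zero_mem _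
    | add y z _ _ hy hz => rw [add_mul]; exact Submodule.add_mem _ hy hz
    | smul c y _ hy => rw [smul_mul_assoc]; exact Submodule.smul_mem _ _ hy
  have h1 : (1 : CliffordAlgebra Q') ∈ NJ := by
    rw [← hpq]
    refine Submodule.sum_mem _ fun k _ => hprod _ ?_ _ ?_
    · exact mem_span_ker Q Q' f hf b b' hb (twL Q b σ)
        (fun i e' => e' * ι Q' (b' i) - σ' (ι Q' (b' i)) * e')
        (fun i t => Psi_twL Q Q' f hf b b' hb σ σ' hσ i t)
        (fun i => by rw [hp k, sub_self])
    · exact mem_span_ker Q Q' f hf b b' hb (twR Q b σ)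
        (fun i e' => e' * σ' (ι Q' (b' i)) - ι Q' (b' i) * e')
        (fun i t => Psi_twR Q Q' f hf b b' hb σ σ' hσ i t)
        (fun i => by rw [hq k, sub_self])
  obtain ⟨j, hj, hj1⟩ := h1
  have hj' : j = 1 := hinjA (by rw [map_one]; exact hj1)
  have hJ : J = ⊤ := by
    rw [Ideal.eq_top_iff_one, ← hj']
    exact hj
  have h2 := Ideal.comap_map_eq_self_of_faithfullyFlat (A := R) (B := A) (partIdeal Q σ)
  rw [show Ideal.map (algebraMap R A) (partIdeal Q σ) = ⊤ from hJ, Ideal.comap_top] at h2
  exact h2.symm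

end Abstract

section Main

variable {R : Type u} [CommRing R] {M : Type v} [AddCommGroup M] [Module R M]
  (Q : QuadraticForm R M)

/-- A global partition of unity by intertwiners, for any automorphism of the Clifford algebra of
a regular form of even rank. -/
theorem exists_partition_of_regular (m : ℕ) (b : Module.Basis (Fin (2 * m)) R M)
    (hQ : Function.Bijective (QuadraticMap.polarBilin Q))
    (σ : CliffordAlgebra Q ≃ₐ[R] CliffordAlgebra Q) :
    ∃ (n : ℕ) (xs ys : Fin n → CliffordAlgebra Q),
      (∀ k a, xs k * a = σ a * xs k) ∧ (∀ k a, ys k * σ a = a * ys k) ∧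
        ∑ k, xs k * ys k = 1 := by
  obtain ⟨A', instA, algA, hff, hfp, f, b', hf, hb⟩ := exists_split_data_even m b Q hQ
  have hinj : Function.Injective (algebraMap R A') := FaithfulSMul.algebraMap_injective R A'
  have hZ := center_eq_bot_of_Phi Q (qH A' (Fin m)) f hf b b' hb hinj (center_eq_bot A' (Fin m))
  obtain ⟨P, hP⟩ : ∃ P : A' ⊗[R] CliffordAlgebra Q ≃ₐ[A'] CliffordAlgebra (qH A' (Fin m)),
      P = PsiEquiv Q (qH A' (Fin m)) f hf b b' hb := ⟨_, rfl⟩
  have hP1 : ∀ x, P ((1 : A') ⊗ₜ[R] x) = Phi Q (qH A' (Fin m)) f hf x := by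
    intro x
    rw [hP, PsiEquiv_apply, Psi_tmul, one_smul]
  let σ' : CliffordAlgebra (qH A' (Fin m)) →ₐ[A'] CliffordAlgebra (qH A' (Fin m)) :=
    (P : A' ⊗[R] CliffordAlgebra Q →ₐ[A'] CliffordAlgebra (qH A' (Fin m))).comp
      ((Algebra.TensorProduct.map (AlgHom.id A' A')
        (σ : CliffordAlgebra Q →ₐ[R] CliffordAlgebra Q)).comp
        (P.symm : CliffordAlgebra (qH A' (Fin m)) →ₐ[A'] A' ⊗[R] CliffordAlgebra Q))
  have hσ : ∀ x, σ' (Phi Q (qH A' (Fin m)) f hf x) = Phi Q (qH A' (Fin m)) f hf (σ x) := by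
    intro x
    show P (Algebra.TensorProduct.map (AlgHom.id A' A')
      (σ : CliffordAlgebra Q →ₐ[R] CliffordAlgebra Q) (P.symm _)) = _
    rw [← hP1 x, AlgEquiv.symm_apply_apply, Algebra.TensorProduct.map_tmul, ← hP1]
    rfl
  have hne : Nonempty (Fin (2 ^ m)) := ⟨⟨0, Nat.pos_of_ne_zero (by positivity)⟩⟩
  obtain ⟨p, q, hp, hq, hpq⟩ :=
    exists_families_of_equiv (matEquiv A' (Fin m) m (Fintype.card_fin m)) σ'
  have hinjA : Function.Injective (algebraMap A' (CliffordAlgebra (qH A' (Fin m)))) :=
    algebraMap_injective_of_basis b' _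
  have htop := partIdeal_eq_top Q (qH A' (Fin m)) f hf b b' hb
    (σ : CliffordAlgebra Q →ₐ[R] CliffordAlgebra Q) σ' hσ hZ hinjA σ.surjective p q hp hq hpq
  have h1 : (1 : R) ∈ partIdeal Q (σ : CliffordAlgebra Q →ₐ[R] CliffordAlgebra Q) := by
    rw [htop]
    exact Submodule.mem_top
  obtain ⟨l, hl, hsum⟩ := h1
  refine ⟨l.length, fun k => (l[k.1]).1, fun k => (l[k.1]).2, ?_, ?_, ?_⟩
  · intro k a
    exact (hl _ (List.getElem_mem _)).1 a
  · intro k a
    exact (hl _ (List.getElem_mem _)).2 a
  · rw [map_one] at hsum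
    rw [← hsum]
    exact Fin.sum_univ_fun_getElem l (fun z => z.1 * z.2)

/-- Parts of intertwiners are intertwiners. -/
theorem parts_L {ι₀ : Type*} [Fintype ι₀] (b : Module.Basis ι₀ R M)
    (g : M ≃ₗ[R] M) (hg : g ∈ QuadGrp.O Q) {x : CliffordAlgebra Q}
    (hx : ∀ a, x * a = sigmaOf Q g hg a * x) :
    (∀ a, P0 Q x * a = sigmaOf Q g hg a * P0 Q x) ∧
      (∀ a, P1 Q x * a = sigmaOf Q g hg a * P1 Q x) := by
  have hu' : ∀ v, x * ι Q v = ι Q (g v) * x := by
    intro v
    rw [hx, sigmaOf_ι]
  constructor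
  · exact twisted_of_basis Q b (sigmaOf Q g hg : CliffordAlgebra Q →ₐ[R] CliffordAlgebra Q)
      (fun i => by
        show _ = sigmaOf Q g hg (ι Q (b i)) * _
        rw [sigmaOf_ι]
        exact (parts_twisted Q hu' (b i)).1)
  · exact twisted_of_basis Q b (sigmaOf Q g hg : CliffordAlgebra Q →ₐ[R] CliffordAlgebra Q)
      (fun i => by
        show _ = sigmaOf Q g hg (ι Q (b i)) * _
        rw [sigmaOf_ι]
        exact (parts_twisted Q hu' (b i)).2)

theorem parts_R {ι₀ : Type*} [Fintype ι₀] (b : Module.Basis ι₀ R M)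
    (g : M ≃ₗ[R] M) (hg : g ∈ QuadGrp.O Q) {y : CliffordAlgebra Q}
    (hy : ∀ a, y * sigmaOf Q g hg a = a * y) :
    (∀ a, P0 Q y * sigmaOf Q g hg a = a * P0 Q y) ∧
      (∀ a, P1 Q y * sigmaOf Q g hg a = a * P1 Q y) := by
  have hu' : ∀ w, y * ι Q w = ι Q (g.symm w) * y := by
    intro w
    have h1 := hy (ι Q (g.symm w))
    rw [sigmaOf_ι, LinearEquiv.apply_symm_apply] at h1
    exact h1
  constructor
  · exact twisted_of_basis' Q b (sigmaOf Q g hg : CliffordAlgebra Q →ₐ[R] CliffordAlgebra Q)
      (fun i => by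
        show _ * sigmaOf Q g hg (ι Q (b i)) = _
        rw [sigmaOf_ι]
        have h2 := (parts_twisted Q hu' (g (b i))).1
        rw [LinearEquiv.symm_apply_apply] at h2
        exact h2)
  · exact twisted_of_basis' Q b (sigmaOf Q g hg : CliffordAlgebra Q →ₐ[R] CliffordAlgebra Q)
      (fun i => by
        show _ * sigmaOf Q g hg (ι Q (b i)) = _
        rw [sigmaOf_ι]
        have h2 := (parts_twisted Q hu' (g (b i))).2
        rw [LinearEquiv.symm_apply_apply] at h2
        exact h2)

/-- A scalar which is odd vanishes. -/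
theorem scalar_odd_eq_zero {r : R} {x : CliffordAlgebra Q}
    (hr : algebraMap R (CliffordAlgebra Q) r = x) (hx : x ∈ evenOdd Q 1) : x = 0 := by
  apply even_inter_odd Q _ hx
  rw [← hr]
  exact SetLike.algebraMap_mem_graded _ _

/-- S16989. -/
theorem det_eq_neg_one_of_not_dickson (hc : ConnectedSpace (PrimeSpectrum R)) (m : ℕ)
    (b : Module.Basis (Fin (2 * m)) R M)
    (hQ : Function.Bijective (QuadraticMap.polarBilin Q))
    (g : M ≃ₗ[R] M) (hg : g ∈ QuadGrp.O Q) (hD : ¬ QuadGrp.IsDicksonTrivial Q g hg) :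
    LinearMap.det (g : M →ₗ[R] M) = -1 := by
  classical
  have hZ := center_eq_bot_even m b Q hQ
  have hinjR := algebraMap_injective_of_basis b Q
  obtain ⟨n, xs, ys, hxs, hys, hone⟩ := exists_partition_of_regular Q m b hQ (sigmaOf Q g hg)
  have hx0 := fun k => (parts_L Q b g hg (hxs k)).1
  have hx1 := fun k => (parts_L Q b g hg (hxs k)).2
  have hy0 := fun k => (parts_R Q b g hg (hys k)).1
  have hy1 := fun k => (parts_R Q b g hg (hys k)).2
  have hsurj : Function.Surjective
      (sigmaOf Q g hg : CliffordAlgebra Q →ₐ[R] CliffordAlgebra Q) := (sigmaOf Q g hg).surjective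
  -- cross terms vanish
  have hc01 : ∀ k j, P0 Q (xs k) * P1 Q (ys j) = 0 := by
    intro k j
    obtain ⟨r, hr⟩ := prod_scalar Q _ hZ hsurj (hx0 k) (hy1 j)
    exact scalar_odd_eq_zero Q hr (even_mul_odd Q (P0_mem Q _) (P1_mem Q _))
  have hc10 : ∀ k j, P1 Q (xs k) * P0 Q (ys j) = 0 := by
    intro k j
    obtain ⟨r, hr⟩ := prod_scalar Q _ hZ hsurj (hx1 k) (hy0 j)
    exact scalar_odd_eq_zero Q hr (odd_mul_even Q (P1_mem Q _) (P0_mem Q _))
  have hd01 : ∀ k j, P0 Q (ys k) * P1 Q (xs j) = 0 := by
    intro k j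
    obtain ⟨r, hr⟩ := prod_scalar' Q
      (sigmaOf Q g hg : CliffordAlgebra Q →ₐ[R] CliffordAlgebra Q) hZ (hx1 j) (hy0 k)
    exact scalar_odd_eq_zero Q hr (even_mul_odd Q (P0_mem Q _) (P1_mem Q _))
  choose r0 hr0 using fun k => prod_scalar Q _ hZ hsurj (hx0 k) (hy0 k)
  choose r1 hr1 using fun k => prod_scalar Q _ hZ hsurj (hx1 k) (hy1 k)
  have hsplit : ∀ k, xs k * ys k = P0 Q (xs k) * P0 Q (ys k) + P1 Q (xs k) * P1 Q (ys k) := by
    intro k
    conv_lhs => rw [← P0_add_P1 Q (xs k), ← P0_add_P1 Q (ys k)]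
    rw [add_mul, mul_add, mul_add, hc01, hc10, add_zero, zero_add]
  have hee : (∑ k, r0 k) + (∑ k, r1 k) = 1 := by
    apply hinjR
    rw [map_add, map_sum, map_sum, map_one, ← hone, ← Finset.sum_add_distrib]
    refine Finset.sum_congr rfl fun k _ => ?_
    rw [hr0, hr1, hsplit]
  have hmul : (∑ k, r0 k) * (∑ k, r1 k) = 0 := by
    rw [Finset.sum_mul_sum]
    apply Finset.sum_eq_zero
    intro k _
    apply Finset.sum_eq_zero
    intro j _
    apply hinjR
    rw [map_mul, map_zero, hr0, hr1]
    calc P0 Q (xs k) * P0 Q (ys k) * (P1 Q (xs j) * P1 Q (ys j))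
        = P0 Q (xs k) * (P0 Q (ys k) * P1 Q (xs j)) * P1 Q (ys j) := by simp only [mul_assoc]
      _ = 0 := by rw [hd01, mul_zero, zero_mul]
  obtain ⟨e, he⟩ : ∃ e : R, e = ∑ k, r0 k := ⟨_, rfl⟩
  obtain ⟨e', he'⟩ : ∃ e' : R, e' = ∑ k, r1 k := ⟨_, rfl⟩
  rw [← he, ← he'] at hee hmul
  have hide : IsIdempotentElem e := by
    show e * e = e
    have : e * e = e * (e + e') := by rw [mul_add, hmul, add_zero]
    rw [this, hee, mul_one]
  have hide' : IsIdempotentElem e' := by
    show e' * e' = e'
    have : e' * e' = (e + e') * e' := by rw [add_mul, hmul, zero_add]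
    rw [this, hee, one_mul]
  have hclopen := PrimeSpectrum.isClopen_basicOpen_of_mul_add e e' hmul hee
  have hcases : e = 0 ∨ e' = 0 := by
    rcases isClopen_iff.mp hclopen with h0 | h1
    · left
      apply hide.eq_zero_of_isNilpotent
      rw [← PrimeSpectrum.basicOpen_eq_bot_iff]
      exact SetLike.coe_injective (h0.trans TopologicalSpace.Opens.coe_bot.symm)
    · right
      apply hide'.eq_zero_of_isNilpotent
      rw [← PrimeSpectrum.basicOpen_eq_bot_iff]
      apply SetLike.coe_injective
      rw [TopologicalSpace.Opens.coe_bot, Set.eq_empty_iff_forall_notMem]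
      intro x hx
      have hxe : x ∈ (PrimeSpectrum.basicOpen e : Set (PrimeSpectrum R)) := by
        rw [h1]
        exact Set.mem_univ x
      have h2 : e ∉ x.asIdeal := hxe
      have h3 : e' ∉ x.asIdeal := hx
      have h4 : e * e' ∈ x.asIdeal := by
        rw [hmul]
        exact Submodule.zero_mem _
      rcases x.isPrime.mem_or_mem h4 with h | h
      · exact h2 h
      · exact h3 h
  rcases hcases with h0 | h0
  · -- `e = 0`: all local lifts are odd
    have he1 : e' = 1 := by rw [← hee, h0, zero_add]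
    have hodd1 : ∑ k, P1 Q (xs k) * P1 Q (ys k) = 1 := by
      rw [← map_one (algebraMap R (CliffordAlgebra Q)), ← he1, he', map_sum]
      exact Finset.sum_congr rfl fun k _ => (hr1 k).symm
    obtain ⟨A', instA, algA, hff, hfp, f, b', hf, hb⟩ := exists_split_data_even m b Q hQ
    have hinj : Function.Injective (algebraMap R A') := FaithfulSMul.algebraMap_injective R A'
    have hflat : Module.Flat R A' := inferInstance
    rw [← add_eq_zero_iff_eq_neg]
    apply eq_zero_of_forall_localization hinj
    intro q hq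
    have hfl : Module.Flat R (Localization.AtPrime q) :=
      Module.Flat.trans R A' (Localization.AtPrime q)
    obtain ⟨fB, bB, hfB, hbB⟩ := localize_data (Localization.AtPrime q) Q (Fin m) f hf b b' hb
    obtain ⟨u, hpar, hconj, hev, hod⟩ := exists_local_lift Q m fB hfB b bB hbB g hg
    have ho : (u : CliffordAlgebra (qH (Localization.AtPrime q) (Fin m))) ∈
        evenOdd (qH (Localization.AtPrime q) (Fin m)) 1 := by
      rcases hpar with hev0 | h1
      · exfalso
        have hZB := center_eq_bot (Localization.AtPrime q) (Fin m)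
        have hinjB : Function.Injective (algebraMap (Localization.AtPrime q)
            (CliffordAlgebra (qH (Localization.AtPrime q) (Fin m)))) :=
          algebraMap_injective_of_basis bB _
        have hxi : ∀ k, Phi Q (qH (Localization.AtPrime q) (Fin m)) fB hfB (P1 Q (xs k)) = 0 := by
          intro k
          obtain ⟨ξ, hξ⟩ : ∃ ξ, ξ = Phi Q (qH (Localization.AtPrime q) (Fin m)) fB hfB
            (P1 Q (xs k)) := ⟨_, rfl⟩
          rw [← hξ]
          have hcomm : ∀ a, ξ * Phi Q (qH (Localization.AtPrime q) (Fin m)) fB hfB a =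
              ↑u * Phi Q (qH (Localization.AtPrime q) (Fin m)) fB hfB a * ↑u⁻¹ * ξ := by
            intro a
            rw [hξ, ← hconj, ← map_mul, ← map_mul, hx1 k a]
          have hcen : (↑u⁻¹ : CliffordAlgebra (qH (Localization.AtPrime q) (Fin m))) * ξ ∈
              Subalgebra.center (Localization.AtPrime q)
                (CliffordAlgebra (qH (Localization.AtPrime q) (Fin m))) := by
            apply central_of_comm_ι
            apply comm_ι_of_basis _ bB
            intro i
            rw [← hbB i, ← Phi_ι Q (qH (Localization.AtPrime q) (Fin m)) fB hfB, mul_assoc, hcomm]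
            simp only [mul_assoc, Units.inv_mul_cancel_left]
          rw [hZB] at hcen
          obtain ⟨a, ha⟩ := Algebra.mem_bot.mp hcen
          have hξu : ξ = a • (u : CliffordAlgebra (qH (Localization.AtPrime q) (Fin m))) := by
            calc ξ = ↑u * (↑u⁻¹ * ξ) := by rw [← mul_assoc, Units.mul_inv, one_mul]
              _ = ↑u * algebraMap _ _ a := by rw [ha]
              _ = a • (u : CliffordAlgebra (qH (Localization.AtPrime q) (Fin m))) := by
                rw [← Algebra.commutes, Algebra.smul_def]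
          apply even_inter_odd (qH (Localization.AtPrime q) (Fin m))
          · rw [hξu]
            exact Submodule.smul_mem _ _ hev0
          · rw [hξ]
            exact Phi_odd _ _ _ _ (P1_mem Q _)
        have h10 : (1 : CliffordAlgebra (qH (Localization.AtPrime q) (Fin m))) = 0 := by
          rw [← map_one (Phi Q (qH (Localization.AtPrime q) (Fin m)) fB hfB), ← hodd1, map_sum]
          apply Finset.sum_eq_zero
          intro k _
          rw [map_mul, hxi, zero_mul]
        have h11 : algebraMap (Localization.AtPrime q)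
            (CliffordAlgebra (qH (Localization.AtPrime q) (Fin m))) 1 =
            algebraMap (Localization.AtPrime q) _ 0 := by
          rw [map_one, map_zero, h10]
        exact one_ne_zero (hinjB h11)
      · exact h1
    rw [map_add, map_one, hod ho, neg_add_cancel]
  · -- `e' = 0`, `e = 1`: Dickson-trivial, contradiction
    exfalso
    apply hD
    have he1 : e = 1 := by rw [← hee, h0, add_zero]
    have heven1 : ∑ k, P0 Q (xs k) * P0 Q (ys k) = 1 := by
      rw [← map_one (algebraMap R (CliffordAlgebra Q)), ← he1, he, map_sum]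
      exact Finset.sum_congr rfl fun k _ => (hr0 k).symm
    intro z hz
    rw [← sigmaOf_eq_map]
    have hzc : ∀ y ∈ evenOdd Q 0, (z : CliffordAlgebra Q) * y = y * z := by
      intro y hy
      have h1 := Subalgebra.mem_center_iff.mp hz ⟨y, hy⟩
      exact (congrArg Subtype.val h1).symm
    calc sigmaOf Q g hg (z : CliffordAlgebra Q)
        = sigmaOf Q g hg (z : CliffordAlgebra Q) * ∑ k, P0 Q (xs k) * P0 Q (ys k) := by
          rw [heven1, mul_one]
      _ = ∑ k, (sigmaOf Q g hg (z : CliffordAlgebra Q) * P0 Q (xs k)) * P0 Q (ys k) := by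
          rw [Finset.mul_sum]
          exact Finset.sum_congr rfl fun k _ => (mul_assoc _ _ _).symm
      _ = ∑ k, ((z : CliffordAlgebra Q) * P0 Q (xs k)) * P0 Q (ys k) := by
          refine Finset.sum_congr rfl fun k _ => ?_
          rw [← hx0 k, hzc _ (P0_mem Q _)]
      _ = (z : CliffordAlgebra Q) * ∑ k, P0 Q (xs k) * P0 Q (ys k) := by
          rw [Finset.mul_sum]
          exact Finset.sum_congr rfl fun k _ => mul_assoc _ _ _
      _ = z := by rw [heven1, mul_one]

end Main

end Groth.Agent.H80.ClDickson
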