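import Groth.Agent.H80.ClGenA
import Groth.Agent.H80.ClCentre

set_option autoImplicit false
set_option linter.unusedSectionVars false

namespace Groth.Agent.H80.ClEvenC

open CliffordAlgebra TensorProduct Groth.Agent.H80.ClBasic Groth.Agent.H80.ClBC
  Groth.Agent.H80.ClGenA Groth.Agent.H80.ClCentre

section ThetaE

variable {R : Type*} [CommRing R] {M : Type*} [AddCommGroup M] [Module R M]
  (Q : QuadraticForm R M) {ι₀ : Type*} [Fintype ι₀] (b : Module.Basis ι₀ R M)

/-- The commutator with a product of two basis vectors. -/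
noncomputable def commE (p : ι₀ × ι₀) : CliffordAlgebra Q →ₗ[R] CliffordAlgebra Q :=
  LinearMap.mulRight R (ι Q (b p.1) * ι Q (b p.2)) - LinearMap.mulLeft R (ι Q (b p.1) * ι Q (b p.2))

theorem commE_apply (p : ι₀ × ι₀) (x : CliffordAlgebra Q) :
    commE Q b p x = x * (ι Q (b p.1) * ι Q (b p.2)) - (ι Q (b p.1) * ι Q (b p.2)) * x := rfl

/-- The map whose kernel is the centre of the even subalgebra. -/
noncomputable def ThetaE : CliffordAlgebra Q →ₗ[R] (Option (ι₀ × ι₀) → CliffordAlgebra Q) :=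
  LinearMap.pi fun o => Option.elim o (P1 Q) (commE Q b)

theorem ThetaE_none (x : CliffordAlgebra Q) : ThetaE Q b x none = P1 Q x := rfl

theorem ThetaE_some (x : CliffordAlgebra Q) (p : ι₀ × ι₀) :
    ThetaE Q b x (some p) = commE Q b p x := rfl

theorem mem_even_iff_P1 (x : CliffordAlgebra Q) : x ∈ evenOdd Q 0 ↔ P1 Q x = 0 := by
  constructor
  · exact P1_even Q
  · intro h
    have := P0_add_P1 Q x
    rw [h, add_zero] at this
    rw [← this]
    exact P0_mem Q x

/-- Commuting with products of basis vectors implies commuting with products of vectors. -/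
theorem comm_ι_mul_ι {x : CliffordAlgebra Q}
    (h : ∀ i j, x * (ι Q (b i) * ι Q (b j)) = (ι Q (b i) * ι Q (b j)) * x) (u v : M) :
    x * (ι Q u * ι Q v) = (ι Q u * ι Q v) * x := by
  have h1 : ∀ i, x * (ι Q (b i) * ι Q v) = (ι Q (b i) * ι Q v) * x := by
    intro i
    rw [← b.sum_repr v, map_sum, Finset.mul_sum, Finset.mul_sum, Finset.sum_mul]
    refine Finset.sum_congr rfl fun j _ => ?_
    rw [map_smul, mul_smul_comm, mul_smul_comm, smul_mul_assoc, h i j]
  rw [← b.sum_repr u, map_sum, Finset.sum_mul, Finset.mul_sum, Finset.sum_mul]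
  refine Finset.sum_congr rfl fun i _ => ?_
  rw [map_smul, smul_mul_assoc, mul_smul_comm, smul_mul_assoc, h1 i]

theorem comm_even_of_comm_pairs {x : CliffordAlgebra Q}
    (h : ∀ u v, x * (ι Q u * ι Q v) = (ι Q u * ι Q v) * x) {y : CliffordAlgebra Q}
    (hy : y ∈ evenOdd Q 0) : x * y = y * x := by
  induction y, hy using even_induction with
  | algebraMap r => exact (Algebra.commutes r x).symm
  | add a c _ _ ha hc => rw [mul_add, add_mul, ha, hc]
  | ι_mul_ι_mul m₁ m₂ a _ ih =>
    calc x * (ι Q m₁ * ι Q m₂ * a) = (x * (ι Q m₁ * ι Q m₂)) * a := by simp only [mul_assoc]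
      _ = (ι Q m₁ * ι Q m₂) * (x * a) := by rw [h, mul_assoc]
      _ = ι Q m₁ * ι Q m₂ * a * x := by rw [ih]; simp only [mul_assoc]

theorem mem_ker_ThetaE (x : CliffordAlgebra Q) :
    x ∈ LinearMap.ker (ThetaE Q b) ↔
      x ∈ evenOdd Q 0 ∧ ∀ y ∈ evenOdd Q 0, x * y = y * x := by
  rw [LinearMap.mem_ker]
  constructor
  · intro h
    have h0 : P1 Q x = 0 := by rw [← ThetaE_none Q b, h]; rfl
    have hi : ∀ i j, x * (ι Q (b i) * ι Q (b j)) = (ι Q (b i) * ι Q (b j)) * x := by
      intro i j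
      have : commE Q b (i, j) x = 0 := by rw [← ThetaE_some Q b, h]; rfl
      rw [commE_apply] at this
      exact sub_eq_zero.mp this
    exact ⟨(mem_even_iff_P1 Q x).mpr h0, fun y hy =>
      comm_even_of_comm_pairs Q (comm_ι_mul_ι Q b hi) hy⟩
  · rintro ⟨h1, h2⟩
    funext o
    rcases o with _ | p
    · rw [ThetaE_none, P1_even Q h1]; rfl
    · rw [ThetaE_some, commE_apply,
        h2 _ (ι_mul_ι_mem_evenOdd_zero Q (b p.1) (b p.2)), sub_self]; rfl

end ThetaE

section Abstract

variable {R : Type*} [CommRing R] {A : Type*} [CommRing A] [Algebra R A]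
  {M : Type*} [AddCommGroup M] [Module R M]
  {N : Type*} [AddCommGroup N] [Module A N] [Module R N] [IsScalarTower R A N]
  (Q : QuadraticForm R M) (Q' : QuadraticForm A N)
  (f : M →ₗ[R] N)
  (hf : ∀ m, Q' (f m) = algebraMap R A (Q m))
  {ι₀ : Type*} [Fintype ι₀] (b : Module.Basis ι₀ R M)
  (b' : Module.Basis ι₀ A N)
  (hb : ∀ i, f (b i) = b' i)

theorem Phi_P1 (x : CliffordAlgebra Q) :
    Phi Q Q' f hf (P1 Q x) = P1 Q' (Phi Q Q' f hf x) := by
  symm
  apply P1_eq Q' (Phi_even _ _ _ _ (P0_mem Q x)) (Phi_odd _ _ _ _ (P1_mem Q x))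
  rw [← map_add, P0_add_P1]

theorem Psi_P1 (t : A ⊗[R] CliffordAlgebra Q) :
    Psi Q Q' f hf ((P1 Q).lTensor A t) = P1 Q' (Psi Q Q' f hf t) := by
  induction t using TensorProduct.induction_on with
  | zero => rw [map_zero, map_zero, map_zero]
  | tmul a x =>
    rw [LinearMap.lTensor_tmul, Psi_tmul, Psi_tmul, map_smul, Phi_P1]
  | add y z hy hz => rw [map_add, map_add, map_add, map_add, hy, hz]

include hb in
theorem Psi_commE (p : ι₀ × ι₀) (t : A ⊗[R] CliffordAlgebra Q) :
    Psi Q Q' f hf ((commE Q b p).lTensor A t) =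
      Psi Q Q' f hf t * (ι Q' (b' p.1) * ι Q' (b' p.2)) -
        (ι Q' (b' p.1) * ι Q' (b' p.2)) * Psi Q Q' f hf t := by
  induction t using TensorProduct.induction_on with
  | zero => simp
  | tmul a x =>
    rw [LinearMap.lTensor_tmul, Psi_tmul, Psi_tmul, commE_apply, map_sub]
    simp only [map_mul, Phi_ι, hb]
    rw [smul_sub, smul_mul_assoc, mul_smul_comm]
  | add y z hy hz =>
    rw [map_add, map_add, map_add, hy, hz, add_mul, mul_add]
    abel

/-- The span of the image of the centre of the even subalgebra. -/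
noncomputable def SE : Submodule A (CliffordAlgebra Q') :=
  Submodule.span A ((Phi Q Q' f hf) '' (LinearMap.ker (ThetaE Q b) : Set (CliffordAlgebra Q)))

include hb in
theorem mem_SE [Module.Flat R A] {e' : CliffordAlgebra Q'} (he : e' ∈ evenOdd Q' 0)
    (hc : ∀ i j, e' * (ι Q' (b' i) * ι Q' (b' j)) = (ι Q' (b' i) * ι Q' (b' j)) * e') :
    e' ∈ SE Q Q' f hf b := by
  classical
  obtain ⟨t, ht⟩ := (PsiEquiv Q Q' f hf b b' hb).surjective e'
  have ht' : Psi Q Q' f hf t = e' := ht
  have hex : Function.Exact ((LinearMap.ker (ThetaE Q b)).subtype.lTensor A)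
      ((ThetaE Q b).lTensor A) :=
    Module.Flat.lTensor_exact A (LinearMap.exact_subtype_ker_map (ThetaE Q b))
  have hinjP : Function.Injective (Psi Q Q' f hf) :=
    (PsiEquiv Q Q' f hf b b' hb).injective
  have h0 : (ThetaE Q b).lTensor A t = 0 := by
    apply (TensorProduct.piRight R R A (fun _ : Option (ι₀ × ι₀) => CliffordAlgebra Q)).injective
    rw [map_zero]
    funext o
    have hcomp : ∀ t : A ⊗[R] CliffordAlgebra Q,
        (TensorProduct.piRight R R A (fun _ : Option (ι₀ × ι₀) => CliffordAlgebra Q)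
          ((ThetaE Q b).lTensor A t)) o = ((LinearMap.proj o ∘ₗ ThetaE Q b).lTensor A) t := by
      intro t
      induction t using TensorProduct.induction_on with
      | zero => simp
      | tmul a x => rfl
      | add y z hy hz =>
        rw [map_add, map_add, Pi.add_apply, hy, hz, map_add]
    rw [hcomp]
    show _ = (0 : A ⊗[R] CliffordAlgebra Q)
    apply hinjP
    rw [map_zero]
    rcases o with _ | p
    · show Psi Q Q' f hf ((P1 Q).lTensor A t) = 0
      rw [Psi_P1, ht', P1_even _ he]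
    · show Psi Q Q' f hf ((commE Q b p).lTensor A t) = 0
      rw [Psi_commE Q Q' f hf b b' hb, ht', hc, sub_self]
  obtain ⟨s, hs⟩ := (hex t).mp h0
  rw [← ht', ← hs]
  clear hs h0 ht ht'
  induction s using TensorProduct.induction_on with
  | zero => rw [map_zero, map_zero]; exact Submodule.zero_mem _
  | tmul a x =>
    rw [LinearMap.lTensor_tmul, Psi_tmul]
    apply Submodule.smul_mem
    apply Submodule.subset_span
    exact ⟨x.1, x.2, rfl⟩
  | add y z hy hz => rw [map_add, map_add]; exact Submodule.add_mem _ hy hz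

include f hf b b' hb in
/-- Descent of the centralizer property. -/
theorem even_of_centralizes [Module.FaithfullyFlat R A] {e' : CliffordAlgebra Q'}
    (he : e' ∈ evenOdd Q' 0)
    (hc : ∀ i j, e' * (ι Q' (b' i) * ι Q' (b' j)) = (ι Q' (b' i) * ι Q' (b' j)) * e')
    (hE : ∀ x' : CliffordAlgebra Q', x' * e' = e' * x' → x' ∈ evenOdd Q' 0)
    {x : CliffordAlgebra Q}
    (hx : ∀ z, z ∈ evenOdd Q 0 → (∀ y ∈ evenOdd Q 0, z * y = y * z) → z * x = x * z) :
    x ∈ evenOdd Q 0 := by
  have hflat : Module.Flat R A := inferInstance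
  have h1 : ∀ w ∈ SE Q Q' f hf b, w * Phi Q Q' f hf x = Phi Q Q' f hf x * w := by
    intro w hw
    unfold SE at hw
    induction hw using Submodule.span_induction with
    | mem y hy =>
      obtain ⟨z, hz, rfl⟩ := hy
      have hz' := (mem_ker_ThetaE Q b z).mp hz
      rw [← map_mul, ← map_mul, hx z hz'.1 hz'.2]
    | zero => rw [zero_mul, mul_zero]
    | add y z _ _ hy hz => rw [add_mul, mul_add, hy, hz]
    | smul c y _ hy => rw [smul_mul_assoc, mul_smul_comm, hy]
  have h2 := h1 e' (mem_SE Q Q' f hf b b' hb he hc)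
  have h3 := hE _ h2.symm
  have h4 : Phi Q Q' f hf (P1 Q x) = 0 := by rw [Phi_P1, P1_even _ h3]
  have h5 : P1 Q x = 0 := by
    apply Phi_injective Q Q' f hf b b' hb
    rw [h4, map_zero]
  exact (mem_even_iff_P1 Q x).mpr h5

end Abstract

end Groth.Agent.H80.ClEvenC
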