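import Mathlib

set_option autoImplicit false
set_option linter.unusedSectionVars false

namespace Groth.Agent.H80.QuadMat

open Matrix

variable {R : Type*} [CommRing R]

section Basic

variable {ι κ τ : Type*} [Fintype ι] [DecidableEq ι] [Fintype κ] [DecidableEq κ]
  [Fintype τ] [DecidableEq τ]

/-- The quadratic form `x ↦ xᵀ W x` of a square matrix. -/
def qf (W : Matrix ι ι R) (x : ι → R) : R := x ⬝ᵥ (W *ᵥ x)

/-- The polar matrix `W + Wᵀ`. -/
def pol (W : Matrix ι ι R) : Matrix ι ι R := W + Wᵀ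

/-- The polar form. -/
def bf (W : Matrix ι ι R) (x y : ι → R) : R := x ⬝ᵥ (pol W *ᵥ y)

/-- The (negative) discriminant of the restriction to the span of `v, w`. -/
def dsc (W : Matrix ι ι R) (v w : ι → R) : R := bf W v w ^ 2 - 4 * qf W v * qf W w

theorem bf_eq (W : Matrix ι ι R) (x y : ι → R) :
    bf W x y = x ⬝ᵥ (W *ᵥ y) + y ⬝ᵥ (W *ᵥ x) := by
  unfold bf pol
  rw [Matrix.add_mulVec, dotProduct_add]
  congr 1
  rw [Matrix.dotProduct_mulVec, Matrix.vecMul_transpose, dotProduct_comm]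

theorem bf_comm (W : Matrix ι ι R) (x y : ι → R) : bf W x y = bf W y x := by
  rw [bf_eq, bf_eq, add_comm]

theorem qf_add (W : Matrix ι ι R) (x y : ι → R) :
    qf W (x + y) = qf W x + qf W y + bf W x y := by
  rw [bf_eq]
  unfold qf
  rw [Matrix.mulVec_add, add_dotProduct, dotProduct_add, dotProduct_add]
  ring

theorem qf_smul (W : Matrix ι ι R) (c : R) (x : ι → R) : qf W (c • x) = c ^ 2 * qf W x := by
  unfold qf
  rw [Matrix.mulVec_smul, smul_dotProduct, dotProduct_smul, smul_eq_mul, smul_eq_mul]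
  ring

theorem qf_zero (W : Matrix ι ι R) : qf W 0 = 0 := by
  unfold qf
  simp

theorem bf_self (W : Matrix ι ι R) (x : ι → R) : bf W x x = 2 * qf W x := by
  rw [bf_eq]
  unfold qf
  ring

theorem bf_add_right (W : Matrix ι ι R) (x y z : ι → R) :
    bf W x (y + z) = bf W x y + bf W x z := by
  unfold bf
  rw [Matrix.mulVec_add, dotProduct_add]

theorem bf_smul_right (W : Matrix ι ι R) (c : R) (x y : ι → R) :
    bf W x (c • y) = c * bf W x y := by
  unfold bf
  rw [Matrix.mulVec_smul, dotProduct_smul, smul_eq_mul]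

theorem bf_add_left (W : Matrix ι ι R) (x y z : ι → R) :
    bf W (x + y) z = bf W x z + bf W y z := by
  rw [bf_comm, bf_add_right, bf_comm W z x, bf_comm W z y]

theorem bf_smul_left (W : Matrix ι ι R) (c : R) (x y : ι → R) :
    bf W (c • x) y = c * bf W x y := by
  rw [bf_comm, bf_smul_right, bf_comm]

theorem bf_zero_left (W : Matrix ι ι R) (y : ι → R) : bf W 0 y = 0 := by
  unfold bf
  simp

theorem dsc_comm (W : Matrix ι ι R) (v w : ι → R) : dsc W v w = dsc W w v := by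
  unfold dsc
  rw [bf_comm]
  ring

theorem dsc_add_left (W : Matrix ι ι R) (v w : ι → R) : dsc W (v + w) w = dsc W v w := by
  unfold dsc
  rw [bf_add_left, qf_add, bf_self]
  ring

theorem dsc_smul_right (W : Matrix ι ι R) (c : R) (v w : ι → R) :
    dsc W v (c • w) = c ^ 2 * dsc W v w := by
  unfold dsc
  rw [bf_smul_right, qf_smul]
  ring

theorem dsc_self (W : Matrix ι ι R) (v : ι → R) : dsc W v v = 0 := by
  unfold dsc
  rw [bf_self]
  ring

theorem dsc_zero_left (W : Matrix ι ι R) (w : ι → R) : dsc W 0 w = 0 := by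
  unfold dsc
  rw [bf_zero_left, qf_zero]
  ring

theorem dsc_polar (W : Matrix ι ι R) (v w₁ w₂ : ι → R) :
    dsc W v (w₁ + w₂) - dsc W v w₁ - dsc W v w₂ =
      2 * (bf W v w₁ * bf W v w₂ - bf W v v * bf W w₁ w₂) := by
  unfold dsc
  rw [bf_add_right, qf_add, bf_self]
  ring

theorem qf_single (W : Matrix ι ι R) (i : ι) : qf W (Pi.single i 1) = W i i := by
  unfold qf
  simp [Matrix.mulVec_single_one]

theorem bf_single (W : Matrix ι ι R) (i j : ι) :
    bf W (Pi.single i 1) (Pi.single j 1) = pol W i j := by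
  unfold bf
  simp [Matrix.mulVec_single_one]

theorem qf_sub (W₁ W₂ : Matrix ι ι R) (x : ι → R) : qf (W₁ - W₂) x = qf W₁ x - qf W₂ x := by
  unfold qf
  rw [Matrix.sub_mulVec, dotProduct_sub]

theorem qf_conj (W : Matrix ι ι R) (g : Matrix ι κ R) (y : κ → R) :
    qf (gᵀ * W * g) y = qf W (g *ᵥ y) := by
  unfold qf
  rw [← Matrix.mulVec_mulVec, ← Matrix.mulVec_mulVec, Matrix.dotProduct_mulVec,
    Matrix.vecMul_transpose]

theorem pol_conj (W : Matrix ι ι R) (g : Matrix ι κ R) : pol (gᵀ * W * g) = gᵀ * pol W * g := by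
  unfold pol
  rw [Matrix.transpose_mul, Matrix.transpose_mul, Matrix.transpose_transpose, Matrix.mul_add,
    Matrix.add_mul]
  simp only [Matrix.mul_assoc]

theorem pol_transpose (W : Matrix ι ι R) : (pol W)ᵀ = pol W := by
  unfold pol
  rw [Matrix.transpose_add, Matrix.transpose_transpose, add_comm]

section Map

variable {S : Type*} [CommRing S] (φ : R →+* S)

theorem qf_map (W : Matrix ι ι R) (x : ι → R) : qf (W.map φ) (φ ∘ x) = φ (qf W x) := by
  unfold qf
  simp only [dotProduct, mulVec, Matrix.map_apply, Function.comp, map_sum, map_mul]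

theorem pol_map (W : Matrix ι ι R) : pol (W.map φ) = (pol W).map φ := by
  unfold pol
  ext i j
  simp

theorem bf_map (W : Matrix ι ι R) (x y : ι → R) :
    bf (W.map φ) (φ ∘ x) (φ ∘ y) = φ (bf W x y) := by
  unfold bf
  rw [pol_map]
  simp only [dotProduct, mulVec, Matrix.map_apply, Function.comp, map_sum, map_mul]

theorem dsc_map (W : Matrix ι ι R) (v w : ι → R) :
    dsc (W.map φ) (φ ∘ v) (φ ∘ w) = φ (dsc W v w) := by
  unfold dsc
  rw [bf_map, qf_map, qf_map, map_sub, map_pow, map_mul, map_mul, map_ofNat]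

end Map

/-- Alternating matrices: zero diagonal and skew-symmetric. -/
structure Alt (D : Matrix ι ι R) : Prop where
  diag : ∀ i, D i i = 0
  skew : Dᵀ = -D

theorem Alt.apply_swap {D : Matrix ι ι R} (h : Alt D) (i j : ι) : D i j = - D j i := by
  have h1 := congrFun (congrFun h.skew j) i
  simpa using h1

theorem Alt.qf_eq_zero {D : Matrix ι ι R} (h : Alt D) (x : ι → R) : qf D x = 0 := by
  unfold qf
  simp only [dotProduct, mulVec, Finset.mul_sum]
  rw [← Finset.sum_product']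
  refine Finset.sum_ninvolution (fun a => (a.2, a.1)) ?_ ?_ ?_ ?_
  · rintro ⟨i, j⟩
    simp only
    rw [h.apply_swap i j]
    ring
  · rintro ⟨i, j⟩ hne heq
    simp only [Prod.mk.injEq] at heq
    apply hne
    obtain ⟨rfl, _⟩ := heq
    simp [h.diag]
  · intro a
    simp
  · intro a
    rfl

theorem Alt.zero : Alt (0 : Matrix ι ι R) := ⟨fun _ => rfl, by simp⟩

theorem Alt.neg {D : Matrix ι ι R} (h : Alt D) : Alt (-D) :=
  ⟨fun i => by simp [h.diag], by rw [Matrix.transpose_neg, h.skew]⟩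

theorem Alt.add {D₁ D₂ : Matrix ι ι R} (h₁ : Alt D₁) (h₂ : Alt D₂) : Alt (D₁ + D₂) :=
  ⟨fun i => by simp [h₁.diag, h₂.diag], by
    rw [Matrix.transpose_add, h₁.skew, h₂.skew, neg_add]⟩

theorem Alt.map {S : Type*} [CommRing S] (φ : R →+* S) {D : Matrix ι ι R} (h : Alt D) :
    Alt (D.map φ) := by
  refine ⟨fun i => by simp [h.diag], ?_⟩
  ext i j
  simp only [Matrix.transpose_apply, Matrix.map_apply, Matrix.neg_apply]
  rw [h.apply_swap j i, map_neg]

theorem Alt.conj {D : Matrix ι ι R} (h : Alt D) (g : Matrix ι κ R) : Alt (gᵀ * D * g) := by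
  refine ⟨fun k => ?_, ?_⟩
  · have h1 := qf_single (gᵀ * D * g) k
    rw [← h1, qf_conj]
    exact h.qf_eq_zero _
  · rw [Matrix.transpose_mul, Matrix.transpose_mul, Matrix.transpose_transpose, h.skew]
    simp [Matrix.mul_assoc]

/-- Two matrices with the same quadratic form (as polynomials). -/
def SameQ (W₁ W₂ : Matrix ι ι R) : Prop := Alt (W₁ - W₂)

theorem SameQ.refl (W : Matrix ι ι R) : SameQ W W := by
  unfold SameQ
  rw [sub_self]
  exact Alt.zero

theorem SameQ.symm {W₁ W₂ : Matrix ι ι R} (h : SameQ W₁ W₂) : SameQ W₂ W₁ := by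
  unfold SameQ at *
  have := h.neg
  rwa [neg_sub] at this

theorem SameQ.trans {W₁ W₂ W₃ : Matrix ι ι R} (h₁ : SameQ W₁ W₂) (h₂ : SameQ W₂ W₃) :
    SameQ W₁ W₃ := by
  unfold SameQ at *
  have := h₁.add h₂
  rwa [sub_add_sub_cancel] at this

theorem SameQ.qf_eq {W₁ W₂ : Matrix ι ι R} (h : SameQ W₁ W₂) (x : ι → R) : qf W₁ x = qf W₂ x := by
  have := Alt.qf_eq_zero h x
  rw [qf_sub] at this
  exact sub_eq_zero.mp this

theorem SameQ.conj {W₁ W₂ : Matrix ι ι R} (h : SameQ W₁ W₂) (g : Matrix ι κ R) :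
    SameQ (gᵀ * W₁ * g) (gᵀ * W₂ * g) := by
  unfold SameQ at *
  have := Alt.conj h g
  rwa [Matrix.mul_sub, Matrix.sub_mul] at this

theorem SameQ.map {S : Type*} [CommRing S] (φ : R →+* S) {W₁ W₂ : Matrix ι ι R}
    (h : SameQ W₁ W₂) : SameQ (W₁.map φ) (W₂.map φ) := by
  unfold SameQ at *
  have := Alt.map φ h
  rwa [Matrix.map_sub (⇑φ) (map_sub φ)] at this

theorem SameQ.pol_eq {W₁ W₂ : Matrix ι ι R} (h : SameQ W₁ W₂) : pol W₁ = pol W₂ := by
  have hs := h.skew
  rw [Matrix.transpose_sub, sub_eq_iff_eq_add] at hs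
  unfold pol
  rw [hs]
  abel

/-- Criterion: same diagonal and same polar matrix. -/
theorem sameQ_of_diag_of_pol {W₁ W₂ : Matrix ι ι R} (hd : ∀ i, W₁ i i = W₂ i i)
    (hp : pol W₁ = pol W₂) : SameQ W₁ W₂ := by
  refine ⟨fun i => by simp [hd i], ?_⟩
  unfold pol at hp
  rw [Matrix.transpose_sub]
  have : W₁ᵀ = W₂ + W₂ᵀ - W₁ := by rw [← hp]; abel
  rw [this]
  abel

/-- Congruence of matrices as quadratic forms: an invertible (possibly rectangular) change of variables. -/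
def Cong (W : Matrix ι ι R) (W₂ : Matrix κ κ R) : Prop :=
  ∃ (g : Matrix ι κ R) (g' : Matrix κ ι R), g * g' = 1 ∧ g' * g = 1 ∧ SameQ (gᵀ * W * g) W₂

theorem Cong.of_sameQ {W₁ W₂ : Matrix ι ι R} (h : SameQ W₁ W₂) : Cong W₁ W₂ :=
  ⟨1, 1, by simp, by simp, by simpa using h⟩

theorem Cong.refl (W : Matrix ι ι R) : Cong W W := Cong.of_sameQ (SameQ.refl W)

theorem Cong.trans {W : Matrix ι ι R} {W₂ : Matrix κ κ R} {W₃ : Matrix τ τ R}
    (h₁ : Cong W W₂) (h₂ : Cong W₂ W₃) : Cong W W₃ := by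
  obtain ⟨g₁, g₁', a₁, b₁, s₁⟩ := h₁
  obtain ⟨g₂, g₂', a₂, b₂, s₂⟩ := h₂
  refine ⟨g₁ * g₂, g₂' * g₁', ?_, ?_, ?_⟩
  · rw [Matrix.mul_assoc, ← Matrix.mul_assoc g₂, a₂, Matrix.one_mul, a₁]
  · rw [Matrix.mul_assoc, ← Matrix.mul_assoc g₁', b₁, Matrix.one_mul, b₂]
  · have h3 := (s₁.conj g₂).trans s₂
    have h4 : (g₁ * g₂)ᵀ * W * (g₁ * g₂) = g₂ᵀ * (g₁ᵀ * W * g₁) * g₂ := by
      simp [Matrix.transpose_mul, Matrix.mul_assoc]
    rwa [h4]

theorem Cong.map {S : Type*} [CommRing S] (φ : R →+* S) {W : Matrix ι ι R} {W₂ : Matrix κ κ R}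
    (h : Cong W W₂) : Cong (W.map φ) (W₂.map φ) := by
  obtain ⟨g, g', a, b, s⟩ := h
  refine ⟨g.map φ, g'.map φ, ?_, ?_, ?_⟩
  · rw [← Matrix.map_mul, a, Matrix.map_one _ (map_zero φ) (map_one φ)]
  · rw [← Matrix.map_mul, b, Matrix.map_one _ (map_zero φ) (map_one φ)]
  · have h3 := s.map φ
    rwa [Matrix.map_mul, Matrix.map_mul, Matrix.transpose_map] at h3

/-- Reindexing along an equivalence. -/
theorem Cong.reindex (W : Matrix ι ι R) (e : ι ≃ κ) : Cong W (W.submatrix e.symm e.symm) := by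
  refine ⟨(1 : Matrix ι ι R).submatrix id e.symm, (1 : Matrix ι ι R).submatrix e.symm id, ?_, ?_, ?_⟩
  · have := Matrix.submatrix_mul_equiv (1 : Matrix ι ι R) (1 : Matrix ι ι R) id e.symm id
    rw [this, Matrix.one_mul, Matrix.submatrix_id_id]
  · have := Matrix.submatrix_mul_equiv (1 : Matrix ι ι R) (1 : Matrix ι ι R) e.symm (Equiv.refl ι)
      e.symm
    simp only [Equiv.coe_refl] at this
    rw [this, Matrix.one_mul, Matrix.submatrix_one_equiv]
  · have h1 : ((1 : Matrix ι ι R).submatrix id e.symm)ᵀ * W * (1 : Matrix ι ι R).submatrix id e.symm =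
        W.submatrix e.symm e.symm := by
      ext a b
      simp [Matrix.mul_apply, Matrix.one_apply]
    rw [h1]
    exact SameQ.refl _

theorem Cong.isUnit_pol {W : Matrix ι ι R} {W₂ : Matrix κ κ R} (h : Cong W W₂)
    (hu : IsUnit (pol W).det) : IsUnit (pol W₂).det := by
  obtain ⟨g, g', a, b, s⟩ := h
  have h1 : pol W₂ = gᵀ * pol W * g := by rw [← s.pol_eq, pol_conj]
  have hinv := (Matrix.isUnit_iff_isUnit_det _).mpr hu
  obtain ⟨P', hP'⟩ := hinv.exists_right_inv
  apply Matrix.isUnit_det_of_right_inverse (B := g' * P' * g'ᵀ)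
  rw [h1]
  calc gᵀ * pol W * g * (g' * P' * g'ᵀ) = gᵀ * (pol W * ((g * g') * P')) * g'ᵀ := by
        simp only [Matrix.mul_assoc]
    _ = gᵀ * g'ᵀ := by rw [a, Matrix.one_mul, hP', Matrix.mul_one]
    _ = 1 := by rw [← Matrix.transpose_mul, b, Matrix.transpose_one]

end Basic

section Blocks

variable {τ τ' κ κ' : Type*} [Fintype τ] [DecidableEq τ] [Fintype τ'] [DecidableEq τ']
  [Fintype κ] [DecidableEq κ] [Fintype κ'] [DecidableEq κ']

theorem Alt.fromBlocks {D₁ : Matrix τ τ R} {D₂ : Matrix κ κ R} (h₁ : Alt D₁) (h₂ : Alt D₂) :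
    Alt (Matrix.fromBlocks D₁ 0 0 D₂) := by
  refine ⟨?_, ?_⟩
  · rintro (i | i)
    · simpa using h₁.diag i
    · simpa using h₂.diag i
  · rw [Matrix.fromBlocks_transpose, Matrix.fromBlocks_neg, h₁.skew, h₂.skew]
    simp

theorem SameQ.fromBlocks {X X' : Matrix τ τ R} {Y Y' : Matrix κ κ R} (h₁ : SameQ X X')
    (h₂ : SameQ Y Y') : SameQ (Matrix.fromBlocks X 0 0 Y) (Matrix.fromBlocks X' 0 0 Y') := by
  unfold SameQ at *
  have := Alt.fromBlocks h₁ h₂
  have h3 : Matrix.fromBlocks X 0 0 Y - Matrix.fromBlocks X' 0 0 Y' =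
      Matrix.fromBlocks (X - X') 0 0 (Y - Y') := by
    ext (i | i) (j | j) <;> simp
  rwa [h3]

theorem Cong.fromBlocks {H : Matrix τ τ R} {H' : Matrix τ' τ' R} {W : Matrix κ κ R}
    {W' : Matrix κ' κ' R} (h₁ : Cong H H') (h₂ : Cong W W') :
    Cong (Matrix.fromBlocks H 0 0 W) (Matrix.fromBlocks H' 0 0 W') := by
  obtain ⟨g₁, g₁', a₁, b₁, s₁⟩ := h₁
  obtain ⟨g₂, g₂', a₂, b₂, s₂⟩ := h₂
  refine ⟨Matrix.fromBlocks g₁ 0 0 g₂, Matrix.fromBlocks g₁' 0 0 g₂', ?_, ?_, ?_⟩
  · rw [Matrix.fromBlocks_multiply]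
    simp [a₁, a₂, Matrix.fromBlocks_one]
  · rw [Matrix.fromBlocks_multiply]
    simp [b₁, b₂, Matrix.fromBlocks_one]
  · have h3 : (Matrix.fromBlocks g₁ 0 0 g₂)ᵀ * Matrix.fromBlocks H 0 0 W * Matrix.fromBlocks g₁ 0 0 g₂ =
        Matrix.fromBlocks (g₁ᵀ * H * g₁) 0 0 (g₂ᵀ * W * g₂) := by
      rw [Matrix.fromBlocks_transpose, Matrix.fromBlocks_multiply, Matrix.fromBlocks_multiply]
      simp
    rw [h3]
    exact SameQ.fromBlocks s₁ s₂

theorem pol_fromBlocks (X : Matrix τ τ R) (Y : Matrix κ κ R) :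
    pol (Matrix.fromBlocks X 0 0 Y) = Matrix.fromBlocks (pol X) 0 0 (pol Y) := by
  unfold pol
  rw [Matrix.fromBlocks_transpose, Matrix.fromBlocks_add]
  simp

theorem isUnit_pol_right_of_fromBlocks {X : Matrix τ τ R} {Y : Matrix κ κ R}
    (h : IsUnit (pol (Matrix.fromBlocks X 0 0 Y)).det) : IsUnit (pol Y).det := by
  rw [pol_fromBlocks, Matrix.det_fromBlocks_zero₂₁] at h
  exact isUnit_of_mul_isUnit_right h

end Blocks

section Split

variable (J J' : Type*) [Fintype J] [DecidableEq J] [Fintype J'] [DecidableEq J']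

/-- The split (hyperbolic) form `∑ⱼ x_{inl j} x_{inr j}`. -/
def splitMat (R : Type*) [CommRing R] : Matrix (J ⊕ J) (J ⊕ J) R := Matrix.fromBlocks 0 1 0 0

theorem qf_splitMat (x : J ⊕ J → R) :
    qf (splitMat J R) x = ∑ j, x (Sum.inl j) * x (Sum.inr j) := by
  unfold qf splitMat
  simp [dotProduct, mulVec, Fintype.sum_sum_type, Matrix.one_apply]

theorem splitMat_map {S : Type*} [CommRing S] (φ : R →+* S) :
    (splitMat J R).map φ = splitMat J S := by
  unfold splitMat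
  ext (i | i) (j | j) <;> simp [Matrix.one_apply, apply_ite φ]

theorem splitMat_sum :
    Cong (Matrix.fromBlocks (splitMat J R) 0 0 (splitMat J' R)) (splitMat (J ⊕ J') R) := by
  have h := Cong.reindex (Matrix.fromBlocks (splitMat J R) 0 0 (splitMat J' R))
    (Equiv.sumSumSumComm J J J' J')
  have h2 : (Matrix.fromBlocks (splitMat J R) 0 0 (splitMat J' R)).submatrix
      (Equiv.sumSumSumComm J J J' J').symm (Equiv.sumSumSumComm J J J' J').symm =
      splitMat (J ⊕ J') R := by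
    unfold splitMat
    ext ((i | i) | (i | i)) ((j | j) | (j | j)) <;> simp [Matrix.one_apply]
  rwa [h2] at h

theorem splitMat_equiv (e : J ≃ J') : Cong (splitMat J R) (splitMat J' R) := by
  have h := Cong.reindex (splitMat J R) (Equiv.sumCongr e e)
  have h2 : (splitMat J R).submatrix (Equiv.sumCongr e e).symm (Equiv.sumCongr e e).symm =
      splitMat J' R := by
    unfold splitMat
    ext (i | i) (j | j) <;> simp [Matrix.one_apply]
  rwa [h2] at h

end Split

end Groth.Agent.H80.QuadMat
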