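import Groth.Agent.H80.ClBasic
import Groth.Agent.H80.QuadMat

set_option autoImplicit false
set_option linter.unusedSectionVars false

namespace Groth.Agent.H80.ClSplit

open CliffordAlgebra Groth.Agent.H80.QuadMat Groth.Agent.H80.ClBasic

section Rep

variable (R : Type*) [CommRing R] (J : Type*) [Fintype J] [DecidableEq J]

theorem toQuadraticForm'_apply' {n : Type*} [Fintype n] [DecidableEq n]
    (M : Matrix n n R) (x : n → R) : Matrix.toQuadraticForm' M x = qf M x := by
  rw [Matrix.toQuadraticForm', LinearMap.BilinMap.toQuadraticMap_apply,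
    Matrix.toLinearMap₂'_apply']
  rfl

/-- The hyperbolic form on `J ⊕ J → R`. -/
noncomputable def qH : QuadraticForm R (J ⊕ J → R) := Matrix.toQuadraticForm' (splitMat J R)

theorem qH_apply (x : J ⊕ J → R) : qH R J x = ∑ j, x (Sum.inl j) * x (Sum.inr j) := by
  unfold qH
  rw [toQuadraticForm'_apply', qf_splitMat]

/-- The exterior algebra of `J → R`. -/
abbrev Ext := ExteriorAlgebra R (J → R)

/-- The functional "dot product with `c`". -/
noncomputable def dl (c : J → R) : Module.Dual R (J → R) := dotProductEquiv R J c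

theorem dl_apply (c x : J → R) : dl R J c x = c ⬝ᵥ x := rfl

/-- The generators of the spin representation: `u ↦ (u|inl) ∧ · + (u|inr) ⌟ ·`. -/
noncomputable def gen : (J ⊕ J → R) →ₗ[R] Module.End R (Ext R J) :=
  (LinearMap.mul R (Ext R J)) ∘ₗ (ExteriorAlgebra.ι R) ∘ₗ (LinearMap.funLeft R R Sum.inl) +
    (contractLeft (Q := (0 : QuadraticForm R (J → R)))) ∘ₗ
      (dotProductEquiv R J).toLinearMap ∘ₗ (LinearMap.funLeft R R Sum.inr)

theorem gen_apply (u : J ⊕ J → R) (x : Ext R J) :
    gen R J u x = ExteriorAlgebra.ι R (u ∘ Sum.inl) * x +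
      contractLeft (dl R J (u ∘ Sum.inr)) x := rfl

theorem ι_sq_zero (v : J → R) : ExteriorAlgebra.ι R v * ExteriorAlgebra.ι R v = 0 := by
  rw [CliffordAlgebra.ι_sq_scalar]
  simp

theorem gen_sq (u : J ⊕ J → R) :
    gen R J u * gen R J u = algebraMap R (Module.End R (Ext R J)) (qH R J u) := by
  refine LinearMap.ext fun x => ?_
  rw [Module.End.mul_apply, gen_apply, gen_apply, map_add, mul_add, ← mul_assoc, ι_sq_zero,
    zero_mul, zero_add, contractLeft_ι_mul, contractLeft_contractLeft, add_zero,
    Module.algebraMap_end_apply, qH_apply, dl_apply]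
  have h1 : (u ∘ Sum.inr) ⬝ᵥ (u ∘ Sum.inl) = ∑ j, u (Sum.inl j) * u (Sum.inr j) := by
    simp only [dotProduct, Function.comp]
    exact Finset.sum_congr rfl fun j _ => mul_comm _ _
  rw [h1]
  abel

/-- The spin representation of the Clifford algebra of the hyperbolic form. -/
noncomputable def rho : CliffordAlgebra (qH R J) →ₐ[R] Module.End R (Ext R J) :=
  CliffordAlgebra.lift (qH R J) ⟨gen R J, gen_sq R J⟩

theorem rho_ι (u : J ⊕ J → R) : rho R J (ι (qH R J) u) = gen R J u := by
  unfold rho
  rw [CliffordAlgebra.lift_ι_apply]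

end Rep

section Lists

variable (R : Type*) [CommRing R] (J : Type*) [Fintype J] [DecidableEq J]

/-- The basis vectors in the exterior algebra. -/
noncomputable def ev (i : J) : Ext R J := ExteriorAlgebra.ι R (Pi.single i (1 : R))

/-- The (unordered) wedge monomial of a list of indices. -/
noncomputable def w (l : List J) : Ext R J := (l.map (ev R J)).prod

theorem w_nil : w R J [] = 1 := rfl

theorem w_cons (i : J) (l : List J) : w R J (i :: l) = ev R J i * w R J l := by
  unfold w
  rw [List.map_cons, List.prod_cons]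

/-- Contraction with the `i`-th coordinate functional. -/
noncomputable def ct (i : J) : Module.End R (Ext R J) :=
  contractLeft (Q := (0 : QuadraticForm R (J → R))) (dl R J (Pi.single i (1 : R)))

theorem ev_mul_ev (i : J) : ev R J i * ev R J i = 0 := ι_sq_zero R J _

theorem ev_anticomm (i j : J) : ev R J i * ev R J j = -(ev R J j * ev R J i) := by
  have h := CliffordAlgebra.ι_mul_ι_add_swap (Q := (0 : QuadraticForm R (J → R)))
    (Pi.single i (1 : R)) (Pi.single j (1 : R))
  have h0 : QuadraticMap.polar (⇑(0 : QuadraticForm R (J → R))) (Pi.single i (1 : R))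
      (Pi.single j (1 : R)) = 0 := by
    simp [QuadraticMap.polar]
  rw [h0, map_zero] at h
  exact eq_neg_of_add_eq_zero_left h

theorem ev_mul_w_of_mem (i : J) : ∀ (l : List J), i ∈ l → ev R J i * w R J l = 0 := by
  intro l
  induction l with
  | nil => intro h; simp at h
  | cons j l ih =>
    intro h
    rw [w_cons, ← mul_assoc]
    by_cases hij : i = j
    · subst hij
      rw [ev_mul_ev, zero_mul]
    · have hl : i ∈ l := by
        rcases List.mem_cons.mp h with h | h
        · exact absurd h hij
        · exact h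
      rw [ev_anticomm, neg_mul, mul_assoc, ih hl, mul_zero, neg_zero]

theorem ct_ev_mul (i j : J) (x : Ext R J) :
    ct R J i (ev R J j * x) = (if i = j then (1 : R) else 0) • x - ev R J j * ct R J i x := by
  unfold ct ev
  rw [contractLeft_ι_mul, dl_apply]
  congr 2
  simp [Pi.single_apply, eq_comm]

theorem ct_one (i : J) : ct R J i 1 = 0 := contractLeft_one _ _

theorem ct_w_of_notMem (i : J) : ∀ (l : List J), i ∉ l → ct R J i (w R J l) = 0 := by
  intro l
  induction l with
  | nil => intro _; exact ct_one R J i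
  | cons j l ih =>
    intro h
    have hij : i ≠ j := fun h' => h (by rw [h']; exact List.mem_cons_self)
    have hl : i ∉ l := fun h' => h (List.mem_cons_of_mem _ h')
    rw [w_cons, ct_ev_mul, if_neg hij, zero_smul, ih hl, mul_zero, sub_zero]

/-- The span of monomials of sublists of `l` of length `d`. -/
def G (l : List J) (d : ℕ) : Submodule R (Ext R J) :=
  Submodule.span R {x | ∃ l' : List J, l'.Sublist l ∧ l'.length = d ∧ x = w R J l'}

theorem w_mem_G (l : List J) : w R J l ∈ G R J l l.length :=
  Submodule.subset_span ⟨l, List.Sublist.refl l, rfl, rfl⟩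

theorem G_mono {l₁ l₂ : List J} (h : l₁.Sublist l₂) (d : ℕ) : G R J l₁ d ≤ G R J l₂ d := by
  apply Submodule.span_mono
  rintro x ⟨l', h1, h2, h3⟩
  exact ⟨l', h1.trans h, h2, h3⟩

theorem ev_mul_mem_G (j : J) (l : List J) (d : ℕ) {x : Ext R J} (hx : x ∈ G R J l d) :
    ev R J j * x ∈ G R J (j :: l) (d + 1) := by
  unfold G at hx
  induction hx using Submodule.span_induction with
  | mem y hy =>
    obtain ⟨l', h1, h2, rfl⟩ := hy
    refine Submodule.subset_span ⟨j :: l', h1.cons_cons j, by simp [h2], ?_⟩
    rw [w_cons]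
  | zero => rw [mul_zero]; exact Submodule.zero_mem _
  | add y z _ _ hy hz => rw [mul_add]; exact Submodule.add_mem _ hy hz
  | smul r y _ hy => rw [mul_smul_comm]; exact Submodule.smul_mem _ r hy

theorem ct_w_mem (i : J) : ∀ (l : List J), ct R J i (w R J l) ∈ G R J l (l.length - 1) := by
  intro l
  induction l with
  | nil => rw [w_nil, ct_one]; exact Submodule.zero_mem _
  | cons j l ih =>
    rw [w_cons, ct_ev_mul]
    refine Submodule.sub_mem _ (Submodule.smul_mem _ _ ?_) ?_
    · have := w_mem_G R J l
      simpa using G_mono R J (List.sublist_cons_self j l) _ this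
    · rcases Nat.eq_zero_or_pos l.length with h0 | hpos
      · have hl : l = [] := List.length_eq_zero_iff.mp h0
        subst hl
        rw [w_nil, ct_one, mul_zero]
        exact Submodule.zero_mem _
      · have h1 := ev_mul_mem_G R J j l _ ih
        have h2 : l.length - 1 + 1 = (j :: l).length - 1 := by
          simp only [List.length_cons]
          omega
        rwa [h2] at h1

theorem ct_mem_G (i : J) (l : List J) (d : ℕ) {x : Ext R J} (hx : x ∈ G R J l d) :
    ct R J i x ∈ G R J l (d - 1) := by
  unfold G at hx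
  induction hx using Submodule.span_induction with
  | mem y hy =>
    obtain ⟨l', h1, h2, rfl⟩ := hy
    have := ct_w_mem R J i l'
    rw [h2] at this
    exact G_mono R J h1 _ this
  | zero => rw [map_zero]; exact Submodule.zero_mem _
  | add y z _ _ hy hz => rw [map_add]; exact Submodule.add_mem _ hy hz
  | smul r y _ hy => rw [map_smul]; exact Submodule.smul_mem _ r hy

theorem ct_eq_zero_of_notMem (i : J) (l : List J) (d : ℕ) (hi : i ∉ l) {x : Ext R J}
    (hx : x ∈ G R J l d) : ct R J i x = 0 := by
  unfold G at hx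
  induction hx using Submodule.span_induction with
  | mem y hy =>
    obtain ⟨l', h1, _, rfl⟩ := hy
    exact ct_w_of_notMem R J i l' (fun h => hi (h1.subset h))
  | zero => rw [map_zero]
  | add y z _ _ hy hz => rw [map_add, hy, hz, add_zero]
  | smul r y _ hy => rw [map_smul, hy, smul_zero]

/-- Iterated contraction along a list (head first). -/
noncomputable def Kop : List J → Module.End R (Ext R J)
  | [] => 1
  | a :: t => Kop t * ct R J a

theorem Kop_cons (a : J) (t : List J) (x : Ext R J) :
    Kop R J (a :: t) x = Kop R J t (ct R J a x) := rfl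

theorem Kop_self : ∀ (t : List J), t.Nodup → Kop R J t (w R J t) = 1 := by
  intro t
  induction t with
  | nil => intro _; rfl
  | cons a t ih =>
    intro h
    have ha : a ∉ t := (List.nodup_cons.mp h).1
    rw [Kop_cons, w_cons, ct_ev_mul, if_pos rfl, one_smul, ct_w_of_notMem R J a t ha, mul_zero,
      sub_zero]
    exact ih (List.nodup_cons.mp h).2

theorem Kop_mem_G : ∀ (t : List J) (l : List J) (d : ℕ) {x : Ext R J}, x ∈ G R J l d →
    Kop R J t x ∈ G R J l (d - t.length) := by
  intro t
  induction t with
  | nil => intro l d x hx; simpa [Kop] using hx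
  | cons a t ih =>
    intro l d x hx
    rw [Kop_cons]
    have h1 := ih l (d - 1) (ct_mem_G R J a l d hx)
    have h2 : d - 1 - t.length = d - (a :: t).length := by
      simp only [List.length_cons]
      omega
    rwa [h2] at h1

theorem Kop_eq_zero : ∀ (t : List J) (l : List J) (d : ℕ) (a : J), a ∈ t → a ∉ l →
    ∀ {x : Ext R J}, x ∈ G R J l d → Kop R J t x = 0 := by
  intro t
  induction t with
  | nil => intro l d a h; simp at h
  | cons b t ih =>
    intro l d a hat hal x hx
    rw [Kop_cons]
    by_cases hab : a = b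
    · subst hab
      rw [ct_eq_zero_of_notMem R J a l d hal hx, map_zero]
    · have hat' : a ∈ t := by
        rcases List.mem_cons.mp hat with h | h
        · exact absurd h hab
        · exact h
      exact ih l (d - 1) a hat' hal (ct_mem_G R J b l d hx)

/-- The projection factors `pᵢ = ctᵢ ∘ (evᵢ ∧ ·)`. -/
noncomputable def pp (a : J) : Module.End R (Ext R J) :=
  ct R J a * LinearMap.mulLeft R (ev R J a)

theorem pp_w (a : J) (l : List J) : pp R J a (w R J l) = if a ∈ l then 0 else w R J l := by
  unfold pp
  rw [Module.End.mul_apply, LinearMap.mulLeft_apply]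
  split_ifs with h
  · rw [ev_mul_w_of_mem R J a l h, map_zero]
  · rw [ct_ev_mul, if_pos rfl, one_smul, ct_w_of_notMem R J a l h, mul_zero, sub_zero]

/-- The product of the projections along a list. -/
noncomputable def Pl : List J → Module.End R (Ext R J)
  | [] => 1
  | a :: s => Pl s * pp R J a

theorem Pl_w : ∀ (s : List J) (l : List J),
    Pl R J s (w R J l) = if (∃ a ∈ s, a ∈ l) then 0 else w R J l := by
  intro s
  induction s with
  | nil => intro l; simp [Pl]
  | cons a s ih =>
    intro l
    have h0 : Pl R J (a :: s) (w R J l) = Pl R J s (pp R J a (w R J l)) := rfl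
    rw [h0, pp_w]
    by_cases ha : a ∈ l
    · rw [if_pos ha, map_zero, if_pos ⟨a, List.mem_cons_self, ha⟩]
    · rw [if_neg ha, ih]
      by_cases hs : ∃ b ∈ s, b ∈ l
      · obtain ⟨b, hb1, hb2⟩ := hs
        rw [if_pos ⟨b, hb1, hb2⟩, if_pos ⟨b, List.mem_cons_of_mem _ hb1, hb2⟩]
      · rw [if_neg hs, if_neg]
        rintro ⟨b, hb1, hb2⟩
        rcases List.mem_cons.mp hb1 with h | h
        · exact ha (h ▸ hb2)
        · exact hs ⟨b, h, hb2⟩

/-- The projection onto the degree-zero part. -/
noncomputable def PP : Module.End R (Ext R J) := Pl R J (Finset.univ : Finset J).toList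

theorem PP_one : PP R J 1 = 1 := by
  have := Pl_w R J (Finset.univ : Finset J).toList []
  rw [w_nil, if_neg (by simp)] at this
  exact this

theorem PP_w_of_ne_nil (l : List J) (h : l ≠ []) : PP R J (w R J l) = 0 := by
  unfold PP
  rw [Pl_w, if_pos]
  obtain ⟨a, l', rfl⟩ := List.exists_cons_of_ne_nil h
  exact ⟨a, by simp, List.mem_cons_self⟩

theorem PP_eq_zero_of_mem_G (l : List J) (d : ℕ) (hd : 0 < d) {x : Ext R J}
    (hx : x ∈ G R J l d) : PP R J x = 0 := by
  unfold G at hx
  induction hx using Submodule.span_induction with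
  | mem y hy =>
    obtain ⟨l', _, h2, rfl⟩ := hy
    apply PP_w_of_ne_nil
    intro h
    rw [h] at h2
    simp at h2
    omega
  | zero => rw [map_zero]
  | add y z _ _ hy hz => rw [map_add, hy, hz, add_zero]
  | smul r y _ hy => rw [map_smul, hy, smul_zero]

end Lists

section Cl

variable (R : Type*) [CommRing R] (J : Type*) [Fintype J] [DecidableEq J]

/-- The generators `aᵢ` (creation) of the Clifford algebra of the hyperbolic form. -/
noncomputable def ca (a : J) : CliffordAlgebra (qH R J) :=
  ι (qH R J) (Pi.single (Sum.inl a) (1 : R))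

/-- The generators `cᵢ` (annihilation). -/
noncomputable def cc (a : J) : CliffordAlgebra (qH R J) :=
  ι (qH R J) (Pi.single (Sum.inr a) (1 : R))

theorem rho_ca (a : J) : rho R J (ca R J a) = LinearMap.mulLeft R (ev R J a) := by
  unfold ca
  rw [rho_ι]
  refine LinearMap.ext fun x => ?_
  rw [gen_apply, LinearMap.mulLeft_apply]
  have h1 : (Pi.single (Sum.inl a) (1 : R) : J ⊕ J → R) ∘ Sum.inl = Pi.single a 1 := by
    funext j
    simp [Pi.single_apply]
  have h2 : (Pi.single (Sum.inl a) (1 : R) : J ⊕ J → R) ∘ Sum.inr = 0 := by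
    funext j
    simp
  rw [h1, h2]
  unfold dl
  rw [map_zero, map_zero, LinearMap.zero_apply, add_zero]
  rfl

theorem rho_cc (a : J) : rho R J (cc R J a) = ct R J a := by
  unfold cc
  rw [rho_ι]
  refine LinearMap.ext fun x => ?_
  rw [gen_apply]
  have h1 : (Pi.single (Sum.inr a) (1 : R) : J ⊕ J → R) ∘ Sum.inr = Pi.single a 1 := by
    funext j
    simp [Pi.single_apply]
  have h2 : (Pi.single (Sum.inr a) (1 : R) : J ⊕ J → R) ∘ Sum.inl = 0 := by
    funext j
    simp
  rw [h1, h2, map_zero, zero_mul, zero_add]
  rfl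

/-- Products of creation operators. -/
noncomputable def Ac : List J → CliffordAlgebra (qH R J)
  | [] => 1
  | a :: l => ca R J a * Ac l

/-- Products of annihilation operators (head acting first). -/
noncomputable def Kc : List J → CliffordAlgebra (qH R J)
  | [] => 1
  | a :: t => Kc t * cc R J a

/-- Products of the projections. -/
noncomputable def Pc : List J → CliffordAlgebra (qH R J)
  | [] => 1
  | a :: s => Pc s * (cc R J a * ca R J a)

theorem rho_Ac_one : ∀ l : List J, rho R J (Ac R J l) 1 = w R J l := by
  intro l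
  induction l with
  | nil => simp [Ac, w_nil]
  | cons a l ih =>
    have h0 : Ac R J (a :: l) = ca R J a * Ac R J l := rfl
    rw [h0, map_mul, Module.End.mul_apply, ih, rho_ca, LinearMap.mulLeft_apply, w_cons]

theorem rho_Kc : ∀ t : List J, rho R J (Kc R J t) = Kop R J t := by
  intro t
  induction t with
  | nil => simp [Kc, Kop]
  | cons a t ih =>
    have h0 : Kc R J (a :: t) = Kc R J t * cc R J a := rfl
    have h1 : Kop R J (a :: t) = Kop R J t * ct R J a := rfl
    rw [h0, h1, map_mul, ih, rho_cc]

theorem rho_Pc : ∀ s : List J, rho R J (Pc R J s) = Pl R J s := by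
  intro s
  induction s with
  | nil => simp [Pc, Pl]
  | cons a s ih =>
    have h0 : Pc R J (a :: s) = Pc R J s * (cc R J a * ca R J a) := rfl
    have h1 : Pl R J (a :: s) = Pl R J s * pp R J a := rfl
    rw [h0, h1, map_mul, map_mul, ih, rho_cc, rho_ca]
    rfl

/-- The element of the Clifford algebra acting as the elementary operator `w lT ↦ w lS`. -/
noncomputable def elt (lS lT : List J) : CliffordAlgebra (qH R J) :=
  Ac R J lS * Pc R J (Finset.univ : Finset J).toList * Kc R J lT

theorem rho_elt_apply (lS lT : List J) (x : Ext R J) :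
    rho R J (elt R J lS lT) x = rho R J (Ac R J lS) (PP R J (Kop R J lT x)) := by
  unfold elt PP
  rw [map_mul, map_mul, rho_Kc, rho_Pc]
  rfl

theorem rho_elt_self (lS lT : List J) (hT : lT.Nodup) :
    rho R J (elt R J lS lT) (w R J lT) = w R J lS := by
  rw [rho_elt_apply, Kop_self R J lT hT, PP_one, rho_Ac_one]

theorem rho_elt_of_ne (lS lT l' : List J) (hT : lT.Nodup) (hl' : l'.Nodup)
    (hne : lT.toFinset ≠ l'.toFinset) : rho R J (elt R J lS lT) (w R J l') = 0 := by
  rw [rho_elt_apply]
  by_cases hsub : ∀ a ∈ lT, a ∈ l'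
  · -- `lT ⊆ l'`, so `l'` is strictly longer
    have hlt : lT.length < l'.length := by
      have h1 : lT.toFinset ⊆ l'.toFinset := by
        intro a ha
        rw [List.mem_toFinset] at ha ⊢
        exact hsub a ha
      have h2 : lT.toFinset ⊂ l'.toFinset := lt_of_le_of_ne h1 hne
      have h3 := Finset.card_lt_card h2
      rwa [List.toFinset_card_of_nodup hT, List.toFinset_card_of_nodup hl'] at h3
    have h4 := Kop_mem_G R J lT l' l'.length (w_mem_G R J l')
    rw [PP_eq_zero_of_mem_G R J l' _ (by omega) h4, map_zero]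
  · push Not at hsub
    obtain ⟨a, ha1, ha2⟩ := hsub
    rw [Kop_eq_zero R J lT l' l'.length a ha1 ha2 (w_mem_G R J l'), map_zero, map_zero]

end Cl

section Surj

variable (R : Type*) [CommRing R] (J : Type*) [Fintype J] [LinearOrder J]

/-- The canonical list of a finset. -/
noncomputable def lS (S : Finset J) : List J :=
  List.ofFn (fun k : Fin S.card => (S.orderEmbOfFin rfl k : J))

theorem lS_nodup (S : Finset J) : (lS J S).Nodup := by
  unfold lS
  rw [List.nodup_ofFn]
  exact (S.orderEmbOfFin rfl).injective

theorem mem_lS (S : Finset J) (a : J) : a ∈ lS J S ↔ a ∈ S := by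
  unfold lS
  rw [List.mem_ofFn]
  have h := Finset.range_orderEmbOfFin S (rfl : S.card = S.card)
  constructor
  · rintro ⟨k, rfl⟩
    have : (S.orderEmbOfFin rfl k : J) ∈ Set.range (S.orderEmbOfFin rfl) := ⟨k, rfl⟩
    rw [h] at this
    exact this
  · intro ha
    have : a ∈ Set.range (S.orderEmbOfFin rfl) := by rw [h]; exact ha
    exact this

theorem lS_toFinset (S : Finset J) : (lS J S).toFinset = S := by
  ext a
  rw [List.mem_toFinset, mem_lS]

/-- The standard basis of the exterior algebra. -/
noncomputable def bE : Module.Basis (Finset J) R (Ext R J) := (Pi.basisFun R J).ExteriorAlgebra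

theorem bE_eq (S : Finset J) : bE R J S = w R J (lS J S) := by
  unfold bE
  rw [ExteriorAlgebra.basis_apply]
  unfold w lS
  rw [List.map_ofFn]
  show ExteriorAlgebra.ιMulti R S.card _ = _
  rw [ExteriorAlgebra.ιMulti_apply]
  congr 2
  funext k
  simp only [Function.comp, ev, Pi.basisFun_apply]
  rfl

theorem rho_elt_bE (S T T' : Finset J) :
    rho R J (elt R J (lS J S) (lS J T)) (bE R J T') = if T' = T then bE R J S else 0 := by
  rw [bE_eq]
  split_ifs with h
  · subst h
    rw [rho_elt_self R J _ _ (lS_nodup J T'), bE_eq]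
  · apply rho_elt_of_ne R J _ _ _ (lS_nodup J T) (lS_nodup J T')
    rw [lS_toFinset, lS_toFinset]
    exact fun h' => h h'.symm

theorem rho_surjective : Function.Surjective (rho R J) := by
  intro φ
  refine ⟨∑ S : Finset J, ∑ T : Finset J,
    ((bE R J).repr (φ (bE R J T)) S) • elt R J (lS J S) (lS J T), ?_⟩
  apply (bE R J).ext
  intro T'
  rw [map_sum, LinearMap.sum_apply]
  have h1 : ∀ S : Finset J, (rho R J (∑ T : Finset J,
      ((bE R J).repr (φ (bE R J T)) S) • elt R J (lS J S) (lS J T))) (bE R J T') =
      ((bE R J).repr (φ (bE R J T')) S) • bE R J S := by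
    intro S
    rw [map_sum, LinearMap.sum_apply]
    rw [Finset.sum_eq_single T']
    · rw [map_smul, LinearMap.smul_apply, rho_elt_bE, if_pos rfl]
    · intro T _ hT
      rw [map_smul, LinearMap.smul_apply, rho_elt_bE, if_neg (Ne.symm hT), smul_zero]
    · intro h
      exact absurd (Finset.mem_univ _) h
  rw [Finset.sum_congr rfl fun S _ => h1 S]
  exact (bE R J).sum_repr _

/-- A basis of the endomorphism algebra of the exterior algebra. -/
noncomputable def bEnd : Module.Basis (Finset J × Finset J) R (Module.End R (Ext R J)) :=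
  (Matrix.stdBasis R (Finset J) (Finset J)).map (algEquivMatrix (bE R J)).symm.toLinearEquiv

theorem rho_bijective : Function.Bijective (rho R J) := by
  obtain ⟨bC, _⟩ := exists_basis_finset (Pi.basisFun R (J ⊕ J)) (qH R J)
  have hcard : Fintype.card (Finset (Fin (Fintype.card (J ⊕ J)))) =
      Fintype.card (Finset J × Finset J) := by
    rw [Fintype.card_finset, Fintype.card_prod, Fintype.card_finset, Fintype.card_fin,
      Fintype.card_sum, pow_add]
  exact bijective_of_surjective_of_bases bC (bEnd R J) (Fintype.equivOfCardEq hcard)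
    (rho R J).toLinearMap (rho_surjective R J)

/-- The Clifford algebra of the hyperbolic form is the endomorphism algebra of the exterior
algebra. -/
noncomputable def rhoEquiv : CliffordAlgebra (qH R J) ≃ₐ[R] Module.End R (Ext R J) :=
  AlgEquiv.ofBijective (rho R J) (rho_bijective R J)

theorem rhoEquiv_apply (x : CliffordAlgebra (qH R J)) : rhoEquiv R J x = rho R J x := rfl

/-- ... and hence a matrix algebra of size `2 ^ m`. -/
noncomputable def matEquiv (m : ℕ) (hm : Fintype.card J = m) :
    CliffordAlgebra (qH R J) ≃ₐ[R] Matrix (Fin (2 ^ m)) (Fin (2 ^ m)) R :=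
  (rhoEquiv R J).trans (algEquivMatrix ((bE R J).reindex
    (Fintype.equivFinOfCardEq (by rw [Fintype.card_finset, hm]))))

theorem center_eq_bot : Subalgebra.center R (CliffordAlgebra (qH R J)) = ⊥ := by
  rw [eq_bot_iff]
  intro z hz
  have h1 : rhoEquiv R J z ∈ Subalgebra.center R (Module.End R (Ext R J)) := by
    rw [Subalgebra.mem_center_iff] at hz ⊢
    intro φ
    obtain ⟨y, rfl⟩ := (rhoEquiv R J).surjective φ
    rw [← map_mul, ← map_mul, hz y]
  have hfree : Module.Free R (Ext R J) := Module.Free.of_basis (bE R J)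
  rw [Algebra.IsCentral.center_eq_bot] at h1
  obtain ⟨r, hr⟩ := Algebra.mem_bot.mp h1
  rw [Algebra.mem_bot]
  refine ⟨r, ?_⟩
  apply (rhoEquiv R J).injective
  rw [← hr, AlgEquiv.commutes]

end Surj

end Groth.Agent.H80.ClSplit
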