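import Groth.Agent.H80.QuadOdd3
import Groth.Agent.H80.ClSplit

set_option autoImplicit false
set_option linter.unusedSectionVars false

universe u v

namespace Groth.Agent.H80.ClEvenData

open Matrix CliffordAlgebra Groth.Agent.H80.QuadMat Groth.Agent.H80.QuadEven
  Groth.Agent.H80.QuadOdd3 Groth.Agent.H80.ClSplit

/-- Fppf-global (in fact étale-global) splitting of a regular even-rank form. -/
theorem global_split_even (k : ℕ) (R : Type u) [CommRing R]
    (W : Matrix (Fin (2 * k)) (Fin (2 * k)) R) (hW : IsUnit (pol W).det) :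
    ∃ (A : Type u) (_ : CommRing A) (_ : Algebra R A), Module.FaithfullyFlat R A ∧
      Algebra.FinitePresentation R A ∧ Cong (W.map (algebraMap R A)) (splitMat (Fin k) A) := by
  classical
  have hcard : Fintype.card (Fin (2 * k)) = 2 * k := Fintype.card_fin _
  choose B instB φ hφ hq J instJ1 instJ2 hJ hC using fun P : PrimeSpectrum R =>
    local_split k R (Fin (2 * k)) hcard W hW P.asIdeal
  have hopen : ∀ P, IsOpen (Set.range (PrimeSpectrum.comap (φ P))) := by
    intro P
    let _ : Algebra R (B P) := (φ P).toAlgebra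
    have he : Algebra.Etale R (B P) := hφ P
    have h1 := PrimeSpectrum.isOpenMap_comap_of_hasGoingDown_of_finitePresentation (R := R)
      (S := B P)
    exact h1.isOpen_range
  have hmem : ∀ P : PrimeSpectrum R, P ∈ Set.range (PrimeSpectrum.comap (φ P)) := by
    intro P
    obtain ⟨q, hq1, hq2⟩ := hq P
    exact ⟨⟨q, hq1⟩, PrimeSpectrum.ext hq2⟩
  obtain ⟨t, ht⟩ := isCompact_univ.elim_finite_subcover
    (fun P => Set.range (PrimeSpectrum.comap (φ P))) hopen
    (fun x _ => Set.mem_iUnion.mpr ⟨x, hmem x⟩)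
  let _ : ∀ x : {x // x ∈ t}, Algebra R (B x.1) := fun x => (φ x.1).toAlgebra
  have het : ∀ x : {x // x ∈ t}, Algebra.Etale R (B x.1) := fun x => hφ x.1
  have hfl : ∀ x : {x // x ∈ t}, Module.Flat R (B x.1) := fun x => inferInstance
  have hfp : ∀ x : {x // x ∈ t}, Algebra.FinitePresentation R (B x.1) := fun x => inferInstance
  have hflat : Module.Flat R (∀ x : {x // x ∈ t}, B x.1) :=
    Module.Flat.of_linearEquiv
      (DFinsupp.linearEquivFunOnFintype (R := R) (M := fun x : {x // x ∈ t} => B x.1)).symm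
  refine ⟨∀ x : {x // x ∈ t}, B x.1, inferInstance, inferInstance, ?_, inferInstance, ?_⟩
  · apply Module.FaithfullyFlat.of_comap_surjective
    intro p
    have h1 := ht (Set.mem_univ p)
    obtain ⟨P, hP⟩ := Set.mem_iUnion.mp h1
    obtain ⟨hPt, q, hq'⟩ := Set.mem_iUnion.mp hP
    refine ⟨PrimeSpectrum.comap (Pi.evalRingHom (fun x : {x // x ∈ t} => B x.1) ⟨P, hPt⟩) q, ?_⟩
    rw [← hq']
    rfl
  · apply cong_pi
    intro x
    have e1 : (W.map (algebraMap R (∀ x : {x // x ∈ t}, B x.1))).map
        (Pi.evalRingHom (fun x : {x // x ∈ t} => B x.1) x) = W.map (φ x.1) := by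
      ext i j
      rfl
    rw [e1, splitMat_map]
    exact (hC x.1).trans (splitMat_equiv (J x.1) (Fin k) (Fintype.equivFinOfCardEq (hJ x.1)))

/-- A bijective polar form has invertible Gram determinant. -/
theorem isUnit_det_of_bijective {R : Type u} [CommRing R] {M : Type v} [AddCommGroup M]
    [Module R M] {n : ℕ} (b : Module.Basis (Fin n) R M) (Q : QuadraticForm R M)
    (hQ : Function.Bijective (QuadraticMap.polarBilin Q)) :
    IsUnit (LinearMap.BilinForm.toMatrix b (QuadraticMap.polarBilin Q)).det := by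
  let φ : M ≃ₗ[R] Module.Dual R M := LinearEquiv.ofBijective (QuadraticMap.polarBilin Q) hQ
  have h1 := LinearEquiv.isUnit_det φ b b.dualBasis
  have h2 : LinearMap.toMatrix b b.dualBasis (φ : M →ₗ[R] Module.Dual R M) =
      (LinearMap.BilinForm.toMatrix b (QuadraticMap.polarBilin Q))ᵀ := by
    ext i j
    rw [LinearMap.toMatrix_apply, Module.Basis.dualBasis_repr, Matrix.transpose_apply,
      LinearMap.BilinForm.toMatrix_apply]
    rfl
  rw [h2, Matrix.det_transpose] at h1
  exact h1

/-- The data of an étale splitting of a regular form of even rank. -/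
theorem exists_split_data_even {R : Type u} [CommRing R] {M : Type v} [AddCommGroup M]
    [Module R M] (m : ℕ) (b : Module.Basis (Fin (2 * m)) R M) (Q : QuadraticForm R M)
    (hQ : Function.Bijective (QuadraticMap.polarBilin Q)) :
    ∃ (A : Type u) (_ : CommRing A) (_ : Algebra R A), Module.FaithfullyFlat R A ∧
      Algebra.FinitePresentation R A ∧
      ∃ (f : M →ₗ[R] (Fin m ⊕ Fin m → A))
        (b' : Module.Basis (Fin (2 * m)) A (Fin m ⊕ Fin m → A)),
        (∀ x, qH A (Fin m) (f x) = algebraMap R A (Q x)) ∧ (∀ i, f (b i) = b' i) := by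
  have hfree : Module.Free R M := Module.Free.of_basis b
  obtain ⟨B, hB⟩ := LinearMap.BilinMap.toQuadraticMap_surjective Q
  obtain ⟨W, hW⟩ : ∃ W, W = LinearMap.BilinForm.toMatrix b B := ⟨_, rfl⟩
  have hW1 : ∀ x, Q x = qf W (b.equivFun x) := by
    intro x
    rw [← hB, LinearMap.BilinMap.toQuadraticMap_apply,
      LinearMap.BilinForm.apply_eq_dotProduct_toMatrix_mulVec b B x x, hW]
    rfl
  have hpol : pol W = LinearMap.BilinForm.toMatrix b (QuadraticMap.polarBilin Q) := by
    ext i j
    rw [pol, Matrix.add_apply, Matrix.transpose_apply, hW, LinearMap.BilinForm.toMatrix_apply,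
      LinearMap.BilinForm.toMatrix_apply, LinearMap.BilinForm.toMatrix_apply,
      QuadraticMap.polarBilin_apply_apply, ← hB, LinearMap.BilinMap.polar_toQuadraticMap]
  have hu : IsUnit (pol W).det := by
    rw [hpol]
    exact isUnit_det_of_bijective b Q hQ
  obtain ⟨A, instA, algA, hff, hfp, hc⟩ := global_split_even m R W hu
  obtain ⟨g, g', hgg', hg'g, hs⟩ := hc
  refine ⟨A, instA, algA, hff, hfp, ?_⟩
  let L : (Fin (2 * m) → A) ≃ₗ[A] ((Fin m ⊕ Fin m) → A) :=
    LinearEquiv.ofLinearMap (Matrix.toLin' g') (Matrix.toLin' g)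
      (by rw [← Matrix.toLin'_mul, hg'g, Matrix.toLin'_one])
      (by rw [← Matrix.toLin'_mul, hgg', Matrix.toLin'_one])
  let f : M →ₗ[R] (Fin m ⊕ Fin m → A) :=
    (L.toLinearMap.restrictScalars R) ∘ₗ ((Algebra.linearMap R A).compLeft (Fin (2 * m))) ∘ₗ
      b.equivFun.toLinearMap
  have hfx : ∀ x, f x = g' *ᵥ (algebraMap R A ∘ b.equivFun x) := fun x => rfl
  refine ⟨f, (Pi.basisFun A (Fin (2 * m))).map L, ?_, ?_⟩
  · intro x
    rw [hfx, qH, toQuadraticForm'_apply', ← hs.qf_eq, qf_conj, Matrix.mulVec_mulVec, hgg',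
      Matrix.one_mulVec, qf_map, hW1]
  · intro i
    rw [hfx, Module.Basis.map_apply, Pi.basisFun_apply]
    show _ = g' *ᵥ Pi.single i 1
    congr 1
    funext j
    rw [Function.comp_apply, Module.Basis.equivFun_self, Pi.single_apply]
    split_ifs with h1 h2 h2
    · exact map_one _
    · exact absurd h1.symm h2
    · exact absurd h2.symm h1
    · exact map_zero _

end Groth.Agent.H80.ClEvenData
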