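import Groth.Agent.H80.ClEvenC
import Groth.Agent.H80.ClEvenSplit
import Groth.Agent.H80.ClEvenData

set_option autoImplicit false
set_option linter.unusedSectionVars false

universe u

namespace Groth.Agent.H80.ClEvenMain

open CliffordAlgebra TensorProduct Groth.Agent.H80.ClBasic Groth.Agent.H80.ClBC
  Groth.Agent.H80.ClGenA Groth.Agent.H80.ClCentre Groth.Agent.H80.ClSplit
  Groth.Agent.H80.ClEvenSplit Groth.Agent.H80.ClEvenData Groth.Agent.H80.ClEvenC

/-- The main theorem on Clifford algebras of regular forms of even rank. -/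
theorem main (A : Type u) [CommRing A] (V : Type u)
    [AddCommGroup V] [Module A V] [Module.Free A V] [Module.Finite A V] (m : ℕ) (hm : 1 ≤ m)
    (hV : Module.finrank A V = 2 * m) (Q : QuadraticForm A V)
    (hQ : Function.Bijective (QuadraticMap.polarBilin Q)) :
    (∃ (A' : Type u) (_ : CommRing A') (_ : Algebra A A'), Module.FaithfullyFlat A A' ∧
        Algebra.FinitePresentation A A' ∧
        Nonempty ((A' ⊗[A] CliffordAlgebra Q) ≃ₐ[A'] Matrix (Fin (2 ^ m)) (Fin (2 ^ m)) A') ∧
        Nonempty ((A' ⊗[A] ↥(CliffordAlgebra.even Q)) ≃ₐ[A']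
          (Matrix (Fin (2 ^ (m - 1))) (Fin (2 ^ (m - 1))) A' ×
            Matrix (Fin (2 ^ (m - 1))) (Fin (2 ^ (m - 1))) A'))) ∧
    Subalgebra.center A (CliffordAlgebra Q) = ⊥ ∧
    (Function.Injective (CliffordAlgebra.ι Q) ∧
      ∃ W : Submodule A (CliffordAlgebra Q), IsCompl (LinearMap.range (CliffordAlgebra.ι Q)) W) ∧
    Subalgebra.centralizer A
        ((CliffordAlgebra.even Q).val ''
          (Subalgebra.center A ↥(CliffordAlgebra.even Q) : Set ↥(CliffordAlgebra.even Q))) =
      CliffordAlgebra.even Q := by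
  have hnt : Nontrivial A := by
    by_contra h
    rw [not_nontrivial_iff_subsingleton] at h
    have := Module.finrank_subsingleton (R := A) (M := V)
    omega
  obtain ⟨b⟩ : Nonempty (Module.Basis (Fin (2 * m)) A V) := ⟨Module.finBasisOfFinrankEq A V hV⟩
  obtain ⟨A', instA, algA, hff, hfp, f, b', hf, hb⟩ := exists_split_data_even m b Q hQ
  have hflat : Module.Flat A A' := inferInstance
  have hinj : Function.Injective (algebraMap A A') := FaithfulSMul.algebraMap_injective A A'
  refine ⟨⟨A', instA, algA, hff, hfp, ⟨?_⟩, ⟨?_⟩⟩, ?_, ι_summand Q, ?_⟩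
  · exact (PsiEquiv Q (qH A' (Fin m)) f hf b b' hb).trans
      (matEquiv A' (Fin m) m (Fintype.card_fin m))
  · exact (evenEquiv Q (qH A' (Fin m)) f hf b b' hb).trans
      (evenMatEquiv (Fin m) A' m (Fintype.card_fin m) hm)
  · exact center_eq_bot_of_Phi Q (qH A' (Fin m)) f hf b b' hb hinj (center_eq_bot A' (Fin m))
  · ext x
    rw [Subalgebra.mem_centralizer_iff]
    constructor
    · intro hx
      show x ∈ evenOdd Q 0
      apply even_of_centralizes Q (qH A' (Fin m)) f hf b b' hb (ep_even A' (Fin m))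
        (fun i j => (even_comm_ep A' (Fin m) (ι_mul_ι_mem_evenOdd_zero _ _ _)).symm)
        (fun x' hx' => even_of_comm_ep A' (Fin m) hx')
      intro z hz hzc
      apply hx
      refine ⟨⟨z, hz⟩, ?_, rfl⟩
      show (⟨z, hz⟩ : even Q) ∈ Subalgebra.center A (even Q)
      rw [Subalgebra.mem_center_iff]
      intro y
      apply Subtype.ext
      show (y : CliffordAlgebra Q) * z = z * y
      exact (hzc y.1 y.2).symm
    · intro hx g hg
      obtain ⟨c, hc, rfl⟩ := hg
      have hc' : c ∈ Subalgebra.center A (even Q) := hc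
      have h1 := Subalgebra.mem_center_iff.mp hc' ⟨x, hx⟩
      have h2 := congrArg Subtype.val h1
      exact h2.symm

end Groth.Agent.H80.ClEvenMain
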