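import Groth.Agent.H80.ClSN
import Groth.Agent.H80.ClEvenC
import Groth.Agent.H80.ClEvenSplit

set_option autoImplicit false
set_option linter.unusedSectionVars false

universe u v

/-!
# Consequences of Skolem–Noether for the orthogonal group of a regular form of even rank over a
local ring: lifting isometries to the Clifford group, parity and the Dickson condition, index two.
-/

namespace Groth.Agent.H80.ClSNApp

open scoped Pointwise

open CliffordAlgebra TensorProduct Groth.Agent.H80.ClBasic Groth.Agent.H80.ClBC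
  Groth.Agent.H80.ClGenA Groth.Agent.H80.ClCentre Groth.Agent.H80.ClSplit
  Groth.Agent.H80.ClEvenData Groth.Agent.H80.ClOddLocal Groth.Agent.H80.ClEvenSplit
  Groth.Agent.H80.ClEvenC Groth.Agent.H80.ClSN

section Gen

variable {R : Type*} [CommRing R] {M : Type*} [AddCommGroup M] [Module R M]
  (Q : QuadraticForm R M)

theorem mem_GPin'_of_conj (u : (CliffordAlgebra Q)ˣ) (g : M ≃ₗ[R] M)
    (h : ∀ v, (u : CliffordAlgebra Q) * ι Q v * ↑u⁻¹ = ι Q (g v)) : u ∈ QuadGrp.GPin' Q := by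
  rw [QuadGrp.mem_GPin']
  ext x
  rw [Submodule.mem_smul_pointwise_iff_exists]
  constructor
  · rintro ⟨y, ⟨v, rfl⟩, rfl⟩
    refine ⟨g v, ?_⟩
    rw [ConjAct.units_smul_def]
    exact (h v).symm
  · rintro ⟨w, rfl⟩
    refine ⟨ι Q (g.symm w), LinearMap.mem_range_self _ _, ?_⟩
    rw [ConjAct.units_smul_def]
    show (u : CliffordAlgebra Q) * ι Q (g.symm w) * ↑u⁻¹ = ι Q w
    rw [h, LinearEquiv.apply_symm_apply]

/-- The isometry equivalence of an element of the orthogonal group. -/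
def isoEquiv (g : M ≃ₗ[R] M) (hg : g ∈ QuadGrp.O Q) : Q.IsometryEquiv Q :=
  { g with map_app' := hg }

/-- The automorphism of the Clifford algebra induced by an isometry. -/
noncomputable def sigmaOf (g : M ≃ₗ[R] M) (hg : g ∈ QuadGrp.O Q) :
    CliffordAlgebra Q ≃ₐ[R] CliffordAlgebra Q :=
  equivOfIsometry (isoEquiv Q g hg)

theorem sigmaOf_ι (g : M ≃ₗ[R] M) (hg : g ∈ QuadGrp.O Q) (v : M) :
    sigmaOf Q g hg (ι Q v) = ι Q (g v) := by
  unfold sigmaOf
  rw [equivOfIsometry_apply, map_apply_ι]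
  rfl

theorem sigmaOf_eq_map (g : M ≃ₗ[R] M) (hg : g ∈ QuadGrp.O Q) (x : CliffordAlgebra Q) :
    sigmaOf Q g hg x = CliffordAlgebra.map (QuadGrp.isometryOfMem Q g hg) x := by
  have h : (sigmaOf Q g hg : CliffordAlgebra Q →ₐ[R] CliffordAlgebra Q) =
      CliffordAlgebra.map (QuadGrp.isometryOfMem Q g hg) := by
    apply CliffordAlgebra.hom_ext
    apply LinearMap.ext
    intro v
    show sigmaOf Q g hg (ι Q v) = CliffordAlgebra.map (QuadGrp.isometryOfMem Q g hg) (ι Q v)
    rw [sigmaOf_ι, map_apply_ι, QuadGrp.isometryOfMem_apply]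
  exact AlgHom.congr_fun h x

/-- `u` lifts the isometry `g`. -/
def IsLift (g : M ≃ₗ[R] M) (u : (CliffordAlgebra Q)ˣ) : Prop :=
  ∀ v, (u : CliffordAlgebra Q) * ι Q v * ↑u⁻¹ = ι Q (g v)

theorem IsLift.mul {g h : M ≃ₗ[R] M} {u w : (CliffordAlgebra Q)ˣ} (hu : IsLift Q g u)
    (hw : IsLift Q h w) : IsLift Q (g * h) (u * w) := by
  intro v
  rw [mul_inv_rev, Units.val_mul, Units.val_mul]
  calc (u : CliffordAlgebra Q) * ↑w * ι Q v * (↑w⁻¹ * ↑u⁻¹)
      = ↑u * (↑w * ι Q v * ↑w⁻¹) * ↑u⁻¹ := by simp only [mul_assoc]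
    _ = ι Q ((g * h) v) := by rw [hw v, hu (h v)]; rfl

variable {ι₀ : Type*} [Fintype ι₀] (b : Module.Basis ι₀ R M)

include b in
theorem isLift_iff (g : M ≃ₗ[R] M) (hg : g ∈ QuadGrp.O Q) (u : (CliffordAlgebra Q)ˣ) :
    IsLift Q g u ↔ ∀ a, sigmaOf Q g hg a = ↑u * a * ↑u⁻¹ := by
  constructor
  · intro h a
    have h1 : ∀ i, (u : CliffordAlgebra Q) * ι Q (b i) =
        (sigmaOf Q g hg : CliffordAlgebra Q →ₐ[R] CliffordAlgebra Q) (ι Q (b i)) * u := by
      intro i
      show _ = sigmaOf Q g hg (ι Q (b i)) * u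
      rw [sigmaOf_ι, ← h (b i), mul_assoc, Units.inv_mul, mul_one]
    have h2 := twisted_of_basis Q b
      (sigmaOf Q g hg : CliffordAlgebra Q →ₐ[R] CliffordAlgebra Q) h1 a
    have h3 : (u : CliffordAlgebra Q) * a = sigmaOf Q g hg a * u := h2
    rw [h3, mul_assoc, Units.mul_inv, mul_one]
  · intro h v
    rw [← h, sigmaOf_ι]

theorem parts_twisted {u : CliffordAlgebra Q} {g : M → M}
    (h : ∀ v, u * ι Q v = ι Q (g v) * u) (v : M) :
    P0 Q u * ι Q v = ι Q (g v) * P0 Q u ∧ P1 Q u * ι Q v = ι Q (g v) * P1 Q u := by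
  have h0 := P0_mem Q u
  have h1 := P1_mem Q u
  have hv := ι_mem_evenOdd_one Q v
  have hgv := ι_mem_evenOdd_one Q (g v)
  have e : (P0 Q u + P1 Q u) * ι Q v = ι Q (g v) * (P0 Q u + P1 Q u) := by
    rw [P0_add_P1]
    exact h v
  rw [add_mul, mul_add, add_comm (P0 Q u * ι Q v), add_comm (ι Q (g v) * P0 Q u)] at e
  have := even_odd_unique Q (odd_mul_odd Q h1 hv) (even_mul_odd Q h0 hv)
    (odd_mul_odd Q hgv h1) (odd_mul_even Q hgv h0) e
  exact ⟨this.2, this.1⟩

include b in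
/-- Over a local ring, a unit inducing a graded inner automorphism is homogeneous. -/
theorem homog_of_local [IsLocalRing R]
    (hZ : Subalgebra.center R (CliffordAlgebra Q) = ⊥)
    (g : M ≃ₗ[R] M) (hg : g ∈ QuadGrp.O Q) (u : (CliffordAlgebra Q)ˣ) (hu : IsLift Q g u) :
    (u : CliffordAlgebra Q) ∈ evenOdd Q 0 ∨ (u : CliffordAlgebra Q) ∈ evenOdd Q 1 := by
  have hinjR := algebraMap_injective_of_basis b Q
  have hσ := (isLift_iff Q b g hg u).mp hu
  have hu' : ∀ v, (u : CliffordAlgebra Q) * ι Q v = ι Q (g v) * u := by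
    intro v
    rw [← hu v, mul_assoc, Units.inv_mul, mul_one]
  have hp0 : ∀ a, P0 Q (u : CliffordAlgebra Q) * a =
      (sigmaOf Q g hg : CliffordAlgebra Q →ₐ[R] CliffordAlgebra Q) a * P0 Q u :=
    twisted_of_basis Q b _ (fun i => by
      show _ = sigmaOf Q g hg (ι Q (b i)) * _
      rw [sigmaOf_ι]
      exact (parts_twisted Q hu' (b i)).1)
  have hp1 : ∀ a, P1 Q (u : CliffordAlgebra Q) * a =
      (sigmaOf Q g hg : CliffordAlgebra Q →ₐ[R] CliffordAlgebra Q) a * P1 Q u :=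
    twisted_of_basis Q b _ (fun i => by
      show _ = sigmaOf Q g hg (ι Q (b i)) * _
      rw [sigmaOf_ι]
      exact (parts_twisted Q hu' (b i)).2)
  obtain ⟨s, hs⟩ := eq_smul_of_twisted Q
    (sigmaOf Q g hg : CliffordAlgebra Q →ₐ[R] CliffordAlgebra Q) hZ u hσ hp0
  obtain ⟨t, ht⟩ := eq_smul_of_twisted Q
    (sigmaOf Q g hg : CliffordAlgebra Q →ₐ[R] CliffordAlgebra Q) hZ u hσ hp1
  have hst : s + t = 1 := by
    apply hinjR
    have h1 : (s + t) • (u : CliffordAlgebra Q) = u := by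
      rw [add_smul, ← hs, ← ht, P0_add_P1]
    have h2 : algebraMap R (CliffordAlgebra Q) (s + t) * u = u := by
      rw [← Algebra.smul_def, h1]
    calc algebraMap R (CliffordAlgebra Q) (s + t)
        = algebraMap R (CliffordAlgebra Q) (s + t) * u * ↑u⁻¹ := by
          rw [mul_assoc, Units.mul_inv, mul_one]
      _ = u * ↑u⁻¹ := by rw [h2]
      _ = 1 := Units.mul_inv u
      _ = algebraMap R (CliffordAlgebra Q) 1 := (map_one _).symm
  rcases IsLocalRing.isUnit_or_isUnit_of_add_one hst with hs' | ht'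
  · left
    obtain ⟨su, rfl⟩ := hs'
    have h1 : (u : CliffordAlgebra Q) = (↑su⁻¹ : R) • P0 Q (u : CliffordAlgebra Q) := by
      rw [hs, smul_smul, Units.inv_mul, one_smul]
    rw [h1]
    exact Submodule.smul_mem _ _ (P0_mem Q _)
  · right
    obtain ⟨tu, rfl⟩ := ht'
    have h1 : (u : CliffordAlgebra Q) = (↑tu⁻¹ : R) • P1 Q (u : CliffordAlgebra Q) := by
      rw [ht, smul_smul, Units.inv_mul, one_smul]
    rw [h1]
    exact Submodule.smul_mem _ _ (P1_mem Q _)

include b in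
theorem not_even_and_odd [Nontrivial R] (u : (CliffordAlgebra Q)ˣ)
    (h0 : (u : CliffordAlgebra Q) ∈ evenOdd Q 0) (h1 : (u : CliffordAlgebra Q) ∈ evenOdd Q 1) :
    False := by
  have hinjR := algebraMap_injective_of_basis b Q
  have h2 := even_inter_odd Q h0 h1
  have h3 : (1 : CliffordAlgebra Q) = 0 := by
    rw [← Units.mul_inv u, h2, zero_mul]
  have h4 : algebraMap R (CliffordAlgebra Q) 1 = algebraMap R (CliffordAlgebra Q) 0 := by
    rw [map_one, map_zero, h3]
  exact one_ne_zero (hinjR h4)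

theorem isDicksonTrivial_of_even (g : M ≃ₗ[R] M) (hg : g ∈ QuadGrp.O Q)
    (u : (CliffordAlgebra Q)ˣ) (hu : ∀ a, sigmaOf Q g hg a = ↑u * a * ↑u⁻¹)
    (he : (u : CliffordAlgebra Q) ∈ evenOdd Q 0) : QuadGrp.IsDicksonTrivial Q g hg := by
  intro z hz
  rw [← sigmaOf_eq_map, hu]
  have h1 := Subalgebra.mem_center_iff.mp hz ⟨u, he⟩
  have h2 : (u : CliffordAlgebra Q) * z = z * u := congrArg Subtype.val h1
  rw [h2, mul_assoc, Units.mul_inv, mul_one]

end Gen

section Even

variable {R : Type u} [CommRing R] {M : Type v} [AddCommGroup M] [Module R M]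
  (Q : QuadraticForm R M)

/-- An element commuting with the centre of the even subalgebra is even. -/
theorem even_of_comm_center (m : ℕ) (b : Module.Basis (Fin (2 * m)) R M)
    (hQ : Function.Bijective (QuadraticMap.polarBilin Q)) {x : CliffordAlgebra Q}
    (hx : ∀ z, z ∈ evenOdd Q 0 → (∀ y ∈ evenOdd Q 0, z * y = y * z) → z * x = x * z) :
    x ∈ evenOdd Q 0 := by
  obtain ⟨A', instA, algA, hff, hfp, f, b', hf, hb⟩ := exists_split_data_even m b Q hQ
  exact even_of_centralizes Q (qH A' (Fin m)) f hf b b' hb (ep_even A' (Fin m))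
    (fun i j => (even_comm_ep A' (Fin m) (ι_mul_ι_mem_evenOdd_zero _ _ _)).symm)
    (fun x' hx' => even_of_comm_ep A' (Fin m) hx') hx

theorem even_of_isDicksonTrivial (m : ℕ) (b : Module.Basis (Fin (2 * m)) R M)
    (hQ : Function.Bijective (QuadraticMap.polarBilin Q))
    (g : M ≃ₗ[R] M) (hg : g ∈ QuadGrp.O Q) (hD : QuadGrp.IsDicksonTrivial Q g hg)
    (u : (CliffordAlgebra Q)ˣ) (hu : ∀ a, sigmaOf Q g hg a = ↑u * a * ↑u⁻¹) :
    (u : CliffordAlgebra Q) ∈ evenOdd Q 0 := by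
  apply even_of_comm_center Q m b hQ
  intro z hz hzc
  have hcz : (⟨z, hz⟩ : even Q) ∈ Subalgebra.center R (even Q) := by
    rw [Subalgebra.mem_center_iff]
    intro y
    apply Subtype.ext
    show (y : CliffordAlgebra Q) * z = z * y
    exact (hzc y.1 y.2).symm
  have h1 : CliffordAlgebra.map (QuadGrp.isometryOfMem Q g hg) z = z := hD ⟨z, hz⟩ hcz
  rw [← sigmaOf_eq_map, hu] at h1
  calc z * u = (↑u * z * ↑u⁻¹) * u := by rw [h1]
    _ = u * z := by rw [mul_assoc, Units.inv_mul, mul_one]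

/-- Lifting isometries to the naive Clifford group (Skolem–Noether). -/
theorem exists_lift [IsLocalRing R] (m : ℕ) (b : Module.Basis (Fin (2 * m)) R M)
    (hQ : Function.Bijective (QuadraticMap.polarBilin Q))
    (g : M ≃ₗ[R] M) (hg : g ∈ QuadGrp.O Q) :
    ∃ u : (CliffordAlgebra Q)ˣ, IsLift Q g u := by
  obtain ⟨u, hu⟩ := skolem_noether m b Q hQ (sigmaOf Q g hg)
  exact ⟨u, (isLift_iff Q b g hg u).mpr hu⟩

/-- The Dickson condition is the parity of a lift. -/
theorem mem_SOeven_iff [IsLocalRing R] (m : ℕ) (b : Module.Basis (Fin (2 * m)) R M)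
    (hQ : Function.Bijective (QuadraticMap.polarBilin Q))
    (g : M ≃ₗ[R] M) (hg : g ∈ QuadGrp.O Q) (u : (CliffordAlgebra Q)ˣ) (hu : IsLift Q g u) :
    g ∈ QuadGrp.SOeven Q ↔ (u : CliffordAlgebra Q) ∈ evenOdd Q 0 := by
  have hσ := (isLift_iff Q b g hg u).mp hu
  constructor
  · rintro ⟨hg', hD⟩
    exact even_of_isDicksonTrivial Q m b hQ g hg hD u hσ
  · intro he
    exact ⟨hg, isDicksonTrivial_of_even Q g hg u hσ he⟩

end Even

section Refl

variable {R : Type*} [CommRing R] {M : Type*} [AddCommGroup M] [Module R M]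
  (Q : QuadraticForm R M)

/-- The negative of the reflection in `w`, as a linear map. -/
noncomputable def nrMap (w : M) (d : R) : M →ₗ[R] M :=
  d • ((QuadraticMap.polarBilin Q w).smulRight w) - LinearMap.id

theorem nrMap_apply (w : M) (d : R) (v : M) :
    nrMap Q w d v = d • (QuadraticMap.polar Q w v • w) - v := rfl

theorem polar_nrMap (w : M) (d : R) (hd : d * Q w = 1) (v : M) :
    QuadraticMap.polar Q w (nrMap Q w d v) = QuadraticMap.polar Q w v := by
  rw [nrMap_apply, QuadraticMap.polar_sub_right, QuadraticMap.polar_smul_right,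
    QuadraticMap.polar_smul_right, QuadraticMap.polar_self]
  simp only [smul_eq_mul, nsmul_eq_mul, Nat.cast_ofNat]
  linear_combination (2 * QuadraticMap.polar Q w v) * hd

theorem nrMap_involutive (w : M) (d : R) (hd : d * Q w = 1) :
    Function.Involutive (nrMap Q w d) := by
  intro v
  rw [nrMap_apply, polar_nrMap Q w d hd, nrMap_apply]
  abel

/-- The negative of the reflection in `w`. -/
noncomputable def negRefl (w : M) (d : R) (hd : d * Q w = 1) : M ≃ₗ[R] M :=
  LinearEquiv.ofInvolutive (nrMap Q w d) (nrMap_involutive Q w d hd)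

theorem negRefl_apply (w : M) (d : R) (hd : d * Q w = 1) (v : M) :
    negRefl Q w d hd v = d • (QuadraticMap.polar Q w v • w) - v := rfl

theorem negRefl_mem_O (w : M) (d : R) (hd : d * Q w = 1) : negRefl Q w d hd ∈ QuadGrp.O Q := by
  intro v
  rw [negRefl_apply, sub_eq_add_neg, QuadraticMap.map_add (⇑Q), QuadraticMap.map_neg,
    QuadraticMap.map_smul, QuadraticMap.map_smul, QuadraticMap.polar_smul_left,
    QuadraticMap.polar_smul_left, QuadraticMap.polar_neg_right]
  simp only [smul_eq_mul]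
  linear_combination (d * QuadraticMap.polar Q w v * QuadraticMap.polar Q w v) * hd

/-- The unit `ι w` for `Q w` invertible. -/
noncomputable def unitOf (w : M) (d : R) (hd : d * Q w = 1) : (CliffordAlgebra Q)ˣ :=
  ⟨ι Q w, d • ι Q w, by
    rw [mul_smul_comm, ι_sq_scalar, Algebra.smul_def, ← map_mul, hd, map_one], by
    rw [smul_mul_assoc, ι_sq_scalar, Algebra.smul_def, ← map_mul, hd, map_one]⟩

theorem unitOf_val (w : M) (d : R) (hd : d * Q w = 1) :
    ((unitOf Q w d hd : (CliffordAlgebra Q)ˣ) : CliffordAlgebra Q) = ι Q w := rfl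

theorem unitOf_isLift (w : M) (d : R) (hd : d * Q w = 1) :
    IsLift Q (negRefl Q w d hd) (unitOf Q w d hd) := by
  intro v
  have h1 : ι Q w * ι Q v = ι Q (negRefl Q w d hd v) * ι Q w := by
    rw [negRefl_apply, map_sub, map_smul, map_smul, sub_mul, smul_mul_assoc, smul_mul_assoc,
      ι_sq_scalar, eq_sub_iff_add_eq, ι_mul_ι_add_swap, Algebra.smul_def, Algebra.smul_def,
      ← map_mul, ← map_mul]
    congr 1
    linear_combination (-(QuadraticMap.polar Q w v)) * hd
  rw [unitOf_val, h1, mul_assoc]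
  have h2 : ι Q w * ↑(unitOf Q w d hd)⁻¹ = 1 := (unitOf Q w d hd).mul_inv
  rw [h2, mul_one]

/-- Over a local ring a regular form of positive rank represents a unit. -/
theorem exists_unit_value [IsLocalRing R] {n : ℕ} (hn : 0 < n) (b : Module.Basis (Fin n) R M)
    (hQ : Function.Bijective (QuadraticMap.polarBilin Q)) : ∃ w : M, IsUnit (Q w) := by
  obtain ⟨y, hy⟩ := hQ.2 (b.coord ⟨0, hn⟩)
  have h1 : QuadraticMap.polar Q y (b ⟨0, hn⟩) = 1 := by
    have := congrArg (fun φ : Module.Dual R M => φ (b ⟨0, hn⟩)) hy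
    simpa using this
  have h2 : Q (y + b ⟨0, hn⟩) = Q y + Q (b ⟨0, hn⟩) + 1 := by
    rw [QuadraticMap.map_add (⇑Q), h1]
  by_cases hy1 : IsUnit (Q y)
  · exact ⟨y, hy1⟩
  by_cases hb1 : IsUnit (Q (b ⟨0, hn⟩))
  · exact ⟨_, hb1⟩
  refine ⟨y + b ⟨0, hn⟩, ?_⟩
  rw [h2]
  have h3 : Q y + Q (b ⟨0, hn⟩) ∈ nonunits R := IsLocalRing.nonunits_add hy1 hb1
  have h4 := IsLocalRing.isUnit_one_sub_self_of_mem_nonunits _
    (show -(Q y + Q (b ⟨0, hn⟩)) ∈ nonunits R by
      intro h; exact h3 (by simpa using h.neg))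
  have h5 : Q y + Q (b ⟨0, hn⟩) + 1 = 1 - -(Q y + Q (b ⟨0, hn⟩)) := by ring
  rw [h5]
  exact h4

end Refl

section Index

variable {R : Type u} [CommRing R] {M : Type v} [AddCommGroup M] [Module R M]
  (Q : QuadraticForm R M)

/-- The special orthogonal group has index two in the orthogonal group (even rank, local base). -/
theorem index_two [IsLocalRing R] (m : ℕ) (hm : 1 ≤ m) (b : Module.Basis (Fin (2 * m)) R M)
    (hQ : Function.Bijective (QuadraticMap.polarBilin Q)) :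
    ((QuadGrp.SOeven Q).subgroupOf (QuadGrp.O Q)).index = 2 := by
  have hZ := center_eq_bot_even m b Q hQ
  obtain ⟨w, hw⟩ := exists_unit_value Q (show 0 < 2 * m by omega) b hQ
  obtain ⟨c, hc⟩ := hw
  have hd : (↑c⁻¹ : R) * Q w = 1 := by rw [← hc, Units.inv_mul]
  rw [Subgroup.index_eq_two_iff]
  refine ⟨⟨negRefl Q w _ hd, negRefl_mem_O Q w _ hd⟩, ?_⟩
  intro g
  obtain ⟨ug, hug⟩ := exists_lift Q m b hQ g.1 g.2
  have hodd : ((unitOf Q w _ hd : (CliffordAlgebra Q)ˣ) : CliffordAlgebra Q) ∈ evenOdd Q 1 := by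
    rw [unitOf_val]
    exact ι_mem_evenOdd_one Q w
  have hlift : IsLift Q (g.1 * negRefl Q w _ hd) (ug * unitOf Q w _ hd) :=
    IsLift.mul Q hug (unitOf_isLift Q w _ hd)
  have hmem : g.1 * negRefl Q w _ hd ∈ QuadGrp.O Q :=
    (QuadGrp.O Q).mul_mem g.2 (negRefl_mem_O Q w _ hd)
  have e1 := mem_SOeven_iff Q m b hQ g.1 g.2 ug hug
  have e2 := mem_SOeven_iff Q m b hQ _ hmem _ hlift
  rw [Subgroup.mem_subgroupOf, Subgroup.mem_subgroupOf]
  show Xor (g.1 * negRefl Q w _ hd ∈ QuadGrp.SOeven Q) (g.1 ∈ QuadGrp.SOeven Q)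
  rw [e1, e2, Units.val_mul]
  rcases homog_of_local Q b hZ g.1 g.2 ug hug with h0 | h1
  · right
    refine ⟨h0, fun h => ?_⟩
    have h2 : ((ug * unitOf Q w _ hd : (CliffordAlgebra Q)ˣ) : CliffordAlgebra Q) ∈
        evenOdd Q 1 := by
      rw [Units.val_mul]
      exact even_mul_odd Q h0 hodd
    exact not_even_and_odd Q b (ug * unitOf Q w _ hd) (by rw [Units.val_mul]; exact h) h2
  · left
    refine ⟨odd_mul_odd Q h1 hodd, fun h => ?_⟩
    exact not_even_and_odd Q b ug h h1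

end Index

end Groth.Agent.H80.ClSNApp
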