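import Groth.Agent.H80.ClDetOddApp
import Groth.Agent.H80.ClSNApp
import Groth.Agent.H80.ClCentre

set_option autoImplicit false
set_option linter.unusedSectionVars false

/-!
# The naive Clifford group in odd rank over a local ring: `GPin' = Z^× · GSpin`

The even and odd parts of a unit normalising the module are intertwiners for the induced
isometry; over a local ring one of them is a unit.  Multiplying by an odd central unit when
necessary, one gets an even unit inducing the same isometry.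
-/

namespace Groth.Agent.H80.ClGSpinOdd

open CliffordAlgebra Groth.Agent.H80.ClBasic Groth.Agent.H80.ClCentre
  Groth.Agent.H80.ClOddLocal Groth.Agent.H80.ClDetOddApp Groth.Agent.H80.ClSNApp

universe u v

section Gen

variable {R : Type*} [CommRing R] {M : Type*} [AddCommGroup M] [Module R M]
  (Q : QuadraticForm R M)

/-- A pair of intertwiners whose product is a unit scalar gives a unit inducing the isometry. -/
theorem unit_of_intertwiners
    (hinjR : Function.Injective (algebraMap R (CliffordAlgebra Q)))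
    (hsc : ∀ z ∈ Subalgebra.center R (CliffordAlgebra Q), z ∈ evenOdd Q 0 →
      z ∈ (algebraMap R (CliffordAlgebra Q)).range)
    (g : M ≃ₗ[R] M) (x y : CliffordAlgebra Q)
    (hx : ∀ v, x * ι Q v = ι Q (g v) * x) (hy : ∀ v, y * ι Q (g v) = ι Q v * y)
    (hyx : y * x ∈ evenOdd Q 0) (r : R) (hr : IsUnit r)
    (hxy : x * y = algebraMap R (CliffordAlgebra Q) r) :
    ∃ U : (CliffordAlgebra Q)ˣ, (U : CliffordAlgebra Q) = x ∧
      ∀ v, (U : CliffordAlgebra Q) * ι Q v * ↑U⁻¹ = ι Q (g v) := by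
  have hc : y * x ∈ Subalgebra.center R (CliffordAlgebra Q) := by
    apply central_of_comm_ι
    intro v
    calc y * x * ι Q v = y * (x * ι Q v) := mul_assoc _ _ _
      _ = y * (ι Q (g v) * x) := by rw [hx]
      _ = (y * ι Q (g v)) * x := (mul_assoc _ _ _).symm
      _ = ι Q v * y * x := by rw [hy]
      _ = ι Q v * (y * x) := mul_assoc _ _ _
  obtain ⟨r₂, hr₂⟩ := hsc _ hc hyx
  have hr₂' : algebraMap R (CliffordAlgebra Q) r₂ = y * x := hr₂
  have hrr : r₂ = r := by
    have h1 : algebraMap R (CliffordAlgebra Q) (r₂ * r) = algebraMap R _ (r * r) := by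
      calc algebraMap R (CliffordAlgebra Q) (r₂ * r)
          = algebraMap R _ r₂ * algebraMap R _ r := map_mul _ _ _
        _ = algebraMap R _ r₂ * (x * y) := by rw [hxy]
        _ = x * algebraMap R _ r₂ * y := by rw [← mul_assoc, Algebra.commutes r₂ x]
        _ = x * (y * x) * y := by rw [hr₂']
        _ = (x * y) * (x * y) := by simp only [mul_assoc]
        _ = algebraMap R _ r * algebraMap R _ r := by rw [hxy]
        _ = algebraMap R _ (r * r) := (map_mul _ _ _).symm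
    exact hr.mul_left_injective (hinjR h1)
  obtain ⟨ru, rfl⟩ := hr
  have hu1 : x * ((↑ru⁻¹ : R) • y) = 1 := by
    rw [mul_smul_comm, hxy, Algebra.smul_def, ← map_mul, Units.inv_mul, map_one]
  have hu2 : ((↑ru⁻¹ : R) • y) * x = 1 := by
    rw [smul_mul_assoc, ← hr₂', hrr, Algebra.smul_def, ← map_mul, Units.inv_mul, map_one]
  refine ⟨⟨x, (↑ru⁻¹ : R) • y, hu1, hu2⟩, rfl, fun v => ?_⟩
  show x * ι Q v * ((↑ru⁻¹ : R) • y) = _
  rw [hx v, mul_assoc, hu1, mul_one]

/-- Two units inducing the same isometry differ by a central unit; if one is even, this gives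
the factorisation through the even Clifford group. -/
theorem factor_of_even_unit (g : M ≃ₗ[R] M) (u' U : (CliffordAlgebra Q)ˣ)
    (hu' : ∀ v, (u' : CliffordAlgebra Q) * ι Q v * ↑u'⁻¹ = ι Q (g v))
    (hU : ∀ v, (U : CliffordAlgebra Q) * ι Q v * ↑U⁻¹ = ι Q (g v))
    (hUe : (U : CliffordAlgebra Q) ∈ evenOdd Q 0) :
    ∃ z : CliffordAlgebra Q, z ∈ Subalgebra.center R (CliffordAlgebra Q) ∧ IsUnit z ∧
      ∃ u ∈ QuadGrp.GSpin Q, (u' : CliffordAlgebra Q) = z * u := by
  refine ⟨((u' * U⁻¹ : (CliffordAlgebra Q)ˣ) : CliffordAlgebra Q), ?_, Units.isUnit _, U, ?_, ?_⟩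
  · apply central_of_comm_ι
    intro w
    obtain ⟨v, rfl⟩ := g.surjective w
    have h1 : (↑U⁻¹ : CliffordAlgebra Q) * ι Q (g v) = ι Q v * ↑U⁻¹ := by
      rw [← hU v]
      simp only [← mul_assoc, Units.inv_mul, one_mul]
    have h2 : (u' : CliffordAlgebra Q) * ι Q v = ι Q (g v) * ↑u' := by
      rw [← hu' v]
      simp only [mul_assoc, Units.inv_mul, mul_one]
    rw [Units.val_mul]
    calc (u' : CliffordAlgebra Q) * ↑U⁻¹ * ι Q (g v) = ↑u' * (↑U⁻¹ * ι Q (g v)) := mul_assoc _ _ _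
      _ = ↑u' * (ι Q v * ↑U⁻¹) := by rw [h1]
      _ = (↑u' * ι Q v) * ↑U⁻¹ := (mul_assoc _ _ _).symm
      _ = ι Q (g v) * ↑u' * ↑U⁻¹ := by rw [h2]
      _ = ι Q (g v) * (↑u' * ↑U⁻¹) := mul_assoc _ _ _
  · refine ⟨⟨mem_GPin'_of_conj Q U g hU, ?_⟩, hUe⟩
    refine ⟨1, IsIdempotentElem.one, ?_, ?_⟩
    · rw [one_smul]
      exact hUe
    · rw [sub_self, zero_smul]
      exact Submodule.zero_mem _
  · rw [Units.val_mul, mul_assoc, Units.inv_mul, mul_one]

end Gen

section Main

variable {R : Type u} [CommRing R] {M : Type v} [AddCommGroup M] [Module R M]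

/-- Odd rank over a local ring: every unit normalising the module is a central unit times an
element of the even Clifford group. -/
theorem exists_center_mul_gSpin [IsLocalRing R] (m : ℕ) (b : Module.Basis (Fin (2 * m + 1)) R M)
    (Q : QuadraticForm R M) (hQ : QuadGrp.IsSemiregular b (LinearEquiv.refl R R) Q)
    (u' : (CliffordAlgebra Q)ˣ) (hu' : u' ∈ QuadGrp.GPin' Q) :
    ∃ z : CliffordAlgebra Q, z ∈ Subalgebra.center R (CliffordAlgebra Q) ∧ IsUnit z ∧
      ∃ u ∈ QuadGrp.GSpin Q, (u' : CliffordAlgebra Q) = z * u := by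
  have hinjR := algebraMap_injective_of_basis b Q
  have hsc := (exists_partition m b Q hQ).1
  obtain ⟨g, hgO, hg⟩ := exists_isometry_of_GPin' Q b u' hu'
  obtain ⟨a, ha, c, hc, hac⟩ := exists_even_odd Q (u' : CliffordAlgebra Q)
  obtain ⟨a', ha', c', hc', hac'⟩ := exists_even_odd Q (↑u'⁻¹ : CliffordAlgebra Q)
  have hι : ∀ v, ι Q v ∈ evenOdd Q 1 := fun v => ι_mem_evenOdd_one Q v
  have e01 : ∀ {x y : CliffordAlgebra Q}, x ∈ evenOdd Q 0 → y ∈ evenOdd Q 1 →
      x * y ∈ evenOdd Q 1 := fun hx hy => by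
    have := mul_mem_evenOdd Q hx hy
    rwa [zero_add] at this
  have e10 : ∀ {x y : CliffordAlgebra Q}, x ∈ evenOdd Q 1 → y ∈ evenOdd Q 0 →
      x * y ∈ evenOdd Q 1 := fun hx hy => by
    have := mul_mem_evenOdd Q hx hy
    rwa [add_zero] at this
  have e11 : ∀ {x y : CliffordAlgebra Q}, x ∈ evenOdd Q 1 → y ∈ evenOdd Q 1 →
      x * y ∈ evenOdd Q 0 := fun hx hy => by
    have := mul_mem_evenOdd Q hx hy
    rwa [show (1 : ZMod 2) + 1 = 0 from rfl] at this
  have e00 : ∀ {x y : CliffordAlgebra Q}, x ∈ evenOdd Q 0 → y ∈ evenOdd Q 0 →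
      x * y ∈ evenOdd Q 0 := fun hx hy => by
    have := mul_mem_evenOdd Q hx hy
    rwa [add_zero] at this
  -- intertwining relations
  have h1 : ∀ v, (u' : CliffordAlgebra Q) * ι Q v = ι Q (g v) * ↑u' := by
    intro v
    rw [← hg v]
    simp only [mul_assoc, Units.inv_mul, mul_one]
  have h2 : ∀ v, (↑u'⁻¹ : CliffordAlgebra Q) * ι Q (g v) = ι Q v * ↑u'⁻¹ := by
    intro v
    rw [← hg v]
    simp only [← mul_assoc, Units.inv_mul, one_mul]
  have hA : ∀ v, a * ι Q v = ι Q (g v) * a ∧ c * ι Q v = ι Q (g v) * c := by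
    intro v
    have h := h1 v
    rw [hac, add_mul, mul_add] at h
    have h' : c * ι Q v + a * ι Q v = ι Q (g v) * c + ι Q (g v) * a := by
      rw [add_comm, h, add_comm]
    have := even_odd_unique Q (e11 hc (hι v)) (e01 ha (hι v)) (e11 (hι _) hc) (e10 (hι _) ha) h'
    exact ⟨this.2, this.1⟩
  have hB : ∀ v, a' * ι Q (g v) = ι Q v * a' ∧ c' * ι Q (g v) = ι Q v * c' := by
    intro v
    have h := h2 v
    rw [hac', add_mul, mul_add] at h
    have h' : c' * ι Q (g v) + a' * ι Q (g v) = ι Q v * c' + ι Q v * a' := by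
      rw [add_comm, h, add_comm]
    have := even_odd_unique Q (e11 hc' (hι _)) (e01 ha' (hι _)) (e11 (hι _) hc') (e10 (hι _) ha')
      h'
    exact ⟨this.2, this.1⟩
  -- the products are scalars
  have hcen : ∀ x y : CliffordAlgebra Q, (∀ v, x * ι Q v = ι Q (g v) * x) →
      (∀ v, y * ι Q (g v) = ι Q v * y) → x * y ∈ Subalgebra.center R (CliffordAlgebra Q) := by
    intro x y hx hy
    apply central_of_comm_ι
    intro w
    obtain ⟨v, rfl⟩ := g.surjective w
    calc x * y * ι Q (g v) = x * (y * ι Q (g v)) := mul_assoc _ _ _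
      _ = x * (ι Q v * y) := by rw [hy]
      _ = (x * ι Q v) * y := (mul_assoc _ _ _).symm
      _ = ι Q (g v) * x * y := by rw [hx]
      _ = ι Q (g v) * (x * y) := mul_assoc _ _ _
  obtain ⟨r, hr⟩ := hsc _ (hcen a a' (fun v => (hA v).1) (fun v => (hB v).1)) (e00 ha ha')
  obtain ⟨s, hs⟩ := hsc _ (hcen c c' (fun v => (hA v).2) (fun v => (hB v).2)) (e11 hc hc')
  have hr' : algebraMap R (CliffordAlgebra Q) r = a * a' := hr
  have hs' : algebraMap R (CliffordAlgebra Q) s = c * c' := hs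
  have hrs : r + s = 1 := by
    apply hinjR
    have h := Units.mul_inv u'
    rw [hac, hac', add_mul, mul_add, mul_add] at h
    have h' : (a * a' + c * c') + (a * c' + c * a') = 1 + 0 := by
      rw [add_zero, ← h]
      abel
    have := even_odd_unique Q (Submodule.add_mem _ (e00 ha ha') (e11 hc hc'))
      (Submodule.add_mem _ (e01 ha hc') (e10 hc ha')) (SetLike.one_mem_graded _)
      (Submodule.zero_mem _) h'
    rw [map_add, map_one, hr', hs']
    exact this.1
  rcases IsLocalRing.isUnit_or_isUnit_of_add_one hrs with hru | hsu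
  · obtain ⟨U, hUv, hU⟩ := unit_of_intertwiners Q hinjR hsc g a a' (fun v => (hA v).1)
      (fun v => (hB v).1) (e00 ha' ha) r hru hr'.symm
    exact factor_of_even_unit Q g u' U hg hU (by rw [hUv]; exact ha)
  · obtain ⟨Uc, hUcv, hUc⟩ := unit_of_intertwiners Q hinjR hsc g c c' (fun v => (hA v).2)
      (fun v => (hB v).2) (e11 hc' hc) s hsu hs'.symm
    obtain ⟨z₁, hz₁c, hz₁o, hz₁u, -⟩ := local_centre m b Q hQ
    obtain ⟨Z, hZ⟩ := hz₁u
    have hZc : ∀ x, (Z : CliffordAlgebra Q) * x = x * ↑Z := by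
      intro x
      rw [hZ]
      exact ((Subalgebra.mem_center_iff.mp hz₁c) x).symm
    have hZi : ∀ x, (↑Z⁻¹ : CliffordAlgebra Q) * x = x * ↑Z⁻¹ := by
      intro x
      have h := hZc (↑Z⁻¹ * x * ↑Z⁻¹)
      calc (↑Z⁻¹ : CliffordAlgebra Q) * x = ↑Z⁻¹ * x * (↑Z⁻¹ * ↑Z) := by
            rw [Units.inv_mul, mul_one]
        _ = (↑Z⁻¹ * x * ↑Z⁻¹) * ↑Z := by simp only [mul_assoc]
        _ = ↑Z * (↑Z⁻¹ * x * ↑Z⁻¹) := h.symm
        _ = x * ↑Z⁻¹ := by simp only [← mul_assoc, Units.mul_inv, one_mul]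
    refine factor_of_even_unit Q g u' (Z * Uc) hg ?_ ?_
    · intro v
      rw [mul_inv_rev, Units.val_mul, Units.val_mul]
      calc (Z : CliffordAlgebra Q) * ↑Uc * ι Q v * (↑Uc⁻¹ * ↑Z⁻¹)
          = ↑Z * ((↑Uc * ι Q v * ↑Uc⁻¹) * ↑Z⁻¹) := by simp only [mul_assoc]
        _ = ↑Z * (ι Q (g v) * ↑Z⁻¹) := by rw [hUc]
        _ = ↑Z * (↑Z⁻¹ * ι Q (g v)) := by rw [hZi]
        _ = ι Q (g v) := by rw [← mul_assoc, Units.mul_inv, one_mul]
    · rw [Units.val_mul, hZ, hUcv]
      exact e11 hz₁o hc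

end Main

end Groth.Agent.H80.ClGSpinOdd
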