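import Groth.Agent.H80.ClOdd

set_option autoImplicit false
set_option linter.unusedSectionVars false

namespace Groth.Agent.H80.ClGenA

open CliffordAlgebra TensorProduct Groth.Agent.H80.QuadMat Groth.Agent.H80.ClBasic
  Groth.Agent.H80.ClSplit Groth.Agent.H80.ClBC Groth.Agent.H80.ClVol Groth.Agent.H80.ClOdd

section Abstract

variable {R : Type*} [CommRing R] {A : Type*} [CommRing A] [Algebra R A]
  {M : Type*} [AddCommGroup M] [Module R M]
  {N : Type*} [AddCommGroup N] [Module A N] [Module R N] [IsScalarTower R A N]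
  (Q : QuadraticForm R M) (Q' : QuadraticForm A N)
  (f : M →ₗ[R] N)
  (hf : ∀ m, Q' (f m) = algebraMap R A (Q m))
  {ι₀ : Type*} [Fintype ι₀] (b : Module.Basis ι₀ R M)
  (b' : Module.Basis ι₀ A N)
  (hb : ∀ i, f (b i) = b' i)

/-- The comparison map on even parts, before restricting the codomain. -/
noncomputable def evenMap₀ : A ⊗[R] even Q →ₐ[A] CliffordAlgebra Q' :=
  ((PsiEquiv Q Q' f hf b b' hb : A ⊗[R] CliffordAlgebra Q →ₐ[A] CliffordAlgebra Q')).comp
    (Algebra.TensorProduct.map (AlgHom.id A A) (even Q).val)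

theorem evenMap₀_tmul (a : A) (x : even Q) :
    evenMap₀ Q Q' f hf b b' hb (a ⊗ₜ[R] x) = a • Phi Q Q' f hf (x : CliffordAlgebra Q) := by
  unfold evenMap₀
  rw [AlgHom.comp_apply, Algebra.TensorProduct.map_tmul]
  show Psi Q Q' f hf _ = _
  rw [Psi_tmul]
  rfl

theorem evenMap₀_mem (y : A ⊗[R] even Q) : evenMap₀ Q Q' f hf b b' hb y ∈ even Q' := by
  induction y using TensorProduct.induction_on with
  | zero => rw [map_zero]; exact Subalgebra.zero_mem _
  | tmul a x =>
    rw [evenMap₀_tmul]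
    exact Subalgebra.smul_mem _ (Phi_even Q Q' f hf x.2) a
  | add y z hy hz => rw [map_add]; exact Subalgebra.add_mem _ hy hz

/-- The comparison map on even parts. -/
noncomputable def evenMap : A ⊗[R] even Q →ₐ[A] even Q' :=
  AlgHom.codRestrict (evenMap₀ Q Q' f hf b b' hb) (even Q') (evenMap₀_mem Q Q' f hf b b' hb)

theorem evenMap_coe (y : A ⊗[R] even Q) :
    (evenMap Q Q' f hf b b' hb y : CliffordAlgebra Q') = evenMap₀ Q Q' f hf b b' hb y := rfl

theorem evenMap_injective [Module.Flat R A] : Function.Injective (evenMap Q Q' f hf b b' hb) := by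
  intro y z hyz
  have h1 : evenMap₀ Q Q' f hf b b' hb y = evenMap₀ Q Q' f hf b b' hb z := by
    rw [← evenMap_coe, ← evenMap_coe, hyz]
  unfold evenMap₀ at h1
  rw [AlgHom.comp_apply, AlgHom.comp_apply] at h1
  have h2 := (PsiEquiv Q Q' f hf b b' hb).injective h1
  have h3 : ∀ t : A ⊗[R] even Q, Algebra.TensorProduct.map (AlgHom.id A A) (even Q).val t =
      ((even Q).val.toLinearMap.lTensor A) t := by
    intro t
    induction t using TensorProduct.induction_on with
    | zero => rw [map_zero, map_zero]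
    | tmul a x => rfl
    | add y z hy hz => rw [map_add, map_add, hy, hz]
  rw [h3, h3] at h2
  exact Module.Flat.lTensor_preserves_injective_linearMap (M := A) (even Q).val.toLinearMap
    Subtype.val_injective h2

theorem exists_even_part (t : A ⊗[R] CliffordAlgebra Q) :
    ∃ t₀ : A ⊗[R] even Q, ∃ w ∈ evenOdd Q' 1,
      Psi Q Q' f hf t = evenMap₀ Q Q' f hf b b' hb t₀ + w := by
  induction t using TensorProduct.induction_on with
  | zero => exact ⟨0, 0, Submodule.zero_mem _, by rw [map_zero, map_zero, add_zero]⟩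
  | tmul a x =>
    obtain ⟨x₀, h₀, x₁, h₁, rfl⟩ := exists_even_odd Q x
    refine ⟨a ⊗ₜ[R] ⟨x₀, h₀⟩, a • Phi Q Q' f hf x₁,
      Submodule.smul_mem _ _ (Phi_odd Q Q' f hf h₁), ?_⟩
    rw [evenMap₀_tmul, Psi_tmul, map_add, smul_add]
  | add y z hy hz =>
    obtain ⟨y₀, wy, hwy, ey⟩ := hy
    obtain ⟨z₀, wz, hwz, ez⟩ := hz
    refine ⟨y₀ + z₀, wy + wz, Submodule.add_mem _ hwy hwz, ?_⟩
    rw [map_add, map_add, ey, ez]
    abel

theorem evenMap_surjective : Function.Surjective (evenMap Q Q' f hf b b' hb) := by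
  intro y
  obtain ⟨t, ht⟩ := (PsiEquiv Q Q' f hf b b' hb).surjective (y : CliffordAlgebra Q')
  obtain ⟨t₀, w, hw, e⟩ := exists_even_part Q Q' f hf b b' hb t
  have h1 : Psi Q Q' f hf t = y := ht
  rw [h1] at e
  have h2 : w = (y : CliffordAlgebra Q') - evenMap₀ Q Q' f hf b b' hb t₀ := by
    rw [e]; abel
  have h3 : w ∈ evenOdd Q' 0 := by
    rw [h2]
    exact Submodule.sub_mem _ y.2 (evenMap₀_mem Q Q' f hf b b' hb t₀)
  have h4 := even_inter_odd Q' h3 hw
  refine ⟨t₀, Subtype.ext ?_⟩
  rw [evenMap_coe, e, h4, add_zero]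

/-- Part (a) in the abstract setting. -/
noncomputable def evenEquiv [Module.Flat R A] : A ⊗[R] even Q ≃ₐ[A] even Q' :=
  AlgEquiv.ofBijective (evenMap Q Q' f hf b b' hb)
    ⟨evenMap_injective Q Q' f hf b b' hb, evenMap_surjective Q Q' f hf b b' hb⟩

include b b' hb in
/-- The image of a central element is central. -/
theorem Phi_central {z : CliffordAlgebra Q} (hz : z ∈ Subalgebra.center R (CliffordAlgebra Q)) :
    Phi Q Q' f hf z ∈ Subalgebra.center A (CliffordAlgebra Q') := by
  rw [Subalgebra.mem_center_iff]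
  intro y
  obtain ⟨t, rfl⟩ := (PsiEquiv Q Q' f hf b b' hb).surjective y
  show Psi Q Q' f hf t * _ = _ * Psi Q Q' f hf t
  induction t using TensorProduct.induction_on with
  | zero => rw [map_zero, zero_mul, mul_zero]
  | tmul a x =>
    rw [Psi_tmul, smul_mul_assoc, mul_smul_comm, ← map_mul, ← map_mul,
      Subalgebra.mem_center_iff.mp hz x]
  | add y z hy hz => rw [map_add, add_mul, mul_add, hy, hz]


include b b' hb in
theorem Phi_injective [Module.FaithfullyFlat R A] :
    Function.Injective (Phi Q Q' f hf) := by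
  intro x y hxy
  apply Module.FaithfullyFlat.tensorProduct_mk_injective (A := R) (B := A) (CliffordAlgebra Q)
  apply (PsiEquiv Q Q' f hf b b' hb).injective
  show Psi Q Q' f hf ((1 : A) ⊗ₜ[R] x) = Psi Q Q' f hf ((1 : A) ⊗ₜ[R] y)
  rw [Psi_tmul, Psi_tmul, hxy]

include f hf b b' hb in
/-- Descent of the centre: if the centre of the target is trivial, so is that of the source. -/
theorem center_eq_bot_of_Phi (hinj : Function.Injective (algebraMap R A))
    (hc : Subalgebra.center A (CliffordAlgebra Q') = ⊥) :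
    Subalgebra.center R (CliffordAlgebra Q) = ⊥ := by
  rw [eq_bot_iff]
  intro z hz
  have h1 := Phi_central Q Q' f hf b b' hb hz
  rw [hc] at h1
  obtain ⟨a, ha⟩ := Algebra.mem_bot.mp h1
  have h2 := mem_range_algebraMap_of_Phi Q Q' f hf b b' hb hinj z ⟨a, ha⟩
  obtain ⟨r, hr⟩ := h2
  exact Algebra.mem_bot.mpr ⟨r, hr⟩

end Abstract

end Groth.Agent.H80.ClGenA
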