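import Groth.Agent.H80.ClOddA
import Groth.Agent.H80.ClCentre

set_option autoImplicit false
set_option linter.unusedSectionVars false

namespace Groth.Agent.H80.ClOddC

open CliffordAlgebra TensorProduct Groth.Agent.H80.QuadMat Groth.Agent.H80.ClBasic
  Groth.Agent.H80.ClSplit Groth.Agent.H80.ClBC Groth.Agent.H80.ClVol Groth.Agent.H80.ClOdd
  Groth.Agent.H80.ClOddA Groth.Agent.H80.ClCentre

section Families

variable {R : Type*} [CommRing R] {M : Type*} [AddCommGroup M] [Module R M]
  (Q : QuadraticForm R M)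

/-- Extract a finite partition of unity from `1 ∈ Z₁ * Z₁`. -/
theorem exists_families (h : (1 : CliffordAlgebra Q) ∈ Z1 Q * Z1 Q) :
    ∃ (n : ℕ) (ζ η : Fin n → CliffordAlgebra Q), (∀ i, ζ i ∈ Z1 Q) ∧ (∀ i, η i ∈ Z1 Q) ∧
      ∑ i, ζ i * η i = 1 := by
  rw [Submodule.mul_eq_span_mul_set] at h
  obtain ⟨n, c, g, hg⟩ := Submodule.mem_span_set'.mp h
  have h1 : ∀ i, ∃ x ∈ Z1 Q, ∃ y ∈ Z1 Q, x * y = (g i : CliffordAlgebra Q) := fun i =>
    Set.mem_mul.mp (g i).2
  choose x hx y hy hxy using h1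
  refine ⟨n, fun i => c i • x i, y, fun i => Submodule.smul_mem _ _ (hx i), hy, ?_⟩
  rw [← hg]
  refine Finset.sum_congr rfl fun i _ => ?_
  rw [smul_mul_assoc, hxy]

/-- The ideal of scalars lying in `Z₁ * Z₁`. -/
noncomputable def I1 : Ideal R :=
  Submodule.comap (Algebra.linearMap R (CliffordAlgebra Q)) (Z1 Q * Z1 Q)

theorem mem_I1 (r : R) : r ∈ I1 Q ↔ algebraMap R (CliffordAlgebra Q) r ∈ Z1 Q * Z1 Q := Iff.rfl

end Families

section Abstract

variable {R : Type*} [CommRing R] {A : Type*} [CommRing A] [Algebra R A]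
  {M : Type*} [AddCommGroup M] [Module R M]
  (J : Type*) [Fintype J] [LinearOrder J]
  (Q : QuadraticForm R M)
  (f : M →ₗ[R] ((J ⊕ J → A) × A))
  (hf : ∀ m, Qp A J (f m) = algebraMap R A (Q m))
  {ι₀ : Type*} [Fintype ι₀] (b : Module.Basis ι₀ R M)
  (b' : Module.Basis ι₀ A ((J ⊕ J → A) × A))
  (hb : ∀ i, f (b i) = b' i)

theorem Phi_P0 (x : CliffordAlgebra Q) :
    Phi Q (Qp A J) f hf (P0 Q x) = P0 (Qp A J) (Phi Q (Qp A J) f hf x) := by
  symm
  apply P0_eq (Qp A J) (Phi_even _ _ _ _ (P0_mem Q x)) (Phi_odd _ _ _ _ (P1_mem Q x))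
  rw [← map_add, P0_add_P1]

theorem Psi_P0 (t : A ⊗[R] CliffordAlgebra Q) :
    Psi Q (Qp A J) f hf ((P0 Q).lTensor A t) = P0 (Qp A J) (Psi Q (Qp A J) f hf t) := by
  induction t using TensorProduct.induction_on with
  | zero => rw [map_zero, map_zero, map_zero]
  | tmul a x =>
    rw [LinearMap.lTensor_tmul, Psi_tmul, Psi_tmul, map_smul, Phi_P0]
  | add y z hy hz => rw [map_add, map_add, map_add, map_add, hy, hz]

include hb in
theorem Psi_comm (i : ι₀) (t : A ⊗[R] CliffordAlgebra Q) :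
    Psi Q (Qp A J) f hf ((comm Q b i).lTensor A t) =
      Psi Q (Qp A J) f hf t * ι (Qp A J) (b' i) - ι (Qp A J) (b' i) * Psi Q (Qp A J) f hf t := by
  induction t using TensorProduct.induction_on with
  | zero => simp
  | tmul a x =>
    rw [LinearMap.lTensor_tmul, Psi_tmul, Psi_tmul, comm_apply, map_sub, map_mul, map_mul, Phi_ι,
      hb i, smul_sub, smul_mul_assoc, mul_smul_comm]
  | add y z hy hz =>
    rw [map_add, map_add, map_add, hy, hz, add_mul, mul_add]
    abel

/-- The span of the image of the odd centre. -/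
noncomputable def S1 : Submodule A (CliffordAlgebra (Qp A J)) :=
  Submodule.span A ((Phi Q (Qp A J) f hf) '' (Z1 Q : Set (CliffordAlgebra Q)))

include b b' hb in
theorem zc_mem_S1 [Module.Flat R A] : zc A J ∈ S1 J Q f hf := by
  classical
  obtain ⟨t, ht⟩ := (PsiEquiv Q (Qp A J) f hf b b' hb).surjective (zc A J)
  have ht' : Psi Q (Qp A J) f hf t = zc A J := ht
  have hex : Function.Exact ((LinearMap.ker (Theta Q b)).subtype.lTensor A)
      ((Theta Q b).lTensor A) :=
    Module.Flat.lTensor_exact A (LinearMap.exact_subtype_ker_map (Theta Q b))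
  have hinjP : Function.Injective (Psi Q (Qp A J) f hf) :=
    (PsiEquiv Q (Qp A J) f hf b b' hb).injective
  have h0 : (Theta Q b).lTensor A t = 0 := by
    apply (TensorProduct.piRight R R A (fun _ : Option ι₀ => CliffordAlgebra Q)).injective
    rw [map_zero]
    funext o
    have hcomp : ∀ t : A ⊗[R] CliffordAlgebra Q,
        (TensorProduct.piRight R R A (fun _ : Option ι₀ => CliffordAlgebra Q)
          ((Theta Q b).lTensor A t)) o = ((LinearMap.proj o ∘ₗ Theta Q b).lTensor A) t := by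
      intro t
      induction t using TensorProduct.induction_on with
      | zero => simp
      | tmul a x => rfl
      | add y z hy hz =>
        rw [map_add, map_add, Pi.add_apply, hy, hz, map_add]
    rw [hcomp]
    show _ = (0 : A ⊗[R] CliffordAlgebra Q)
    apply hinjP
    rw [map_zero]
    rcases o with _ | i
    · show Psi Q (Qp A J) f hf ((P0 Q).lTensor A t) = 0
      rw [Psi_P0, ht', P0_odd _ (zc_odd A J)]
    · show Psi Q (Qp A J) f hf ((comm Q b i).lTensor A t) = 0
      rw [Psi_comm J Q f hf b b' hb, ht', zc_comm_ι, sub_self]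
  obtain ⟨s, hs⟩ := (hex t).mp h0
  rw [← ht', ← hs]
  clear hs h0 ht ht'
  induction s using TensorProduct.induction_on with
  | zero => rw [map_zero, map_zero]; exact Submodule.zero_mem _
  | tmul a x =>
    rw [LinearMap.lTensor_tmul, Psi_tmul]
    apply Submodule.smul_mem
    apply Submodule.subset_span
    refine ⟨x.1, ?_, rfl⟩
    exact (ker_Theta Q b).le x.2
  | add y z hy hz => rw [map_add, map_add]; exact Submodule.add_mem _ hy hz

variable (hsc : ∀ z ∈ Subalgebra.center R (CliffordAlgebra Q), z ∈ evenOdd Q 0 →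
    z ∈ (algebraMap R (CliffordAlgebra Q)).range)

include hsc in
theorem prod1 {z' : CliffordAlgebra Q} (hz' : z' ∈ Z1 Q) :
    ∀ u ∈ S1 J Q f hf, ∃ a ∈ Ideal.map (algebraMap R A) (I1 Q),
      u * Phi Q (Qp A J) f hf z' = algebraMap A (CliffordAlgebra (Qp A J)) a := by
  intro u hu
  unfold S1 at hu
  induction hu using Submodule.span_induction with
  | mem y hy =>
    obtain ⟨z, hz, rfl⟩ := hy
    obtain ⟨r, hr⟩ := hsc (z * z') (Subalgebra.mul_mem _ (Z1_center Q hz) (Z1_center Q hz'))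
      (odd_mul_odd Q (Z1_odd Q hz) (Z1_odd Q hz'))
    refine ⟨algebraMap R A r, Ideal.mem_map_of_mem _ ?_, ?_⟩
    · rw [mem_I1]
      have hr' : algebraMap R (CliffordAlgebra Q) r = z * z' := hr
      rw [hr']
      exact Submodule.mul_mem_mul hz hz'
    · have hr' : algebraMap R (CliffordAlgebra Q) r = z * z' := hr
      rw [← map_mul, ← hr', AlgHom.commutes, ← IsScalarTower.algebraMap_apply]
  | zero => exact ⟨0, Ideal.zero_mem _, by rw [zero_mul, map_zero]⟩
  | add y z _ _ hy hz =>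
    obtain ⟨a, ha, ea⟩ := hy
    obtain ⟨a', ha', ea'⟩ := hz
    exact ⟨a + a', Ideal.add_mem _ ha ha', by rw [add_mul, ea, ea', map_add]⟩
  | smul c y _ hy =>
    obtain ⟨a, ha, ea⟩ := hy
    refine ⟨c * a, Ideal.mul_mem_left _ _ ha, ?_⟩
    rw [smul_mul_assoc, ea, map_mul, Algebra.smul_def]

include hsc in
theorem prod2 : ∀ v ∈ S1 J Q f hf, ∀ u ∈ S1 J Q f hf,
    ∃ a ∈ Ideal.map (algebraMap R A) (I1 Q),
      u * v = algebraMap A (CliffordAlgebra (Qp A J)) a := by
  intro v hv
  have hv' := hv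
  unfold S1 at hv'
  induction hv' using Submodule.span_induction with
  | mem y hy =>
    obtain ⟨z, hz, rfl⟩ := hy
    exact prod1 J Q f hf hsc hz
  | zero => exact fun u _ => ⟨0, Ideal.zero_mem _, by rw [mul_zero, map_zero]⟩
  | add y z hy' hz' hy hz =>
    intro u hu
    obtain ⟨a, ha, ea⟩ := hy (Submodule.span_induction (p := fun x _ => x ∈ S1 J Q f hf)
      (fun x hx => Submodule.subset_span hx) (Submodule.zero_mem _)
      (fun _ _ _ _ h1 h2 => Submodule.add_mem _ h1 h2)
      (fun c _ _ h1 => Submodule.smul_mem _ c h1) hy') u hu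
    obtain ⟨a', ha', ea'⟩ := hz (Submodule.span_induction (p := fun x _ => x ∈ S1 J Q f hf)
      (fun x hx => Submodule.subset_span hx) (Submodule.zero_mem _)
      (fun _ _ _ _ h1 h2 => Submodule.add_mem _ h1 h2)
      (fun c _ _ h1 => Submodule.smul_mem _ c h1) hz') u hu
    exact ⟨a + a', Ideal.add_mem _ ha ha', by rw [mul_add, ea, ea', map_add]⟩
  | smul c y hy' hy =>
    intro u hu
    obtain ⟨a, ha, ea⟩ := hy (Submodule.span_induction (p := fun x _ => x ∈ S1 J Q f hf)
      (fun x hx => Submodule.subset_span hx) (Submodule.zero_mem _)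
      (fun _ _ _ _ h1 h2 => Submodule.add_mem _ h1 h2)
      (fun c _ _ h1 => Submodule.smul_mem _ c h1) hy') u hu
    refine ⟨c * a, Ideal.mul_mem_left _ _ ha, ?_⟩
    rw [mul_smul_comm, ea, map_mul, Algebra.smul_def]

include b' in
theorem algebraMap_injective' :
    Function.Injective (algebraMap A (CliffordAlgebra (Qp A J))) := by
  obtain ⟨bC, hbC⟩ := exists_basis_finset b' (Qp A J)
  intro a a' h
  have h1 : a • bC ∅ = a' • bC ∅ := by
    rw [hbC, ← Algebra.algebraMap_eq_smul_one, ← Algebra.algebraMap_eq_smul_one, h]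
  have h2 := congrArg (fun x => bC.repr x ∅) h1
  simpa using h2

include J f hf b b' hb hsc in
theorem one_mem_Z1_mul [Module.FaithfullyFlat R A] :
    (1 : CliffordAlgebra Q) ∈ Z1 Q * Z1 Q := by
  have hz := zc_mem_S1 J Q f hf b b' hb
  obtain ⟨a, ha, ea⟩ := prod2 J Q f hf hsc _ hz _ hz
  rw [zc_mul_self] at ea
  have h1 : a = 1 := by
    apply algebraMap_injective' J b'
    rw [← ea, map_one]
  rw [h1] at ha
  have h2 : Ideal.map (algebraMap R A) (I1 Q) = ⊤ := (Ideal.eq_top_iff_one _).mpr ha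
  have h3 := Ideal.comap_map_eq_self_of_faithfullyFlat (B := A) (I1 Q)
  rw [h2, Ideal.comap_top] at h3
  have h4 : (1 : R) ∈ I1 Q := by rw [← h3]; exact Submodule.mem_top
  rw [mem_I1, map_one] at h4
  exact h4

end Abstract

end Groth.Agent.H80.ClOddC
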