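import Groth.Agent.H80.QuadOdd2

set_option autoImplicit false
set_option linter.unusedSectionVars false

universe u

namespace Groth.Agent.H80.QuadOdd3

open Matrix Polynomial Groth.Agent.H80.QuadMat Groth.Agent.H80.QuadPlane Groth.Agent.H80.QuadZar
  Groth.Agent.H80.QuadLocal Groth.Agent.H80.QuadEven Groth.Agent.H80.QuadOdd
  Groth.Agent.H80.QuadOdd2

section Symm

variable {R : Type*} [CommRing R] {ι κ : Type*} [Fintype ι] [DecidableEq ι] [Fintype κ]
  [DecidableEq κ]

theorem Cong.symm {W : Matrix ι ι R} {W₂ : Matrix κ κ R} (h : Cong W W₂) : Cong W₂ W := by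
  obtain ⟨g, g', a, b, s⟩ := h
  refine ⟨g', g, b, a, ?_⟩
  have h1 := (s.symm).conj g'
  have h2 : g'ᵀ * (gᵀ * W * g) * g' = W := by
    have h3 : g'ᵀ * gᵀ = 1 := by rw [← Matrix.transpose_mul, a, Matrix.transpose_one]
    calc g'ᵀ * (gᵀ * W * g) * g' = (g'ᵀ * gᵀ) * W * (g * g') := by
          simp only [Matrix.mul_assoc]
      _ = W := by rw [h3, a, Matrix.one_mul, Matrix.mul_one]
  rwa [h2] at h1

end Symm

section Pi

variable {K : Type*} {B : K → Type*} [∀ k, CommRing (B k)] {ι κ : Type*} [Fintype ι]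
  [DecidableEq ι] [Fintype κ] [DecidableEq κ]

theorem mat_ext_pi {ι' κ' : Type*} (M N : Matrix ι' κ' (∀ k, B k))
    (h : ∀ k, M.map (Pi.evalRingHom B k) = N.map (Pi.evalRingHom B k)) : M = N := by
  ext i j k
  exact congrFun (congrFun (h k) i) j

theorem alt_pi (D : Matrix ι ι (∀ k, B k)) (h : ∀ k, Alt (D.map (Pi.evalRingHom B k))) :
    Alt D := by
  refine ⟨fun i => funext fun k => ?_, ?_⟩
  · exact (h k).diag i
  · apply mat_ext_pi
    intro k
    have h1 := (h k).skew
    rw [Matrix.transpose_map, h1]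
    ext i j
    simp

theorem cong_pi (W : Matrix ι ι (∀ k, B k)) (W₂ : Matrix κ κ (∀ k, B k))
    (h : ∀ k, Cong (W.map (Pi.evalRingHom B k)) (W₂.map (Pi.evalRingHom B k))) : Cong W W₂ := by
  choose g g' a b s using h
  have hG : ∀ k, (Matrix.of fun i j k => g k i j : Matrix ι κ (∀ k, B k)).map
      (Pi.evalRingHom B k) = g k := fun k => by
    ext i j
    rfl
  have hG' : ∀ k, (Matrix.of fun i j k => g' k i j : Matrix κ ι (∀ k, B k)).map
      (Pi.evalRingHom B k) = g' k := fun k => by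
    ext i j
    rfl
  refine ⟨Matrix.of fun i j k => g k i j, Matrix.of fun i j k => g' k i j, ?_, ?_, ?_⟩
  · apply mat_ext_pi
    intro k
    rw [Matrix.map_mul, hG, hG', a, Matrix.map_one _ (map_zero _) (map_one _)]
  · apply mat_ext_pi
    intro k
    rw [Matrix.map_mul, hG, hG', b, Matrix.map_one _ (map_zero _) (map_one _)]
  · apply alt_pi
    intro k
    have h1 := s k
    unfold SameQ at h1
    rw [Matrix.map_sub (⇑(Pi.evalRingHom B k)) (map_sub (Pi.evalRingHom B k)), Matrix.map_mul,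
      Matrix.map_mul, Matrix.transpose_map, hG]
    exact h1

end Pi

section Global

/-- Fppf-global splitting of a semiregular odd-rank form. -/
theorem global_split_odd (k : ℕ) (R : Type u) [CommRing R]
    (W : Matrix (Fin (2 * k + 1)) (Fin (2 * k + 1)) R) (hW : IsUnit (hdM W)) :
    ∃ (A : Type u) (_ : CommRing A) (_ : Algebra R A), Module.FaithfullyFlat R A ∧
      Algebra.FinitePresentation R A ∧ Cong (W.map (algebraMap R A)) (oddSplit (Fin k) A) := by
  classical
  choose B instB φ hφ hq J instJ1 instJ2 hJ hC using fun P : PrimeSpectrum R =>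
    local_split_odd k R W hW P.asIdeal
  have hopen : ∀ P, IsOpen (Set.range (PrimeSpectrum.comap (φ P))) := by
    intro P
    let _ : Algebra R (B P) := (φ P).toAlgebra
    have hfl : Module.Flat R (B P) := (hφ P).1
    have hfp : Algebra.FinitePresentation R (B P) := (hφ P).2
    have h1 := PrimeSpectrum.isOpenMap_comap_of_hasGoingDown_of_finitePresentation (R := R)
      (S := B P)
    exact h1.isOpen_range
  have hmem : ∀ P : PrimeSpectrum R, P ∈ Set.range (PrimeSpectrum.comap (φ P)) := by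
    intro P
    obtain ⟨q, hq1, hq2⟩ := hq P
    exact ⟨⟨q, hq1⟩, PrimeSpectrum.ext hq2⟩
  obtain ⟨t, ht⟩ := isCompact_univ.elim_finite_subcover
    (fun P => Set.range (PrimeSpectrum.comap (φ P))) hopen
    (fun x _ => Set.mem_iUnion.mpr ⟨x, hmem x⟩)
  let _ : ∀ x : {x // x ∈ t}, Algebra R (B x.1) := fun x => (φ x.1).toAlgebra
  have hfl : ∀ x : {x // x ∈ t}, Module.Flat R (B x.1) := fun x => (hφ x.1).1
  have hfp : ∀ x : {x // x ∈ t}, Algebra.FinitePresentation R (B x.1) := fun x => (hφ x.1).2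
  have hflat : Module.Flat R (∀ x : {x // x ∈ t}, B x.1) :=
    Module.Flat.of_linearEquiv
      (DFinsupp.linearEquivFunOnFintype (R := R) (M := fun x : {x // x ∈ t} => B x.1)).symm
  refine ⟨∀ x : {x // x ∈ t}, B x.1, inferInstance, inferInstance, ?_, inferInstance, ?_⟩
  · apply Module.FaithfullyFlat.of_comap_surjective
    intro p
    have h1 := ht (Set.mem_univ p)
    obtain ⟨P, hP⟩ := Set.mem_iUnion.mp h1
    obtain ⟨hPt, q, hq'⟩ := Set.mem_iUnion.mp hP
    refine ⟨PrimeSpectrum.comap (Pi.evalRingHom (fun x : {x // x ∈ t} => B x.1) ⟨P, hPt⟩) q, ?_⟩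
    rw [← hq']
    rfl
  · apply cong_pi
    intro x
    have e1 : (W.map (algebraMap R (∀ x : {x // x ∈ t}, B x.1))).map
        (Pi.evalRingHom (fun x : {x // x ∈ t} => B x.1) x) = W.map (φ x.1) := by
      ext i j
      rfl
    rw [e1, oddSplit_map]
    refine (hC x.1).trans ?_
    unfold oddSplit
    exact Cong.fromBlocks (splitMat_equiv (J x.1) (Fin k) (Fintype.equivFinOfCardEq (hJ x.1)))
      (Cong.refl 1)

end Global

section Translate

open TensorProduct QuadGrp Groth.Agent.H84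

theorem toQuadraticForm'_apply {n : Type*} [Fintype n] [DecidableEq n] {R : Type*} [CommRing R]
    (M : Matrix n n R) (x : n → R) : Matrix.toQuadraticForm' M x = qf M x := by
  rw [Matrix.toQuadraticForm', LinearMap.BilinMap.toQuadraticMap_apply,
    Matrix.toLinearMap₂'_apply']
  rfl

/-- Every quadratic form on `Rⁿ` is `x ↦ xᵀ W x` for some matrix `W` computing the half-discriminant. -/
theorem exists_mat_of_form {n : ℕ} {R : Type*} [CommRing R] (Q : QuadraticForm R (Fin n → R)) :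
    ∃ W : Matrix (Fin n) (Fin n) R, (∀ x, Q x = qf W x) ∧
      hdM W = halfDisc (Pi.basisFun R (Fin n)) (LinearEquiv.refl R R) Q := by
  obtain ⟨B, rfl⟩ := LinearMap.BilinMap.toQuadraticMap_surjective Q
  refine ⟨LinearMap.BilinForm.toMatrix (Pi.basisFun R (Fin n)) B, fun x => ?_, ?_⟩
  · rw [LinearMap.BilinMap.toQuadraticMap_apply]
    unfold qf
    rw [LinearMap.BilinForm.dotProduct_toMatrix_mulVec]
    simp
  · unfold hdM
    rw [halfDisc_eq_hdEval, coeffs_eq_coeffOfMat]

theorem baseChangeForm_eq_qf {n : ℕ} {R : Type*} [CommRing R] (A : Type*) [CommRing A]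
    [Algebra R A] (Q : QuadraticForm R (Fin n → R)) (W : Matrix (Fin n) (Fin n) R)
    (hQ : ∀ x, Q x = qf W x) :
    baseChangeForm A Q = (Matrix.toQuadraticForm' (W.map (algebraMap R A))).comp
      ((Algebra.TensorProduct.basis A (Pi.basisFun R (Fin n))).equivFun :
        A ⊗[R] (Fin n → R) →ₗ[A] (Fin n → A)) := by
  apply _root_.baseChange_ext
  intro m
  have key : baseChangeForm A Q ((1 : A) ⊗ₜ[R] m) = algebraMap R A (Q m) := by
    simp [baseChangeForm, baseChange_tmul, Algebra.algebraMap_eq_smul_one]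
  rw [key, QuadraticMap.comp_apply, toQuadraticForm'_apply, hQ, ← qf_map]
  congr 1
  ext i
  simp [Module.Basis.equivFun_apply, Algebra.TensorProduct.basis_repr_tmul]

theorem isometry_of_cong {n : ℕ} {R : Type*} [CommRing R] (A : Type*) [CommRing A] [Algebra R A]
    (Q₁ Q₂ : QuadraticForm R (Fin n → R)) (W₁ W₂ : Matrix (Fin n) (Fin n) R)
    (h₁ : ∀ x, Q₁ x = qf W₁ x) (h₂ : ∀ x, Q₂ x = qf W₂ x)
    (hc : Cong (W₁.map (algebraMap R A)) (W₂.map (algebraMap R A))) :
    Nonempty ((baseChangeForm A Q₁).IsometryEquiv (baseChangeForm A Q₂)) := by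
  obtain ⟨g, g', a, b, s⟩ := hc
  obtain ⟨c, hc⟩ : ∃ c : A ⊗[R] (Fin n → R) ≃ₗ[A] (Fin n → A),
      c = (Algebra.TensorProduct.basis A (Pi.basisFun R (Fin n))).equivFun := ⟨_, rfl⟩
  let L : (Fin n → A) ≃ₗ[A] (Fin n → A) :=
    LinearEquiv.ofLinearMap (Matrix.toLin' g') (Matrix.toLin' g)
      (by rw [← Matrix.toLin'_mul, b, Matrix.toLin'_one])
      (by rw [← Matrix.toLin'_mul, a, Matrix.toLin'_one])
  refine ⟨{ toLinearEquiv := c.trans (L.trans c.symm), map_app' := fun m => ?_ }⟩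
  rw [baseChangeForm_eq_qf A Q₁ W₁ h₁, baseChangeForm_eq_qf A Q₂ W₂ h₂, ← hc]
  simp only [QuadraticMap.comp_apply, toQuadraticForm'_apply, LinearEquiv.coe_coe,
    AddHom.toFun_eq_coe, LinearMap.coe_toAddHom, LinearEquiv.coe_coe, LinearEquiv.trans_apply,
    LinearEquiv.apply_symm_apply]
  have h3 : L (c m) = g' *ᵥ c m := rfl
  rw [h3, ← s.qf_eq, qf_conj, Matrix.mulVec_mulVec, a, Matrix.one_mulVec]

/-- `(Fin k ⊕ Fin k) ⊕ Unit → Fin (2k+1)`: `inl (inl j) ↦ 2j+1`, `inl (inr j) ↦ 2j+2`, `inr () ↦ 0`. -/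
def oddFun (k : ℕ) : (Fin k ⊕ Fin k) ⊕ Unit → Fin (2 * k + 1)
  | Sum.inl (Sum.inl j) => ⟨2 * j + 1, by omega⟩
  | Sum.inl (Sum.inr j) => ⟨2 * j + 2, by omega⟩
  | Sum.inr _ => ⟨0, by omega⟩

theorem oddFun_bijective (k : ℕ) : Function.Bijective (oddFun k) := by
  rw [Fintype.bijective_iff_injective_and_card]
  constructor
  · rintro ((a | a) | u) ((b | b) | u') h <;> simp only [oddFun, Fin.mk.injEq] at h
    · have : a = b := Fin.ext (by omega)
      rw [this]
    · omega
    · omega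
    · omega
    · have : a = b := Fin.ext (by omega)
      rw [this]
    · omega
    · omega
    · omega
    · rfl
  · simp
    ring

/-- The equivalence `(Fin k ⊕ Fin k) ⊕ Unit ≃ Fin (2k+1)`. -/
noncomputable def oddEquiv (k : ℕ) : (Fin k ⊕ Fin k) ⊕ Unit ≃ Fin (2 * k + 1) :=
  Equiv.ofBijective (oddFun k) (oddFun_bijective k)

/-- The matrix of the standard split form on `Fin (2k+1)`. -/
noncomputable def splitOddMat (k : ℕ) (R : Type*) [CommRing R] :
    Matrix (Fin (2 * k + 1)) (Fin (2 * k + 1)) R :=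
  (oddSplit (Fin k) R).submatrix (oddEquiv k).symm (oddEquiv k).symm

theorem splitOddMat_cong (k : ℕ) (R : Type*) [CommRing R] :
    Cong (oddSplit (Fin k) R) (splitOddMat k R) :=
  Cong.reindex (oddSplit (Fin k) R) (oddEquiv k)

theorem splitOddMat_map (k : ℕ) {R S : Type*} [CommRing R] [CommRing S] (φ : R →+* S) :
    (splitOddMat k R).map φ = splitOddMat k S := by
  unfold splitOddMat
  rw [← oddSplit_map (Fin k) φ]
  rfl

theorem splitForm_odd_apply (k : ℕ) {R : Type u} [CommRing R] (x : Fin (2 * k + 1) → R) :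
    splitForm R (2 * k + 1) x =
      ∑ j : Fin k, x ⟨2 * j + 1, by omega⟩ * x ⟨2 * j + 2, by omega⟩ + x 0 * x 0 := by
  have h2 : (2 * k + 1) % 2 = 1 := by omega
  have h3 : (2 * k + 1) / 2 = k := by omega
  have hx : ∀ (a b : ℕ) (ha : a < 2 * k + 1) (hb : b < 2 * k + 1), a = b →
      x ⟨a, ha⟩ = x ⟨b, hb⟩ := by
    intro a b ha hb h
    subst h
    rfl
  unfold splitForm
  rw [_root_.add_apply, _root_.sum_apply, dif_pos h2]
  simp only [QuadraticMap.linMulLin_apply, LinearMap.proj_apply, QuadraticMap.comp_apply,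
    QuadraticMap.sq_apply]
  congr 1
  refine Fintype.sum_equiv (finCongr h3) _ _ (fun i => ?_)
  exact congrArg₂ (· * ·) (hx _ _ _ _ (by simp)) (hx _ _ _ _ (by simp))

theorem splitForm_eq_qf (k : ℕ) {R : Type u} [CommRing R] (x : Fin (2 * k + 1) → R) :
    splitForm R (2 * k + 1) x = qf (splitOddMat k R) x := by
  have h1 := qf_reindex (oddSplit (Fin k) R) (oddEquiv k) (x ∘ oddEquiv k)
  have h2 : (x ∘ oddEquiv k) ∘ (oddEquiv k).symm = x := by
    ext i
    simp
  rw [h2] at h1
  unfold splitOddMat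
  rw [h1, qf_oddSplit, splitForm_odd_apply]
  simp only [Function.comp, oddEquiv, Equiv.ofBijective_apply, oddFun, pow_two]
  rfl

/-- Main theorem: a semiregular quadratic form of odd rank is fppf-locally split. -/
theorem main_odd (R : Type u) [CommRing R] (m : ℕ)
    (Q : QuadraticForm R (Fin (2 * m + 1) → R))
    (hQ : QuadGrp.IsSemiregular (Pi.basisFun R (Fin (2 * m + 1))) (LinearEquiv.refl R R) Q) :
    ∃ (A : Type u) (_ : CommRing A) (_ : Algebra R A), Module.FaithfullyFlat R A ∧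
      Algebra.FinitePresentation R A ∧
      Nonempty ((QuadGrp.baseChangeForm A Q).IsometryEquiv
        (QuadGrp.baseChangeForm A (QuadGrp.splitForm R (2 * m + 1)))) := by
  obtain ⟨W, hW1, hW2⟩ := exists_mat_of_form Q
  have hu : IsUnit (hdM W) := by
    rw [hW2]
    exact hQ
  obtain ⟨A, instA, algA, hff, hfp, hc⟩ := global_split_odd m R W hu
  refine ⟨A, instA, algA, hff, hfp, ?_⟩
  apply isometry_of_cong A Q (splitForm R (2 * m + 1)) W (splitOddMat m R) hW1
    (fun x => splitForm_eq_qf m x)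
  rw [splitOddMat_map]
  exact hc.trans (splitOddMat_cong m A)

end Translate

end Groth.Agent.H80.QuadOdd3
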