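import Groth.Agent.H80.ClOddC
import Groth.Agent.H80.QuadOdd3

set_option autoImplicit false
set_option linter.unusedSectionVars false

universe u

namespace Groth.Agent.H80.ClOddMain

open Matrix CliffordAlgebra TensorProduct Groth.Agent.H80.QuadMat Groth.Agent.H80.ClBasic
  Groth.Agent.H80.ClSplit Groth.Agent.H80.ClBC Groth.Agent.H80.ClVol Groth.Agent.H80.ClOdd
  Groth.Agent.H80.ClOddA Groth.Agent.H80.ClCentre Groth.Agent.H80.ClOddC
  Groth.Agent.H80.QuadOdd Groth.Agent.H80.QuadOdd2 Groth.Agent.H80.QuadOdd3 Groth.Agent.H84 QuadGrp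

section E4

variable (A : Type*) [CommRing A] (J : Type*)

/-- The splitting equivalence `((J ⊕ J) ⊕ Unit → A) ≃ (J ⊕ J → A) × A`. -/
def e4 : (((J ⊕ J) ⊕ Unit) → A) ≃ₗ[A] ((J ⊕ J → A) × A) where
  toFun y := (fun k => y (Sum.inl k), y (Sum.inr ()))
  invFun p := Sum.elim p.1 (fun _ => p.2)
  map_add' y z := rfl
  map_smul' c y := rfl
  left_inv y := by
    funext k
    rcases k with k | u
    · rfl
    · rfl
  right_inv p := rfl

theorem e4_apply (y : ((J ⊕ J) ⊕ Unit) → A) :
    e4 A J y = (fun k => y (Sum.inl k), y (Sum.inr ())) := rfl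

end E4

theorem Qp_e4 (A : Type*) [CommRing A] (m : ℕ) (y : ((Fin m ⊕ Fin m) ⊕ Unit) → A) :
    Qp A (Fin m) (e4 A (Fin m) y) = qf (oddSplit (Fin m) A) y := by
  rw [Qp_apply, qH_apply, qf_oddSplit, e4_apply, pow_two]

/-- The data of an fppf splitting, in the form needed for the Clifford algebra comparison. -/
theorem exists_split_data {R : Type u} [CommRing R] {M : Type u} [AddCommGroup M] [Module R M]
    (m : ℕ) (b : Module.Basis (Fin (2 * m + 1)) R M) (Q : QuadraticForm R M)
    (hQ : QuadGrp.IsSemiregular b (LinearEquiv.refl R R) Q) :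
    ∃ (A : Type u) (_ : CommRing A) (_ : Algebra R A), Module.FaithfullyFlat R A ∧
      Algebra.FinitePresentation R A ∧
      ∃ (f : M →ₗ[R] ((Fin m ⊕ Fin m → A) × A))
        (b' : Module.Basis (Fin (2 * m + 1)) A ((Fin m ⊕ Fin m → A) × A)),
        (∀ x, Qp A (Fin m) (f x) = algebraMap R A (Q x)) ∧ (∀ i, f (b i) = b' i) := by
  have hfree : Module.Free R M := Module.Free.of_basis b
  obtain ⟨B, hB⟩ := LinearMap.BilinMap.toQuadraticMap_surjective Q
  obtain ⟨W, hW⟩ : ∃ W, W = LinearMap.BilinForm.toMatrix b B := ⟨_, rfl⟩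
  have hW1 : ∀ x, Q x = qf W (b.equivFun x) := by
    intro x
    rw [← hB, LinearMap.BilinMap.toQuadraticMap_apply,
      LinearMap.BilinForm.apply_eq_dotProduct_toMatrix_mulVec b B x x, hW]
    rfl
  have hW2 : hdM W = halfDisc b (LinearEquiv.refl R R) Q := by
    rw [← hB, hW]
    unfold hdM
    rw [halfDisc_eq_hdEval, coeffs_eq_coeffOfMat]
  have hu : IsUnit (hdM W) := by
    rw [hW2]
    exact hQ
  obtain ⟨A, instA, algA, hff, hfp, hc⟩ := global_split_odd m R W hu
  obtain ⟨g, g', hgg', hg'g, hs⟩ := hc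
  refine ⟨A, instA, algA, hff, hfp, ?_⟩
  -- the linear equivalence given by `g'`
  let L : (Fin (2 * m + 1) → A) ≃ₗ[A] (((Fin m ⊕ Fin m) ⊕ Unit) → A) :=
    LinearEquiv.ofLinearMap (Matrix.toLin' g') (Matrix.toLin' g)
      (by rw [← Matrix.toLin'_mul, hg'g, Matrix.toLin'_one])
      (by rw [← Matrix.toLin'_mul, hgg', Matrix.toLin'_one])
  have hL : ∀ v, L v = g' *ᵥ v := fun v => rfl
  let E : (Fin (2 * m + 1) → A) ≃ₗ[A] ((Fin m ⊕ Fin m → A) × A) := L.trans (e4 A (Fin m))
  let f : M →ₗ[R] ((Fin m ⊕ Fin m → A) × A) :=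
    (E.toLinearMap.restrictScalars R) ∘ₗ ((Algebra.linearMap R A).compLeft (Fin (2 * m + 1))) ∘ₗ
      b.equivFun.toLinearMap
  have hfx : ∀ x, f x = e4 A (Fin m) (g' *ᵥ (algebraMap R A ∘ b.equivFun x)) := fun x => rfl
  refine ⟨f, (Pi.basisFun A (Fin (2 * m + 1))).map E, ?_, ?_⟩
  · intro x
    rw [hfx, Qp_e4, ← hs.qf_eq, qf_conj, Matrix.mulVec_mulVec, hgg', Matrix.one_mulVec, qf_map,
      hW1]
  · intro i
    rw [hfx, Module.Basis.map_apply, Pi.basisFun_apply]
    show _ = e4 A (Fin m) (g' *ᵥ Pi.single i 1)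
    congr 2
    funext j
    rw [Function.comp_apply, Module.Basis.equivFun_self, Pi.single_apply]
    split_ifs with h1 h2 h2
    · exact map_one _
    · exact absurd h1.symm h2
    · exact absurd h2.symm h1
    · exact map_zero _

/-- The main theorem on Clifford algebras of semiregular forms of odd rank. -/
theorem main {R : Type u} [CommRing R] {M : Type u} [AddCommGroup M] [Module R M]
    (m : ℕ) (b : Module.Basis (Fin (2 * m + 1)) R M) (Q : QuadraticForm R M)
    (hQ : QuadGrp.IsSemiregular b (LinearEquiv.refl R R) Q) :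
    (∃ (R' : Type u) (_ : CommRing R') (_ : Algebra R R'), Module.FaithfullyFlat R R' ∧
        Algebra.FinitePresentation R R' ∧
        Nonempty ((R' ⊗[R] ↥(CliffordAlgebra.even Q)) ≃ₐ[R']
          Matrix (Fin (2 ^ m)) (Fin (2 ^ m)) R')) ∧
    (∀ z ∈ Subalgebra.center R (CliffordAlgebra Q), z ∈ CliffordAlgebra.evenOdd Q 0 →
        z ∈ (algebraMap R (CliffordAlgebra Q)).range) ∧
    Function.Bijective (TensorProduct.lift
        (((LinearMap.mul R (CliffordAlgebra Q)).comp
          (Subalgebra.center R (CliffordAlgebra Q)).val.toLinearMap).compl₂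
          (CliffordAlgebra.even Q).val.toLinearMap)) ∧
    (Function.Injective (CliffordAlgebra.ι Q) ∧
      ∃ W : Submodule R (CliffordAlgebra Q), IsCompl (LinearMap.range (CliffordAlgebra.ι Q)) W) := by
  obtain ⟨A, instA, algA, hff, hfp, f, b', hf, hb⟩ := exists_split_data m b Q hQ
  have hflat : Module.Flat R A := inferInstance
  have hinj : Function.Injective (algebraMap R A) := FaithfulSMul.algebraMap_injective R A
  have hsc : ∀ z ∈ Subalgebra.center R (CliffordAlgebra Q), z ∈ CliffordAlgebra.evenOdd Q 0 →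
      z ∈ (algebraMap R (CliffordAlgebra Q)).range := fun z hz he =>
    even_central_scalar' (Fin m) Q f hf b b' hb hinj hz he
  refine ⟨⟨A, instA, algA, hff, hfp, ⟨?_⟩⟩, hsc, ?_, ?_⟩
  · exact ((evenEquiv (Fin m) Q f hf b b' hb).trans (chainEquiv A (Fin m))).trans
      (matEquiv A (Fin m) m (Fintype.card_fin m))
  · obtain ⟨n, ζ, η, hζ, hη, hone⟩ :=
      exists_families Q (one_mem_Z1_mul (Fin m) Q f hf b b' hb hsc)
    exact mu_bijective Q hsc ζ η hζ hη hone
  · have hfree : Module.Free R M := Module.Free.of_basis b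
    exact ι_summand Q

end Groth.Agent.H80.ClOddMain
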