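import Groth.Agent.H80.ClGenA
import Groth.Agent.H80.ClCentre
import Groth.Agent.H80.ClEvenData
import Groth.Agent.H80.ClOddLocal

set_option autoImplicit false
set_option linter.unusedSectionVars false

universe u v

/-!
# Skolem–Noether for Clifford algebras of regular forms of even rank over a local ring

Every algebra automorphism of `C(Q)` is inner.  The proof is by descent from an fppf splitting:
the module `L_σ = {x | x a = σ(a) x}` is invertible, with inverse `L'_σ = {y | y σ(a) = a y}`,
because this holds for matrix algebras by an explicit formula.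
-/

namespace Groth.Agent.H80.ClSN

open CliffordAlgebra TensorProduct Groth.Agent.H80.ClBasic Groth.Agent.H80.ClBC
  Groth.Agent.H80.ClGenA Groth.Agent.H80.ClCentre Groth.Agent.H80.ClSplit
  Groth.Agent.H80.ClEvenData Groth.Agent.H80.ClOddLocal

section Mat

open Matrix

variable {A : Type*} [CommRing A] {n : Type*} [Fintype n] [DecidableEq n]

/-- Matrix units. -/
def E (A : Type*) [CommRing A] {n : Type*} [DecidableEq n] (i j : n) : Matrix n n A :=
  Matrix.single i j 1

theorem E_mul_E (i j k l : n) : E A i j * E A k l = if j = k then E A i l else 0 := by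
  unfold E
  split_ifs with h
  · subst h
    rw [Matrix.single_mul_single_same, mul_one]
  · exact Matrix.single_mul_single_of_ne _ _ _ _ h _

theorem single_eq_smul_E (i j : n) (c : A) : Matrix.single i j c = c • E A i j := by
  unfold E
  rw [Matrix.smul_single, smul_eq_mul, mul_one]

variable (τ : Matrix n n A →ₐ[A] Matrix n n A) (i₀ : n)

/-- Elements intertwining `id` and `τ`. -/
noncomputable def T (x : Matrix n n A) : Matrix n n A := ∑ i, τ (E A i i₀) * x * E A i₀ i

/-- Elements intertwining `τ` and `id`. -/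
noncomputable def T' (y : Matrix n n A) : Matrix n n A := ∑ i, E A i i₀ * y * τ (E A i₀ i)

theorem T_mul_E (x : Matrix n n A) (k l : n) :
    T τ i₀ x * E A k l = τ (E A k i₀) * x * E A i₀ l := by
  unfold T
  rw [Finset.sum_mul, Finset.sum_eq_single k]
  · rw [mul_assoc, E_mul_E, if_pos rfl]
  · intro i _ hik
    rw [mul_assoc, E_mul_E, if_neg hik, mul_zero]
  · intro h
    exact absurd (Finset.mem_univ _) h

theorem τE_mul_T (x : Matrix n n A) (k l : n) :
    τ (E A k l) * T τ i₀ x = τ (E A k i₀) * x * E A i₀ l := by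
  unfold T
  rw [Finset.mul_sum, Finset.sum_eq_single l]
  · rw [← mul_assoc, ← mul_assoc, ← map_mul, E_mul_E, if_pos rfl]
  · intro i _ hil
    rw [← mul_assoc, ← mul_assoc, ← map_mul, E_mul_E, if_neg (Ne.symm hil), map_zero, zero_mul,
      zero_mul]
  · intro h
    exact absurd (Finset.mem_univ _) h

theorem T_comm (x a : Matrix n n A) : T τ i₀ x * a = τ a * T τ i₀ x := by
  induction a using Matrix.induction_on' with
  | h_zero => rw [mul_zero, map_zero, zero_mul]
  | h_add p q hp hq => rw [mul_add, map_add, add_mul, hp, hq]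
  | h_std_basis i j c =>
    rw [single_eq_smul_E, mul_smul_comm, map_smul, smul_mul_assoc, T_mul_E, τE_mul_T]

theorem T'_mul_τE (y : Matrix n n A) (k l : n) :
    T' τ i₀ y * τ (E A k l) = E A k i₀ * y * τ (E A i₀ l) := by
  unfold T'
  rw [Finset.sum_mul, Finset.sum_eq_single k]
  · rw [mul_assoc, ← map_mul, E_mul_E, if_pos rfl]
  · intro i _ hik
    rw [mul_assoc, ← map_mul, E_mul_E, if_neg hik, map_zero, mul_zero]
  · intro h
    exact absurd (Finset.mem_univ _) h

theorem E_mul_T' (y : Matrix n n A) (k l : n) :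
    E A k l * T' τ i₀ y = E A k i₀ * y * τ (E A i₀ l) := by
  unfold T'
  rw [Finset.mul_sum, Finset.sum_eq_single l]
  · rw [← mul_assoc, ← mul_assoc, E_mul_E, if_pos rfl]
  · intro i _ hil
    rw [← mul_assoc, ← mul_assoc, E_mul_E, if_neg (Ne.symm hil), zero_mul, zero_mul]
  · intro h
    exact absurd (Finset.mem_univ _) h

theorem T'_comm (y a : Matrix n n A) : T' τ i₀ y * τ a = a * T' τ i₀ y := by
  induction a using Matrix.induction_on' with
  | h_zero => rw [map_zero, mul_zero, zero_mul]
  | h_add p q hp hq => rw [map_add, mul_add, add_mul, hp, hq]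
  | h_std_basis i j c =>
    rw [single_eq_smul_E, map_smul, mul_smul_comm, smul_mul_assoc, T'_mul_τE, E_mul_T']

theorem T_mul_T' (x y : Matrix n n A) :
    T τ i₀ x * T' τ i₀ y = ∑ i, τ (E A i i₀) * (x * E A i₀ i₀ * y) * τ (E A i₀ i) := by
  unfold T T'
  rw [Finset.sum_mul]
  refine Finset.sum_congr rfl fun i _ => ?_
  rw [Finset.mul_sum, Finset.sum_eq_single i]
  · have h1 : E A i₀ i * (E A i i₀ * y * τ (E A i₀ i)) = E A i₀ i₀ * y * τ (E A i₀ i) := by
      rw [← mul_assoc, ← mul_assoc, E_mul_E, if_pos rfl]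
    rw [mul_assoc (τ (E A i i₀) * x), h1]
    simp only [mul_assoc]
  · intro j _ hji
    have h1 : E A i₀ i * (E A j i₀ * y * τ (E A i₀ j)) = 0 := by
      rw [← mul_assoc, ← mul_assoc, E_mul_E, if_neg (Ne.symm hji), zero_mul, zero_mul]
    rw [mul_assoc (τ (E A i i₀) * x), h1, mul_zero]
  · intro h
    exact absurd (Finset.mem_univ _) h

theorem sum_T_mul_T' {K : Type*} [Fintype K] (x y : K → Matrix n n A) :
    ∑ k, T τ i₀ (x k) * T' τ i₀ (y k) =
      ∑ i, τ (E A i i₀) * (∑ k, x k * E A i₀ i₀ * y k) * τ (E A i₀ i) := by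
  simp only [T_mul_T']
  rw [Finset.sum_comm]
  refine Finset.sum_congr rfl fun i _ => ?_
  rw [Finset.mul_sum, Finset.sum_mul]

include i₀ in
/-- The partition of unity for an endomorphism of a matrix algebra. -/
theorem exists_families :
    ∃ p q : n × n → Matrix n n A, (∀ k a, p k * a = τ a * p k) ∧ (∀ k a, q k * τ a = a * q k) ∧
      ∑ k, p k * q k = 1 := by
  refine ⟨fun k => T τ i₀ (τ (E A i₀ i₀) k.1 k.2 • E A k.1 i₀), fun k => T' τ i₀ (E A i₀ k.2),
    fun k a => T_comm τ i₀ _ a, fun k a => T'_comm τ i₀ _ a, ?_⟩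
  have hZ : ∑ k : n × n, (τ (E A i₀ i₀) k.1 k.2 • E A k.1 i₀) * E A i₀ i₀ * E A i₀ k.2 =
      τ (E A i₀ i₀) := by
    rw [Fintype.sum_prod_type]
    conv_rhs => rw [Matrix.matrix_eq_sum_single (τ (E A i₀ i₀))]
    refine Finset.sum_congr rfl fun k _ => Finset.sum_congr rfl fun l _ => ?_
    rw [smul_mul_assoc, smul_mul_assoc, E_mul_E, if_pos rfl, E_mul_E, if_pos rfl,
      single_eq_smul_E]
  rw [sum_T_mul_T' τ i₀ (fun k : n × n => τ (E A i₀ i₀) k.1 k.2 • E A k.1 i₀)
    (fun k : n × n => E A i₀ k.2), hZ]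
  have h2 : ∀ i, τ (E A i i₀) * τ (E A i₀ i₀) * τ (E A i₀ i) = τ (E A i i) := by
    intro i
    rw [← map_mul, ← map_mul, E_mul_E, if_pos rfl, E_mul_E, if_pos rfl]
  simp only [h2]
  rw [← map_sum]
  unfold E
  rw [Matrix.sum_single_one, map_one]

end Mat

section Transport

variable {A : Type*} [CommRing A] {n : Type*} [Fintype n] [DecidableEq n]

/-- The partition of unity for an endomorphism of an algebra isomorphic to a matrix algebra. -/
theorem exists_families_of_equiv {C : Type*} [Ring C] [Algebra A C] [Nonempty n]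
    (e : C ≃ₐ[A] Matrix n n A) (σ : C →ₐ[A] C) :
    ∃ p q : n × n → C, (∀ k a, p k * a = σ a * p k) ∧ (∀ k a, q k * σ a = a * q k) ∧
      ∑ k, p k * q k = 1 := by
  obtain ⟨i₀⟩ := ‹Nonempty n›
  let τ : Matrix n n A →ₐ[A] Matrix n n A :=
    (e : C →ₐ[A] Matrix n n A).comp (σ.comp (e.symm : Matrix n n A →ₐ[A] C))
  have hτ : ∀ a, τ (e a) = e (σ a) := by
    intro a
    show e (σ (e.symm (e a))) = _
    rw [e.symm_apply_apply]
  obtain ⟨p, q, hp, hq, hpq⟩ := exists_families τ i₀
  refine ⟨fun k => e.symm (p k), fun k => e.symm (q k), ?_, ?_, ?_⟩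
  · intro k a
    apply e.injective
    rw [map_mul, map_mul, e.apply_symm_apply, hp k (e a), hτ]
  · intro k a
    apply e.injective
    rw [map_mul, map_mul, e.apply_symm_apply, ← hτ, hq k (e a)]
  · apply e.injective
    rw [map_sum, map_one, ← hpq]
    refine Finset.sum_congr rfl fun k _ => ?_
    rw [map_mul, e.apply_symm_apply, e.apply_symm_apply]

end Transport

section Tw

variable {R : Type*} [CommRing R] {M : Type*} [AddCommGroup M] [Module R M]
  (Q : QuadraticForm R M) {ι₀ : Type*} [Fintype ι₀] (b : Module.Basis ι₀ R M)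
  (σ : CliffordAlgebra Q →ₐ[R] CliffordAlgebra Q)

/-- The twisted commutator `x ↦ x * e_i - σ(e_i) * x`. -/
noncomputable def twL (i : ι₀) : CliffordAlgebra Q →ₗ[R] CliffordAlgebra Q :=
  LinearMap.mulRight R (ι Q (b i)) - LinearMap.mulLeft R (σ (ι Q (b i)))

theorem twL_apply (i : ι₀) (x : CliffordAlgebra Q) :
    twL Q b σ i x = x * ι Q (b i) - σ (ι Q (b i)) * x := rfl

/-- The twisted commutator `y ↦ y * σ(e_i) - e_i * y`. -/
noncomputable def twR (i : ι₀) : CliffordAlgebra Q →ₗ[R] CliffordAlgebra Q :=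
  LinearMap.mulRight R (σ (ι Q (b i))) - LinearMap.mulLeft R (ι Q (b i))

theorem twR_apply (i : ι₀) (y : CliffordAlgebra Q) :
    twR Q b σ i y = y * σ (ι Q (b i)) - ι Q (b i) * y := rfl

theorem twisted_of_basis {x : CliffordAlgebra Q}
    (h : ∀ i, x * ι Q (b i) = σ (ι Q (b i)) * x) (a : CliffordAlgebra Q) :
    x * a = σ a * x := by
  have hv : ∀ v : M, x * ι Q v = σ (ι Q v) * x := by
    intro v
    rw [← b.sum_repr v, map_sum, map_sum, Finset.mul_sum, Finset.sum_mul]
    refine Finset.sum_congr rfl fun i _ => ?_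
    rw [map_smul, map_smul, mul_smul_comm, smul_mul_assoc, h i]
  induction a using CliffordAlgebra.induction with
  | algebraMap r => rw [AlgHom.commutes, Algebra.commutes]
  | ι v => exact hv v
  | mul a c ha hc => rw [← mul_assoc, ha, mul_assoc, hc, map_mul, mul_assoc]
  | add a c ha hc => rw [mul_add, map_add, add_mul, ha, hc]

theorem twisted_of_basis' {y : CliffordAlgebra Q}
    (h : ∀ i, y * σ (ι Q (b i)) = ι Q (b i) * y) (a : CliffordAlgebra Q) :
    y * σ a = a * y := by
  have hv : ∀ v : M, y * σ (ι Q v) = ι Q v * y := by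
    intro v
    rw [← b.sum_repr v, map_sum, map_sum, Finset.mul_sum, Finset.sum_mul]
    refine Finset.sum_congr rfl fun i _ => ?_
    rw [map_smul, map_smul, mul_smul_comm, smul_mul_assoc, h i]
  induction a using CliffordAlgebra.induction with
  | algebraMap r => rw [AlgHom.commutes, Algebra.commutes]
  | ι v => exact hv v
  | mul a c ha hc => rw [map_mul, ← mul_assoc, ha, mul_assoc, hc, mul_assoc]
  | add a c ha hc => rw [map_add, mul_add, add_mul, ha, hc]

theorem mem_ker_twL (x : CliffordAlgebra Q) :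
    x ∈ LinearMap.ker (LinearMap.pi (twL Q b σ)) ↔ ∀ a, x * a = σ a * x := by
  rw [LinearMap.mem_ker]
  constructor
  · intro h
    apply twisted_of_basis Q b σ
    intro i
    have h1 : twL Q b σ i x = 0 := congrFun h i
    rw [twL_apply] at h1
    exact sub_eq_zero.mp h1
  · intro h
    funext i
    show twL Q b σ i x = 0
    rw [twL_apply, h, sub_self]

theorem mem_ker_twR (y : CliffordAlgebra Q) :
    y ∈ LinearMap.ker (LinearMap.pi (twR Q b σ)) ↔ ∀ a, y * σ a = a * y := by
  rw [LinearMap.mem_ker]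
  constructor
  · intro h
    apply twisted_of_basis' Q b σ
    intro i
    have h1 : twR Q b σ i y = 0 := congrFun h i
    rw [twR_apply] at h1
    exact sub_eq_zero.mp h1
  · intro h
    funext i
    show twR Q b σ i y = 0
    rw [twR_apply, h, sub_self]

/-- If `σ` is conjugation by `u` and the centre is trivial, the intertwiners are the multiples of
`u`. -/
theorem eq_smul_of_twisted (hZ : Subalgebra.center R (CliffordAlgebra Q) = ⊥)
    (u : (CliffordAlgebra Q)ˣ) (hu : ∀ a, σ a = ↑u * a * ↑u⁻¹)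
    {p : CliffordAlgebra Q} (hp : ∀ a, p * a = σ a * p) :
    ∃ s : R, p = s • (u : CliffordAlgebra Q) := by
  have hc : (↑u⁻¹ : CliffordAlgebra Q) * p ∈ Subalgebra.center R (CliffordAlgebra Q) := by
    rw [Subalgebra.mem_center_iff]
    intro a
    calc a * (↑u⁻¹ * p) = ↑u⁻¹ * (↑u * a * ↑u⁻¹) * p := by
          rw [← mul_assoc, ← mul_assoc, ← mul_assoc, Units.inv_mul, one_mul]
      _ = ↑u⁻¹ * (σ a * p) := by rw [← hu a, mul_assoc]
      _ = ↑u⁻¹ * p * a := by rw [← hp a, mul_assoc]
  rw [hZ] at hc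
  obtain ⟨s, hs⟩ := Algebra.mem_bot.mp hc
  refine ⟨s, ?_⟩
  calc p = ↑u * (↑u⁻¹ * p) := by rw [← mul_assoc, Units.mul_inv, one_mul]
    _ = ↑u * algebraMap R _ s := by rw [hs]
    _ = s • (u : CliffordAlgebra Q) := by rw [← Algebra.commutes, Algebra.smul_def]

end Tw

section Abstract

variable {R : Type*} [CommRing R] {A : Type*} [CommRing A] [Algebra R A]
  {M : Type*} [AddCommGroup M] [Module R M]
  {N : Type*} [AddCommGroup N] [Module A N] [Module R N] [IsScalarTower R A N]
  (Q : QuadraticForm R M) (Q' : QuadraticForm A N)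
  (f : M →ₗ[R] N)
  (hf : ∀ m, Q' (f m) = algebraMap R A (Q m))
  {ι₀ : Type*} [Fintype ι₀] (b : Module.Basis ι₀ R M)
  (b' : Module.Basis ι₀ A N)
  (hb : ∀ i, f (b i) = b' i)

include hb in
/-- Flat descent of the kernel of a finite family of linear conditions. -/
theorem mem_span_ker [Module.Flat R A] {κ : Type*} [Fintype κ] [DecidableEq κ]
    (θ : κ → CliffordAlgebra Q →ₗ[R] CliffordAlgebra Q)
    (θ' : κ → CliffordAlgebra Q' → CliffordAlgebra Q')
    (h : ∀ k t, Psi Q Q' f hf ((θ k).lTensor A t) = θ' k (Psi Q Q' f hf t))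
    {e' : CliffordAlgebra Q'} (he : ∀ k, θ' k e' = 0) :
    e' ∈ Submodule.span A
      ((Phi Q Q' f hf) '' (LinearMap.ker (LinearMap.pi θ) : Set (CliffordAlgebra Q))) := by
  classical
  obtain ⟨t, ht⟩ := (PsiEquiv Q Q' f hf b b' hb).surjective e'
  have ht' : Psi Q Q' f hf t = e' := ht
  have hex : Function.Exact ((LinearMap.ker (LinearMap.pi θ)).subtype.lTensor A)
      ((LinearMap.pi θ).lTensor A) :=
    Module.Flat.lTensor_exact A (LinearMap.exact_subtype_ker_map (LinearMap.pi θ))
  have hinjP : Function.Injective (Psi Q Q' f hf) :=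
    (PsiEquiv Q Q' f hf b b' hb).injective
  have h0 : (LinearMap.pi θ).lTensor A t = 0 := by
    apply (TensorProduct.piRight R R A (fun _ : κ => CliffordAlgebra Q)).injective
    rw [map_zero]
    funext o
    have hcomp : ∀ t : A ⊗[R] CliffordAlgebra Q,
        (TensorProduct.piRight R R A (fun _ : κ => CliffordAlgebra Q)
          ((LinearMap.pi θ).lTensor A t)) o = ((θ o).lTensor A) t := by
      intro t
      induction t using TensorProduct.induction_on with
      | zero => simp
      | tmul a x => rfl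
      | add y z hy hz =>
        rw [map_add, map_add, Pi.add_apply, hy, hz, map_add]
    rw [hcomp]
    show _ = (0 : A ⊗[R] CliffordAlgebra Q)
    apply hinjP
    rw [map_zero, h, ht', he]
  obtain ⟨s, hs⟩ := (hex t).mp h0
  rw [← ht', ← hs]
  clear hs h0 ht ht'
  induction s using TensorProduct.induction_on with
  | zero => rw [map_zero, map_zero]; exact Submodule.zero_mem _
  | tmul a x =>
    rw [LinearMap.lTensor_tmul, Psi_tmul]
    apply Submodule.smul_mem
    apply Submodule.subset_span
    exact ⟨x.1, x.2, rfl⟩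
  | add y z hy hz => rw [map_add, map_add]; exact Submodule.add_mem _ hy hz

variable (σ : CliffordAlgebra Q →ₐ[R] CliffordAlgebra Q)
  (σ' : CliffordAlgebra Q' →ₐ[A] CliffordAlgebra Q')
  (hσ : ∀ x, σ' (Phi Q Q' f hf x) = Phi Q Q' f hf (σ x))

include hb hσ in
theorem Psi_twL (i : ι₀) (t : A ⊗[R] CliffordAlgebra Q) :
    Psi Q Q' f hf ((twL Q b σ i).lTensor A t) =
      Psi Q Q' f hf t * ι Q' (b' i) - σ' (ι Q' (b' i)) * Psi Q Q' f hf t := by
  have hσb : σ' (ι Q' (b' i)) = Phi Q Q' f hf (σ (ι Q (b i))) := by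
    rw [← hσ, Phi_ι, hb]
  induction t using TensorProduct.induction_on with
  | zero => simp
  | tmul a x =>
    rw [LinearMap.lTensor_tmul, Psi_tmul, Psi_tmul, twL_apply, map_sub, map_mul, map_mul, Phi_ι,
      hb, hσb, smul_sub, smul_mul_assoc, mul_smul_comm]
  | add y z hy hz =>
    rw [map_add, map_add, map_add, hy, hz, add_mul, mul_add]
    abel

include hb hσ in
theorem Psi_twR (i : ι₀) (t : A ⊗[R] CliffordAlgebra Q) :
    Psi Q Q' f hf ((twR Q b σ i).lTensor A t) =
      Psi Q Q' f hf t * σ' (ι Q' (b' i)) - ι Q' (b' i) * Psi Q Q' f hf t := by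
  have hσb : σ' (ι Q' (b' i)) = Phi Q Q' f hf (σ (ι Q (b i))) := by
    rw [← hσ, Phi_ι, hb]
  induction t using TensorProduct.induction_on with
  | zero => simp
  | tmul a x =>
    rw [LinearMap.lTensor_tmul, Psi_tmul, Psi_tmul, twR_apply, map_sub, map_mul, map_mul, Phi_ι,
      hb, hσb, smul_sub, smul_mul_assoc, mul_smul_comm]
  | add y z hy hz =>
    rw [map_add, map_add, map_add, hy, hz, add_mul, mul_add]
    abel

include hb hσ in
/-- Descent: an automorphism which becomes "locally inner" after a faithfully flat base change is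
inner, over a local ring. -/
theorem exists_unit [IsLocalRing R] [Module.FaithfullyFlat R A]
    (hZ : Subalgebra.center R (CliffordAlgebra Q) = ⊥)
    (hinjA : Function.Injective (algebraMap A (CliffordAlgebra Q')))
    (hsurj : Function.Surjective σ)
    {K : Type*} [Fintype K] (p q : K → CliffordAlgebra Q')
    (hp : ∀ k a, p k * a = σ' a * p k) (hq : ∀ k a, q k * σ' a = a * q k)
    (hpq : ∑ k, p k * q k = 1) :
    ∃ u : (CliffordAlgebra Q)ˣ, ∀ a, σ a = ↑u * a * ↑u⁻¹ := by
  classical
  have hflat : Module.Flat R A := inferInstance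
  have hinjR := algebraMap_injective_of_basis b Q
  -- products are scalars
  have hxy : ∀ x ∈ LinearMap.ker (LinearMap.pi (twL Q b σ)),
      ∀ y ∈ LinearMap.ker (LinearMap.pi (twR Q b σ)),
      ∃ r : R, algebraMap R (CliffordAlgebra Q) r = x * y := by
    intro x hx y hy
    have hx' := (mem_ker_twL Q b σ x).mp hx
    have hy' := (mem_ker_twR Q b σ y).mp hy
    have hc : x * y ∈ Subalgebra.center R (CliffordAlgebra Q) := by
      rw [Subalgebra.mem_center_iff]
      intro a
      obtain ⟨c, rfl⟩ := hsurj a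
      calc σ c * (x * y) = (σ c * x) * y := (mul_assoc _ _ _).symm
        _ = (x * c) * y := by rw [hx' c]
        _ = x * (c * y) := mul_assoc _ _ _
        _ = x * (y * σ c) := by rw [hy' c]
        _ = x * y * σ c := (mul_assoc _ _ _).symm
    rw [hZ] at hc
    obtain ⟨r, hr⟩ := Algebra.mem_bot.mp hc
    exact ⟨r, hr⟩
  have hex : ∃ x ∈ LinearMap.ker (LinearMap.pi (twL Q b σ)),
      ∃ y ∈ LinearMap.ker (LinearMap.pi (twR Q b σ)),
      ∃ r : R, IsUnit r ∧ algebraMap R (CliffordAlgebra Q) r = x * y := by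
    by_contra hcon
    push Not at hcon
    let J : Ideal A := Ideal.map (algebraMap R A) (IsLocalRing.maximalIdeal R)
    let NJ : Submodule A (CliffordAlgebra Q') :=
      Submodule.map (Algebra.linearMap A (CliffordAlgebra Q')) J
    have hprod : ∀ x' ∈ Submodule.span A ((Phi Q Q' f hf) ''
          (LinearMap.ker (LinearMap.pi (twL Q b σ)) : Set (CliffordAlgebra Q))),
        ∀ y' ∈ Submodule.span A ((Phi Q Q' f hf) ''
          (LinearMap.ker (LinearMap.pi (twR Q b σ)) : Set (CliffordAlgebra Q))),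
        x' * y' ∈ NJ := by
      intro x' hx' y' hy'
      induction hx' using Submodule.span_induction with
      | mem x1 hx1 =>
        obtain ⟨x, hx, rfl⟩ := hx1
        induction hy' using Submodule.span_induction with
        | mem y1 hy1 =>
          obtain ⟨y, hy, rfl⟩ := hy1
          obtain ⟨r, hr⟩ := hxy x hx y hy
          have hnr : ¬ IsUnit r := fun hu => hcon x hx y hy r hu hr
          have hrm : r ∈ IsLocalRing.maximalIdeal R := (IsLocalRing.mem_maximalIdeal r).mpr hnr
          refine ⟨algebraMap R A r, Ideal.mem_map_of_mem _ hrm, ?_⟩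
          rw [← map_mul, ← hr, AlgHom.commutes]
          exact (IsScalarTower.algebraMap_apply R A (CliffordAlgebra Q') r).symm
        | zero => rw [mul_zero]; exact Submodule.zero_mem _
        | add y z _ _ hy hz => rw [mul_add]; exact Submodule.add_mem _ hy hz
        | smul c y _ hy => rw [mul_smul_comm]; exact Submodule.smul_mem _ _ hy
      | zero => rw [zero_mul]; exact Submodule.zero_mem _
      | add y z _ _ hy hz => rw [add_mul]; exact Submodule.add_mem _ hy hz
      | smul c y _ hy => rw [smul_mul_assoc]; exact Submodule.smul_mem _ _ hy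
    have h1 : (1 : CliffordAlgebra Q') ∈ NJ := by
      rw [← hpq]
      refine Submodule.sum_mem _ fun k _ => hprod _ ?_ _ ?_
      · exact mem_span_ker Q Q' f hf b b' hb (twL Q b σ)
          (fun i e' => e' * ι Q' (b' i) - σ' (ι Q' (b' i)) * e')
          (fun i t => Psi_twL Q Q' f hf b b' hb σ σ' hσ i t)
          (fun i => by rw [hp k, sub_self])
      · exact mem_span_ker Q Q' f hf b b' hb (twR Q b σ)
          (fun i e' => e' * σ' (ι Q' (b' i)) - ι Q' (b' i) * e')
          (fun i t => Psi_twR Q Q' f hf b b' hb σ σ' hσ i t)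
          (fun i => by rw [hq k, sub_self])
    obtain ⟨j, hj, hj1⟩ := h1
    have hj' : j = 1 := hinjA (by rw [map_one]; exact hj1)
    have hJ : J = ⊤ := by
      rw [Ideal.eq_top_iff_one, ← hj']
      exact hj
    have h2 := Ideal.comap_map_eq_self_of_faithfullyFlat (A := R) (B := A)
      (IsLocalRing.maximalIdeal R)
    rw [show Ideal.map (algebraMap R A) (IsLocalRing.maximalIdeal R) = ⊤ from hJ,
      Ideal.comap_top] at h2
    exact (IsLocalRing.maximalIdeal.isMaximal R).ne_top h2.symm
  obtain ⟨x, hx, y, hy, r, hr, hxy1⟩ := hex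
  have hx' := (mem_ker_twL Q b σ x).mp hx
  have hy' := (mem_ker_twR Q b σ y).mp hy
  have hc : y * x ∈ Subalgebra.center R (CliffordAlgebra Q) := by
    rw [Subalgebra.mem_center_iff]
    intro a
    calc a * (y * x) = (a * y) * x := (mul_assoc _ _ _).symm
      _ = (y * σ a) * x := by rw [hy' a]
      _ = y * (σ a * x) := mul_assoc _ _ _
      _ = y * (x * a) := by rw [hx' a]
      _ = y * x * a := (mul_assoc _ _ _).symm
  rw [hZ] at hc
  obtain ⟨r', hr'⟩ := Algebra.mem_bot.mp hc
  have hrr : r' = r := by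
    have h1 : algebraMap R (CliffordAlgebra Q) (r' * r) = algebraMap R _ (r * r) := by
      calc algebraMap R (CliffordAlgebra Q) (r' * r)
          = algebraMap R _ r' * algebraMap R _ r := map_mul _ _ _
        _ = algebraMap R _ r' * (x * y) := by rw [hxy1]
        _ = x * algebraMap R _ r' * y := by rw [← mul_assoc, Algebra.commutes r' x]
        _ = x * (y * x) * y := by rw [hr']
        _ = (x * y) * (x * y) := by simp only [mul_assoc]
        _ = algebraMap R _ r * algebraMap R _ r := by rw [hxy1]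
        _ = algebraMap R _ (r * r) := (map_mul _ _ _).symm
    exact hr.mul_left_injective (hinjR h1)
  obtain ⟨ru, rfl⟩ := hr
  have hu1 : x * ((↑ru⁻¹ : R) • y) = 1 := by
    rw [mul_smul_comm, ← hxy1, Algebra.smul_def, ← map_mul, Units.inv_mul, map_one]
  have hu2 : ((↑ru⁻¹ : R) • y) * x = 1 := by
    rw [smul_mul_assoc, ← hr', hrr, Algebra.smul_def, ← map_mul, Units.inv_mul, map_one]
  refine ⟨⟨x, (↑ru⁻¹ : R) • y, hu1, hu2⟩, fun a => ?_⟩
  show σ a = x * a * ((↑ru⁻¹ : R) • y)
  rw [hx' a, mul_assoc, hu1, mul_one]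

end Abstract

section Main

variable {R : Type u} [CommRing R] {M : Type v} [AddCommGroup M] [Module R M]

/-- The centre of the Clifford algebra of a regular form of even rank is trivial. -/
theorem center_eq_bot_even (m : ℕ) (b : Module.Basis (Fin (2 * m)) R M) (Q : QuadraticForm R M)
    (hQ : Function.Bijective (QuadraticMap.polarBilin Q)) :
    Subalgebra.center R (CliffordAlgebra Q) = ⊥ := by
  obtain ⟨A', instA, algA, hff, hfp, f, b', hf, hb⟩ := exists_split_data_even m b Q hQ
  have hinj : Function.Injective (algebraMap R A') := FaithfulSMul.algebraMap_injective R A'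
  exact center_eq_bot_of_Phi Q (qH A' (Fin m)) f hf b b' hb hinj (center_eq_bot A' (Fin m))

/-- **Skolem–Noether** for the Clifford algebra of a regular form of even rank over a local
ring. -/
theorem skolem_noether [IsLocalRing R] (m : ℕ) (b : Module.Basis (Fin (2 * m)) R M)
    (Q : QuadraticForm R M) (hQ : Function.Bijective (QuadraticMap.polarBilin Q))
    (σ : CliffordAlgebra Q ≃ₐ[R] CliffordAlgebra Q) :
    ∃ u : (CliffordAlgebra Q)ˣ, ∀ a, σ a = ↑u * a * ↑u⁻¹ := by
  obtain ⟨A', instA, algA, hff, hfp, f, b', hf, hb⟩ := exists_split_data_even m b Q hQ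
  have hinj : Function.Injective (algebraMap R A') := FaithfulSMul.algebraMap_injective R A'
  have hZ := center_eq_bot_of_Phi Q (qH A' (Fin m)) f hf b b' hb hinj (center_eq_bot A' (Fin m))
  obtain ⟨P, hP⟩ : ∃ P : A' ⊗[R] CliffordAlgebra Q ≃ₐ[A'] CliffordAlgebra (qH A' (Fin m)),
      P = PsiEquiv Q (qH A' (Fin m)) f hf b b' hb := ⟨_, rfl⟩
  have hP1 : ∀ x, P ((1 : A') ⊗ₜ[R] x) = Phi Q (qH A' (Fin m)) f hf x := by
    intro x
    rw [hP, PsiEquiv_apply, Psi_tmul, one_smul]
  let σ' : CliffordAlgebra (qH A' (Fin m)) →ₐ[A'] CliffordAlgebra (qH A' (Fin m)) :=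
    (P : A' ⊗[R] CliffordAlgebra Q →ₐ[A'] CliffordAlgebra (qH A' (Fin m))).comp
      ((Algebra.TensorProduct.map (AlgHom.id A' A')
        (σ : CliffordAlgebra Q →ₐ[R] CliffordAlgebra Q)).comp
        (P.symm : CliffordAlgebra (qH A' (Fin m)) →ₐ[A'] A' ⊗[R] CliffordAlgebra Q))
  have hσ : ∀ x, σ' (Phi Q (qH A' (Fin m)) f hf x) = Phi Q (qH A' (Fin m)) f hf (σ x) := by
    intro x
    show P (Algebra.TensorProduct.map (AlgHom.id A' A')
      (σ : CliffordAlgebra Q →ₐ[R] CliffordAlgebra Q) (P.symm _)) = _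
    rw [← hP1 x, AlgEquiv.symm_apply_apply, Algebra.TensorProduct.map_tmul, ← hP1]
    rfl
  have hne : Nonempty (Fin (2 ^ m)) := ⟨⟨0, Nat.pos_of_ne_zero (by positivity)⟩⟩
  obtain ⟨p, q, hp, hq, hpq⟩ :=
    exists_families_of_equiv (matEquiv A' (Fin m) m (Fintype.card_fin m)) σ'
  have hinjA : Function.Injective (algebraMap A' (CliffordAlgebra (qH A' (Fin m)))) :=
    algebraMap_injective_of_basis b' _
  exact exists_unit Q (qH A' (Fin m)) f hf b b' hb (σ : CliffordAlgebra Q →ₐ[R] CliffordAlgebra Q)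
    σ' hσ hZ hinjA σ.surjective p q hp hq hpq

end Main

end Groth.Agent.H80.ClSN
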