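import Groth.Agent.H80.ClGSpinOdd
import Groth.Agent.H80.ClSN
import Groth.Agent.H80.ClEvenC
import Groth.Agent.H80.ClOdd

set_option autoImplicit false
set_option linter.unusedSectionVars false

/-!
# Skolem–Noether for the even Clifford algebra in odd rank, and lifting `SO'` to `GSpin`

Over a local ring, a graded automorphism of the Clifford algebra of a semiregular form of odd rank
is, on the even subalgebra, conjugation by an even unit (descent from the split case, where the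
even subalgebra is a matrix algebra).  For the automorphism induced by an isometry of determinant
one the unit induces the isometry itself.
-/

namespace Groth.Agent.H80.ClSNOdd

open CliffordAlgebra TensorProduct Groth.Agent.H80.ClBasic Groth.Agent.H80.ClBC
  Groth.Agent.H80.ClCentre Groth.Agent.H80.ClOddLocal Groth.Agent.H80.ClSN
  Groth.Agent.H80.ClEvenC Groth.Agent.H80.ClOdd Groth.Agent.H80.ClSplit
  Groth.Agent.H80.ClSNApp Groth.Agent.H80.ClDetOddApp Groth.Agent.H80.ClGSpinOdd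

universe u v

section Par

variable {R : Type*} [CommRing R] {M : Type*} [AddCommGroup M] [Module R M]
  (Q : QuadraticForm R M)

theorem map_even_of_ι (τ : CliffordAlgebra Q →ₐ[R] CliffordAlgebra Q) (G : M → M)
    (h : ∀ v, τ (ι Q v) = ι Q (G v)) {a : CliffordAlgebra Q} (ha : a ∈ evenOdd Q 0) :
    τ a ∈ evenOdd Q 0 := by
  induction a, ha using even_induction with
  | algebraMap r =>
    rw [AlgHom.commutes]
    exact SetLike.algebraMap_mem_graded _ _
  | add x y _ _ ihx ihy =>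
    rw [map_add]
    exact Submodule.add_mem _ ihx ihy
  | ι_mul_ι_mul m₁ m₂ x _ ih =>
    rw [map_mul, map_mul, h, h]
    have h1 := mul_mem_evenOdd Q (ι_mem_evenOdd_one Q (G m₁)) (ι_mem_evenOdd_one Q (G m₂))
    have h2 := mul_mem_evenOdd Q h1 ih
    have h3 : (1 : ZMod 2) + 1 + 0 = 0 := by decide
    rwa [h3] at h2

theorem map_odd_of_ι (τ : CliffordAlgebra Q →ₐ[R] CliffordAlgebra Q) (G : M → M)
    (h : ∀ v, τ (ι Q v) = ι Q (G v)) {a : CliffordAlgebra Q} (ha : a ∈ evenOdd Q 1) :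
    τ a ∈ evenOdd Q 1 := by
  induction a, ha using odd_induction with
  | ι v =>
    rw [h]
    exact ι_mem_evenOdd_one Q _
  | add x y _ _ ihx ihy =>
    rw [map_add]
    exact Submodule.add_mem _ ihx ihy
  | ι_mul_ι_mul m₁ m₂ x _ ih =>
    rw [map_mul, map_mul, h, h]
    have h1 := mul_mem_evenOdd Q (ι_mem_evenOdd_one Q (G m₁)) (ι_mem_evenOdd_one Q (G m₂))
    have h2 := mul_mem_evenOdd Q h1 ih
    have h3 : (1 : ZMod 2) + 1 + 1 = 1 := by decide
    rwa [h3] at h2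

end Par

section Tw2

variable {R : Type*} [CommRing R] {M : Type*} [AddCommGroup M] [Module R M]
  (Q : QuadraticForm R M) {ι₀ : Type*} [Fintype ι₀] (b : Module.Basis ι₀ R M)
  (σ : CliffordAlgebra Q →ₐ[R] CliffordAlgebra Q)

/-- Products of two basis vectors. -/
noncomputable def pr (k : ι₀ × ι₀) : CliffordAlgebra Q := ι Q (b k.1) * ι Q (b k.2)

theorem pr_even (k : ι₀ × ι₀) : pr Q b k ∈ evenOdd Q 0 := ι_mul_ι_mem_evenOdd_zero Q _ _

theorem ι_mul_ι_eq_sum (m₁ m₂ : M) :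
    ι Q m₁ * ι Q m₂ = ∑ i, ∑ j, (b.repr m₁ i * b.repr m₂ j) • pr Q b (i, j) := by
  conv_lhs => rw [← b.sum_repr m₁, ← b.sum_repr m₂]
  rw [map_sum, map_sum, Finset.sum_mul]
  refine Finset.sum_congr rfl fun i _ => ?_
  rw [Finset.mul_sum]
  refine Finset.sum_congr rfl fun j _ => ?_
  rw [map_smul, map_smul, smul_mul_smul_comm]
  rfl

/-- The family cutting out the even left intertwiners on the even subalgebra. -/
noncomputable def thL : Option (ι₀ × ι₀) → (CliffordAlgebra Q →ₗ[R] CliffordAlgebra Q)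
  | none => P1 Q
  | some k => LinearMap.mulRight R (pr Q b k) - LinearMap.mulLeft R (σ (pr Q b k))

/-- The family cutting out the even right intertwiners on the even subalgebra. -/
noncomputable def thR : Option (ι₀ × ι₀) → (CliffordAlgebra Q →ₗ[R] CliffordAlgebra Q)
  | none => P1 Q
  | some k => LinearMap.mulRight R (σ (pr Q b k)) - LinearMap.mulLeft R (pr Q b k)

theorem thL_none (x : CliffordAlgebra Q) : thL Q b σ none x = P1 Q x := rfl

theorem thR_none (x : CliffordAlgebra Q) : thR Q b σ none x = P1 Q x := rfl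

theorem thL_some (k : ι₀ × ι₀) (x : CliffordAlgebra Q) :
    thL Q b σ (some k) x = x * pr Q b k - σ (pr Q b k) * x := rfl

theorem thR_some (k : ι₀ × ι₀) (y : CliffordAlgebra Q) :
    thR Q b σ (some k) y = y * σ (pr Q b k) - pr Q b k * y := rfl

theorem twisted_even {x : CliffordAlgebra Q} (h : ∀ k, x * pr Q b k = σ (pr Q b k) * x) :
    ∀ a ∈ evenOdd Q 0, x * a = σ a * x := by
  have hp : ∀ m₁ m₂ : M, x * (ι Q m₁ * ι Q m₂) = σ (ι Q m₁ * ι Q m₂) * x := by
    intro m₁ m₂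
    rw [ι_mul_ι_eq_sum Q b, map_sum, Finset.mul_sum, Finset.sum_mul]
    refine Finset.sum_congr rfl fun i _ => ?_
    rw [map_sum, Finset.mul_sum, Finset.sum_mul]
    refine Finset.sum_congr rfl fun j _ => ?_
    rw [map_smul, mul_smul_comm, smul_mul_assoc, h]
  intro a ha
  induction a, ha using even_induction with
  | algebraMap r => rw [AlgHom.commutes, Algebra.commutes]
  | add a c _ _ iha ihc => rw [mul_add, map_add, add_mul, iha, ihc]
  | ι_mul_ι_mul m₁ m₂ a _ ih =>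
    calc x * (ι Q m₁ * ι Q m₂ * a) = (x * (ι Q m₁ * ι Q m₂)) * a := (mul_assoc _ _ _).symm
      _ = σ (ι Q m₁ * ι Q m₂) * (x * a) := by rw [hp, mul_assoc]
      _ = σ (ι Q m₁ * ι Q m₂) * (σ a * x) := by rw [ih]
      _ = σ (ι Q m₁ * ι Q m₂ * a) * x := by rw [map_mul σ (ι Q m₁ * ι Q m₂) a, mul_assoc]

theorem twisted_even' {y : CliffordAlgebra Q} (h : ∀ k, y * σ (pr Q b k) = pr Q b k * y) :
    ∀ a ∈ evenOdd Q 0, y * σ a = a * y := by
  have hp : ∀ m₁ m₂ : M, y * σ (ι Q m₁ * ι Q m₂) = (ι Q m₁ * ι Q m₂) * y := by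
    intro m₁ m₂
    rw [ι_mul_ι_eq_sum Q b, map_sum, Finset.mul_sum, Finset.sum_mul]
    refine Finset.sum_congr rfl fun i _ => ?_
    rw [map_sum, Finset.mul_sum, Finset.sum_mul]
    refine Finset.sum_congr rfl fun j _ => ?_
    rw [map_smul, mul_smul_comm, smul_mul_assoc, h]
  intro a ha
  induction a, ha using even_induction with
  | algebraMap r => rw [AlgHom.commutes, Algebra.commutes]
  | add a c _ _ iha ihc => rw [map_add, mul_add, add_mul, iha, ihc]
  | ι_mul_ι_mul m₁ m₂ a _ ih =>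
    calc y * σ (ι Q m₁ * ι Q m₂ * a) = (y * σ (ι Q m₁ * ι Q m₂)) * σ a := by
          rw [map_mul σ (ι Q m₁ * ι Q m₂) a, mul_assoc]
      _ = (ι Q m₁ * ι Q m₂) * (y * σ a) := by rw [hp, mul_assoc]
      _ = (ι Q m₁ * ι Q m₂) * (a * y) := by rw [ih]
      _ = ι Q m₁ * ι Q m₂ * a * y := (mul_assoc _ _ _).symm

theorem mem_ker_thL (x : CliffordAlgebra Q) :
    x ∈ LinearMap.ker (LinearMap.pi (thL Q b σ)) ↔
      x ∈ evenOdd Q 0 ∧ ∀ a ∈ evenOdd Q 0, x * a = σ a * x := by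
  rw [LinearMap.mem_ker]
  constructor
  · intro h
    have h0 : P1 Q x = 0 := congrFun h none
    refine ⟨(mem_even_iff_P1 Q x).mpr h0, twisted_even Q b σ fun k => ?_⟩
    have h1 : thL Q b σ (some k) x = 0 := congrFun h (some k)
    rw [thL_some] at h1
    exact sub_eq_zero.mp h1
  · rintro ⟨h0, h⟩
    funext o
    rcases o with _ | k
    · show thL Q b σ none x = 0
      rw [thL_none, P1_even Q h0]
    · show thL Q b σ (some k) x = 0
      rw [thL_some, h _ (pr_even Q b k), sub_self]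

theorem mem_ker_thR (y : CliffordAlgebra Q) :
    y ∈ LinearMap.ker (LinearMap.pi (thR Q b σ)) ↔
      y ∈ evenOdd Q 0 ∧ ∀ a ∈ evenOdd Q 0, y * σ a = a * y := by
  rw [LinearMap.mem_ker]
  constructor
  · intro h
    have h0 : P1 Q y = 0 := congrFun h none
    refine ⟨(mem_even_iff_P1 Q y).mpr h0, twisted_even' Q b σ fun k => ?_⟩
    have h1 : thR Q b σ (some k) y = 0 := congrFun h (some k)
    rw [thR_some] at h1
    exact sub_eq_zero.mp h1
  · rintro ⟨h0, h⟩
    funext o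
    rcases o with _ | k
    · show thR Q b σ none y = 0
      rw [thR_none, P1_even Q h0]
    · show thR Q b σ (some k) y = 0
      rw [thR_some, h _ (pr_even Q b k), sub_self]

end Tw2

section Abstract

variable {R : Type*} [CommRing R] {A : Type*} [CommRing A] [Algebra R A]
  {M : Type*} [AddCommGroup M] [Module R M]
  {N : Type*} [AddCommGroup N] [Module A N] [Module R N] [IsScalarTower R A N]
  (Q : QuadraticForm R M) (Q' : QuadraticForm A N)
  (f : M →ₗ[R] N)
  (hf : ∀ m, Q' (f m) = algebraMap R A (Q m))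
  {ι₀ : Type*} [Fintype ι₀] (b : Module.Basis ι₀ R M)
  (b' : Module.Basis ι₀ A N)
  (hb : ∀ i, f (b i) = b' i)

theorem Phi_P1 (x : CliffordAlgebra Q) :
    Phi Q Q' f hf (P1 Q x) = P1 Q' (Phi Q Q' f hf x) := by
  symm
  apply P1_eq Q' (Phi_even _ _ _ _ (P0_mem Q x)) (Phi_odd _ _ _ _ (P1_mem Q x))
  rw [← map_add, P0_add_P1]

theorem Psi_P1 (t : A ⊗[R] CliffordAlgebra Q) :
    Psi Q Q' f hf ((P1 Q).lTensor A t) = P1 Q' (Psi Q Q' f hf t) := by
  induction t using TensorProduct.induction_on with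
  | zero => rw [map_zero, map_zero, map_zero]
  | tmul a x =>
    rw [LinearMap.lTensor_tmul, Psi_tmul, Psi_tmul, map_smul, Phi_P1]
  | add y z hy hz => rw [map_add, map_add, map_add, map_add, hy, hz]

include hb in
theorem Phi_pr (k : ι₀ × ι₀) : Phi Q Q' f hf (pr Q b k) = pr Q' b' k := by
  unfold pr
  rw [map_mul, Phi_ι, Phi_ι, hb, hb]

variable (σ : CliffordAlgebra Q →ₐ[R] CliffordAlgebra Q)
  (σ' : CliffordAlgebra Q' →ₐ[A] CliffordAlgebra Q')
  (hσ : ∀ x, σ' (Phi Q Q' f hf x) = Phi Q Q' f hf (σ x))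

include hb hσ in
theorem Psi_thL (k : ι₀ × ι₀) (t : A ⊗[R] CliffordAlgebra Q) :
    Psi Q Q' f hf ((thL Q b σ (some k)).lTensor A t) =
      Psi Q Q' f hf t * pr Q' b' k - σ' (pr Q' b' k) * Psi Q Q' f hf t := by
  have hσb : σ' (pr Q' b' k) = Phi Q Q' f hf (σ (pr Q b k)) := by
    rw [← hσ, Phi_pr Q Q' f hf b b' hb]
  induction t using TensorProduct.induction_on with
  | zero => simp
  | tmul a x =>
    rw [LinearMap.lTensor_tmul, Psi_tmul, Psi_tmul, thL_some, map_sub, map_mul, map_mul,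
      Phi_pr Q Q' f hf b b' hb, hσb, smul_sub, smul_mul_assoc, mul_smul_comm]
  | add y z hy hz =>
    rw [map_add, map_add, map_add, hy, hz, add_mul, mul_add]
    abel

include hb hσ in
theorem Psi_thR (k : ι₀ × ι₀) (t : A ⊗[R] CliffordAlgebra Q) :
    Psi Q Q' f hf ((thR Q b σ (some k)).lTensor A t) =
      Psi Q Q' f hf t * σ' (pr Q' b' k) - pr Q' b' k * Psi Q Q' f hf t := by
  have hσb : σ' (pr Q' b' k) = Phi Q Q' f hf (σ (pr Q b k)) := by
    rw [← hσ, Phi_pr Q Q' f hf b b' hb]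
  induction t using TensorProduct.induction_on with
  | zero => simp
  | tmul a x =>
    rw [LinearMap.lTensor_tmul, Psi_tmul, Psi_tmul, thR_some, map_sub, map_mul, map_mul,
      Phi_pr Q Q' f hf b b' hb, hσb, smul_sub, smul_mul_assoc, mul_smul_comm]
  | add y z hy hz =>
    rw [map_add, map_add, map_add, hy, hz, add_mul, mul_add]
    abel

/-- The base-changed left conditions. -/
noncomputable def thL' : Option (ι₀ × ι₀) → CliffordAlgebra Q' → CliffordAlgebra Q'
  | none => fun e' => P1 Q' e'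
  | some k => fun e' => e' * pr Q' b' k - σ' (pr Q' b' k) * e'

/-- The base-changed right conditions. -/
noncomputable def thR' : Option (ι₀ × ι₀) → CliffordAlgebra Q' → CliffordAlgebra Q'
  | none => fun e' => P1 Q' e'
  | some k => fun e' => e' * σ' (pr Q' b' k) - pr Q' b' k * e'

include hb hσ in
/-- Descent: an automorphism which on the even subalgebra becomes "locally inner" after a
faithfully flat base change is, on the even subalgebra, conjugation by an even unit, over a local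
ring. -/
theorem exists_unit_even [IsLocalRing R] [Module.FaithfullyFlat R A]
    (hsc : ∀ z ∈ evenOdd Q 0, (∀ a ∈ evenOdd Q 0, z * a = a * z) →
      z ∈ (algebraMap R (CliffordAlgebra Q)).range)
    (hinjA : Function.Injective (algebraMap A (CliffordAlgebra Q')))
    (hsurj : ∀ a ∈ evenOdd Q 0, ∃ c ∈ evenOdd Q 0, σ c = a)
    {K : Type*} [Fintype K] (p q : K → CliffordAlgebra Q')
    (hpe : ∀ k, p k ∈ evenOdd Q' 0) (hqe : ∀ k, q k ∈ evenOdd Q' 0)
    (hp : ∀ k, ∀ a ∈ evenOdd Q' 0, p k * a = σ' a * p k)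
    (hq : ∀ k, ∀ a ∈ evenOdd Q' 0, q k * σ' a = a * q k)
    (hpq : ∑ k, p k * q k = 1) :
    ∃ u : (CliffordAlgebra Q)ˣ, (u : CliffordAlgebra Q) ∈ evenOdd Q 0 ∧
      ∀ a ∈ evenOdd Q 0, σ a = ↑u * a * ↑u⁻¹ := by
  classical
  have hflat : Module.Flat R A := inferInstance
  have hinjR := algebraMap_injective_of_basis b Q
  have e00 : ∀ {x y : CliffordAlgebra Q}, x ∈ evenOdd Q 0 → y ∈ evenOdd Q 0 →
      x * y ∈ evenOdd Q 0 := fun hx hy => by
    have := mul_mem_evenOdd Q hx hy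
    rwa [add_zero] at this
  -- products are scalars
  have hxy : ∀ x ∈ LinearMap.ker (LinearMap.pi (thL Q b σ)),
      ∀ y ∈ LinearMap.ker (LinearMap.pi (thR Q b σ)),
      ∃ r : R, algebraMap R (CliffordAlgebra Q) r = x * y := by
    intro x hx y hy
    have hx' := (mem_ker_thL Q b σ x).mp hx
    have hy' := (mem_ker_thR Q b σ y).mp hy
    refine hsc _ (e00 hx'.1 hy'.1) ?_
    intro a ha
    obtain ⟨c, hc, rfl⟩ := hsurj a ha
    calc (x * y) * σ c = x * (y * σ c) := mul_assoc _ _ _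
      _ = x * (c * y) := by rw [hy'.2 c hc]
      _ = (x * c) * y := (mul_assoc _ _ _).symm
      _ = (σ c * x) * y := by rw [hx'.2 c hc]
      _ = σ c * (x * y) := mul_assoc _ _ _
  have hex : ∃ x ∈ LinearMap.ker (LinearMap.pi (thL Q b σ)),
      ∃ y ∈ LinearMap.ker (LinearMap.pi (thR Q b σ)),
      ∃ r : R, IsUnit r ∧ algebraMap R (CliffordAlgebra Q) r = x * y := by
    by_contra hcon
    push Not at hcon
    let J : Ideal A := Ideal.map (algebraMap R A) (IsLocalRing.maximalIdeal R)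
    let NJ : Submodule A (CliffordAlgebra Q') :=
      Submodule.map (Algebra.linearMap A (CliffordAlgebra Q')) J
    have hprod : ∀ x' ∈ Submodule.span A ((Phi Q Q' f hf) ''
          (LinearMap.ker (LinearMap.pi (thL Q b σ)) : Set (CliffordAlgebra Q))),
        ∀ y' ∈ Submodule.span A ((Phi Q Q' f hf) ''
          (LinearMap.ker (LinearMap.pi (thR Q b σ)) : Set (CliffordAlgebra Q))),
        x' * y' ∈ NJ := by
      intro x' hx' y' hy'
      induction hx' using Submodule.span_induction with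
      | mem x1 hx1 =>
        obtain ⟨x, hx, rfl⟩ := hx1
        induction hy' using Submodule.span_induction with
        | mem y1 hy1 =>
          obtain ⟨y, hy, rfl⟩ := hy1
          obtain ⟨r, hr⟩ := hxy x hx y hy
          have hnr : ¬ IsUnit r := fun hu => hcon x hx y hy r hu hr
          have hrm : r ∈ IsLocalRing.maximalIdeal R := (IsLocalRing.mem_maximalIdeal r).mpr hnr
          refine ⟨algebraMap R A r, Ideal.mem_map_of_mem _ hrm, ?_⟩
          rw [← map_mul, ← hr, AlgHom.commutes]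
          exact (IsScalarTower.algebraMap_apply R A (CliffordAlgebra Q') r).symm
        | zero => rw [mul_zero]; exact Submodule.zero_mem _
        | add y z _ _ hy hz => rw [mul_add]; exact Submodule.add_mem _ hy hz
        | smul c y _ hy => rw [mul_smul_comm]; exact Submodule.smul_mem _ _ hy
      | zero => rw [zero_mul]; exact Submodule.zero_mem _
      | add y z _ _ hy hz => rw [add_mul]; exact Submodule.add_mem _ hy hz
      | smul c y _ hy => rw [smul_mul_assoc]; exact Submodule.smul_mem _ _ hy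
    have h1 : (1 : CliffordAlgebra Q') ∈ NJ := by
      rw [← hpq]
      refine Submodule.sum_mem _ fun k _ => hprod _ ?_ _ ?_
      · refine mem_span_ker Q Q' f hf b b' hb (thL Q b σ) (thL' Q' b' σ') ?_ ?_
        · intro o t
          rcases o with _ | kk
          · exact Psi_P1 Q Q' f hf t
          · exact Psi_thL Q Q' f hf b b' hb σ σ' hσ kk t
        · intro o
          rcases o with _ | kk
          · exact P1_even Q' (hpe k)
          · show p k * pr Q' b' kk - σ' (pr Q' b' kk) * p k = 0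
            rw [hp k _ (pr_even Q' b' kk), sub_self]
      · refine mem_span_ker Q Q' f hf b b' hb (thR Q b σ) (thR' Q' b' σ') ?_ ?_
        · intro o t
          rcases o with _ | kk
          · exact Psi_P1 Q Q' f hf t
          · exact Psi_thR Q Q' f hf b b' hb σ σ' hσ kk t
        · intro o
          rcases o with _ | kk
          · exact P1_even Q' (hqe k)
          · show q k * σ' (pr Q' b' kk) - pr Q' b' kk * q k = 0
            rw [hq k _ (pr_even Q' b' kk), sub_self]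
    obtain ⟨j, hj, hj1⟩ := h1
    have hj' : j = 1 := hinjA (by rw [map_one]; exact hj1)
    have hJ : J = ⊤ := by
      rw [Ideal.eq_top_iff_one, ← hj']
      exact hj
    have h2 := Ideal.comap_map_eq_self_of_faithfullyFlat (A := R) (B := A)
      (IsLocalRing.maximalIdeal R)
    rw [show Ideal.map (algebraMap R A) (IsLocalRing.maximalIdeal R) = ⊤ from hJ,
      Ideal.comap_top] at h2
    exact (IsLocalRing.maximalIdeal.isMaximal R).ne_top h2.symm
  obtain ⟨x, hx, y, hy, r, hr, hxy1⟩ := hex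
  have hx' := (mem_ker_thL Q b σ x).mp hx
  have hy' := (mem_ker_thR Q b σ y).mp hy
  have hc : y * x ∈ (algebraMap R (CliffordAlgebra Q)).range := by
    refine hsc _ (e00 hy'.1 hx'.1) ?_
    intro a ha
    calc (y * x) * a = y * (x * a) := mul_assoc _ _ _
      _ = y * (σ a * x) := by rw [hx'.2 a ha]
      _ = (y * σ a) * x := (mul_assoc _ _ _).symm
      _ = (a * y) * x := by rw [hy'.2 a ha]
      _ = a * (y * x) := mul_assoc _ _ _
  obtain ⟨r', hr'⟩ := hc
  have hrr : r' = r := by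
    have h1 : algebraMap R (CliffordAlgebra Q) (r' * r) = algebraMap R _ (r * r) := by
      calc algebraMap R (CliffordAlgebra Q) (r' * r)
          = algebraMap R _ r' * algebraMap R _ r := map_mul _ _ _
        _ = algebraMap R _ r' * (x * y) := by rw [hxy1]
        _ = x * algebraMap R _ r' * y := by rw [← mul_assoc, Algebra.commutes r' x]
        _ = x * (y * x) * y := by rw [hr']
        _ = (x * y) * (x * y) := by simp only [mul_assoc]
        _ = algebraMap R _ r * algebraMap R _ r := by rw [hxy1]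
        _ = algebraMap R _ (r * r) := (map_mul _ _ _).symm
    exact hr.mul_left_injective (hinjR h1)
  obtain ⟨ru, rfl⟩ := hr
  have hu1 : x * ((↑ru⁻¹ : R) • y) = 1 := by
    rw [mul_smul_comm, ← hxy1, Algebra.smul_def, ← map_mul, Units.inv_mul, map_one]
  have hu2 : ((↑ru⁻¹ : R) • y) * x = 1 := by
    rw [smul_mul_assoc, ← hr', hrr, Algebra.smul_def, ← map_mul, Units.inv_mul, map_one]
  refine ⟨⟨x, (↑ru⁻¹ : R) • y, hu1, hu2⟩, hx'.1, fun a ha => ?_⟩
  show σ a = x * a * ((↑ru⁻¹ : R) • y)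
  rw [hx'.2 a ha, mul_assoc, hu1, mul_one]

end Abstract

section Main

variable {R : Type u} [CommRing R] {M : Type v} [AddCommGroup M] [Module R M]

/-- Odd rank over a local ring: every isometry of determinant one is induced by an element of the
even Clifford group. -/
theorem exists_gSpin_lift [IsLocalRing R] (m : ℕ) (b : Module.Basis (Fin (2 * m + 1)) R M)
    (Q : QuadraticForm R M) (hQ : QuadGrp.IsSemiregular b (LinearEquiv.refl R R) Q)
    (g : M ≃ₗ[R] M) (hg : g ∈ QuadGrp.SO' Q) :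
    ∃ u ∈ QuadGrp.GSpin Q, ∀ v : M,
      (u : CliffordAlgebra Q) * ι Q v * ↑u⁻¹ = ι Q (g v) := by
  classical
  have hfree : Module.Free R M := Module.Free.of_basis b
  have hgO : g ∈ QuadGrp.O Q := hg.1
  have hdet : LinearEquiv.det g = 1 := hg.2
  have hdet' : LinearMap.det (g : M →ₗ[R] M) = 1 := by
    rw [← LinearEquiv.coe_det, hdet, Units.val_one]
  have hinjR := algebraMap_injective_of_basis b Q
  have hsc0 := (exists_partition m b Q hQ).1
  have e00 : ∀ {x y : CliffordAlgebra Q}, x ∈ evenOdd Q 0 → y ∈ evenOdd Q 0 →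
      x * y ∈ evenOdd Q 0 := fun hx hy => by
    have := mul_mem_evenOdd Q hx hy
    rwa [add_zero] at this
  have e11 : ∀ {x y : CliffordAlgebra Q}, x ∈ evenOdd Q 1 → y ∈ evenOdd Q 1 →
      x * y ∈ evenOdd Q 0 := fun hx hy => by
    have := mul_mem_evenOdd Q hx hy
    rwa [show (1 : ZMod 2) + 1 = 0 from rfl] at this
  -- the odd central unit
  obtain ⟨z₁, hz₁c, hz₁o, hz₁u, hzz, -⟩ := local_centre m b Q hQ
  obtain ⟨Z, hZ⟩ := hz₁u
  have hZc : ∀ x, (Z : CliffordAlgebra Q) * x = x * ↑Z := by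
    intro x
    rw [hZ]
    exact ((Subalgebra.mem_center_iff.mp hz₁c) x).symm
  have hZi : ∀ x, (↑Z⁻¹ : CliffordAlgebra Q) * x = x * ↑Z⁻¹ := by
    intro x
    have h := hZc (↑Z⁻¹ * x * ↑Z⁻¹)
    calc (↑Z⁻¹ : CliffordAlgebra Q) * x = ↑Z⁻¹ * x * (↑Z⁻¹ * ↑Z) := by
          rw [Units.inv_mul, mul_one]
      _ = (↑Z⁻¹ * x * ↑Z⁻¹) * ↑Z := by simp only [mul_assoc]
      _ = ↑Z * (↑Z⁻¹ * x * ↑Z⁻¹) := h.symm
      _ = x * ↑Z⁻¹ := by simp only [← mul_assoc, Units.mul_inv, one_mul]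
  have hZo : (Z : CliffordAlgebra Q) ∈ evenOdd Q 1 := by
    rw [hZ]
    exact hz₁o
  have hZio : (↑Z⁻¹ : CliffordAlgebra Q) ∈ evenOdd Q 1 := by
    have := (QuadGrp.isLocHomog_inv_aux Q Z 0
      (by rw [zero_smul]; exact Submodule.zero_mem _)
      (by rw [sub_zero, one_smul]; exact hZo)).2
    rwa [sub_zero, one_smul] at this
  have hZm : ∀ x y : CliffordAlgebra Q, x * (↑Z * y) = ↑Z * (x * y) := by
    intro x y
    rw [← mul_assoc, ← hZc x, mul_assoc]
  -- the centre of the even subalgebra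
  have hsc : ∀ z ∈ evenOdd Q 0, (∀ a ∈ evenOdd Q 0, z * a = a * z) →
      z ∈ (algebraMap R (CliffordAlgebra Q)).range := by
    intro z hz hcomm
    refine hsc0 z ?_ hz
    apply central_of_comm_ι
    intro v
    have hw : (↑Z⁻¹ : CliffordAlgebra Q) * ι Q v ∈ evenOdd Q 0 :=
      e11 hZio (ι_mem_evenOdd_one Q v)
    have h1 : ι Q v = ↑Z * (↑Z⁻¹ * ι Q v) := by rw [← mul_assoc, Units.mul_inv, one_mul]
    calc z * ι Q v = z * (↑Z * (↑Z⁻¹ * ι Q v)) := by rw [← h1]
      _ = ↑Z * (z * (↑Z⁻¹ * ι Q v)) := hZm _ _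
      _ = ↑Z * ((↑Z⁻¹ * ι Q v) * z) := by rw [hcomm _ hw]
      _ = (↑Z * (↑Z⁻¹ * ι Q v)) * z := (mul_assoc _ _ _).symm
      _ = ι Q v * z := by rw [← h1]
  -- the induced automorphism
  obtain ⟨σ, hσdef⟩ : ∃ σ : CliffordAlgebra Q ≃ₐ[R] CliffordAlgebra Q, σ = sigmaOf Q g hgO :=
    ⟨_, rfl⟩
  have hσι : ∀ v, σ (ι Q v) = ι Q (g v) := by
    intro v
    rw [hσdef, sigmaOf_ι]
  have hσι' : ∀ v, (σ : CliffordAlgebra Q →ₐ[R] CliffordAlgebra Q) (ι Q v) = ι Q (g v) := hσι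
  -- splitting
  obtain ⟨A, instA, algA, hff, hfp, f, b', hf, hb⟩ := exists_split_data' m b Q hQ
  obtain ⟨P, hP⟩ : ∃ P : A ⊗[R] CliffordAlgebra Q ≃ₐ[A] CliffordAlgebra (Qp A (Fin m)),
      P = PsiEquiv Q (Qp A (Fin m)) f hf b b' hb := ⟨_, rfl⟩
  have hP1 : ∀ x, P ((1 : A) ⊗ₜ[R] x) = Phi Q (Qp A (Fin m)) f hf x := by
    intro x
    rw [hP, PsiEquiv_apply, Psi_tmul, one_smul]
  let σ' : CliffordAlgebra (Qp A (Fin m)) →ₐ[A] CliffordAlgebra (Qp A (Fin m)) :=
    (P : A ⊗[R] CliffordAlgebra Q →ₐ[A] CliffordAlgebra (Qp A (Fin m))).comp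
      ((Algebra.TensorProduct.map (AlgHom.id A A)
        (σ : CliffordAlgebra Q →ₐ[R] CliffordAlgebra Q)).comp
        (P.symm : CliffordAlgebra (Qp A (Fin m)) →ₐ[A] A ⊗[R] CliffordAlgebra Q))
  have hσ : ∀ x, σ' (Phi Q (Qp A (Fin m)) f hf x) =
      Phi Q (Qp A (Fin m)) f hf ((σ : CliffordAlgebra Q →ₐ[R] CliffordAlgebra Q) x) := by
    intro x
    show P (Algebra.TensorProduct.map (AlgHom.id A A)
      (σ : CliffordAlgebra Q →ₐ[R] CliffordAlgebra Q) (P.symm _)) = _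
    rw [← hP1 x, AlgEquiv.symm_apply_apply, Algebra.TensorProduct.map_tmul, ← hP1]
    rfl
  let G : ((Fin m ⊕ Fin m → A) × A) →ₗ[A] ((Fin m ⊕ Fin m → A) × A) :=
    b'.constr A (fun i => f (g (b i)))
  have hGb : ∀ i, G (b' i) = f (g (b i)) := fun i => Module.Basis.constr_basis b' A _ i
  have hσ'ι : ∀ x, σ' (ι (Qp A (Fin m)) x) = ι (Qp A (Fin m)) (G x) := by
    have hlin : σ'.toLinearMap.comp (ι (Qp A (Fin m))) = (ι (Qp A (Fin m))).comp G := by
      apply b'.ext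
      intro i
      show σ' (ι (Qp A (Fin m)) (b' i)) = ι (Qp A (Fin m)) (G (b' i))
      rw [hGb, ← hb i, ← Phi_ι Q (Qp A (Fin m)) f hf, hσ, hσι', Phi_ι]
    intro x
    exact LinearMap.congr_fun hlin x
  have hpar' : ∀ a ∈ evenOdd (Qp A (Fin m)) 0, σ' a ∈ evenOdd (Qp A (Fin m)) 0 :=
    fun a ha => map_even_of_ι (Qp A (Fin m)) σ' G hσ'ι ha
  -- the split partition
  let σ₀ : even (Qp A (Fin m)) →ₐ[A] even (Qp A (Fin m)) :=
    (σ'.comp (even (Qp A (Fin m))).val).codRestrict (even (Qp A (Fin m)))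
      (fun a => hpar' a.1 a.2)
  have hne : Nonempty (Fin (2 ^ m)) := ⟨⟨0, Nat.pos_of_ne_zero (by positivity)⟩⟩
  obtain ⟨p₀, q₀, hp₀, hq₀, hpq₀⟩ := exists_families_of_equiv
    ((chainEquiv A (Fin m)).trans (matEquiv A (Fin m) m (Fintype.card_fin m))) σ₀
  have hinjA : Function.Injective (algebraMap A (CliffordAlgebra (Qp A (Fin m)))) :=
    algebraMap_injective_of_basis b' _
  have hsurj : ∀ a ∈ evenOdd Q 0, ∃ c ∈ evenOdd Q 0,
      (σ : CliffordAlgebra Q →ₐ[R] CliffordAlgebra Q) c = a := by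
    intro a ha
    refine ⟨σ.symm a, ?_, σ.apply_symm_apply a⟩
    refine map_even_of_ι Q (σ.symm : CliffordAlgebra Q →ₐ[R] CliffordAlgebra Q)
      (fun v => g.symm v) (fun v => ?_) ha
    show σ.symm (ι Q v) = ι Q (g.symm v)
    rw [AlgEquiv.symm_apply_eq, hσι, LinearEquiv.apply_symm_apply]
  have hp : ∀ k, ∀ a ∈ evenOdd (Qp A (Fin m)) 0,
      (p₀ k : CliffordAlgebra (Qp A (Fin m))) * a = σ' a * (p₀ k : CliffordAlgebra (Qp A (Fin m))) := by
    intro k a ha
    exact congrArg Subtype.val (hp₀ k ⟨a, ha⟩)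
  have hq : ∀ k, ∀ a ∈ evenOdd (Qp A (Fin m)) 0,
      (q₀ k : CliffordAlgebra (Qp A (Fin m))) * σ' a = a * (q₀ k : CliffordAlgebra (Qp A (Fin m))) := by
    intro k a ha
    exact congrArg Subtype.val (hq₀ k ⟨a, ha⟩)
  have hpq : ∑ k, (p₀ k : CliffordAlgebra (Qp A (Fin m))) *
      (q₀ k : CliffordAlgebra (Qp A (Fin m))) = 1 := by
    have h := congrArg (even (Qp A (Fin m))).val hpq₀
    rw [map_sum, map_one] at h
    exact h
  obtain ⟨u₀, hu₀e, hu₀⟩ := exists_unit_even Q (Qp A (Fin m)) f hf b b' hb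
    (σ : CliffordAlgebra Q →ₐ[R] CliffordAlgebra Q) σ' hσ hsc hinjA hsurj
    (fun k => (p₀ k : CliffordAlgebra (Qp A (Fin m))))
    (fun k => (q₀ k : CliffordAlgebra (Qp A (Fin m))))
    (fun k => (p₀ k).2) (fun k => (q₀ k).2) hp hq hpq
  -- the scalar by which the isometry of `u₀` differs from `g`
  have hσodd : ∀ a ∈ evenOdd Q 1, σ a ∈ evenOdd Q 1 :=
    fun a ha => map_odd_of_ι Q (σ : CliffordAlgebra Q →ₐ[R] CliffordAlgebra Q) g hσι' ha
  have hσZi : ∀ y, σ ↑Z⁻¹ * y = y * σ ↑Z⁻¹ := by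
    intro y
    obtain ⟨y', rfl⟩ := σ.surjective y
    rw [← map_mul, ← map_mul, hZi]
  obtain ⟨c, hc⟩ : ∃ c : CliffordAlgebra Q, c = ↑Z * σ ↑Z⁻¹ := ⟨_, rfl⟩
  have hce : c ∈ evenOdd Q 0 := by
    rw [hc]
    exact e11 hZo (hσodd _ hZio)
  have hcc : c ∈ Subalgebra.center R (CliffordAlgebra Q) := by
    rw [Subalgebra.mem_center_iff, hc]
    intro y
    calc y * (↑Z * σ ↑Z⁻¹) = ↑Z * (y * σ ↑Z⁻¹) := hZm _ _
      _ = ↑Z * (σ ↑Z⁻¹ * y) := by rw [hσZi y]
      _ = ↑Z * σ ↑Z⁻¹ * y := (mul_assoc _ _ _).symm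
  obtain ⟨lam, hlam⟩ := hsc0 c hcc hce
  have hlam' : algebraMap R (CliffordAlgebra Q) lam = c := hlam
  have hconj : ∀ v, (u₀ : CliffordAlgebra Q) * ι Q v * ↑u₀⁻¹ =
      ι Q ((lam • (g : M →ₗ[R] M)) v) := by
    intro v
    have hw : (↑Z⁻¹ : CliffordAlgebra Q) * ι Q v ∈ evenOdd Q 0 :=
      e11 hZio (ι_mem_evenOdd_one Q v)
    have h1 : ι Q v = ↑Z * (↑Z⁻¹ * ι Q v) := by rw [← mul_assoc, Units.mul_inv, one_mul]
    have h2 : σ (↑Z⁻¹ * ι Q v) = ↑u₀ * (↑Z⁻¹ * ι Q v) * ↑u₀⁻¹ := hu₀ _ hw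
    calc (u₀ : CliffordAlgebra Q) * ι Q v * ↑u₀⁻¹
        = ↑u₀ * (↑Z * (↑Z⁻¹ * ι Q v)) * ↑u₀⁻¹ := by rw [← h1]
      _ = ↑Z * (↑u₀ * (↑Z⁻¹ * ι Q v) * ↑u₀⁻¹) := by rw [hZm, mul_assoc]
      _ = ↑Z * σ (↑Z⁻¹ * ι Q v) := by rw [h2]
      _ = (↑Z * σ ↑Z⁻¹) * σ (ι Q v) := by rw [map_mul, mul_assoc]
      _ = algebraMap R _ lam * ι Q (g v) := by rw [hlam', hσι, hc]
      _ = ι Q ((lam • (g : M →ₗ[R] M)) v) := by
          rw [LinearMap.smul_apply, map_smul, Algebra.smul_def]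
          rfl
  have hd := det_eq_one_of_conj m b Q hQ u₀ (lam • (g : M →ₗ[R] M)) hconj
  rw [LinearMap.det_smul, hdet', mul_one, Module.finrank_eq_card_basis b, Fintype.card_fin] at hd
  have hZZ : σ (↑Z * ↑Z) = ↑Z * ↑Z := by
    obtain ⟨r, hr⟩ := hzz
    rw [hZ, ← hr, AlgEquiv.commutes]
  have hlam2 : lam * lam = 1 := by
    apply hinjR
    rw [map_mul, map_one, hlam', hc]
    calc (↑Z * σ ↑Z⁻¹) * (↑Z * σ ↑Z⁻¹) = ↑Z * (σ ↑Z⁻¹ * ↑Z) * σ ↑Z⁻¹ := by
          simp only [mul_assoc]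
      _ = ↑Z * (↑Z * σ ↑Z⁻¹) * σ ↑Z⁻¹ := by rw [hσZi]
      _ = (↑Z * ↑Z) * σ (↑Z⁻¹ * ↑Z⁻¹) := by
          rw [map_mul]
          simp only [mul_assoc]
      _ = σ (↑Z * ↑Z) * σ (↑Z⁻¹ * ↑Z⁻¹) := by rw [hZZ]
      _ = σ ((↑Z * ↑Z) * (↑Z⁻¹ * ↑Z⁻¹)) := (map_mul _ _ _).symm
      _ = 1 := by
          rw [mul_assoc, ← mul_assoc (Z : CliffordAlgebra Q) ↑Z⁻¹, Units.mul_inv, one_mul,
            Units.mul_inv, map_one]
  have hlam1 : lam = 1 := by
    rw [pow_succ, pow_mul, pow_two, hlam2, one_pow, one_mul] at hd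
    exact hd
  have hconj' : ∀ v, (u₀ : CliffordAlgebra Q) * ι Q v * ↑u₀⁻¹ = ι Q (g v) := by
    intro v
    rw [hconj v, hlam1, one_smul]
    rfl
  refine ⟨u₀, ⟨⟨mem_GPin'_of_conj Q u₀ g hconj', ?_⟩, hu₀e⟩, hconj'⟩
  refine ⟨1, IsIdempotentElem.one, ?_, ?_⟩
  · rw [one_smul]
    exact hu₀e
  · rw [sub_self, zero_smul]
    exact Submodule.zero_mem _

end Main

end Groth.Agent.H80.ClSNOdd
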