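import Groth.Agent.H80.ClOddLocal

set_option autoImplicit false
set_option linter.unusedSectionVars false
set_option linter.unusedSimpArgs false

universe u v

namespace Groth.Agent.H80.ClStar

open Matrix CliffordAlgebra TensorProduct Groth.Agent.H80.QuadMat Groth.Agent.H80.ClBasic
  Groth.Agent.H80.ClSplit Groth.Agent.H80.ClBC Groth.Agent.H80.ClVol Groth.Agent.H80.ClOdd
  Groth.Agent.H80.ClOddA Groth.Agent.H80.ClCentre Groth.Agent.H80.ClOddC
  Groth.Agent.H80.ClOddMain Groth.Agent.H80.ClOddLocal QuadGrp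

section Ring

theorem pair_rel {C : Type*} [Ring C] (X Y : C) (hXX : X * X = 0) (hYY : Y * Y = 0)
    (hYX : Y * X = 1 - X * Y) :
    (Y * X - X * Y) * X = -(X * (Y * X - X * Y)) ∧ (Y * X - X * Y) * Y = -(Y * (Y * X - X * Y)) ∧
      (Y * X - X * Y) * (Y * X - X * Y) = 1 := by
  have hXX' : ∀ a, X * (X * a) = 0 := fun a => by rw [← mul_assoc, hXX, zero_mul]
  have hYY' : ∀ a, Y * (Y * a) = 0 := fun a => by rw [← mul_assoc, hYY, zero_mul]
  have hYX' : ∀ a, Y * (X * a) = a - X * (Y * a) := fun a => by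
    rw [← mul_assoc, hYX, sub_mul, one_mul, mul_assoc]
  refine ⟨?_, ?_, ?_⟩
  · simp only [sub_mul, mul_sub, mul_assoc, hXX, hXX', hYX, hYX', hYY, hYY', mul_zero, mul_one,
      sub_zero, zero_sub, sub_self, neg_zero, one_mul] <;> abel
  · simp only [sub_mul, mul_sub, mul_assoc, hXX, hXX', hYX, hYX', hYY, hYY', mul_zero, mul_one,
      sub_zero, zero_sub, sub_self, neg_zero, one_mul] <;> abel
  · simp only [sub_mul, mul_sub, mul_assoc, hXX, hXX', hYX, hYX', hYY, hYY', mul_zero, mul_one,
      sub_zero, zero_sub, sub_self, neg_zero, one_mul] <;> abel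

theorem pair_comm {C : Type*} [Ring C] (X Y U : C) (hUX : U * X = -(X * U))
    (hUY : U * Y = -(Y * U)) : U * (Y * X - X * Y) = (Y * X - X * Y) * U := by
  have hUX' : ∀ a, U * (X * a) = -(X * (U * a)) := fun a => by
    rw [← mul_assoc, hUX, neg_mul, mul_assoc]
  have hUY' : ∀ a, U * (Y * a) = -(Y * (U * a)) := fun a => by
    rw [← mul_assoc, hUY, neg_mul, mul_assoc]
  simp only [sub_mul, mul_sub, mul_assoc, hUX, hUX', hUY, hUY', mul_neg, neg_neg]

end Ring

section Pair

variable {R : Type*} [CommRing R] {M : Type*} [AddCommGroup M] [Module R M]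
  (Q : QuadraticForm R M)

/-- The element `yx - xy` attached to a hyperbolic pair. -/
noncomputable def vv (x y : M) : CliffordAlgebra Q := ι Q y * ι Q x - ι Q x * ι Q y

theorem anti_of_polar {u x : M} (h : QuadraticMap.polar Q u x = 0) :
    ι Q u * ι Q x = -(ι Q x * ι Q u) := by
  have h1 := ι_mul_ι_add_swap (Q := Q) u x
  rw [h, map_zero] at h1
  exact eq_neg_of_add_eq_zero_left h1

theorem vv_rel (x y : M) (hx : Q x = 0) (hy : Q y = 0) (hxy : QuadraticMap.polar Q x y = 1) :
    vv Q x y * ι Q x = -(ι Q x * vv Q x y) ∧ vv Q x y * ι Q y = -(ι Q y * vv Q x y) ∧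
      vv Q x y * vv Q x y = 1 :=
  pair_rel (ι Q x) (ι Q y) (by rw [ι_sq_scalar, hx, map_zero]) (by rw [ι_sq_scalar, hy, map_zero])
    (by
      have h := ι_mul_ι_add_swap (Q := Q) x y
      rw [hxy, map_one] at h
      rw [← h]
      abel)

theorem vv_comm (x y u : M) (hux : QuadraticMap.polar Q u x = 0)
    (huy : QuadraticMap.polar Q u y = 0) : ι Q u * vv Q x y = vv Q x y * ι Q u :=
  pair_comm (ι Q x) (ι Q y) (ι Q u) (anti_of_polar Q hux) (anti_of_polar Q huy)

theorem vv_star (x y : M) : star (vv Q x y) = -vv Q x y := by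
  unfold vv
  rw [star_sub, star_mul, star_mul, star_ι, star_ι, neg_mul_neg, neg_mul_neg]
  abel

theorem vv_even (x y : M) : vv Q x y ∈ evenOdd Q 0 :=
  Submodule.sub_mem _ (ι_mul_ι_mem_evenOdd_zero Q y x) (ι_mul_ι_mem_evenOdd_zero Q x y)

/-- Anticommuting with basis vectors suffices. -/
theorem anti_ι_of_basis {ι₀ : Type*} [Fintype ι₀] (b : Module.Basis ι₀ R M)
    {x : CliffordAlgebra Q} (h : ∀ i, x * ι Q (b i) = -(ι Q (b i) * x)) (m : M) :
    x * ι Q m = -(ι Q m * x) := by
  rw [← b.sum_repr m, map_sum, Finset.mul_sum, Finset.sum_mul, ← Finset.sum_neg_distrib]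
  refine Finset.sum_congr rfl fun i _ => ?_
  rw [map_smul, mul_smul_comm, smul_mul_assoc, h i, smul_neg]

/-- `Phi` commutes with the star operations. -/
theorem Phi_star {R' : Type*} [CommRing R'] [Algebra R R']
    {N : Type*} [AddCommGroup N] [Module R' N] [Module R N] [IsScalarTower R R' N]
    (Q' : QuadraticForm R' N) (f : M →ₗ[R] N) (hf : ∀ m, Q' (f m) = algebraMap R R' (Q m))
    (x : CliffordAlgebra Q) : Phi Q Q' f hf (star x) = star (Phi Q Q' f hf x) := by
  induction x using CliffordAlgebra.induction with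
  | algebraMap r =>
    rw [star_algebraMap, AlgHom.commutes, IsScalarTower.algebraMap_apply R R' (CliffordAlgebra Q'),
      star_algebraMap]
  | ι m => rw [star_ι, map_neg, Phi_ι, star_ι]
  | mul a b ha hb => rw [star_mul, map_mul, map_mul, star_mul, ha, hb]
  | add a b ha hb => rw [star_add, map_add, map_add, star_add, ha, hb]

end Pair

section Hyp

variable (R : Type*) [CommRing R] (J : Type*) [Fintype J] [DecidableEq J]

theorem polar_qH (u w : J ⊕ J → R) : QuadraticMap.polar (qH R J) u w =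
    ∑ j, (u (Sum.inl j) * w (Sum.inr j) + w (Sum.inl j) * u (Sum.inr j)) := by
  simp only [QuadraticMap.polar, qH_apply, Pi.add_apply]
  rw [← Finset.sum_sub_distrib, ← Finset.sum_sub_distrib]
  exact Finset.sum_congr rfl fun j _ => by ring

/-- The standard basis vectors. -/
def sv (κ : J ⊕ J) : J ⊕ J → R := Pi.single κ 1

theorem polar_sv_inl (u : J ⊕ J → R) (k : J) :
    QuadraticMap.polar (qH R J) u (sv R J (Sum.inl k)) = u (Sum.inr k) := by
  rw [polar_qH]
  simp [sv, Pi.single_apply]

theorem polar_sv_inr (u : J ⊕ J → R) (k : J) :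
    QuadraticMap.polar (qH R J) u (sv R J (Sum.inr k)) = u (Sum.inl k) := by
  rw [polar_qH]
  simp [sv, Pi.single_apply]

theorem qH_sv (κ : J ⊕ J) : qH R J (sv R J κ) = 0 := by
  rw [qH_apply]
  apply Finset.sum_eq_zero
  intro j _
  rcases κ with k | k
  · simp [sv, Pi.single_apply]
  · simp [sv, Pi.single_apply]

/-- The `j`-th factor of the volume element. -/
noncomputable def vj (j : J) : CliffordAlgebra (qH R J) :=
  vv (qH R J) (sv R J (Sum.inl j)) (sv R J (Sum.inr j))

/-- The index of a basis vector. -/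
def idx (κ : J ⊕ J) : J := Sum.elim id id κ

theorem vj_comm (j : J) (u : J ⊕ J → R) (h1 : u (Sum.inl j) = 0) (h2 : u (Sum.inr j) = 0) :
    ι (qH R J) u * vj R J j = vj R J j * ι (qH R J) u :=
  vv_comm (qH R J) _ _ u (by rw [polar_sv_inl, h2]) (by rw [polar_sv_inr, h1])

theorem vj_comm_sv (j : J) (κ : J ⊕ J) (h : idx J κ ≠ j) :
    ι (qH R J) (sv R J κ) * vj R J j = vj R J j * ι (qH R J) (sv R J κ) := by
  apply vj_comm
  · rcases κ with k | k
    · have : k ≠ j := h
      simp [sv, Pi.single_apply, this.symm]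
    · simp [sv, Pi.single_apply]
  · rcases κ with k | k
    · simp [sv, Pi.single_apply]
    · have : k ≠ j := h
      simp [sv, Pi.single_apply, this.symm]

theorem vj_rel (j : J) :
    vj R J j * ι (qH R J) (sv R J (Sum.inl j)) = -(ι (qH R J) (sv R J (Sum.inl j)) * vj R J j) ∧
    vj R J j * ι (qH R J) (sv R J (Sum.inr j)) = -(ι (qH R J) (sv R J (Sum.inr j)) * vj R J j) ∧
      vj R J j * vj R J j = 1 :=
  vv_rel (qH R J) _ _ (qH_sv R J _) (qH_sv R J _) (by
    rw [polar_sv_inr]
    simp [sv])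

theorem vj_anti_sv (κ : J ⊕ J) :
    vj R J (idx J κ) * ι (qH R J) (sv R J κ) = -(ι (qH R J) (sv R J κ) * vj R J (idx J κ)) := by
  rcases κ with k | k
  · exact (vj_rel R J k).1
  · exact (vj_rel R J k).2.1

theorem vj_commute (i j : J) : Commute (vj R J i) (vj R J j) := by
  by_cases h : i = j
  · rw [h]
  · have h1 : Commute (vj R J i) (ι (qH R J) (sv R J (Sum.inl j))) :=
      (vj_comm_sv R J i (Sum.inl j) (fun h' => h h'.symm)).symm
    have h2 : Commute (vj R J i) (ι (qH R J) (sv R J (Sum.inr j))) :=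
      (vj_comm_sv R J i (Sum.inr j) (fun h' => h h'.symm)).symm
    exact (h2.mul_right h1).sub_right (h1.mul_right h2)

/-- The product of the `vj` over a list. -/
noncomputable def Vl (l : List J) : CliffordAlgebra (qH R J) := (l.map (vj R J)).prod

theorem Vl_cons (j : J) (l : List J) : Vl R J (j :: l) = vj R J j * Vl R J l := by
  unfold Vl
  rw [List.map_cons, List.prod_cons]

theorem Vl_commute_vj (j : J) (l : List J) : Commute (vj R J j) (Vl R J l) := by
  apply Commute.list_prod_right
  intro x hx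
  obtain ⟨i, _, rfl⟩ := List.mem_map.mp hx
  exact vj_commute R J j i

theorem Vl_comm_sv (κ : J ⊕ J) (l : List J) (h : idx J κ ∉ l) :
    Commute (ι (qH R J) (sv R J κ)) (Vl R J l) := by
  apply Commute.list_prod_right
  intro x hx
  obtain ⟨i, hi, rfl⟩ := List.mem_map.mp hx
  exact vj_comm_sv R J i κ (fun h' => h (h' ▸ hi))

theorem Vl_anti_sv (κ : J ⊕ J) : ∀ (l : List J), l.Nodup → idx J κ ∈ l →
    Vl R J l * ι (qH R J) (sv R J κ) = -(ι (qH R J) (sv R J κ) * Vl R J l) := by
  intro l
  induction l with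
  | nil => intro _ h; simp at h
  | cons j l ih =>
    intro hnd hmem
    rw [List.nodup_cons] at hnd
    rw [Vl_cons]
    by_cases hj : idx J κ = j
    · have h1 : idx J κ ∉ l := hj ▸ hnd.1
      have h2 := (Vl_comm_sv R J κ l h1).eq
      have h3 := vj_anti_sv R J κ
      rw [hj] at h3
      rw [mul_assoc, ← h2, ← mul_assoc, h3, neg_mul, mul_assoc]
    · have h1 : idx J κ ∈ l := by
        rcases List.mem_cons.mp hmem with h | h
        · exact absurd h hj
        · exact h
      have h2 := ih hnd.2 h1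
      have h3 := vj_comm_sv R J j κ hj
      rw [mul_assoc, h2, mul_neg, ← mul_assoc, ← h3, mul_assoc]

theorem Vl_star (l : List J) : star (Vl R J l) = ((-1 : R) ^ l.length) • Vl R J l := by
  induction l with
  | nil =>
    unfold Vl
    simp
  | cons j l ih =>
    rw [Vl_cons, star_mul, ih, List.length_cons, pow_succ]
    unfold vj
    rw [vv_star]
    have h := (Vl_commute_vj R J j l).eq
    unfold vj at h
    rw [smul_mul_assoc, mul_neg, ← h, mul_smul, neg_one_smul, smul_neg]

theorem Vl_sq (l : List J) : Vl R J l * Vl R J l = 1 := by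
  induction l with
  | nil =>
    unfold Vl
    simp
  | cons j l ih =>
    rw [Vl_cons]
    have h := (Vl_commute_vj R J j l).eq
    calc vj R J j * Vl R J l * (vj R J j * Vl R J l)
        = vj R J j * (Vl R J l * vj R J j) * Vl R J l := by simp only [mul_assoc]
      _ = vj R J j * (vj R J j * Vl R J l) * Vl R J l := by rw [h]
      _ = (vj R J j * vj R J j) * (Vl R J l * Vl R J l) := by simp only [mul_assoc]
      _ = 1 := by rw [(vj_rel R J j).2.2, ih, one_mul]

theorem Vl_even (l : List J) : Vl R J l ∈ evenOdd (qH R J) 0 := by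
  induction l with
  | nil =>
    unfold Vl
    simp only [List.map_nil, List.prod_nil]
    exact SetLike.one_mem_graded _
  | cons j l ih =>
    rw [Vl_cons]
    exact even_mul_even _ (vv_even _ _ _) ih

/-- The explicit volume element. -/
noncomputable def V : CliffordAlgebra (qH R J) := Vl R J (Finset.univ : Finset J).toList

theorem V_anti (u : J ⊕ J → R) : V R J * ι (qH R J) u = -(ι (qH R J) u * V R J) := by
  apply anti_ι_of_basis (qH R J) (Pi.basisFun R (J ⊕ J))
  intro κ
  rw [Pi.basisFun_apply]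
  exact Vl_anti_sv R J κ _ (Finset.nodup_toList _) (by simp)

theorem V_star : star (V R J) = ((-1 : R) ^ Fintype.card J) • V R J := by
  unfold V
  rw [Vl_star, Finset.length_toList, Finset.card_univ]

theorem V_sq : V R J * V R J = 1 := Vl_sq R J _

theorem V_even : V R J ∈ evenOdd (qH R J) 0 := Vl_even R J _

end Hyp

section Vol

variable (R : Type*) [CommRing R] (J : Type*) [Fintype J] [LinearOrder J]

theorem vol_eq_smul_V : ∃ c : R, vol R J = c • V R J := by
  have h1 : vol R J * V R J ∈ Subalgebra.center R (CliffordAlgebra (qH R J)) := by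
    apply central_of_comm_ι
    intro u
    rw [mul_assoc, V_anti, mul_neg, ← mul_assoc, vol_mul_ι, neg_mul, neg_neg, mul_assoc]
  rw [center_eq_bot] at h1
  obtain ⟨c, hc⟩ := Algebra.mem_bot.mp h1
  refine ⟨c, ?_⟩
  have h2 : vol R J = vol R J * V R J * V R J := by rw [mul_assoc, V_sq, mul_one]
  rw [h2, ← hc, Algebra.smul_def]

theorem vol_star : star (vol R J) = ((-1 : R) ^ Fintype.card J) • vol R J := by
  obtain ⟨c, hc⟩ := vol_eq_smul_V R J
  rw [hc, CliffordAlgebra.star_smul, V_star, smul_comm]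

theorem zc_star : star (zc R J) = ((-1 : R) ^ (Fintype.card J + 1)) • zc R J := by
  unfold zc jmap
  rw [star_mul, ← Phi_star, vol_star, map_smul]
  have h1 : star (e1 R J) = -e1 R J := by
    unfold e1
    rw [star_ι]
  have h2 := e1_comm_even R J (vol_even R J)
  unfold jmap at h2
  rw [h1, mul_smul_comm, neg_mul, h2, pow_succ, mul_smul, neg_one_smul, smul_neg]

end Vol

section Abstract

variable {R : Type*} [CommRing R] {A : Type*} [CommRing A] [Algebra R A]
  {M : Type*} [AddCommGroup M] [Module R M]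
  (J : Type*) [Fintype J] [LinearOrder J]
  (Q : QuadraticForm R M)
  (f : M →ₗ[R] ((J ⊕ J → A) × A))
  (hf : ∀ m, Qp A J (f m) = algebraMap R A (Q m))
  {ι₀ : Type*} [Fintype ι₀] (b : Module.Basis ι₀ R M)
  (b' : Module.Basis ι₀ A ((J ⊕ J → A) × A))
  (hb : ∀ i, f (b i) = b' i)

include b b' hb in
theorem Phi_injective [Module.FaithfullyFlat R A] :
    Function.Injective (Phi Q (Qp A J) f hf) := by
  intro x y hxy
  apply Module.FaithfullyFlat.tensorProduct_mk_injective (A := R) (B := A) (CliffordAlgebra Q)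
  apply (PsiEquiv Q (Qp A J) f hf b b' hb).injective
  show Psi Q (Qp A J) f hf ((1 : A) ⊗ₜ[R] x) = Psi Q (Qp A J) f hf ((1 : A) ⊗ₜ[R] y)
  rw [Psi_tmul, Psi_tmul, hxy]

/-- An odd central element of the model is a multiple of `zc`. -/
theorem odd_central_model {w : CliffordAlgebra (Qp A J)}
    (hc : w ∈ Subalgebra.center A (CliffordAlgebra (Qp A J))) (ho : w ∈ evenOdd (Qp A J) 1) :
    ∃ a : A, w = a • zc A J := by
  obtain ⟨a, ha⟩ := even_central_scalar A J (Subalgebra.mul_mem _ hc (zc_central A J))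
    (odd_mul_odd _ ho (zc_odd A J))
  have ha' : algebraMap A (CliffordAlgebra (Qp A J)) a = w * zc A J := ha
  refine ⟨a, ?_⟩
  have h2 : w = w * zc A J * zc A J := by rw [mul_assoc, zc_mul_self, mul_one]
  rw [h2, ← ha', Algebra.smul_def]

include J f hf b b' hb in
/-- The star operation on odd central elements. -/
theorem star_odd_central [Module.FaithfullyFlat R A] {z : CliffordAlgebra Q}
    (hz : z ∈ Subalgebra.center R (CliffordAlgebra Q)) (ho : z ∈ evenOdd Q 1) :
    star z = ((-1 : R) ^ (Fintype.card J + 1)) • z := by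
  apply Phi_injective J Q f hf b b' hb
  obtain ⟨a, ha⟩ := odd_central_model J (Phi_central J Q f hf b b' hb hz)
    (Phi_odd Q (Qp A J) f hf ho)
  have e : ∀ w : CliffordAlgebra (Qp A J), ((-1 : R) ^ (Fintype.card J + 1)) • w =
      ((-1 : A) ^ (Fintype.card J + 1)) • w := by
    intro w
    rw [← algebraMap_smul A ((-1 : R) ^ (Fintype.card J + 1)) w, map_pow, map_neg, map_one]
  rw [Phi_star, map_smul, ha, CliffordAlgebra.star_smul, zc_star, smul_comm, e]

end Abstract

/-- S16992. -/
theorem main {R : Type u} [CommRing R] {M : Type v} [AddCommGroup M] [Module R M]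
    (m : ℕ) (b : Module.Basis (Fin (2 * m + 1)) R M) (Q : QuadraticForm R M)
    (hQ : QuadGrp.IsSemiregular b (LinearEquiv.refl R R) Q)
    (z : CliffordAlgebra Q) (hz : z ∈ Subalgebra.center R (CliffordAlgebra Q))
    (hz1 : z ∈ CliffordAlgebra.evenOdd Q 1) :
    star z = ((-1 : R) ^ (m + 1)) • z := by
  obtain ⟨A, instA, algA, hff, hfp, f, b', hf, hb⟩ := exists_split_data' m b Q hQ
  have h := star_odd_central (Fin m) Q f hf b b' hb hz hz1
  rwa [Fintype.card_fin] at h

end Groth.Agent.H80.ClStar
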