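import Groth.Agent.H80.ClSplit
import Groth.Agent.H80.ClBC

set_option autoImplicit false
set_option linter.unusedSectionVars false

namespace Groth.Agent.H80.ClVol

open CliffordAlgebra Groth.Agent.H80.QuadMat Groth.Agent.H80.ClBasic Groth.Agent.H80.ClSplit

section Parity

variable {R : Type*} [CommRing R] {M : Type*} [AddCommGroup M] [Module R M]
  (Q : QuadraticForm R M)

theorem contractLeft_ι_mul_ι_mul (d : Module.Dual R M) (m₁ m₂ : M) (x : CliffordAlgebra Q) :
    contractLeft d (ι Q m₁ * ι Q m₂ * x) =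
      d m₁ • (ι Q m₂ * x) - d m₂ • (ι Q m₁ * x) + ι Q m₁ * ι Q m₂ * contractLeft d x := by
  rw [mul_assoc, contractLeft_ι_mul, contractLeft_ι_mul, mul_sub, mul_smul_comm, mul_assoc]
  abel

theorem contractLeft_even (d : Module.Dual R M) {x : CliffordAlgebra Q} (hx : x ∈ evenOdd Q 0) :
    contractLeft d x ∈ evenOdd Q 1 := by
  induction x, hx using even_induction with
  | algebraMap r =>
    rw [contractLeft_algebraMap]
    exact Submodule.zero_mem _
  | add x y _ _ ihx ihy =>
    rw [map_add]
    exact Submodule.add_mem _ ihx ihy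
  | ι_mul_ι_mul m₁ m₂ x hx ih =>
    rw [contractLeft_ι_mul_ι_mul]
    have h1 : ι Q m₂ * x ∈ evenOdd Q 1 := by
      have := mul_mem_evenOdd Q (ι_mem_evenOdd_one Q m₂) hx
      simpa using this
    have h2 : ι Q m₁ * x ∈ evenOdd Q 1 := by
      have := mul_mem_evenOdd Q (ι_mem_evenOdd_one Q m₁) hx
      simpa using this
    have h3 : ι Q m₁ * ι Q m₂ * contractLeft d x ∈ evenOdd Q 1 := by
      have := mul_mem_evenOdd Q (ι_mul_ι_mem_evenOdd_zero Q m₁ m₂) ih
      simpa using this
    exact Submodule.add_mem _ (Submodule.sub_mem _ (Submodule.smul_mem _ _ h1)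
      (Submodule.smul_mem _ _ h2)) h3

theorem contractLeft_odd (d : Module.Dual R M) {x : CliffordAlgebra Q} (hx : x ∈ evenOdd Q 1) :
    contractLeft d x ∈ evenOdd Q 0 := by
  induction x, hx using odd_induction with
  | ι v =>
    rw [contractLeft_ι]
    exact SetLike.algebraMap_mem_graded _ _
  | add x y _ _ ihx ihy =>
    rw [map_add]
    exact Submodule.add_mem _ ihx ihy
  | ι_mul_ι_mul m₁ m₂ x hx ih =>
    rw [contractLeft_ι_mul_ι_mul]
    have h11 : (1 : ZMod 2) + 1 = 0 := by decide
    have h1 : ι Q m₂ * x ∈ evenOdd Q 0 := by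
      have := mul_mem_evenOdd Q (ι_mem_evenOdd_one Q m₂) hx
      rwa [h11] at this
    have h2 : ι Q m₁ * x ∈ evenOdd Q 0 := by
      have := mul_mem_evenOdd Q (ι_mem_evenOdd_one Q m₁) hx
      rwa [h11] at this
    have h3 : ι Q m₁ * ι Q m₂ * contractLeft d x ∈ evenOdd Q 0 := by
      have := mul_mem_evenOdd Q (ι_mul_ι_mem_evenOdd_zero Q m₁ m₂) ih
      simpa using this
    exact Submodule.add_mem _ (Submodule.sub_mem _ (Submodule.smul_mem _ _ h1)
      (Submodule.smul_mem _ _ h2)) h3

end Parity

section Vol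

variable (R : Type*) [CommRing R] (J : Type*) [Fintype J] [LinearOrder J]

/-- `gen u` reverses parity. -/
theorem gen_even (u : J ⊕ J → R) {x : Ext R J}
    (hx : x ∈ evenOdd (0 : QuadraticForm R (J → R)) 0) :
    gen R J u x ∈ evenOdd (0 : QuadraticForm R (J → R)) 1 := by
  rw [gen_apply]
  refine Submodule.add_mem _ ?_ (contractLeft_even _ _ hx)
  have := mul_mem_evenOdd (0 : QuadraticForm R (J → R))
    (ι_mem_evenOdd_one (0 : QuadraticForm R (J → R)) (u ∘ Sum.inl)) hx
  simpa using this

theorem gen_odd (u : J ⊕ J → R) {x : Ext R J}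
    (hx : x ∈ evenOdd (0 : QuadraticForm R (J → R)) 1) :
    gen R J u x ∈ evenOdd (0 : QuadraticForm R (J → R)) 0 := by
  rw [gen_apply]
  refine Submodule.add_mem _ ?_ (contractLeft_odd _ _ hx)
  have := mul_mem_evenOdd (0 : QuadraticForm R (J → R))
    (ι_mem_evenOdd_one (0 : QuadraticForm R (J → R)) (u ∘ Sum.inl)) hx
  have h11 : (1 : ZMod 2) + 1 = 0 := by decide
  rwa [h11] at this

/-- Even elements of the Clifford algebra preserve parity, odd ones reverse it. -/
theorem rho_even_parity {y : CliffordAlgebra (qH R J)} (hy : y ∈ evenOdd (qH R J) 0) :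
    (∀ x ∈ evenOdd (0 : QuadraticForm R (J → R)) 0,
      rho R J y x ∈ evenOdd (0 : QuadraticForm R (J → R)) 0) ∧
    (∀ x ∈ evenOdd (0 : QuadraticForm R (J → R)) 1,
      rho R J y x ∈ evenOdd (0 : QuadraticForm R (J → R)) 1) := by
  induction y, hy using even_induction with
  | algebraMap r =>
    constructor
    · intro x hx
      rw [AlgHom.commutes, Module.algebraMap_end_apply]
      exact Submodule.smul_mem _ _ hx
    · intro x hx
      rw [AlgHom.commutes, Module.algebraMap_end_apply]
      exact Submodule.smul_mem _ _ hx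
  | add a b _ _ iha ihb =>
    constructor
    · intro x hx
      rw [map_add, LinearMap.add_apply]
      exact Submodule.add_mem _ (iha.1 x hx) (ihb.1 x hx)
    · intro x hx
      rw [map_add, LinearMap.add_apply]
      exact Submodule.add_mem _ (iha.2 x hx) (ihb.2 x hx)
  | ι_mul_ι_mul m₁ m₂ a _ ih =>
    constructor
    · intro x hx
      rw [map_mul, map_mul, rho_ι, rho_ι, Module.End.mul_apply, Module.End.mul_apply]
      exact gen_odd R J m₁ (gen_even R J m₂ (ih.1 x hx))
    · intro x hx
      rw [map_mul, map_mul, rho_ι, rho_ι, Module.End.mul_apply, Module.End.mul_apply]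
      exact gen_even R J m₁ (gen_odd R J m₂ (ih.2 x hx))

theorem rho_odd_parity {y : CliffordAlgebra (qH R J)} (hy : y ∈ evenOdd (qH R J) 1) :
    (∀ x ∈ evenOdd (0 : QuadraticForm R (J → R)) 0,
      rho R J y x ∈ evenOdd (0 : QuadraticForm R (J → R)) 1) ∧
    (∀ x ∈ evenOdd (0 : QuadraticForm R (J → R)) 1,
      rho R J y x ∈ evenOdd (0 : QuadraticForm R (J → R)) 0) := by
  induction y, hy using odd_induction with
  | ι v =>
    constructor
    · intro x hx
      rw [rho_ι]
      exact gen_even R J v hx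
    · intro x hx
      rw [rho_ι]
      exact gen_odd R J v hx
  | add a b _ _ iha ihb =>
    constructor
    · intro x hx
      rw [map_add, LinearMap.add_apply]
      exact Submodule.add_mem _ (iha.1 x hx) (ihb.1 x hx)
    · intro x hx
      rw [map_add, LinearMap.add_apply]
      exact Submodule.add_mem _ (iha.2 x hx) (ihb.2 x hx)
  | ι_mul_ι_mul m₁ m₂ a _ ih =>
    constructor
    · intro x hx
      rw [map_mul, map_mul, rho_ι, rho_ι, Module.End.mul_apply, Module.End.mul_apply]
      exact gen_even R J m₁ (gen_odd R J m₂ (ih.1 x hx))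
    · intro x hx
      rw [map_mul, map_mul, rho_ι, rho_ι, Module.End.mul_apply, Module.End.mul_apply]
      exact gen_odd R J m₁ (gen_even R J m₂ (ih.2 x hx))

/-- The parity operator on the exterior algebra. -/
noncomputable def epsOp : Module.End R (Ext R J) :=
  (involute (Q := (0 : QuadraticForm R (J → R)))).toLinearMap

theorem epsOp_even {x : Ext R J} (hx : x ∈ evenOdd (0 : QuadraticForm R (J → R)) 0) :
    epsOp R J x = x := involute_eq_of_mem_even hx

theorem epsOp_odd {x : Ext R J} (hx : x ∈ evenOdd (0 : QuadraticForm R (J → R)) 1) :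
    epsOp R J x = -x := involute_eq_of_mem_odd hx

theorem epsOp_mul_self : epsOp R J * epsOp R J = 1 := by
  refine LinearMap.ext fun x => ?_
  exact involute_involute x

theorem epsOp_gen (u : J ⊕ J → R) : epsOp R J * gen R J u = -(gen R J u * epsOp R J) := by
  refine LinearMap.ext fun x => ?_
  obtain ⟨x₀, h₀, x₁, h₁, rfl⟩ := exists_even_odd (0 : QuadraticForm R (J → R)) x
  rw [Module.End.mul_apply, LinearMap.neg_apply, Module.End.mul_apply, map_add, map_add,
    map_add, map_add, epsOp_even R J h₀, epsOp_odd R J h₁, epsOp_odd R J (gen_even R J u h₀),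
    epsOp_even R J (gen_odd R J u h₁), map_neg]
  abel

/-- The volume element of the Clifford algebra of the hyperbolic form. -/
noncomputable def vol : CliffordAlgebra (qH R J) := (rhoEquiv R J).symm (epsOp R J)

theorem rho_vol : rho R J (vol R J) = epsOp R J := by
  have := (rhoEquiv R J).apply_symm_apply (epsOp R J)
  exact this

theorem vol_mul_self : vol R J * vol R J = 1 := by
  apply (rhoEquiv R J).injective
  rw [map_mul, map_one]
  show rho R J (vol R J) * rho R J (vol R J) = 1
  rw [rho_vol, epsOp_mul_self]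

theorem vol_mul_ι (u : J ⊕ J → R) :
    vol R J * ι (qH R J) u = -(ι (qH R J) u * vol R J) := by
  apply (rhoEquiv R J).injective
  rw [map_mul, map_neg, map_mul]
  show rho R J (vol R J) * rho R J (ι (qH R J) u) = -(rho R J (ι (qH R J) u) * rho R J (vol R J))
  rw [rho_vol, rho_ι, epsOp_gen]

theorem vol_even : vol R J ∈ evenOdd (qH R J) 0 := by
  obtain ⟨y₀, h₀, y₁, h₁, hy⟩ := exists_even_odd (qH R J) (vol R J)
  have hzero : rho R J y₁ = 0 := by
    refine LinearMap.ext fun x => ?_
    obtain ⟨x₀, hx₀, x₁, hx₁, rfl⟩ := exists_even_odd (0 : QuadraticForm R (J → R)) x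
    have key : ∀ x, rho R J y₁ x = epsOp R J x - rho R J y₀ x := by
      intro x
      rw [← rho_vol, hy, map_add, LinearMap.add_apply]
      abel
    have e0 : rho R J y₁ x₀ = 0 := by
      apply even_inter_odd (0 : QuadraticForm R (J → R))
      · rw [key, epsOp_even R J hx₀]
        exact Submodule.sub_mem _ hx₀ ((rho_even_parity R J h₀).1 x₀ hx₀)
      · exact (rho_odd_parity R J h₁).1 x₀ hx₀
    have e1 : rho R J y₁ x₁ = 0 := by
      apply even_inter_odd (0 : QuadraticForm R (J → R))
      · exact (rho_odd_parity R J h₁).2 x₁ hx₁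
      · rw [key, epsOp_odd R J hx₁]
        exact Submodule.sub_mem _ (Submodule.neg_mem _ hx₁) ((rho_even_parity R J h₀).2 x₁ hx₁)
    rw [map_add, e0, e1, add_zero, LinearMap.zero_apply]
  have hy1 : y₁ = 0 := by
    apply (rhoEquiv R J).injective
    rw [map_zero]
    exact hzero
  rw [hy, hy1, add_zero]
  exact h₀

end Vol

end Groth.Agent.H80.ClVol
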