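import Mathlib

set_option autoImplicit false

namespace Groth.Agent.H80.DiagSym3
open TensorProduct

universe u v
variable (k : Type u) [Field k] (A : Type v) [CommRing A] [Algebra k A]

/-- swap of the first two factors of `A ⊗ (A ⊗ A)` -/
noncomputable def s12 : A ⊗[k] (A ⊗[k] A) ≃ₐ[k] A ⊗[k] (A ⊗[k] A) :=
  Algebra.TensorProduct.leftComm k A A A

/-- swap of the last two factors of `A ⊗ (A ⊗ A)` -/
noncomputable def s23 : A ⊗[k] (A ⊗[k] A) ≃ₐ[k] A ⊗[k] (A ⊗[k] A) :=
  Algebra.TensorProduct.congr (AlgEquiv.refl : A ≃ₐ[k] A) (Algebra.TensorProduct.comm k A A)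

noncomputable def L : A →ₐ[k] A ⊗[k] A := Algebra.TensorProduct.includeLeft
noncomputable def R : A →ₐ[k] A ⊗[k] A := Algebra.TensorProduct.includeRight
noncomputable def mm : A ⊗[k] A →ₐ[k] A := Algebra.TensorProduct.lmul' k

noncomputable def r12 : A ⊗[k] (A ⊗[k] A) →ₐ[k] A ⊗[k] A :=
  Algebra.TensorProduct.productMap (L k A) (AlgHom.id k (A ⊗[k] A))

noncomputable def r23 : A ⊗[k] (A ⊗[k] A) →ₐ[k] A ⊗[k] A :=
  Algebra.TensorProduct.productMap (R k A) ((L k A).comp (mm k A))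

noncomputable def i1 : A →ₐ[k] A ⊗[k] (A ⊗[k] A) := Algebra.TensorProduct.includeLeft
noncomputable def i2 : A →ₐ[k] A ⊗[k] (A ⊗[k] A) :=
  (Algebra.TensorProduct.includeRight : A ⊗[k] A →ₐ[k] A ⊗[k] (A ⊗[k] A)).comp (L k A)
noncomputable def i3 : A →ₐ[k] A ⊗[k] (A ⊗[k] A) :=
  (Algebra.TensorProduct.includeRight : A ⊗[k] A →ₐ[k] A ⊗[k] (A ⊗[k] A)).comp (R k A)

/-- `a ⊗ b ↦ a • d b` as a `k`-linear map. -/
noncomputable def th : A ⊗[k] A →ₗ[k] Ω[A⁄k] :=
  (KaehlerDifferential.D k A).tensorProductTo.restrictScalars k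

variable {k A}

lemma L_apply (a : A) : L k A a = a ⊗ₜ[k] (1 : A) := rfl
lemma R_apply (a : A) : R k A a = (1 : A) ⊗ₜ[k] a := rfl
lemma mm_tmul (a b : A) : mm k A (a ⊗ₜ[k] b) = a * b :=
  Algebra.TensorProduct.lmul'_apply_tmul a b
lemma tmul_eq (a b : A) : a ⊗ₜ[k] b = L k A a * R k A b := by
  rw [L_apply, R_apply, Algebra.TensorProduct.tmul_mul_tmul, mul_one, one_mul]
lemma i1_apply (a : A) : i1 k A a = a ⊗ₜ[k] ((1 : A) ⊗ₜ[k] (1 : A)) := rfl
lemma i2_apply (a : A) : i2 k A a = (1 : A) ⊗ₜ[k] (a ⊗ₜ[k] (1 : A)) := rfl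
lemma i3_apply (a : A) : i3 k A a = (1 : A) ⊗ₜ[k] ((1 : A) ⊗ₜ[k] a) := rfl

lemma s12_tmul (a b c : A) :
    s12 k A (a ⊗ₜ[k] (b ⊗ₜ[k] c)) = b ⊗ₜ[k] (a ⊗ₜ[k] c) := by
  simp [s12]

lemma s23_tmul (a b c : A) :
    s23 k A (a ⊗ₜ[k] (b ⊗ₜ[k] c)) = a ⊗ₜ[k] (c ⊗ₜ[k] b) := by
  simp [s23]

lemma r12_tmul (a b c : A) : r12 k A (a ⊗ₜ[k] (b ⊗ₜ[k] c)) = (a * b) ⊗ₜ[k] c := by
  rw [r12, Algebra.TensorProduct.productMap_apply_tmul, L_apply, AlgHom.id_apply,
    Algebra.TensorProduct.tmul_mul_tmul, one_mul]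

lemma r23_tmul (a b c : A) : r23 k A (a ⊗ₜ[k] (b ⊗ₜ[k] c)) = (b * c) ⊗ₜ[k] a := by
  rw [r23, Algebra.TensorProduct.productMap_apply_tmul, R_apply, AlgHom.comp_apply, mm_tmul,
    L_apply, Algebra.TensorProduct.tmul_mul_tmul, one_mul, mul_one]

@[simp] lemma s12_i1 (a : A) : s12 k A (i1 k A a) = i2 k A a := by
  rw [i1_apply, s12_tmul, i2_apply]
@[simp] lemma s12_i2 (a : A) : s12 k A (i2 k A a) = i1 k A a := by
  rw [i2_apply, s12_tmul, i1_apply]
@[simp] lemma s12_i3 (a : A) : s12 k A (i3 k A a) = i3 k A a := by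
  rw [i3_apply, s12_tmul]
@[simp] lemma s23_i1 (a : A) : s23 k A (i1 k A a) = i1 k A a := by
  rw [i1_apply, s23_tmul]
@[simp] lemma s23_i2 (a : A) : s23 k A (i2 k A a) = i3 k A a := by
  rw [i2_apply, s23_tmul, i3_apply]
@[simp] lemma s23_i3 (a : A) : s23 k A (i3 k A a) = i2 k A a := by
  rw [i3_apply, s23_tmul, i2_apply]
@[simp] lemma r12_i1 (a : A) : r12 k A (i1 k A a) = L k A a := by
  rw [i1_apply, r12_tmul, mul_one, L_apply]
@[simp] lemma r12_i2 (a : A) : r12 k A (i2 k A a) = L k A a := by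
  rw [i2_apply, r12_tmul, one_mul, L_apply]
@[simp] lemma r12_i3 (a : A) : r12 k A (i3 k A a) = R k A a := by
  rw [i3_apply, r12_tmul, one_mul, R_apply]
@[simp] lemma r23_i1 (a : A) : r23 k A (i1 k A a) = R k A a := by
  rw [i1_apply, r23_tmul, one_mul, R_apply]
@[simp] lemma r23_i2 (a : A) : r23 k A (i2 k A a) = L k A a := by
  rw [i2_apply, r23_tmul, mul_one, L_apply]
@[simp] lemma r23_i3 (a : A) : r23 k A (i3 k A a) = L k A a := by
  rw [i3_apply, r23_tmul, one_mul, L_apply]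
@[simp] lemma mm_L (a : A) : mm k A (L k A a) = a := by rw [L_apply, mm_tmul, mul_one]
@[simp] lemma mm_R (a : A) : mm k A (R k A a) = a := by rw [R_apply, mm_tmul, one_mul]

lemma lin_ext3 {M : Type*} [AddCommGroup M] [Module k M]
    (f g : A ⊗[k] (A ⊗[k] A) →ₗ[k] M)
    (h : ∀ a b c : A, f (a ⊗ₜ[k] (b ⊗ₜ[k] c)) = g (a ⊗ₜ[k] (b ⊗ₜ[k] c))) : f = g := by
  apply TensorProduct.ext'
  intro a t
  induction t using TensorProduct.induction_on with
  | zero => simp
  | tmul b c => exact h a b c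
  | add t1 t2 h1 h2 => rw [TensorProduct.tmul_add, map_add, map_add, h1, h2]

lemma mm_r12_eq_mm_r23 (x : A ⊗[k] (A ⊗[k] A)) :
    mm k A (r12 k A x) = mm k A (r23 k A x) := by
  have := lin_ext3 (((mm k A).comp (r12 k A)).toLinearMap)
    (((mm k A).comp (r23 k A)).toLinearMap) (fun a b c => by
      show mm k A (r12 k A _) = mm k A (r23 k A _)
      rw [r12_tmul, r23_tmul, mm_tmul, mm_tmul]; ring)
  exact LinearMap.congr_fun this x

lemma leftComm_eq (x : A ⊗[k] (A ⊗[k] A)) : TensorProduct.leftComm k A A A x = s12 k A x := by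
  have := lin_ext3 ((TensorProduct.leftComm k A A A).toLinearMap) ((s12 k A).toLinearMap)
    (fun a b c => by
      show TensorProduct.leftComm k A A A _ = s12 k A _
      rw [s12_tmul, TensorProduct.leftComm_tmul])
  exact LinearMap.congr_fun this x

lemma lTensor_comm_eq (x : A ⊗[k] (A ⊗[k] A)) :
    LinearMap.lTensor A (TensorProduct.comm k A A).toLinearMap x = s23 k A x := by
  have := lin_ext3 (LinearMap.lTensor A (TensorProduct.comm k A A).toLinearMap)
    ((s23 k A).toLinearMap)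
    (fun a b c => by
      show LinearMap.lTensor A (TensorProduct.comm k A A).toLinearMap _ = s23 k A _
      rw [s23_tmul, LinearMap.lTensor_tmul]
      rfl)
  exact LinearMap.congr_fun this x

lemma mul'_eq (t : A ⊗[k] A) : LinearMap.mul' k A t = mm k A t := by
  induction t using TensorProduct.induction_on with
  | zero => simp
  | tmul a b => simp [mm_tmul]
  | add t1 t2 h1 h2 => simp only [map_add, h1, h2]

lemma th_tmul (a b : A) : th k A (a ⊗ₜ[k] b) = a • KaehlerDifferential.D k A b := rfl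

lemma th_L (a : A) : th k A (L k A a) = 0 := by
  rw [L_apply, th_tmul, Derivation.map_one_eq_zero, smul_zero]

lemma th_add_th_comm (y : A ⊗[k] A) :
    th k A y + th k A (TensorProduct.comm k A A y) = KaehlerDifferential.D k A (mm k A y) := by
  induction y using TensorProduct.induction_on with
  | zero => simp
  | tmul a b => rw [TensorProduct.comm_tmul, th_tmul, th_tmul, mm_tmul, Derivation.leibniz]
  | add y1 y2 h1 h2 =>
    simp only [map_add]
    rw [← h1, ← h2]; abel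

lemma mem_ideal_iff (y : A ⊗[k] A) : y ∈ KaehlerDifferential.ideal k A ↔ mm k A y = 0 :=
  RingHom.mem_ker

lemma th_eq_zero_iff {y : A ⊗[k] A} (hy : y ∈ KaehlerDifferential.ideal k A) :
    th k A y = 0 ↔ y ∈ (KaehlerDifferential.ideal k A) ^ 2 := by
  have h1 : th k A y = (KaehlerDifferential.ideal k A).toCotangent ⟨y, hy⟩ :=
    KaehlerDifferential.D_tensorProductTo (R := k) (S := A) ⟨y, hy⟩
  rw [h1]
  exact Ideal.toCotangent_eq_zero _ ⟨y, hy⟩

lemma I2_induction (P : A ⊗[k] A → Prop) (h0 : P 0) (hadd : ∀ x y, P x → P y → P (x + y))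
    (hgen : ∀ c c' a b : A,
      P (L k A c * R k A c' * ((R k A a - L k A a) * (R k A b - L k A b))))
    (y : A ⊗[k] A) (hy : y ∈ (KaehlerDifferential.ideal k A) ^ 2) : P y := by
  have key : ∀ (a b : A) (h : A ⊗[k] A),
      P (h * ((R k A a - L k A a) * (R k A b - L k A b))) := by
    intro a b h
    induction h using TensorProduct.induction_on with
    | zero => rw [zero_mul]; exact h0
    | tmul c c' => rw [tmul_eq]; exact hgen c c' a b
    | add h1 h2 e1 e2 => rw [add_mul]; exact hadd _ _ e1 e2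
  rw [pow_two, ← KaehlerDifferential.span_range_eq_ideal k A, Ideal.span_mul_span'] at hy
  have main : ∀ h : A ⊗[k] A, P (h * y) := by
    induction hy using Submodule.span_induction with
    | mem y hy =>
      obtain ⟨u, ⟨a, rfl⟩, v, ⟨b, rfl⟩, rfl⟩ := Set.mem_mul.mp hy
      intro h
      exact key a b h
    | zero => intro h; rw [mul_zero]; exact h0
    | add x y _ _ hx hy => intro h; rw [mul_add]; exact hadd _ _ (hx h) (hy h)
    | smul r x _ hx => intro h; rw [smul_eq_mul, ← mul_assoc]; exact hx (h * r)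
  simpa using main 1

/-- every element of `I²` is the restriction to the diagonal `{1 = 2}` of a fully symmetric tensor -/
lemma exists_sym3_of_mem_sq [CharZero k] (y : A ⊗[k] A)
    (hy : y ∈ (KaehlerDifferential.ideal k A) ^ 2) :
    ∃ x, s12 k A x = x ∧ s23 k A x = x ∧ r12 k A x = y := by
  refine I2_induction (P := fun y => ∃ x, s12 k A x = x ∧ s23 k A x = x ∧ r12 k A x = y)
    ⟨0, by simp⟩ ?_ ?_ y hy
  · rintro y1 y2 ⟨x1, a1, b1, c1⟩ ⟨x2, a2, b2, c2⟩
    exact ⟨x1 + x2, by rw [map_add, a1, a2], by rw [map_add, b1, b2], by rw [map_add, c1, c2]⟩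
  · intro c c' a b
    have hz : ∃ z, s12 k A z = z ∧ s23 k A z = z ∧
        r12 k A z = (2 : k) • (L k A c * R k A c' * ((R k A a - L k A a) * (R k A b - L k A b))) := by
      refine ⟨(i1 k A a - i2 k A a) * (i1 k A b - i2 k A b) * i3 k A c * (i1 k A c' + i2 k A c')
        + (i1 k A a - i3 k A a) * (i1 k A b - i3 k A b) * i2 k A c * (i1 k A c' + i3 k A c')
        + (i2 k A a - i3 k A a) * (i2 k A b - i3 k A b) * i1 k A c * (i2 k A c' + i3 k A c')
        - ((i1 k A a - i2 k A a) * (i1 k A b - i2 k A b) * i3 k A (c * c')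
          + (i1 k A a - i3 k A a) * (i1 k A b - i3 k A b) * i2 k A (c * c')
          + (i2 k A a - i3 k A a) * (i2 k A b - i3 k A b) * i1 k A (c * c')), ?_, ?_, ?_⟩
      · simp only [map_sub, map_add, map_mul, s12_i1, s12_i2, s12_i3]; ring
      · simp only [map_sub, map_add, map_mul, s23_i1, s23_i2, s23_i3]; ring
      · simp only [map_sub, map_add, map_mul, r12_i1, r12_i2, r12_i3]
        rw [Algebra.smul_def, map_ofNat]; ring
    obtain ⟨z, hz12, hz23, hzr⟩ := hz
    refine ⟨(2 : k)⁻¹ • z, by rw [map_smul, hz12], by rw [map_smul, hz23], ?_⟩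
    rw [map_smul, hzr, smul_smul, inv_mul_cancel₀ two_ne_zero, one_smul]

/-- `r12` restricted to tensors invariant under the swap of the last two factors is surjective -/
lemma exists_sym23_r12 (p : A ⊗[k] A) : ∃ x, s23 k A x = x ∧ r12 k A x = p := by
  induction p using TensorProduct.induction_on with
  | zero => exact ⟨0, by simp⟩
  | tmul a u =>
    refine ⟨i1 k A a * (i2 k A u + i3 k A u - i1 k A u), ?_, ?_⟩
    · simp only [map_sub, map_add, map_mul, s23_i1, s23_i2, s23_i3]; ring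
    · simp only [map_sub, map_add, map_mul, r12_i1, r12_i2, r12_i3]
      rw [tmul_eq]; ring
  | add p1 p2 h1 h2 =>
    obtain ⟨x1, a1, b1⟩ := h1
    obtain ⟨x2, a2, b2⟩ := h2
    exact ⟨x1 + x2, by rw [map_add, a1, a2], by rw [map_add, b1, b2]⟩

/-- every element of `I²` is `r23 x` for an `x` invariant under the swap of the last two factors and
killed by `r12` -/
lemma exists_sym23_of_mem_sq [CharZero k] (y : A ⊗[k] A)
    (hy : y ∈ (KaehlerDifferential.ideal k A) ^ 2) :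
    ∃ x, s23 k A x = x ∧ r12 k A x = 0 ∧ r23 k A x = y := by
  refine I2_induction (P := fun y => ∃ x, s23 k A x = x ∧ r12 k A x = 0 ∧ r23 k A x = y)
    ⟨0, by simp⟩ ?_ ?_ y hy
  · rintro y1 y2 ⟨x1, a1, b1, c1⟩ ⟨x2, a2, b2, c2⟩
    exact ⟨x1 + x2, by rw [map_add, a1, a2], by rw [map_add, b1, b2, add_zero],
      by rw [map_add, c1, c2]⟩
  · intro c c' a b
    have hz : ∃ z, s23 k A z = z ∧ r12 k A z = 0 ∧
        r23 k A z = (4 : k) • (L k A c * R k A c' * ((R k A a - L k A a) * (R k A b - L k A b))) := by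
      refine ⟨((i1 k A a - i2 k A a) * (i1 k A b - i3 k A b)
          + (i1 k A a - i3 k A a) * (i1 k A b - i2 k A b)) * (i2 k A c + i3 k A c) * i1 k A c',
        ?_, ?_, ?_⟩
      · simp only [map_sub, map_add, map_mul, s23_i1, s23_i2, s23_i3]; ring
      · simp only [map_sub, map_add, map_mul, r12_i1, r12_i2, r12_i3]; ring
      · simp only [map_sub, map_add, map_mul, r23_i1, r23_i2, r23_i3]
        rw [Algebra.smul_def, map_ofNat]; ring
    obtain ⟨z, hz23, hz12, hzr⟩ := hz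
    refine ⟨(4 : k)⁻¹ • z, by rw [map_smul, hz23], by rw [map_smul, hz12, smul_zero], ?_⟩
    rw [map_smul, hzr, smul_smul, inv_mul_cancel₀ (by norm_num : (4 : k) ≠ 0), one_smul]

end Groth.Agent.H80.DiagSym3
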