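import Mathlib

set_option autoImplicit false

/-!
# Krull dimension of quotients: positivity criteria, and completions
-/

namespace Groth.Agent.H80.DimQuot

universe u

open IsLocalRing

theorem one_le_dim_quot_iff {R : Type u} [CommRing R] (J : Ideal R) :
    1 ≤ ringKrullDim (R ⧸ J) ↔ ∃ P Q : PrimeSpectrum R, J ≤ P.asIdeal ∧ P < Q := by
  rw [ringKrullDim_quotient, Order.one_le_krullDim_iff]
  constructor
  · rintro ⟨x, y, hxy⟩
    refine ⟨x.1, y.1, ?_, hxy⟩
    have := x.2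
    rwa [PrimeSpectrum.mem_zeroLocus, SetLike.coe_subset_coe] at this
  · rintro ⟨P, Q, hJP, hPQ⟩
    refine ⟨⟨P, ?_⟩, ⟨Q, ?_⟩, hPQ⟩
    · rw [PrimeSpectrum.mem_zeroLocus, SetLike.coe_subset_coe]
      exact hJP
    · rw [PrimeSpectrum.mem_zeroLocus, SetLike.coe_subset_coe]
      exact hJP.trans hPQ.le

theorem one_le_dim_quot_map {A : Type u} [CommRing A] [IsLocalRing A] [IsNoetherianRing A]
    (I : Ideal A) (hI : 1 ≤ ringKrullDim (A ⧸ I)) :
    1 ≤ ringKrullDim (AdicCompletion (maximalIdeal A) A ⧸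
      (I.map (algebraMap A (AdicCompletion (maximalIdeal A) A)))) := by
  obtain ⟨P, Q, hIP, hPQ⟩ := (one_le_dim_quot_iff I).mp hI
  haveI : Module.FaithfullyFlat A (AdicCompletion (maximalIdeal A) A) :=
    Module.FaithfullyFlat.of_flat_of_isLocalHom
  obtain ⟨P', hP'⟩ := PrimeSpectrum.comap_surjective_of_faithfullyFlat
    (B := AdicCompletion (maximalIdeal A) A) P
  rw [one_le_dim_quot_iff]
  refine ⟨P', closedPoint _, ?_, ?_⟩
  · rw [Ideal.map_le_iff_le_comap]
    have : P.asIdeal = P'.asIdeal.comap (algebraMap A (AdicCompletion (maximalIdeal A) A)) := by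
      rw [← hP']
      rfl
    rw [← this]
    exact hIP
  · rw [lt_iff_le_and_ne]
    refine ⟨le_maximalIdeal P'.2.ne_top, ?_⟩
    intro h
    have h1 : P = closedPoint A := by
      rw [← hP', h]
      exact comap_closedPoint (algebraMap A (AdicCompletion (maximalIdeal A) A))
    have h2 : Q ≤ closedPoint A := le_maximalIdeal Q.2.ne_top
    rw [h1] at hPQ
    exact absurd hPQ (not_lt_of_ge h2)

theorem exists_nat_ringKrullDim (R : Type u) [CommRing R] [IsLocalRing R] [IsNoetherianRing R] :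
    ∃ n : ℕ, ringKrullDim R = (n : WithBot ℕ∞) := by
  have h1 : ringKrullDim R ≠ ⊥ :=
    ne_of_gt (lt_of_lt_of_le (WithBot.bot_lt_coe (0 : ℕ∞)) ringKrullDim_nonneg_of_nontrivial)
  obtain ⟨e, he⟩ := WithBot.ne_bot_iff_exists.1 h1
  have h2 : ringKrullDim R < ⊤ := ringKrullDim_lt_top
  rw [← he] at h2 ⊢
  have h3 : e ≠ ⊤ := by
    rintro rfl
    exact lt_irrefl _ h2
  obtain ⟨d, rfl⟩ := ENat.ne_top_iff_exists.1 h3
  exact ⟨d, rfl⟩

end Groth.Agent.H80.DimQuot
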