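import Mathlib
import Groth.Prelude.Def_Exal2

/-!
# A uniform Artin–Rees bound for extensions of a Noetherian local ring by a module killed by the
maximal ideal
-/

set_option autoImplicit false
universe u

namespace Groth.Agent.H80.ExalAR

open IsLocalRing

section Aux
variable {Λ : Type u} [CommRing Λ] {R : Type u} [CommRing R] [Algebra Λ R] [IsLocalRing R]
  {L : Type u} [AddCommGroup L] [Module R L]
  (hL : ∀ r ∈ maximalIdeal R, ∀ z : L, r • z = 0)
  (X : Exal.Ext Λ R L)

include hL in
lemma mul_incl_eq_zero {x : X.E} (hx : X.proj x ∈ maximalIdeal R) (z : L) :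
    x * X.incl z = 0 := by
  rw [X.isExtension.mul_incl, hL _ hx, map_zero]

variable (s : Finset R) (hs : Ideal.span (s : Set R) = maximalIdeal R)
  (e : s → X.E) (he : ∀ i, X.proj (e i) = i)

include hs in
lemma mem_max (i : s) : (i : R) ∈ maximalIdeal R := by
  rw [← hs]; exact Ideal.subset_span i.2

/-- The linear form `a ↦ ∑ aᵢ xᵢ`. -/
noncomputable abbrev lin : (s → R) →ₗ[R] R := Fintype.linearCombination R (fun i : s => (i : R))

include hL hs he in
lemma sum_eq_zero_of_mem (w : s → R)
    (hw : w ∈ maximalIdeal R • LinearMap.ker (lin s)) :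
    ∀ a : s → X.E, (∀ i, X.proj (a i) = w i) → ∑ i, a i * e i = 0 := by
  refine Submodule.smul_induction_on
    (p := fun w => ∀ a : s → X.E, (∀ i, X.proj (a i) = w i) → ∑ i, a i * e i = 0) hw ?_ ?_
  · intro μ hμ z hz a ha
    obtain ⟨μ', hμ'⟩ := X.isExtension.proj_surjective μ
    choose b hb using fun i => X.isExtension.proj_surjective (z i)
    have hker : ∀ i, ∃ y, X.incl y = a i - μ' * b i := by
      intro i
      have h0 : X.proj (a i - μ' * b i) = 0 := by
        rw [map_sub, map_mul, ha, hμ', hb, Pi.smul_apply, smul_eq_mul, sub_self]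
      exact (X.isExtension.exact _).mp h0
    choose y hy using hker
    have h1 : X.proj (∑ i, b i * e i) = 0 := by
      rw [map_sum]
      have h2 := LinearMap.mem_ker.mp hz
      rw [Fintype.linearCombination_apply] at h2
      rw [← h2]
      refine Finset.sum_congr rfl fun i _ => ?_
      rw [map_mul, hb, he, smul_eq_mul]
    obtain ⟨y0, hy0⟩ := (X.isExtension.exact _).mp h1
    have h3 : ∀ i, a i * e i = μ' * (b i * e i) + e i * X.incl (y i) := by
      intro i
      rw [hy i]; ring
    have h4 : ∀ i, e i * X.incl (y i) = 0 := fun i =>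
      mul_incl_eq_zero hL X (by rw [he]; exact mem_max s hs i) _
    simp only [h3, h4, add_zero]
    rw [← Finset.mul_sum, ← hy0]
    exact mul_incl_eq_zero hL X (by rw [hμ']; exact hμ) _
  · intro w1 w2 ih1 ih2 a ha
    choose b hb using fun i => X.isExtension.proj_surjective (w1 i)
    have h1 := ih1 b hb
    have h2 := ih2 (fun i => a i - b i) (fun i => by
      rw [map_sub, ha, hb, Pi.add_apply, add_sub_cancel_left])
    have h3 : ∀ i, a i * e i = b i * e i + (a i - b i) * e i := fun i => by ring
    simp only [h3]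
    rw [Finset.sum_add_distrib, h1, h2, add_zero]

include hL hs he in
lemma exists_sum_of_mem_pow (n : ℕ) (hn : 1 ≤ n) (x : X.E)
    (hx : x ∈ (Ideal.comap X.proj (maximalIdeal R)) ^ (n + 1)) :
    ∃ a : s → X.E, (∀ i, a i ∈ (Ideal.comap X.proj (maximalIdeal R)) ^ n) ∧
      x = ∑ i, a i * e i := by
  rw [pow_succ] at hx
  refine Submodule.mul_induction_on hx ?_ ?_
  · intro u hu v hv
    have hv' : X.proj v ∈ Ideal.span (s : Set R) := by rw [hs]; exact hv
    obtain ⟨f, hf⟩ := Submodule.mem_span_finset'.mp hv'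
    choose b hb using fun i => X.isExtension.proj_surjective (f i)
    have h0 : X.proj (v - ∑ i, b i * e i) = 0 := by
      rw [map_sub, map_sum, ← hf, sub_eq_zero]
      refine Finset.sum_congr rfl fun i _ => ?_
      rw [map_mul, hb, he, smul_eq_mul]
    obtain ⟨y, hy⟩ := (X.isExtension.exact _).mp h0
    have hu' : X.proj u ∈ maximalIdeal R := by
      have h : u ∈ Ideal.comap X.proj (maximalIdeal R) := Ideal.pow_le_self (by omega) hu
      exact h
    refine ⟨fun i => u * b i, fun i => Ideal.mul_mem_right _ _ hu, ?_⟩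
    have h1 : v = ∑ i, b i * e i + X.incl y := by rw [hy]; ring
    rw [h1, mul_add, mul_incl_eq_zero hL X hu', add_zero, Finset.mul_sum]
    refine Finset.sum_congr rfl fun i _ => ?_
    ring
  · rintro x1 x2 ⟨a1, ha1, h1⟩ ⟨a2, ha2, h2⟩
    refine ⟨fun i => a1 i + a2 i, fun i => add_mem (ha1 i) (ha2 i), ?_⟩
    rw [h1, h2, ← Finset.sum_add_distrib]
    refine Finset.sum_congr rfl fun i _ => ?_
    ring

end Aux

theorem main {Λ : Type u} [CommRing Λ] {R : Type u} [CommRing R] [Algebra Λ R] [IsLocalRing R]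
    [IsNoetherianRing R] {L : Type u} [AddCommGroup L] [Module R L]
    (hL : ∀ r ∈ maximalIdeal R, ∀ z : L, r • z = 0) :
    ∃ n : ℕ, ∀ X : Exal.Ext Λ R L,
      (∀ x ∈ (Ideal.comap X.proj (maximalIdeal R)) ^ (n + 1), X.proj x = 0 → x = 0) ∧
        Ideal.map X.proj ((Ideal.comap X.proj (maximalIdeal R)) ^ (n + 1)) =
          maximalIdeal R ^ (n + 1) := by
  classical
  obtain ⟨s, hs⟩ := (isNoetherianRing_iff_ideal_fg R).mp inferInstance (maximalIdeal R)
  obtain ⟨c, hc⟩ := Ideal.exists_pow_inf_eq_pow_smul (maximalIdeal R) (LinearMap.ker (lin s))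
  refine ⟨c + 1, fun X => ⟨?_, ?_⟩⟩
  · intro x hx hx0
    choose e he using fun i : s => X.isExtension.proj_surjective (i : R)
    obtain ⟨a, ha, rfl⟩ := exists_sum_of_mem_pow hL X s hs e he (c + 1) (by omega) x hx
    apply sum_eq_zero_of_mem hL X s hs e he (fun i => X.proj (a i)) ?_ a (fun i => rfl)
    have hw1 : (fun i => X.proj (a i)) ∈
        (maximalIdeal R ^ (c + 1) • ⊤ : Submodule R (s → R)) := by
      have h0 : (fun i => X.proj (a i)) = ∑ j, X.proj (a j) • (Pi.single j 1 : s → R) := by
        ext i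
        simp [Finset.sum_apply, Pi.single_apply]
      rw [h0]
      refine Submodule.sum_mem _ fun j _ => Submodule.smul_mem_smul ?_ Submodule.mem_top
      have h1 : X.proj (a j) ∈
          Ideal.map X.proj ((Ideal.comap X.proj (maximalIdeal R)) ^ (c + 1)) :=
        Ideal.mem_map_of_mem _ (ha j)
      rw [Ideal.map_pow] at h1
      exact Ideal.pow_right_mono Ideal.map_comap_le _ h1
    have hw2 : (fun i => X.proj (a i)) ∈ LinearMap.ker (lin s) := by
      rw [LinearMap.mem_ker, Fintype.linearCombination_apply]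
      rw [map_sum] at hx0
      rw [← hx0]
      refine Finset.sum_congr rfl fun i _ => ?_
      rw [map_mul, he, smul_eq_mul]
    have h3 := hc (c + 1) (by omega)
    have h4 : (fun i => X.proj (a i)) ∈ maximalIdeal R ^ (c + 1 - c) •
        (maximalIdeal R ^ c • ⊤ ⊓ LinearMap.ker (lin s)) := by
      rw [← h3]; exact ⟨hw1, hw2⟩
    have h5 : c + 1 - c = 1 := by omega
    rw [h5, pow_one] at h4
    exact Submodule.smul_mono le_rfl inf_le_right h4
  · rw [Ideal.map_pow, Ideal.map_comap_of_surjective _ X.isExtension.proj_surjective]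


end Groth.Agent.H80.ExalAR
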