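import Mathlib
import Groth.Prelude.Def_Exal

set_option autoImplicit false
universe u

namespace Groth.Agent.H80.ExalArt

open MvPolynomial

section Poly
variable {k : Type*} [Field k] {σ : Type*}

lemma degree_lt_two (x : σ →₀ ℕ) (hx : Finsupp.degree x < 2) :
    x = 0 ∨ ∃ i, x = Finsupp.single i 1 := by
  classical
  by_cases h0 : x = 0
  · exact Or.inl h0
  · right
    obtain ⟨i, hi⟩ : ∃ i, x i ≠ 0 := by
      by_contra hcon
      push Not at hcon
      exact h0 (Finsupp.ext hcon)
    have hle : Finsupp.single i 1 ≤ x := by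
      rw [Finsupp.single_le_iff]
      exact Nat.one_le_iff_ne_zero.mpr hi
    obtain ⟨c, hc⟩ := le_iff_exists_add.mp hle
    refine ⟨i, ?_⟩
    have hdeg : Finsupp.degree x = 1 + Finsupp.degree c := by
      rw [hc, map_add, Finsupp.degree_single]
    have hc0 : c = 0 := by
      rw [← Finsupp.degree_eq_zero_iff]
      omega
    rw [hc, hc0, add_zero]

lemma mem_sq_of_coeff [Fintype σ] [DecidableEq σ] (f : MvPolynomial σ k) (h0 : coeff 0 f = 0)
    (h1 : ∀ i, coeff (Finsupp.single i 1) f = 0) : f ∈ idealOfVars σ k ^ 2 := by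
  rw [mem_pow_idealOfVars_iff']
  intro x hx
  rcases degree_lt_two x hx with rfl | ⟨i, rfl⟩
  · exact h0
  · exact h1 i

/-- the linear part -/
noncomputable def linPart [Fintype σ] (f : MvPolynomial σ k) : MvPolynomial σ k :=
  ∑ i, C (coeff (Finsupp.single i 1) f) * X i

lemma sub_linPart_mem [Fintype σ] [DecidableEq σ] (f : MvPolynomial σ k) (h0 : coeff 0 f = 0) :
    f - linPart f ∈ idealOfVars σ k ^ 2 := by
  apply mem_sq_of_coeff
  · rw [coeff_sub, h0, linPart, coeff_sum, zero_sub, neg_eq_zero]
    refine Finset.sum_eq_zero fun i _ => ?_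
    rw [coeff_C_mul, coeff_zero_X, mul_zero]
  · intro j
    rw [coeff_sub, linPart, coeff_sum, Finset.sum_eq_single j]
    · rw [coeff_C_mul, coeff_X, if_pos rfl, mul_one, sub_self]
    · intro i _ hij
      rw [coeff_C_mul, coeff_X, if_neg, mul_zero]
      intro h
      exact hij (Finsupp.single_left_injective one_ne_zero h)
    · intro h; exact absurd (Finset.mem_univ j) h

end Poly

section Art
open IsLocalRing

variable {k : Type u} [Field k] {A : Type u} [CommRing A] [Algebra k A] [IsLocalRing A]
  {d : ℕ} (a : Fin d → A)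

/-- the presentation map -/
noncomputable abbrev pres : MvPolynomial (Fin d) k →ₐ[k] A := aeval a

lemma a_mem (ha : Ideal.span (Set.range a) = maximalIdeal A) (i : Fin d) :
    a i ∈ maximalIdeal A := by
  rw [← ha]; exact Ideal.subset_span ⟨i, rfl⟩

lemma M_le_comap (ha : Ideal.span (Set.range a) = maximalIdeal A) :
    idealOfVars (Fin d) k ≤ Ideal.comap (pres (k := k) a) (maximalIdeal A) := by
  rw [idealOfVars, Ideal.span_le]
  rintro _ ⟨i, rfl⟩
  show pres a (X i) ∈ maximalIdeal A
  rw [pres, aeval_X]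
  exact a_mem a ha i

lemma pres_mem_of_mem (ha : Ideal.span (Set.range a) = maximalIdeal A)
    {f : MvPolynomial (Fin d) k} (hf : f ∈ idealOfVars (Fin d) k) :
    pres a f ∈ maximalIdeal A := M_le_comap a ha hf

lemma pres_mem_sq_of_mem (ha : Ideal.span (Set.range a) = maximalIdeal A)
    {f : MvPolynomial (Fin d) k} (hf : f ∈ idealOfVars (Fin d) k ^ 2) :
    pres a f ∈ maximalIdeal A ^ 2 := by
  have h1 := Ideal.pow_right_mono (M_le_comap (k := k) a ha) 2
  exact Ideal.le_comap_pow _ 2 (h1 hf)

lemma sub_C_mem (f : MvPolynomial (Fin d) k) : f - C (coeff 0 f) ∈ idealOfVars (Fin d) k := by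
  rw [← pow_one (idealOfVars (Fin d) k), mem_pow_idealOfVars_iff']
  intro x hx
  have : x = 0 := by
    rw [← Finsupp.degree_eq_zero_iff]; omega
  subst this
  rw [coeff_sub, coeff_zero_C, sub_self]

lemma pres_sub_const (ha : Ideal.span (Set.range a) = maximalIdeal A)
    (f : MvPolynomial (Fin d) k) :
    pres a f - algebraMap k A (coeff 0 f) ∈ maximalIdeal A := by
  have h := pres_mem_of_mem a ha (sub_C_mem f)
  rwa [map_sub, pres, aeval_C] at h

lemma coeff_zero_of_ker (ha : Ideal.span (Set.range a) = maximalIdeal A)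
    (f : MvPolynomial (Fin d) k) (hf : pres a f = 0) : coeff 0 f = 0 := by
  by_contra hc
  have h := pres_sub_const a ha f
  rw [hf, zero_sub, neg_mem_iff] at h
  have hu : IsUnit (algebraMap k A (coeff 0 f)) := (IsUnit.mk0 _ hc).map _
  exact (mem_maximalIdeal _).mp h hu

/-- with a minimal generating family the relations are at least quadratic -/
lemma ker_le_sq [IsNoetherianRing A] (ha : Ideal.span (Set.range a) = maximalIdeal A)
    (hmin : ∀ n < d, ¬ ∃ a' : Fin n → A, Ideal.span (Set.range a') = maximalIdeal A)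
    (f : MvPolynomial (Fin d) k) (hf : pres a f = 0) : f ∈ idealOfVars (Fin d) k ^ 2 := by
  classical
  have h0 := coeff_zero_of_ker a ha f hf
  by_contra hnot
  have hex : ∃ j, coeff (Finsupp.single j 1) f ≠ 0 := by
    by_contra hcon
    push Not at hcon
    exact hnot (mem_sq_of_coeff f h0 hcon)
  obtain ⟨j, hj⟩ := hex
  have hh := pres_mem_sq_of_mem a ha (sub_linPart_mem f h0)
  rw [map_sub, hf, zero_sub, neg_mem_iff] at hh
  have hlin : pres a (linPart f) = ∑ i, coeff (Finsupp.single i 1) f • a i := by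
    rw [linPart, map_sum]
    refine Finset.sum_congr rfl fun i _ => ?_
    rw [map_mul, pres, aeval_C, aeval_X, Algebra.smul_def]
  rw [hlin] at hh
  cases d with
  | zero => exact j.elim0
  | succ d' =>
    set N : Ideal A := Ideal.span (Set.range (a ∘ j.succAbove)) with hN
    have hNmem : ∀ i, i ≠ j → a i ∈ N := by
      intro i hij
      obtain ⟨i', rfl⟩ := Fin.exists_succAbove_eq hij
      exact Ideal.subset_span ⟨i', rfl⟩
    have hjmem : a j ∈ N ⊔ maximalIdeal A * maximalIdeal A := by
      have h1 : coeff (Finsupp.single j 1) f • a j ∈ N ⊔ maximalIdeal A * maximalIdeal A := by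
        have hsplit := Finset.add_sum_erase Finset.univ
          (fun i => coeff (Finsupp.single i 1) f • a i) (Finset.mem_univ j)
        have h2 : coeff (Finsupp.single j 1) f • a j =
            (∑ i, coeff (Finsupp.single i 1) f • a i) -
              ∑ i ∈ Finset.univ.erase j, coeff (Finsupp.single i 1) f • a i := by
          rw [← hsplit]; ring
        rw [h2]
        refine Submodule.sub_mem _ ?_ ?_
        · exact Submodule.mem_sup_right (by rwa [pow_two] at hh)
        · refine Submodule.mem_sup_left (Submodule.sum_mem _ fun i hi => ?_)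
          exact Submodule.smul_of_tower_mem _ _ (hNmem i (Finset.ne_of_mem_erase hi))
      have h3 := Submodule.smul_of_tower_mem (N ⊔ maximalIdeal A * maximalIdeal A)
        (coeff (Finsupp.single j 1) f)⁻¹ h1
      rwa [smul_smul, inv_mul_cancel₀ hj, one_smul] at h3
    have hle : maximalIdeal A ≤ N ⊔ maximalIdeal A • maximalIdeal A := by
      rw [smul_eq_mul]
      conv_lhs => rw [← ha]
      rw [Ideal.span_le]
      rintro _ ⟨i, rfl⟩
      by_cases hij : i = j
      · rw [hij]; exact hjmem
      · exact Submodule.mem_sup_left (hNmem i hij)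
    have hfg : (maximalIdeal A).FG := IsNoetherian.noetherian _
    have hjac : maximalIdeal A ≤ (⊥ : Ideal A).jacobson :=
      (jacobson_eq_maximalIdeal ⊥ bot_ne_top).ge
    have hmN := Submodule.le_of_le_smul_of_le_jacobson_bot hfg hjac hle
    have hNm : N ≤ maximalIdeal A := by
      rw [hN, Ideal.span_le]
      rintro _ ⟨i, rfl⟩
      exact a_mem a ha _
    exact hmin d' (Nat.lt_succ_self d') ⟨a ∘ j.succAbove, le_antisymm hNm hmN⟩

end Art

section Surj
open IsLocalRing

variable {k : Type u} [Field k] {A : Type u} [CommRing A] [Algebra k A] [IsLocalRing A]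
  {d : ℕ} (a : Fin d → A)

/-- approximation step: elements of `m` are in the range modulo `m²` -/
lemma approx_one (hres : ∀ y : A, ∃ c : k, y - algebraMap k A c ∈ maximalIdeal A)
    (ha : Ideal.span (Set.range a) = maximalIdeal A) (y : A) (hy : y ∈ maximalIdeal A) :
    ∃ s ∈ (pres (k := k) a).range, s ∈ maximalIdeal A ∧ y - s ∈ maximalIdeal A ^ 2 := by
  rw [← ha] at hy
  induction hy using Submodule.span_induction with
  | mem y hy =>
    obtain ⟨i, rfl⟩ := hy
    exact ⟨a i, ⟨X i, by simp [pres]⟩, a_mem a ha i, by simp⟩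
  | zero => exact ⟨0, Subalgebra.zero_mem _, Ideal.zero_mem _, by simp⟩
  | add y z _ _ hy hz =>
    obtain ⟨s, hs, hsm, hys⟩ := hy
    obtain ⟨t, ht, htm, hzt⟩ := hz
    refine ⟨s + t, Subalgebra.add_mem _ hs ht, Ideal.add_mem _ hsm htm, ?_⟩
    have : y + z - (s + t) = (y - s) + (z - t) := by ring
    rw [this]; exact Ideal.add_mem _ hys hzt
  | smul r y hy' hy =>
    obtain ⟨s, hs, hsm, hys⟩ := hy
    obtain ⟨c, hc⟩ := hres r
    have hym : y ∈ maximalIdeal A := by rw [← ha]; exact hy'
    refine ⟨algebraMap k A c * s, Subalgebra.mul_mem _ (Subalgebra.algebraMap_mem _ c) hs,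
      Ideal.mul_mem_left _ _ hsm, ?_⟩
    have : r • y - algebraMap k A c * s =
        (r - algebraMap k A c) * y + algebraMap k A c * (y - s) := by
      rw [smul_eq_mul]; ring
    rw [this]
    refine Ideal.add_mem _ ?_ (Ideal.mul_mem_left _ _ hys)
    rw [pow_two]; exact Ideal.mul_mem_mul hc hym

lemma approx_pow (hres : ∀ y : A, ∃ c : k, y - algebraMap k A c ∈ maximalIdeal A)
    (ha : Ideal.span (Set.range a) = maximalIdeal A) (j : ℕ) :
    ∀ y ∈ maximalIdeal A ^ j, ∃ s ∈ (pres (k := k) a).range,
      s ∈ maximalIdeal A ^ j ∧ y - s ∈ maximalIdeal A ^ (j + 1) := by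
  induction j with
  | zero =>
    intro y _
    obtain ⟨c, hc⟩ := hres y
    exact ⟨algebraMap k A c, Subalgebra.algebraMap_mem _ c, by simp, by simpa using hc⟩
  | succ j ih =>
    intro y hy
    rw [pow_succ] at hy
    refine Submodule.mul_induction_on hy ?_ ?_
    · intro u hu v hv
      obtain ⟨s, hs, hsm, hus⟩ := ih u hu
      obtain ⟨t, ht, htm, hvt⟩ := approx_one a hres ha v hv
      refine ⟨s * t, Subalgebra.mul_mem _ hs ht, ?_, ?_⟩
      · rw [pow_succ]; exact Ideal.mul_mem_mul hsm htm
      · have : u * v - s * t = (u - s) * v + s * (v - t) := by ring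
        rw [this]
        refine Ideal.add_mem _ ?_ ?_
        · rw [pow_succ _ (j + 1)]; exact Ideal.mul_mem_mul hus hv
        · have : maximalIdeal A ^ (j + 1 + 1) = maximalIdeal A ^ j * maximalIdeal A ^ 2 := by
            rw [← pow_add]
          rw [this]; exact Ideal.mul_mem_mul hsm hvt
    · intro y z hy hz
      obtain ⟨s, hs, hsm, hys⟩ := hy
      obtain ⟨t, ht, htm, hzt⟩ := hz
      refine ⟨s + t, Subalgebra.add_mem _ hs ht, Ideal.add_mem _ hsm htm, ?_⟩
      have : y + z - (s + t) = (y - s) + (z - t) := by ring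
      rw [this]; exact Ideal.add_mem _ hys hzt

lemma pres_surjective [IsArtinianRing A]
    (hres : ∀ y : A, ∃ c : k, y - algebraMap k A c ∈ maximalIdeal A)
    (ha : Ideal.span (Set.range a) = maximalIdeal A) :
    Function.Surjective (pres (k := k) a) := by
  obtain ⟨n, hn⟩ : ∃ n, maximalIdeal A ^ n = ⊥ := by
    have h := IsArtinianRing.isNilpotent_jacobson_bot (R := A)
    rw [jacobson_eq_maximalIdeal ⊥ bot_ne_top] at h
    exact h
  have key : ∀ t j, n ≤ j + t → ∀ y ∈ maximalIdeal A ^ j, y ∈ (pres (k := k) a).range := by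
    intro t
    induction t with
    | zero =>
      intro j hj y hy
      have : maximalIdeal A ^ j ≤ ⊥ := hn ▸ Ideal.pow_le_pow_right (by omega)
      rw [(Submodule.mem_bot _).mp (this hy)]
      exact Subalgebra.zero_mem _
    | succ t ih =>
      intro j hj y hy
      obtain ⟨s, hs, _, hys⟩ := approx_pow a hres ha j y hy
      have h1 := ih (j + 1) (by omega) _ hys
      have : y = (y - s) + s := by ring
      rw [this]
      exact Subalgebra.add_mem _ h1 hs
  intro y
  have := key n 0 (by omega) y (by simp)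
  exact this

end Surj

section Ext
open IsLocalRing

variable {k : Type u} [Field k] {A : Type u} [CommRing A] [Algebra k A] [IsLocalRing A]
  {d : ℕ} (a : Fin d → A)

/-- the ideal `J' = I ∩ ker λ` -/
def Jp (lam : MvPolynomial (Fin d) k →ₗ[k] k)
    (hlam : ∀ f ∈ idealOfVars (Fin d) k * RingHom.ker (pres (k := k) a), lam f = 0) :
    Ideal (MvPolynomial (Fin d) k) where
  carrier := {f | f ∈ RingHom.ker (pres (k := k) a) ∧ lam f = 0}
  add_mem' := by
    rintro f g ⟨hf, hf'⟩ ⟨hg, hg'⟩
    exact ⟨Ideal.add_mem _ hf hg, by rw [map_add, hf', hg', add_zero]⟩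
  zero_mem' := ⟨Ideal.zero_mem _, map_zero _⟩
  smul_mem' := by
    rintro c f ⟨hf, hf'⟩
    refine ⟨Ideal.mul_mem_left _ _ hf, ?_⟩
    have h1 : c • f = coeff 0 c • f + (c - C (coeff 0 c)) * f := by
      rw [smul_eq_mul, MvPolynomial.smul_eq_C_mul]; ring
    rw [h1, map_add, map_smul, hf', smul_zero, zero_add]
    exact hlam _ (Ideal.mul_mem_mul (sub_C_mem c) hf)

lemma mem_Jp (lam : MvPolynomial (Fin d) k →ₗ[k] k)
    (hlam : ∀ f ∈ idealOfVars (Fin d) k * RingHom.ker (pres (k := k) a), lam f = 0)
    (f : MvPolynomial (Fin d) k) :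
    f ∈ Jp a lam hlam ↔ f ∈ RingHom.ker (pres (k := k) a) ∧ lam f = 0 := Iff.rfl

variable (k A) in
/-- the residue field identified with `k` -/
noncomputable def resk : k →+* ResidueField A := (residue A).comp (algebraMap k A)

lemma resk_bijective (hres : ∀ y : A, ∃ c : k, y - algebraMap k A c ∈ maximalIdeal A) :
    Function.Bijective (resk k A) := by
  refine ⟨(resk k A).injective, ?_⟩
  intro z
  obtain ⟨y, rfl⟩ := residue_surjective z
  obtain ⟨c, hc⟩ := hres y
  refine ⟨c, ?_⟩
  have := (residue_eq_zero_iff _).mpr hc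
  rw [map_sub, sub_eq_zero] at this
  exact this.symm

/-- inverse identification -/
noncomputable def rho (hres : ∀ y : A, ∃ c : k, y - algebraMap k A c ∈ maximalIdeal A) :
    ResidueField A ≃+* k := (RingEquiv.ofBijective (resk k A) (resk_bijective hres)).symm

lemma rho_resk (hres : ∀ y : A, ∃ c : k, y - algebraMap k A c ∈ maximalIdeal A) (c : k) :
    rho hres (resk k A c) = c :=
  (RingEquiv.ofBijective (resk k A) (resk_bijective hres)).symm_apply_apply c

lemma resk_rho (hres : ∀ y : A, ∃ c : k, y - algebraMap k A c ∈ maximalIdeal A)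
    (z : ResidueField A) : resk k A (rho hres z) = z :=
  (RingEquiv.ofBijective (resk k A) (resk_bijective hres)).apply_symm_apply z

lemma rho_residue_pres (hres : ∀ y : A, ∃ c : k, y - algebraMap k A c ∈ maximalIdeal A)
    (ha : Ideal.span (Set.range a) = maximalIdeal A) (f : MvPolynomial (Fin d) k) :
    rho hres (residue A (pres a f)) = coeff 0 f := by
  have h := (residue_eq_zero_iff _).mpr (pres_sub_const a ha f)
  rw [map_sub, sub_eq_zero] at h
  rw [h]
  exact rho_resk hres _

/-- the extension attached to the data -/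
noncomputable def extOf [IsArtinianRing A]
    (hres : ∀ y : A, ∃ c : k, y - algebraMap k A c ∈ maximalIdeal A)
    (ha : Ideal.span (Set.range a) = maximalIdeal A)
    (lam : MvPolynomial (Fin d) k →ₗ[k] k)
    (hlam : ∀ f ∈ idealOfVars (Fin d) k * RingHom.ker (pres (k := k) a), lam f = 0)
    (g1 : MvPolynomial (Fin d) k) (hg1 : pres a g1 = 0) (hlg : lam g1 = 1) :
    Exal.Ext k A (ResidueField A) where
  E := MvPolynomial (Fin d) k ⧸ Jp a lam hlam
  proj := Ideal.Quotient.liftₐ (Jp a lam hlam) (pres a) (fun f hf => hf.1)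
  incl :=
    { toFun := fun z => Ideal.Quotient.mk (Jp a lam hlam) (C (rho hres z) * g1)
      map_zero' := by simp
      map_add' := fun z z' => by
        rw [map_add, map_add, add_mul, map_add] }
  isExtension :=
    { proj_surjective := by
        intro y
        obtain ⟨f, rfl⟩ := pres_surjective a hres ha y
        exact ⟨Ideal.Quotient.mk _ f, rfl⟩
      incl_injective := by
        rw [injective_iff_map_eq_zero]
        intro z hz
        change Ideal.Quotient.mk (Jp a lam hlam) (C (rho hres z) * g1) = 0 at hz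
        rw [Ideal.Quotient.eq_zero_iff_mem] at hz
        have h2 := hz.2
        rw [← MvPolynomial.smul_eq_C_mul, map_smul, hlg, smul_eq_mul, mul_one] at h2
        exact (map_eq_zero_iff _ (rho hres).injective).mp h2
      exact := by
        intro x
        obtain ⟨f, rfl⟩ := Ideal.Quotient.mk_surjective x
        constructor
        · intro hx
          have hf : pres a f = 0 := hx
          refine ⟨resk k A (lam f), ?_⟩
          change Ideal.Quotient.mk (Jp a lam hlam) (C (rho hres (resk k A (lam f))) * g1) = _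
          rw [rho_resk, Ideal.Quotient.eq]
          refine ⟨?_, ?_⟩
          · rw [RingHom.mem_ker, map_sub, map_mul, hg1, mul_zero, hf, sub_zero]
          · rw [map_sub, ← MvPolynomial.smul_eq_C_mul, map_smul, hlg, smul_eq_mul, mul_one,
              sub_self]
        · rintro ⟨z, hz⟩
          rw [← hz]
          change pres a (C (rho hres z) * g1) = 0
          rw [map_mul, hg1, mul_zero]
      mul_incl := by
        intro x z
        obtain ⟨f, rfl⟩ := Ideal.Quotient.mk_surjective x
        change Ideal.Quotient.mk (Jp a lam hlam) f *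
            Ideal.Quotient.mk (Jp a lam hlam) (C (rho hres z) * g1) =
          Ideal.Quotient.mk (Jp a lam hlam) (C (rho hres ((pres a f) • z)) * g1)
        rw [← map_mul, Ideal.Quotient.eq, Algebra.smul_def, ResidueField.algebraMap_eq, map_mul,
          rho_residue_pres a hres ha, map_mul]
        have h1 : f * (C (rho hres z) * g1) - C (coeff 0 f) * C (rho hres z) * g1 =
            C (rho hres z) * ((f - C (coeff 0 f)) * g1) := by ring
        rw [h1]
        refine Ideal.mul_mem_left _ _ ⟨?_, ?_⟩
        · exact Ideal.mul_mem_left _ _ (by rwa [RingHom.mem_ker])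
        · exact hlam _ (Ideal.mul_mem_mul (sub_C_mem f) (by rwa [RingHom.mem_ker])) }

end Ext

section NonTriv
open IsLocalRing

variable {k : Type u} [Field k] {A : Type u} [CommRing A] [Algebra k A] [IsLocalRing A]
  {d : ℕ} (a : Fin d → A)

lemma extOf_not_trivial [IsArtinianRing A]
    (hres : ∀ y : A, ∃ c : k, y - algebraMap k A c ∈ maximalIdeal A)
    (ha : Ideal.span (Set.range a) = maximalIdeal A)
    (hmin : ∀ n < d, ¬ ∃ a' : Fin n → A, Ideal.span (Set.range a') = maximalIdeal A)
    (lam : MvPolynomial (Fin d) k →ₗ[k] k)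
    (hlam : ∀ f ∈ idealOfVars (Fin d) k * RingHom.ker (pres (k := k) a), lam f = 0)
    (g1 : MvPolynomial (Fin d) k) (hg1 : pres a g1 = 0) (hlg : lam g1 = 1) :
    ¬ (extOf a hres ha lam hlam g1 hg1 hlg).IsTrivial := by
  rintro ⟨s, hs⟩
  let X := extOf a hres ha lam hlam g1 hg1 hlg
  let ψ : MvPolynomial (Fin d) k →ₐ[k] X.E := s.comp (pres a)
  let qE : MvPolynomial (Fin d) k →ₐ[k] X.E := Ideal.Quotient.mkₐ k (Jp a lam hlam)
  have hproj_ψ : ∀ f, X.proj (ψ f) = pres a f := by
    intro f
    exact hs (pres a f)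
  have hproj_q : ∀ f, X.proj (qE f) = pres a f := fun f => rfl
  have hkill : ∀ (y : X.E) (z : ResidueField A), X.proj y ∈ maximalIdeal A →
      y * X.incl z = 0 := by
    intro y z hy
    rw [X.isExtension.mul_incl, Algebra.smul_def, ResidueField.algebraMap_eq,
      (residue_eq_zero_iff _).mpr hy, zero_mul, map_zero]
  have key : ∀ f ∈ idealOfVars (Fin d) k ^ 2, ψ f = qE f := by
    intro f hf
    rw [pow_two] at hf
    refine Submodule.mul_induction_on hf ?_ ?_
    · intro g hg h hh
      have h1 : X.proj (ψ g - qE g) = 0 := by rw [map_sub, hproj_ψ, hproj_q, sub_self]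
      have h2 : X.proj (ψ h - qE h) = 0 := by rw [map_sub, hproj_ψ, hproj_q, sub_self]
      obtain ⟨z, hz⟩ := (X.isExtension.exact _).mp h1
      obtain ⟨z', hz'⟩ := (X.isExtension.exact _).mp h2
      have h3 : ψ (g * h) - qE (g * h) = ψ h * (ψ g - qE g) + qE g * (ψ h - qE h) := by
        rw [map_mul, map_mul]; ring
      rw [← sub_eq_zero, h3, ← hz, ← hz',
        hkill _ _ (by rw [hproj_ψ]; exact pres_mem_of_mem a ha hh),
        hkill _ _ (by rw [hproj_q]; exact pres_mem_of_mem a ha hg), add_zero]
    · intro f g hf hg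
      rw [map_add, map_add, hf, hg]
  have hg1sq := ker_le_sq a ha hmin g1 hg1
  have h4 := key g1 hg1sq
  have h5 : ψ g1 = 0 := by
    show s (pres a g1) = 0
    rw [hg1, map_zero]
  rw [h5] at h4
  have h6 : g1 ∈ Jp a lam hlam := Ideal.Quotient.eq_zero_iff_mem.mp h4.symm
  rw [h6.2] at hlg
  exact zero_ne_one hlg

theorem exists_nontrivial [IsArtinianRing A]
    (hres : ∀ y : A, ∃ c : k, y - algebraMap k A c ∈ maximalIdeal A)
    (hA : maximalIdeal A ≠ ⊥) :
    ∃ X : Exal.Ext k A (ResidueField A), ¬ X.IsTrivial := by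
  classical
  have hfg : ∃ n, ∃ a : Fin n → A, Ideal.span (Set.range a) = maximalIdeal A :=
    Submodule.fg_iff_exists_fin_generating_family.mp (IsNoetherian.noetherian (maximalIdeal A))
  obtain ⟨a, ha⟩ := Nat.find_spec hfg
  have hmin : ∀ n < Nat.find hfg,
      ¬ ∃ a' : Fin n → A, Ideal.span (Set.range a') = maximalIdeal A :=
    fun n hn => Nat.find_min hfg hn
  generalize Nat.find hfg = d at a ha hmin
  set I := RingHom.ker (pres (k := k) a) with hI
  set M := idealOfVars (Fin d) k with hM
  have hne : ¬ I ≤ M * I := by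
    intro hle
    obtain ⟨r, hr1, hr2⟩ := Submodule.exists_sub_one_mem_and_smul_eq_zero_of_fg_of_le_smul M I
      (IsNoetherian.noetherian I) (by rwa [smul_eq_mul])
    have hr0 : r ≠ 0 := by
      rintro rfl
      rw [zero_sub, neg_mem_iff, ← pow_one M, mem_pow_idealOfVars_iff'] at hr1
      have := hr1 0 (by simp)
      simp at this
    have hIbot : ∀ f ∈ I, f = 0 := by
      intro f hf
      have := hr2 f hf
      rw [smul_eq_mul, mul_eq_zero] at this
      exact this.resolve_left hr0
    have hd : 0 < d := by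
      by_contra h0
      apply hA
      rw [← ha, Ideal.span_eq_bot]
      rintro _ ⟨i, rfl⟩
      exact absurd i.pos h0
    obtain ⟨n, hn⟩ : ∃ n, maximalIdeal A ^ n = ⊥ := by
      have h := IsArtinianRing.isNilpotent_jacobson_bot (R := A)
      rw [jacobson_eq_maximalIdeal ⊥ bot_ne_top] at h
      exact h
    have hmemI : (X ⟨0, hd⟩ : MvPolynomial (Fin d) k) ^ n ∈ I := by
      rw [hI, RingHom.mem_ker, map_pow, pres, aeval_X]
      have := Ideal.pow_mem_pow (a_mem a ha ⟨0, hd⟩) n
      rw [hn] at this
      exact (Submodule.mem_bot _).mp this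
    exact pow_ne_zero n (X_ne_zero _) (hIbot _ hmemI)
  obtain ⟨g0, hg0I, hg0⟩ := SetLike.not_le_iff_exists.mp hne
  have hg0W : g0 ∉ (M * I).restrictScalars k := hg0
  obtain ⟨lam0, hl0, hmap⟩ := Submodule.exists_dual_map_eq_bot_of_notMem hg0W inferInstance
  have hlam0 : ∀ f ∈ M * I, lam0 f = 0 := by
    intro f hf
    have : lam0 f ∈ ((M * I).restrictScalars k).map lam0 := Submodule.mem_map_of_mem hf
    rw [hmap] at this
    exact (Submodule.mem_bot _).mp this
  let lam : MvPolynomial (Fin d) k →ₗ[k] k := (lam0 g0)⁻¹ • lam0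
  have hlam : ∀ f ∈ M * I, lam f = 0 := by
    intro f hf
    show (lam0 g0)⁻¹ • lam0 f = 0
    rw [hlam0 f hf, smul_zero]
  have hlg : lam g0 = 1 := by
    show (lam0 g0)⁻¹ • lam0 g0 = 1
    rw [smul_eq_mul, inv_mul_cancel₀ hl0]
  exact ⟨extOf a hres ha lam hlam g0 hg0I hlg, extOf_not_trivial a hres ha hmin lam hlam g0 hg0I hlg⟩

end NonTriv

end Groth.Agent.H80.ExalArt
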