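import Mathlib
import Groth.Prelude.Def_Exal2

/-!
# Baer difference of two extensions, equivalences from homomorphisms, change of base ring
-/

set_option autoImplicit false
universe u

namespace Groth.Agent.H80.ExalBaer

open Exal

attribute [local instance] Exal.opModule Exal.isCentralScalar_opModule

section General

variable {A : Type u} {B L : Type u} [CommRing A] [CommRing B] [Algebra A B] [AddCommGroup L]
  [Module B L]

lemma proj_incl (X : Ext A B L) (z : L) : X.proj (X.incl z) = 0 :=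
  (X.isExtension.exact _).mpr ⟨z, rfl⟩

lemma incl_mul_incl (X : Ext A B L) (z w : L) : X.incl z * X.incl w = 0 := by
  rw [X.isExtension.mul_incl, proj_incl, zero_smul, map_zero]

lemma incl_mul (X : Ext A B L) (z : L) (x : X.E) : X.incl z * x = X.incl (X.proj x • z) := by
  rw [mul_comm, X.isExtension.mul_incl]

/-- A homomorphism of extensions is an equivalence. -/
noncomputable def equivOfHom (X Y : Ext A B L) (φ : X.E →ₐ[A] Y.E)
    (h1 : ∀ x, Y.proj (φ x) = X.proj x) (h2 : ∀ z, φ (X.incl z) = Y.incl z) : X.Equiv Y where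
  toAlgEquiv := AlgEquiv.ofBijective φ (by
    constructor
    · rw [injective_iff_map_eq_zero]
      intro x hx
      have h0 : X.proj x = 0 := by rw [← h1, hx, map_zero]
      obtain ⟨z, hz⟩ := (X.isExtension.exact x).mp h0
      rw [← hz, h2] at hx
      have hz0 : z = 0 := Y.isExtension.incl_injective (by rw [hx, map_zero])
      rw [← hz, hz0, map_zero]
    · intro y
      obtain ⟨x, hx⟩ := X.isExtension.proj_surjective (Y.proj y)
      have h0 : Y.proj (y - φ x) = 0 := by rw [map_sub, h1, hx, sub_self]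
      obtain ⟨z, hz⟩ := (Y.isExtension.exact _).mp h0
      exact ⟨x + X.incl z, by rw [map_add, h2, hz]; ring⟩)
  proj_apply := h1
  apply_incl := h2

/-! ### The Baer difference -/

variable (Y Y' : Ext A B L)

/-- The fibre product of the two middle rings over `B`. -/
def fib : Subalgebra A (Y.E × Y'.E) :=
  AlgHom.equalizer (Y.proj.comp (AlgHom.fst A Y.E Y'.E)) (Y'.proj.comp (AlgHom.snd A Y.E Y'.E))

lemma mem_fib (x : Y.E × Y'.E) : x ∈ fib Y Y' ↔ Y.proj x.1 = Y'.proj x.2 := Iff.rfl

/-- The diagonal copy of `L`. -/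
def diag : Ideal (fib Y Y') where
  carrier := {x | ∃ z, (x : Y.E × Y'.E) = (Y.incl z, Y'.incl z)}
  add_mem' := by
    rintro a b ⟨z, hz⟩ ⟨w, hw⟩
    exact ⟨z + w, by rw [Subalgebra.coe_add, hz, hw, map_add, map_add]; rfl⟩
  zero_mem' := ⟨0, by rw [map_zero, map_zero]; rfl⟩
  smul_mem' := by
    rintro c x ⟨z, hz⟩
    refine ⟨Y.proj (c : Y.E × Y'.E).1 • z, ?_⟩
    have hc := (mem_fib Y Y' _).mp c.2
    rw [smul_eq_mul, Subalgebra.coe_mul, hz]
    apply Prod.ext
    · change (c : Y.E × Y'.E).1 * Y.incl z = _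
      rw [Y.isExtension.mul_incl]
    · change (c : Y.E × Y'.E).2 * Y'.incl z = _
      rw [Y'.isExtension.mul_incl, ← hc]

lemma mem_diag (x : fib Y Y') :
    x ∈ diag Y Y' ↔ ∃ z, (x : Y.E × Y'.E) = (Y.incl z, Y'.incl z) := Iff.rfl

/-- projection of the Baer difference -/
noncomputable def baerProj : (fib Y Y' ⧸ diag Y Y') →ₐ[A] B :=
  Ideal.Quotient.liftₐ (diag Y Y') (Y.proj.comp ((AlgHom.fst A Y.E Y'.E).comp (fib Y Y').val)) (by
    rintro x ⟨z, hz⟩
    change Y.proj (x : Y.E × Y'.E).1 = 0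
    rw [hz]
    exact proj_incl Y z)

lemma baerProj_mk (x : fib Y Y') :
    baerProj Y Y' (Ideal.Quotient.mk (diag Y Y') x) = Y.proj (x : Y.E × Y'.E).1 := rfl

/-- left inclusion of `L` in the fibre product -/
def inl0 : L →+ fib Y Y' where
  toFun z := ⟨(Y.incl z, 0), by
    rw [mem_fib]
    change Y.proj (Y.incl z) = Y'.proj 0
    rw [proj_incl, map_zero]⟩
  map_zero' := Subtype.ext (by
    change (Y.incl 0, (0 : Y'.E)) = 0
    rw [map_zero]; rfl)
  map_add' z w := Subtype.ext (by
    change (Y.incl (z + w), (0 : Y'.E)) = (Y.incl z, 0) + (Y.incl w, 0)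
    rw [map_add, Prod.mk_add_mk, add_zero])

lemma inl0_coe (z : L) : ((inl0 Y Y' z : fib Y Y') : Y.E × Y'.E) = (Y.incl z, 0) := rfl

/-- inclusion of the Baer difference -/
noncomputable def baerIncl : L →+ (fib Y Y' ⧸ diag Y Y') :=
  (Ideal.Quotient.mk (diag Y Y')).toAddMonoidHom.comp (inl0 Y Y')

lemma baerIncl_apply (z : L) :
    baerIncl Y Y' z = Ideal.Quotient.mk (diag Y Y') (inl0 Y Y' z) := rfl

/-- The Baer difference `Y - Y'`. -/
noncomputable def baer : Ext A B L where
  E := fib Y Y' ⧸ diag Y Y'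
  proj := baerProj Y Y'
  incl := baerIncl Y Y'
  isExtension :=
    { proj_surjective := by
        intro b
        obtain ⟨e, he⟩ := Y.isExtension.proj_surjective b
        obtain ⟨e', he'⟩ := Y'.isExtension.proj_surjective b
        refine ⟨Ideal.Quotient.mk _ ⟨(e, e'), ?_⟩, ?_⟩
        · rw [mem_fib]; exact he.trans he'.symm
        · rw [baerProj_mk]; exact he
      incl_injective := by
        rw [injective_iff_map_eq_zero]
        intro z hz
        rw [baerIncl_apply, Ideal.Quotient.eq_zero_iff_mem, mem_diag] at hz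
        obtain ⟨w, hw⟩ := hz
        rw [inl0_coe] at hw
        have h1 : Y'.incl w = 0 := (congrArg Prod.snd hw).symm
        have hw0 : w = 0 := Y'.isExtension.incl_injective (by rw [h1, map_zero])
        have h2 : Y.incl z = Y.incl w := congrArg Prod.fst hw
        rw [hw0] at h2
        exact Y.isExtension.incl_injective h2
      exact := by
        intro x
        obtain ⟨x, rfl⟩ := Ideal.Quotient.mk_surjective x
        rw [baerProj_mk]
        constructor
        · intro hx
          have hx' : Y'.proj (x : Y.E × Y'.E).2 = 0 := by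
            rw [← (mem_fib Y Y' _).mp x.2, hx]
          obtain ⟨z, hz⟩ := (Y.isExtension.exact _).mp hx
          obtain ⟨w, hw⟩ := (Y'.isExtension.exact _).mp hx'
          refine ⟨z - w, ?_⟩
          rw [baerIncl_apply, ← sub_eq_zero, ← map_sub, Ideal.Quotient.eq_zero_iff_mem, mem_diag]
          refine ⟨-w, ?_⟩
          rw [Subalgebra.coe_sub, inl0_coe, map_sub, map_neg, map_neg]
          apply Prod.ext
          · change Y.incl z - Y.incl w - (x : Y.E × Y'.E).1 = _
            rw [← hz]; ring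
          · change 0 - (x : Y.E × Y'.E).2 = _
            rw [← hw]; ring
        · rintro ⟨z, hz⟩
          have h := congrArg (baerProj Y Y') hz
          rw [baerProj_mk, baerIncl_apply, baerProj_mk, inl0_coe] at h
          rw [← h]
          exact proj_incl Y z
      mul_incl := by
        intro x z
        obtain ⟨x, rfl⟩ := Ideal.Quotient.mk_surjective x
        rw [baerProj_mk, baerIncl_apply, baerIncl_apply, ← map_mul]
        congr 1
        apply Subtype.ext
        rw [Subalgebra.coe_mul, inl0_coe, inl0_coe]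
        apply Prod.ext
        · change (x : Y.E × Y'.E).1 * Y.incl z = _
          rw [Y.isExtension.mul_incl]
        · change (x : Y.E × Y'.E).2 * 0 = 0
          exact mul_zero _ }

/-! ### A section of the Baer difference gives an equivalence -/

section Graph
variable {Y Y'}
variable (s : B →ₐ[A] (baer Y Y').E) (hs : ∀ b, (baer Y Y').proj (s b) = b)

/-- The graph subalgebra: pairs whose class lies in the image of the section. -/
noncomputable def graph : Subalgebra A (fib Y Y') :=
  Subalgebra.comap (Ideal.Quotient.mkₐ A (diag Y Y')) s.range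

lemma mem_graph (x : fib Y Y') :
    x ∈ graph s ↔ ∃ b, (s b : fib Y Y' ⧸ diag Y Y') = Ideal.Quotient.mk (diag Y Y') x := Iff.rfl

/-- first projection from the graph -/
noncomputable def graphFst : graph s →ₐ[A] Y.E :=
  ((AlgHom.fst A Y.E Y'.E).comp (fib Y Y').val).comp (graph s).val

/-- second projection from the graph -/
noncomputable def graphSnd : graph s →ₐ[A] Y'.E :=
  ((AlgHom.snd A Y.E Y'.E).comp (fib Y Y').val).comp (graph s).val

lemma graphFst_apply (x : graph s) : graphFst s x = ((x : fib Y Y') : Y.E × Y'.E).1 := rfl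
lemma graphSnd_apply (x : graph s) : graphSnd s x = ((x : fib Y Y') : Y.E × Y'.E).2 := rfl

include hs in
lemma graphFst_bijective : Function.Bijective (graphFst s) := by
  constructor
  · rw [injective_iff_map_eq_zero]
    intro x hx
    rw [graphFst_apply] at hx
    obtain ⟨b, hb⟩ := (mem_graph s _).mp x.2
    have h1 : b = 0 := by
      have h : baerProj Y Y' (s b : fib Y Y' ⧸ diag Y Y') = b := hs b
      rw [hb, baerProj_mk, hx, map_zero] at h
      exact h.symm
    have hb' : Ideal.Quotient.mk (diag Y Y') (x : fib Y Y') = 0 := by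
      rw [← hb, h1]
      exact map_zero s
    have h2 := (mem_diag Y Y' _).mp (Ideal.Quotient.eq_zero_iff_mem.mp hb')
    obtain ⟨w, hw⟩ := h2
    have h3 : Y.incl w = 0 := by rw [← hx, hw]
    have hw0 : w = 0 := Y.isExtension.incl_injective (by rw [h3, map_zero])
    apply Subtype.ext
    apply Subtype.ext
    rw [hw, hw0, map_zero, map_zero]
    rfl
  · intro e
    obtain ⟨d, hd⟩ := Ideal.Quotient.mk_surjective (s (Y.proj e) : fib Y Y' ⧸ diag Y Y')
    have h1 : Y.proj (d : Y.E × Y'.E).1 = Y.proj e := by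
      have h : baerProj Y Y' (s (Y.proj e) : fib Y Y' ⧸ diag Y Y') = Y.proj e := hs (Y.proj e)
      rw [← hd] at h
      exact h
    have h0 : Y.proj (e - (d : Y.E × Y'.E).1) = 0 := by rw [map_sub, h1, sub_self]
    obtain ⟨z, hz⟩ := (Y.isExtension.exact _).mp h0
    have hmem : ((d : Y.E × Y'.E).1 + Y.incl z, (d : Y.E × Y'.E).2 + Y'.incl z) ∈ fib Y Y' := by
      rw [mem_fib]
      change Y.proj ((d : Y.E × Y'.E).1 + Y.incl z) = Y'.proj ((d : Y.E × Y'.E).2 + Y'.incl z)
      rw [map_add, map_add, proj_incl, proj_incl, add_zero, add_zero]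
      exact (mem_fib Y Y' _).mp d.2
    have hcls : Ideal.Quotient.mk (diag Y Y')
        ⟨((d : Y.E × Y'.E).1 + Y.incl z, (d : Y.E × Y'.E).2 + Y'.incl z), hmem⟩ =
        Ideal.Quotient.mk (diag Y Y') d := by
      rw [Ideal.Quotient.eq, mem_diag]
      refine ⟨z, ?_⟩
      rw [Subalgebra.coe_sub]
      apply Prod.ext
      · change (d : Y.E × Y'.E).1 + Y.incl z - (d : Y.E × Y'.E).1 = _
        ring
      · change (d : Y.E × Y'.E).2 + Y'.incl z - (d : Y.E × Y'.E).2 = _
        ring
    refine ⟨⟨⟨((d : Y.E × Y'.E).1 + Y.incl z, (d : Y.E × Y'.E).2 + Y'.incl z), hmem⟩, ?_⟩, ?_⟩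
    · rw [mem_graph]
      exact ⟨Y.proj e, by rw [hcls, hd]⟩
    · rw [graphFst_apply]
      change (d : Y.E × Y'.E).1 + Y.incl z = e
      rw [hz]; ring

include hs in
theorem equiv_of_baer_section : Nonempty (Y.Equiv Y') := by
  let eq := AlgEquiv.ofBijective (graphFst s) (graphFst_bijective s hs)
  let φ : Y.E →ₐ[A] Y'.E := (graphSnd s).comp eq.symm.toAlgHom
  refine ⟨equivOfHom Y Y' φ ?_ ?_⟩
  · intro e
    obtain ⟨x, hx⟩ : ∃ x, eq.symm e = x := ⟨_, rfl⟩
    have h1 : graphFst s x = e := by rw [← hx]; exact eq.apply_symm_apply e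
    change Y'.proj (graphSnd s (eq.symm e)) = Y.proj e
    rw [hx, ← h1, graphFst_apply, graphSnd_apply]
    exact ((mem_fib Y Y' _).mp (x : fib Y Y').2).symm
  · intro z
    have hmem : (Y.incl z, Y'.incl z) ∈ fib Y Y' := by
      rw [mem_fib]
      change Y.proj (Y.incl z) = Y'.proj (Y'.incl z)
      rw [proj_incl, proj_incl]
    have hg : (⟨(Y.incl z, Y'.incl z), hmem⟩ : fib Y Y') ∈ graph s := by
      rw [mem_graph]
      refine ⟨0, ?_⟩
      have h1 : (Ideal.Quotient.mk (diag Y Y'))
          (⟨(Y.incl z, Y'.incl z), hmem⟩ : fib Y Y') = 0 := by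
        rw [Ideal.Quotient.eq_zero_iff_mem, mem_diag]
        exact ⟨z, rfl⟩
      exact (map_zero s).trans h1.symm
    have h1 : eq.symm (Y.incl z) = ⟨⟨(Y.incl z, Y'.incl z), hmem⟩, hg⟩ := by
      rw [AlgEquiv.symm_apply_eq]
      rfl
    change graphSnd s (eq.symm (Y.incl z)) = Y'.incl z
    rw [h1]
    rfl

end Graph

end General

/-! ### Change of base ring -/

section Base
variable {k Λ R L : Type u} [CommRing k] [CommRing Λ] [Algebra k Λ] [CommRing R] [Algebra Λ R]
  [Algebra k R] [IsScalarTower k Λ R] [AddCommGroup L] [Module R L]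

/-- A `k`-extension whose middle ring receives a compatible ring map from `Λ` is a
`Λ`-extension. -/
def withBase (Z : Ext k R L) (g : Λ →+* Z.E) (hg : ∀ a, Z.proj (g a) = algebraMap Λ R a) :
    Ext Λ R L :=
  letI : Algebra Λ Z.E := g.toAlgebra
  { E := Z.E
    proj := { toRingHom := Z.proj.toRingHom, commutes' := hg }
    incl := Z.incl
    isExtension := ⟨Z.isExtension.proj_surjective, Z.isExtension.incl_injective,
      Z.isExtension.exact, Z.isExtension.mul_incl⟩ }

omit [IsScalarTower k Λ R] [Algebra k Λ] in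
lemma exists_section_of_ringHom (hI : ∀ X : Ext Λ R L, X.IsTrivial) (Z : Ext k R L)
    (g : Λ →+* Z.E) (hg : ∀ a, Z.proj (g a) = algebraMap Λ R a) :
    ∃ s : R →+* Z.E, (∀ r, Z.proj (s r) = r) ∧ ∀ a, s (algebraMap Λ R a) = g a := by
  obtain ⟨s, hs⟩ := hI (withBase Z g hg)
  exact ⟨s.toRingHom, hs, fun a => s.commutes a⟩

end Base

/-! ### Injectivity of the pull-back map on classes -/

section Pull
variable {k Λ R L : Type u} [CommRing k] [CommRing Λ] [Algebra k Λ] [CommRing R] [Algebra Λ R]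
  [Algebra k R] [IsScalarTower k Λ R] [AddCommGroup L] [Module R L] [Module Λ L]
  [IsScalarTower Λ R L]

omit [Module Λ L] [IsScalarTower Λ R L] in
lemma mem_fiberProd (Y : Ext k R L) (x : Y.E × Λ) :
    x ∈ Y.fiberProd Λ ↔ Y.proj x.1 = algebraMap Λ R x.2 := Iff.rfl

variable (Y Y' : Ext k R L) (θ : (Y.pullback Λ).Equiv (Y'.pullback Λ))

/-- the equivalence as a map of fibre products -/
noncomputable def thetaHom : Y.fiberProd Λ →ₐ[k] Y'.fiberProd Λ := θ.toAlgEquiv.toAlgHom

lemma thetaHom_snd (x : Y.fiberProd Λ) :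
    ((thetaHom Y Y' θ x : Y'.fiberProd Λ) : Y'.E × Λ).2 = (x : Y.E × Λ).2 := θ.proj_apply x

lemma thetaHom_incl (z : L) (h : (Y.incl z, (0 : Λ)) ∈ Y.fiberProd Λ) :
    ((thetaHom Y Y' θ ⟨(Y.incl z, 0), h⟩ : Y'.fiberProd Λ) : Y'.E × Λ) = (Y'.incl z, 0) :=
  congrArg Subtype.val (θ.apply_incl z)

/-- The map from the pulled-back extension to the fibre product of `Y` and `Y'`. -/
noncomputable def G0 : Y.fiberProd Λ →ₐ[k] fib Y Y' :=
  AlgHom.codRestrict
    (AlgHom.prod ((AlgHom.fst k Y.E Λ).comp (Y.fiberProd Λ).val)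
      (((AlgHom.fst k Y'.E Λ).comp (Y'.fiberProd Λ).val).comp (thetaHom Y Y' θ)))
    (fib Y Y') (by
      intro x
      rw [mem_fib]
      change Y.proj (x : Y.E × Λ).1 = Y'.proj ((thetaHom Y Y' θ x : Y'.fiberProd Λ) : Y'.E × Λ).1
      have h1 : Y.proj (x : Y.E × Λ).1 = algebraMap Λ R (x : Y.E × Λ).2 := x.2
      have h2 : Y'.proj ((thetaHom Y Y' θ x : Y'.fiberProd Λ) : Y'.E × Λ).1 =
          algebraMap Λ R ((thetaHom Y Y' θ x : Y'.fiberProd Λ) : Y'.E × Λ).2 :=
        (thetaHom Y Y' θ x).2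
      rw [h1, h2, thetaHom_snd])

lemma G0_coe (x : Y.fiberProd Λ) : ((G0 Y Y' θ x : fib Y Y') : Y.E × Y'.E) =
    ((x : Y.E × Λ).1, ((thetaHom Y Y' θ x : Y'.fiberProd Λ) : Y'.E × Λ).1) := rfl

/-- composite to the Baer difference -/
noncomputable def G : Y.fiberProd Λ →ₐ[k] (fib Y Y' ⧸ diag Y Y') :=
  (Ideal.Quotient.mkₐ k (diag Y Y')).comp (G0 Y Y' θ)

/-- the second projection of the fibre product -/
noncomputable def pbProj : Y.fiberProd Λ →ₐ[k] Λ := (AlgHom.snd k Y.E Λ).comp (Y.fiberProd Λ).val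

lemma pbProj_surjective : Function.Surjective (pbProj (Λ := Λ) Y) :=
  (Y.pullback Λ).isExtension.proj_surjective

lemma ker_le : RingHom.ker (pbProj (Λ := Λ) Y).toRingHom ≤ RingHom.ker (G Y Y' θ).toRingHom := by
  intro x hx
  rw [RingHom.mem_ker] at hx ⊢
  have hx2 : (x : Y.E × Λ).2 = 0 := hx
  have h0 : Y.proj (x : Y.E × Λ).1 = 0 := by
    rw [(mem_fiberProd Y _).mp x.2, hx2, map_zero]
  obtain ⟨z, hz⟩ := (Y.isExtension.exact _).mp h0
  have hxz : (x : Y.E × Λ) = (Y.incl z, 0) := Prod.ext hz.symm hx2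
  have hmem : (Y.incl z, (0 : Λ)) ∈ Y.fiberProd Λ := hxz ▸ x.2
  have hx' : x = ⟨(Y.incl z, 0), hmem⟩ := Subtype.ext hxz
  change Ideal.Quotient.mk (diag Y Y') (G0 Y Y' θ x) = 0
  rw [Ideal.Quotient.eq_zero_iff_mem, mem_diag]
  refine ⟨z, ?_⟩
  rw [G0_coe, hx', thetaHom_incl]

/-- the induced ring map `Λ → Y - Y'` -/
noncomputable def gmap : Λ →+* (fib Y Y' ⧸ diag Y Y') :=
  (pbProj (Λ := Λ) Y).toRingHom.liftOfRightInverse (Function.surjInv (pbProj_surjective Y))
    (Function.rightInverse_surjInv (pbProj_surjective Y)) ⟨(G Y Y' θ).toRingHom, ker_le Y Y' θ⟩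

lemma gmap_apply (x : Y.fiberProd Λ) : gmap Y Y' θ (x : Y.E × Λ).2 = G Y Y' θ x :=
  RingHom.liftOfRightInverse_comp_apply _ _ _ ⟨(G Y Y' θ).toRingHom, ker_le Y Y' θ⟩ x

lemma proj_gmap (a : Λ) : baerProj Y Y' (gmap Y Y' θ a) = algebraMap Λ R a := by
  obtain ⟨x, hx⟩ := pbProj_surjective (Λ := Λ) Y a
  have hx2 : (x : Y.E × Λ).2 = a := hx
  rw [← hx2, gmap_apply]
  change baerProj Y Y' (Ideal.Quotient.mk (diag Y Y') (G0 Y Y' θ x)) = _
  rw [baerProj_mk, G0_coe]
  exact (mem_fiberProd Y _).mp x.2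

lemma gmap_algebraMap (c : k) :
    gmap Y Y' θ (algebraMap k Λ c) = algebraMap k (fib Y Y' ⧸ diag Y Y') c := by
  have h1 : ((algebraMap k (Y.fiberProd Λ) c : Y.fiberProd Λ) : Y.E × Λ).2 = algebraMap k Λ c :=
    rfl
  rw [← h1, gmap_apply, AlgHom.commutes]

include θ in
theorem equiv_of_pullback_equiv (hI : ∀ X : Ext Λ R L, X.IsTrivial) : Nonempty (Y.Equiv Y') := by
  obtain ⟨s, hs1, hs2⟩ := exists_section_of_ringHom hI (baer Y Y') (gmap Y Y' θ) (proj_gmap Y Y' θ)
  let s' : R →ₐ[k] (baer Y Y').E :=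
    { toRingHom := s
      commutes' := by
        intro c
        change s (algebraMap k R c) = _
        rw [IsScalarTower.algebraMap_apply k Λ R, hs2]
        exact gmap_algebraMap Y Y' θ c }
  exact equiv_of_baer_section s' hs1

end Pull

/-! ### Derivations -/

section Der
variable {k Λ R L : Type u} [CommRing k] [CommRing Λ] [Algebra k Λ] [CommRing R] [Algebra Λ R]
  [Algebra k R] [IsScalarTower k Λ R] [AddCommGroup L] [Module R L] [Module Λ L]
  [IsScalarTower Λ R L] [Module k L] [IsScalarTower k Λ L] [IsScalarTower k R L]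

omit [IsScalarTower k Λ L] in
theorem der_extends (hI : ∀ X : Ext Λ R L, X.IsTrivial) (D : Derivation k Λ L) :
    ∃ D' : Derivation k R L, ∀ a : Λ, D' (algebraMap Λ R a) = D a := by
  obtain ⟨s, hs⟩ := hI (Ext.ofDerivation (C := R) D)
  let t : R → TrivSqZeroExt R L := fun r => s r
  have ht_fst : ∀ r, (t r).fst = r := hs
  have ht_mul : ∀ r r', t (r * r') = t r * t r' := fun r r' => map_mul s r r'
  have ht_add : ∀ r r', t (r + r') = t r + t r' := fun r r' => map_add s r r'
  have ht_alg : ∀ a : Λ, t (algebraMap Λ R a) =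
      TrivSqZeroExt.inl (algebraMap Λ R a) + TrivSqZeroExt.inr (D a) := fun a => s.commutes a
  have hleib : ∀ r r', (t (r * r')).snd = r • (t r').snd + r' • (t r).snd := by
    intro r r'
    rw [ht_mul, TrivSqZeroExt.snd_mul, ht_fst, ht_fst, op_smul_eq_smul]
  let lin : R →ₗ[k] L :=
    { toFun := fun r => (t r).snd
      map_add' := fun r r' => by rw [ht_add, TrivSqZeroExt.snd_add]
      map_smul' := fun c r => by
        rw [RingHom.id_apply, Algebra.smul_def, hleib, IsScalarTower.algebraMap_apply k Λ R,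
          ht_alg, D.map_algebraMap, TrivSqZeroExt.inr_zero, add_zero, TrivSqZeroExt.snd_inl,
          smul_zero, add_zero, ← IsScalarTower.algebraMap_apply k Λ R, algebraMap_smul] }
  refine ⟨Derivation.mk' lin (fun r r' => hleib r r'), fun a => ?_⟩
  change (t (algebraMap Λ R a)).snd = D a
  rw [ht_alg, TrivSqZeroExt.snd_add, TrivSqZeroExt.snd_inl, TrivSqZeroExt.snd_inr, zero_add]

omit [Algebra k Λ] [Algebra Λ R] [IsScalarTower k Λ R] [Module Λ L] [IsScalarTower Λ R L]
  [Module k L] [IsScalarTower k Λ L] [IsScalarTower k R L] [CommRing Λ] in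
lemma triv_snd_mul (a b : (Ext.trivial k R L).E) :
    TrivSqZeroExt.snd (a * b) =
      TrivSqZeroExt.fst a • TrivSqZeroExt.snd b + TrivSqZeroExt.fst b • TrivSqZeroExt.snd a := by
  have h := TrivSqZeroExt.snd_mul (R := R) (M := L) a b
  rw [op_smul_eq_smul] at h
  exact h

omit [Algebra k Λ] [Algebra Λ R] [IsScalarTower k Λ R] [Module Λ L] [IsScalarTower Λ R L]
  [Module k L] [IsScalarTower k Λ L] [IsScalarTower k R L] [CommRing Λ] in
lemma triv_snd_add (a b : (Ext.trivial k R L).E) :
    TrivSqZeroExt.snd (a + b) = TrivSqZeroExt.snd a + TrivSqZeroExt.snd b :=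
  TrivSqZeroExt.snd_add (R := R) (M := L) a b

/-- The trivial extension pulled back to `Λ` maps to the pull-back of any `Λ`-extension regarded
over `k`. -/
noncomputable def trivToPull (X : Ext Λ R L) :
    (Ext.trivial k R L).fiberProd Λ →ₐ[k] (X.restrictBase k).fiberProd Λ where
  toFun x := ⟨((algebraMap Λ X.E (x : (Ext.trivial k R L).E × Λ).2 +
      X.incl (TrivSqZeroExt.snd (x : (Ext.trivial k R L).E × Λ).1) : X.E),
      (x : (Ext.trivial k R L).E × Λ).2), by
    rw [mem_fiberProd]
    change X.proj (algebraMap Λ X.E (x : (Ext.trivial k R L).E × Λ).2 +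
      X.incl (TrivSqZeroExt.snd (x : (Ext.trivial k R L).E × Λ).1)) = _
    rw [map_add, proj_incl, add_zero, AlgHom.commutes]⟩
  map_one' := by
    apply Subtype.ext
    apply Prod.ext
    · change algebraMap Λ X.E 1 + X.incl (TrivSqZeroExt.snd (1 : TrivSqZeroExt R L)) = 1
      rw [map_one, TrivSqZeroExt.snd_one, map_zero, add_zero]
    · rfl
  map_mul' x y := by
    apply Subtype.ext
    have hx : TrivSqZeroExt.fst (x : (Ext.trivial k R L).E × Λ).1 =
        algebraMap Λ R (x : (Ext.trivial k R L).E × Λ).2 := (mem_fiberProd _ _).mp x.2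
    have hy : TrivSqZeroExt.fst (y : (Ext.trivial k R L).E × Λ).1 =
        algebraMap Λ R (y : (Ext.trivial k R L).E × Λ).2 := (mem_fiberProd _ _).mp y.2
    apply Prod.ext
    · change algebraMap Λ X.E ((x : (Ext.trivial k R L).E × Λ).2 * (y : (Ext.trivial k R L).E × Λ).2)
        + X.incl (TrivSqZeroExt.snd (((x : (Ext.trivial k R L).E × Λ).1 : TrivSqZeroExt R L) *
            ((y : (Ext.trivial k R L).E × Λ).1 : TrivSqZeroExt R L))) =
        (algebraMap Λ X.E (x : (Ext.trivial k R L).E × Λ).2 +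
          X.incl (TrivSqZeroExt.snd (x : (Ext.trivial k R L).E × Λ).1)) *
        (algebraMap Λ X.E (y : (Ext.trivial k R L).E × Λ).2 +
          X.incl (TrivSqZeroExt.snd (y : (Ext.trivial k R L).E × Λ).1))
      rw [triv_snd_mul, hx, hy, map_mul, map_add, add_mul, mul_add,
        mul_add, incl_mul_incl, add_zero, X.isExtension.mul_incl, incl_mul, AlgHom.commutes,
        AlgHom.commutes]
      ring
    · rfl
  map_zero' := by
    apply Subtype.ext
    apply Prod.ext
    · change algebraMap Λ X.E 0 + X.incl (TrivSqZeroExt.snd (0 : TrivSqZeroExt R L)) = 0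
      rw [map_zero, TrivSqZeroExt.snd_zero, map_zero, add_zero]
    · rfl
  map_add' x y := by
    apply Subtype.ext
    apply Prod.ext
    · change algebraMap Λ X.E ((x : (Ext.trivial k R L).E × Λ).2 + (y : (Ext.trivial k R L).E × Λ).2)
        + X.incl (TrivSqZeroExt.snd (((x : (Ext.trivial k R L).E × Λ).1 : TrivSqZeroExt R L) +
            ((y : (Ext.trivial k R L).E × Λ).1 : TrivSqZeroExt R L))) =
        (algebraMap Λ X.E (x : (Ext.trivial k R L).E × Λ).2 +
          X.incl (TrivSqZeroExt.snd (x : (Ext.trivial k R L).E × Λ).1)) +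
        (algebraMap Λ X.E (y : (Ext.trivial k R L).E × Λ).2 +
          X.incl (TrivSqZeroExt.snd (y : (Ext.trivial k R L).E × Λ).1))
      rw [triv_snd_add, map_add, map_add]
      ring
    · rfl
  commutes' c := by
    apply Subtype.ext
    apply Prod.ext
    · change algebraMap Λ X.E (algebraMap k Λ c) +
        X.incl (TrivSqZeroExt.snd (TrivSqZeroExt.inl (algebraMap k R c) : TrivSqZeroExt R L)) =
        algebraMap Λ X.E (algebraMap k Λ c)
      rw [TrivSqZeroExt.snd_inl, map_zero, add_zero]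
    · rfl

omit [IsScalarTower k R L] in
theorem trivial_of_conds
    (hD : ∀ D : Derivation k Λ L, ∃ D' : Derivation k R L, ∀ a, D' (algebraMap Λ R a) = D a)
    (hinj : ∀ Y Y' : Ext k R L,
      Nonempty ((Y.pullback Λ).Equiv (Y'.pullback Λ)) → Nonempty (Y.Equiv Y'))
    (X : Ext Λ R L) : X.IsTrivial := by
  have hθ : Nonempty (((Ext.trivial k R L).pullback Λ).Equiv ((X.restrictBase k).pullback Λ)) := by
    refine ⟨equivOfHom _ _ (trivToPull X) ?_ ?_⟩
    · intro x
      rfl
    · intro z
      apply Subtype.ext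
      apply Prod.ext
      · change algebraMap Λ X.E 0 + X.incl (TrivSqZeroExt.snd (TrivSqZeroExt.inr z)) = X.incl z
        rw [map_zero, zero_add, TrivSqZeroExt.snd_inr]
      · rfl
  obtain ⟨e⟩ := hinj _ _ hθ
  -- the `k`-algebra section
  let s0 : R → X.E := fun r => e.toAlgEquiv (TrivSqZeroExt.inl r : TrivSqZeroExt R L)
  have hs0_proj : ∀ r, X.proj (s0 r) = r := fun r => e.proj_apply (TrivSqZeroExt.inl r)
  have hs0_one : s0 1 = 1 := by
    change e.toAlgEquiv (TrivSqZeroExt.inl 1 : TrivSqZeroExt R L) = 1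
    rw [TrivSqZeroExt.inl_one]
    exact map_one e.toAlgEquiv
  have hs0_mul : ∀ r r', s0 (r * r') = s0 r * s0 r' := by
    intro r r'
    change e.toAlgEquiv (TrivSqZeroExt.inl (r * r') : TrivSqZeroExt R L) = _
    rw [TrivSqZeroExt.inl_mul]
    exact map_mul e.toAlgEquiv _ _
  have hs0_add : ∀ r r', s0 (r + r') = s0 r + s0 r' := by
    intro r r'
    change e.toAlgEquiv (TrivSqZeroExt.inl (r + r') : TrivSqZeroExt R L) = _
    rw [TrivSqZeroExt.inl_add]
    exact map_add e.toAlgEquiv _ _
  have hs0_zero : s0 0 = 0 := by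
    change e.toAlgEquiv (TrivSqZeroExt.inl 0 : TrivSqZeroExt R L) = 0
    rw [TrivSqZeroExt.inl_zero]
    exact map_zero e.toAlgEquiv
  have hs0_alg : ∀ c : k, s0 (algebraMap k R c) = algebraMap Λ X.E (algebraMap k Λ c) :=
    fun c => e.toAlgEquiv.commutes c
  -- the derivation measuring the failure of `Λ`-linearity
  have hex : ∀ a : Λ, ∃ z, X.incl z = algebraMap Λ X.E a - s0 (algebraMap Λ R a) := by
    intro a
    have h0 : X.proj (algebraMap Λ X.E a - s0 (algebraMap Λ R a)) = 0 := by
      rw [map_sub, hs0_proj, AlgHom.commutes, sub_self]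
    exact (X.isExtension.exact _).mp h0
  choose d hd using hex
  have hd_add : ∀ a b, d (a + b) = d a + d b := by
    intro a b
    apply X.isExtension.incl_injective
    rw [map_add, hd, hd, hd, map_add, map_add, hs0_add]
    ring
  have hd_mul : ∀ a b, d (a * b) = a • d b + b • d a := by
    intro a b
    apply X.isExtension.incl_injective
    have h1 : X.incl (a • d b) = algebraMap Λ X.E a * X.incl (d b) := by
      rw [X.isExtension.mul_incl, AlgHom.commutes, algebraMap_smul]
    have h2 : X.incl (b • d a) = s0 (algebraMap Λ R b) * X.incl (d a) := by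
      rw [X.isExtension.mul_incl, hs0_proj, algebraMap_smul]
    rw [map_add, h1, h2, hd, hd, hd, map_mul, map_mul, hs0_mul]
    ring
  have hd_alg : ∀ c : k, d (algebraMap k Λ c) = 0 := by
    intro c
    apply X.isExtension.incl_injective
    rw [hd, map_zero, ← IsScalarTower.algebraMap_apply k Λ R, hs0_alg, sub_self]
  let lin : Λ →ₗ[k] L :=
    { toFun := d
      map_add' := hd_add
      map_smul' := fun c a => by
        rw [RingHom.id_apply, Algebra.smul_def, hd_mul, hd_alg, smul_zero, add_zero,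
          algebraMap_smul] }
  obtain ⟨D', hD'⟩ := hD (Derivation.mk' lin hd_mul)
  have hD'd : ∀ a, D' (algebraMap Λ R a) = d a := hD'
  refine ⟨{ toFun := fun r => s0 r + X.incl (D' r)
            map_one' := by rw [hs0_one, Derivation.map_one_eq_zero, map_zero, add_zero]
            map_mul' := fun r r' => by
              rw [hs0_mul, Derivation.leibniz, map_add, add_mul, mul_add, mul_add, incl_mul_incl,
                add_zero, X.isExtension.mul_incl, incl_mul, hs0_proj, hs0_proj]
              ring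
            map_zero' := by rw [hs0_zero, map_zero, map_zero, add_zero]
            map_add' := fun r r' => by
              rw [hs0_add, map_add, map_add]
              ring
            commutes' := fun a => by
              rw [hD'd, hd]
              ring }, fun r => ?_⟩
  change X.proj (s0 r + X.incl (D' r)) = r
  rw [map_add, hs0_proj, proj_incl, add_zero]

end Der

end Groth.Agent.H80.ExalBaer
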