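import Mathlib
import Groth.Prelude.Def_Exal2
import Groth.Agent.H80.ExalAR
import Groth.Agent.H80.ExalBaer

/-!
# Extensions of a Noetherian local ring and of its completion by a module killed by the
maximal ideal
-/

set_option autoImplicit false
set_option linter.unusedSectionVars false
universe u

namespace Groth.Agent.H80.ExalCompl

open Exal IsLocalRing Groth.Agent.H80.ExalBaer

section Simple

variable {R : Type u} [CommRing R] [IsLocalRing R] {L : Type u} [AddCommGroup L] [Module R L]

lemma smul_eq_zero_of_simple [IsSimpleModule R L] :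
    ∀ r ∈ maximalIdeal R, ∀ z : L, r • z = 0 := by
  intro r hr z
  have hfg : (⊤ : Submodule R L).FG := by
    have hnt : Nontrivial L := IsSimpleModule.nontrivial R L
    obtain ⟨m, hm⟩ := exists_ne (0 : L)
    exact ⟨{m}, by rw [Finset.coe_singleton]; exact IsSimpleModule.span_singleton_eq_top R hm⟩
  have hne : (maximalIdeal R • (⊤ : Submodule R L)) ≠ ⊤ := by
    intro h
    have h1 := Submodule.eq_bot_of_le_smul_of_le_jacobson_bot (maximalIdeal R) (⊤ : Submodule R L)
      hfg (le_of_eq h.symm) (IsLocalRing.maximalIdeal_le_jacobson _)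
    exact top_ne_bot h1
  have hbot : maximalIdeal R • (⊤ : Submodule R L) = ⊥ :=
    (eq_bot_or_eq_top _).resolve_right hne
  have hmem : r • z ∈ maximalIdeal R • (⊤ : Submodule R L) :=
    Submodule.smul_mem_smul hr Submodule.mem_top
  rw [hbot] at hmem
  exact (Submodule.mem_bot R).mp hmem

end Simple

section Hat

variable {Λ : Type u} [CommRing Λ] {R : Type u} [CommRing R] [Algebra Λ R] [IsLocalRing R]
  [IsNoetherianRing R]
  {L : Type u} [AddCommGroup L] [Module (AdicCompletion (maximalIdeal R) R) L] [Module R L]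
  [IsScalarTower R (AdicCompletion (maximalIdeal R) R) L]
  (hL : ∀ r ∈ maximalIdeal R, ∀ z : L, r • z = 0)

local notation "Rhat" => AdicCompletion (maximalIdeal R) R

omit [IsLocalRing R] in
lemma mem_smul_top_of_evalₐ_eq_zero (I : Ideal R) (N : ℕ) (t : AdicCompletion I R)
    (ht : AdicCompletion.evalₐ I N t = 0) :
    t ∈ (I ^ N • ⊤ : Submodule R (AdicCompletion I R)) := by
  have hfg : I.FG := (isNoetherianRing_iff_ideal_fg R).mp inferInstance I
  have hle : I ^ N ≤ I ^ N • (⊤ : Ideal R) := by
    rw [smul_eq_mul, Ideal.mul_top]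
  have h := AdicCompletion.factor_evalₐ_eq_eval I t hle
  rw [ht, map_zero] at h
  rw [AdicCompletion.pow_smul_top_eq_ker_eval hfg, LinearMap.mem_ker]
  exact h.symm

omit [IsNoetherianRing R] in
include hL in
/-- elements of the kernel of the evaluation act trivially -/
lemma smul_eq_zero_of_mem (N : ℕ) (hN : 1 ≤ N) (t : Rhat)
    (ht : t ∈ (maximalIdeal R ^ N • ⊤ : Submodule R Rhat)) (z : L) : t • z = 0 := by
  refine Submodule.smul_induction_on (p := fun t => t • z = 0) ht ?_ ?_
  · intro μ hμ t' _
    have hμ' : μ ∈ maximalIdeal R := Ideal.pow_le_self (by omega) hμ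
    rw [smul_assoc, hL μ hμ']
  · intro x y hx hy
    rw [add_smul, hx, hy, add_zero]

include hL in
lemma hat_smul (N : ℕ) (hN : 1 ≤ N) (s : Rhat) (r : R)
    (h : AdicCompletion.evalₐ (maximalIdeal R) N s = Ideal.Quotient.mk _ r) (z : L) :
    s • z = r • z := by
  have h0 : AdicCompletion.evalₐ (maximalIdeal R) N (s - AdicCompletion.of _ R r) = 0 := by
    rw [map_sub, h, AdicCompletion.evalₐ_of, sub_self]
  have h1 := smul_eq_zero_of_mem hL N hN _ (mem_smul_top_of_evalₐ_eq_zero _ N _ h0) z
  rw [sub_smul, sub_eq_zero] at h1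
  rw [h1]
  exact algebraMap_smul Rhat r z

end Hat

/-! ### Every extension of `R` comes from the completion -/

section PartTwo

variable {Λ : Type u} [CommRing Λ] {R : Type u} [CommRing R] [Algebra Λ R] [IsLocalRing R]
  [IsNoetherianRing R]
  {L : Type u} [AddCommGroup L] [Module (AdicCompletion (maximalIdeal R) R) L] [Module R L]
  [IsScalarTower R (AdicCompletion (maximalIdeal R) R) L]
  (hL : ∀ r ∈ maximalIdeal R, ∀ z : L, r • z = 0)
  (Y : Ext Λ R L) (N : ℕ) (hN : 1 ≤ N)
  (hI0 : ∀ x ∈ (Ideal.comap Y.proj (maximalIdeal R)) ^ N, Y.proj x = 0 → x = 0)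
  (hImap : Ideal.map Y.proj ((Ideal.comap Y.proj (maximalIdeal R)) ^ N) = maximalIdeal R ^ N)

local notation "Rhat" => AdicCompletion (maximalIdeal R) R

/-- the ideal of the middle ring -/
abbrev idl : Ideal Y.E := (Ideal.comap Y.proj (maximalIdeal R)) ^ N

include hImap in
lemma idl_le : idl Y N ≤ Ideal.comap Y.proj (maximalIdeal R ^ N) := by
  intro x hx
  rw [Ideal.mem_comap, ← hImap]
  exact Ideal.mem_map_of_mem _ hx

/-- the projection of the quotient middle ring -/
noncomputable def p0 : (Y.E ⧸ idl Y N) →ₐ[Λ] (R ⧸ maximalIdeal R ^ N) :=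
  Ideal.quotientMapₐ (maximalIdeal R ^ N) Y.proj (idl_le Y N hImap)

lemma p0_mk (e : Y.E) : p0 Y N hImap (Ideal.Quotient.mk _ e) = Ideal.Quotient.mk _ (Y.proj e) :=
  rfl

/-- evaluation of the completion as a `Λ`-algebra map -/
noncomputable def ev : Rhat →ₐ[Λ] (R ⧸ maximalIdeal R ^ N) :=
  (AdicCompletion.evalₐ (maximalIdeal R) N).restrictScalars Λ

lemma ev_apply (s : Rhat) : ev (Λ := Λ) N s = AdicCompletion.evalₐ (maximalIdeal R) N s := rfl

/-- the middle ring of the extension of the completion -/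
noncomputable def XE : Subalgebra Λ ((Y.E ⧸ idl Y N) × Rhat) :=
  AlgHom.equalizer ((p0 Y N hImap).comp (AlgHom.fst Λ (Y.E ⧸ idl Y N) Rhat))
    ((ev N).comp (AlgHom.snd Λ (Y.E ⧸ idl Y N) Rhat))

lemma mem_XE (x : (Y.E ⧸ idl Y N) × Rhat) :
    x ∈ XE Y N hImap ↔ p0 Y N hImap x.1 = AdicCompletion.evalₐ (maximalIdeal R) N x.2 := Iff.rfl

/-- inclusion of `L` -/
noncomputable def inclX : L →+ XE Y N hImap where
  toFun z := ⟨(Ideal.Quotient.mk _ (Y.incl z), 0), by
    rw [mem_XE]
    change p0 Y N hImap (Ideal.Quotient.mk _ (Y.incl z)) = AdicCompletion.evalₐ _ N 0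
    rw [p0_mk, proj_incl, map_zero, map_zero]⟩
  map_zero' := Subtype.ext (by
    change (Ideal.Quotient.mk (idl Y N) (Y.incl 0), (0 : Rhat)) = 0
    rw [map_zero, map_zero]; rfl)
  map_add' z w := Subtype.ext (by
    change (Ideal.Quotient.mk (idl Y N) (Y.incl (z + w)), (0 : Rhat)) =
      (Ideal.Quotient.mk (idl Y N) (Y.incl z), 0) + (Ideal.Quotient.mk (idl Y N) (Y.incl w), 0)
    rw [map_add, map_add, Prod.mk_add_mk, add_zero])

lemma inclX_coe (z : L) : ((inclX Y N hImap z : XE Y N hImap) : (Y.E ⧸ idl Y N) × Rhat) =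
    (Ideal.Quotient.mk _ (Y.incl z), 0) := rfl

include hL hN hI0 in
/-- The extension of the completion. -/
noncomputable def extX : Ext Λ Rhat L where
  E := XE Y N hImap
  proj := (AlgHom.snd Λ (Y.E ⧸ idl Y N) Rhat).comp (XE Y N hImap).val
  incl := inclX Y N hImap
  isExtension :=
    { proj_surjective := by
        intro s
        obtain ⟨r, hr⟩ := Ideal.Quotient.mk_surjective (AdicCompletion.evalₐ (maximalIdeal R) N s)
        obtain ⟨e, he⟩ := Y.isExtension.proj_surjective r
        refine ⟨⟨(Ideal.Quotient.mk _ e, s), ?_⟩, rfl⟩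
        rw [mem_XE]
        change p0 Y N hImap (Ideal.Quotient.mk _ e) = AdicCompletion.evalₐ _ N s
        rw [p0_mk, he, hr]
      incl_injective := by
        rw [injective_iff_map_eq_zero]
        intro z hz
        have h1 : Ideal.Quotient.mk (idl Y N) (Y.incl z) = 0 := by
          have h := congrArg (fun x : XE Y N hImap => (x : (Y.E ⧸ idl Y N) × Rhat).1) hz
          exact h
        rw [Ideal.Quotient.eq_zero_iff_mem] at h1
        have h2 := hI0 _ h1 (proj_incl Y z)
        exact Y.isExtension.incl_injective (by rw [h2, map_zero])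
      exact := by
        intro x
        obtain ⟨⟨ebar, s⟩, hx⟩ := x
        obtain ⟨e, rfl⟩ := Ideal.Quotient.mk_surjective ebar
        rw [mem_XE] at hx
        change p0 Y N hImap (Ideal.Quotient.mk _ e) = AdicCompletion.evalₐ _ N s at hx
        rw [p0_mk] at hx
        constructor
        · intro hs
          change s = 0 at hs
          subst hs
          rw [map_zero, Ideal.Quotient.eq_zero_iff_mem, ← hImap] at hx
          obtain ⟨i, hi, hie⟩ := (Ideal.mem_map_iff_of_surjective _
            Y.isExtension.proj_surjective).mp hx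
          have h0 : Y.proj (e - i) = 0 := by rw [map_sub, hie, sub_self]
          obtain ⟨z, hz⟩ := (Y.isExtension.exact _).mp h0
          refine ⟨z, ?_⟩
          apply Subtype.ext
          rw [inclX_coe]
          refine Prod.ext ?_ rfl
          change Ideal.Quotient.mk (idl Y N) (Y.incl z) = Ideal.Quotient.mk (idl Y N) e
          rw [hz, map_sub, Ideal.Quotient.eq_zero_iff_mem.mpr hi, sub_zero]
        · rintro ⟨z, hz⟩
          have h := congrArg (fun x : XE Y N hImap => (x : (Y.E ⧸ idl Y N) × Rhat).2) hz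
          exact h.symm
      mul_incl := by
        intro x z
        obtain ⟨⟨ebar, s⟩, hx⟩ := x
        obtain ⟨e, rfl⟩ := Ideal.Quotient.mk_surjective ebar
        rw [mem_XE] at hx
        change p0 Y N hImap (Ideal.Quotient.mk _ e) = AdicCompletion.evalₐ _ N s at hx
        rw [p0_mk] at hx
        apply Subtype.ext
        rw [inclX_coe]
        apply Prod.ext
        · change Ideal.Quotient.mk (idl Y N) e * Ideal.Quotient.mk (idl Y N) (Y.incl z) =
            Ideal.Quotient.mk (idl Y N) (Y.incl (s • z))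
          rw [← map_mul, Y.isExtension.mul_incl, hat_smul hL N hN s (Y.proj e) hx.symm z]
        · change s * 0 = 0
          exact mul_zero _ }

include hL hN hI0 hImap in
theorem exists_equiv_pullback :
    ∃ X : Ext Λ Rhat L, Nonempty ((X.pullback R).Equiv Y) := by
  refine ⟨extX hL Y N hN hI0 hImap, ?_⟩
  -- the map from `Y.E` to the fibre product
  let inner0 : Y.E →ₐ[Λ] ((Y.E ⧸ idl Y N) × Rhat) :=
    AlgHom.prod (Ideal.Quotient.mkₐ Λ (idl Y N)) ((IsScalarTower.toAlgHom Λ R Rhat).comp Y.proj)
  have hinner : ∀ e, inner0 e ∈ XE Y N hImap := by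
    intro e
    rw [mem_XE]
    change p0 Y N hImap (Ideal.Quotient.mk _ e) =
      AdicCompletion.evalₐ _ N (AdicCompletion.of _ R (Y.proj e))
    rw [p0_mk, AdicCompletion.evalₐ_of]
  let inner : Y.E →ₐ[Λ] XE Y N hImap := AlgHom.codRestrict inner0 (XE Y N hImap) hinner
  let X := extX hL Y N hN hI0 hImap
  let outer0 : Y.E →ₐ[Λ] (X.E × R) := AlgHom.prod (inner : Y.E →ₐ[Λ] X.E) Y.proj
  have houter : ∀ e, outer0 e ∈ X.fiberProd R := by
    intro e
    rfl
  let ψ : Y.E →ₐ[Λ] (X.pullback R).E := AlgHom.codRestrict outer0 (X.fiberProd R) houter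
  have h1 : ∀ e, (X.pullback R).proj (ψ e) = Y.proj e := fun e => rfl
  have h2 : ∀ z, ψ (Y.incl z) = (X.pullback R).incl z := by
    intro z
    apply Subtype.ext
    apply Prod.ext
    · apply Subtype.ext
      apply Prod.ext
      · rfl
      · change AdicCompletion.of _ R (Y.proj (Y.incl z)) = 0
        rw [proj_incl, map_zero]
    · exact proj_incl Y z
  exact ⟨(equivOfHom Y (X.pullback R) ψ h1 h2).symm⟩

end PartTwo

/-! ### Extending a lifting of `R` to the completion -/

section PartOne

variable {Λ : Type u} [CommRing Λ] {R : Type u} [CommRing R] [Algebra Λ R] [IsLocalRing R]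
  [IsNoetherianRing R]
  {L : Type u} [AddCommGroup L] [Module (AdicCompletion (maximalIdeal R) R) L] [Module R L]
  [IsScalarTower R (AdicCompletion (maximalIdeal R) R) L]
  (hL : ∀ r ∈ maximalIdeal R, ∀ z : L, r • z = 0)

local notation "Rhat" => AdicCompletion (maximalIdeal R) R

variable (F : Ext Λ (AdicCompletion (maximalIdeal R) R) L) (σ : R →+* F.E)
  (hσ : ∀ r, F.proj (σ r) = algebraMap R (AdicCompletion (maximalIdeal R) R) r)

/-- the ideal generated by the images of the generators -/
noncomputable abbrev Jσ (s : Finset R) : Ideal F.E :=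
  Ideal.span (α := F.E) (Set.range (fun i : s => σ (i : R)))

include hL hσ in
lemma span_inter_ker (s : Finset R) (hs : Ideal.span (s : Set R) = maximalIdeal R)
    (w : F.E) (hw : w ∈ Jσ F σ s) (hw0 : F.proj w = 0) :
    w = 0 := by
  classical
  obtain ⟨f, rfl⟩ := (Ideal.mem_span_range_iff_exists_fun).mp hw
  -- the relation in the completion
  have hrel : ∑ i : s, (i : R) • F.proj (f i) = 0 := by
    rw [map_sum] at hw0
    rw [← hw0]
    refine Finset.sum_congr rfl fun i _ => ?_
    rw [map_mul, hσ, Algebra.smul_def, mul_comm]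
  obtain ⟨k, a, y, hy, ha⟩ := Module.Flat.isTrivialRelation_of_sum_smul_eq_zero (ι := s) hrel
  choose g hg using fun j => F.isExtension.proj_surjective (y j)
  have hker : ∀ i, ∃ z, F.incl z = f i - ∑ j, σ (a i j) * g j := by
    intro i
    have h0 : F.proj (f i - ∑ j, σ (a i j) * g j) = 0 := by
      have hyi : F.proj (f i) = ∑ j, a i j • y j := hy i
      rw [map_sub, map_sum, hyi, sub_eq_zero]
      refine Finset.sum_congr rfl fun j _ => ?_
      rw [map_mul, hσ, hg, Algebra.smul_def]
    exact (F.isExtension.exact _).mp h0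
  choose z hz using hker
  have h3 : ∀ i : s, f i * σ (i : R) = ∑ j, σ ((i : R) * a i j) * g j + σ (i : R) * F.incl (z i) := by
    intro i
    rw [hz i, mul_sub, Finset.mul_sum]
    have : ∑ j, σ ((i : R) * a i j) * g j = σ (i : R) * ∑ j, σ (a i j) * g j := by
      rw [Finset.mul_sum]
      refine Finset.sum_congr rfl fun j _ => ?_
      rw [map_mul]; ring
    rw [this, Finset.mul_sum]
    ring
  have h4 : ∀ i : s, σ (i : R) * F.incl (z i) = 0 := by
    intro i
    rw [F.isExtension.mul_incl, hσ, algebraMap_smul,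
      hL _ (hs ▸ Ideal.subset_span i.2), map_zero]
  simp only [h3, h4, add_zero]
  rw [Finset.sum_comm]
  refine Finset.sum_eq_zero fun j _ => ?_
  have haj : ∑ i : s, (i : R) * a i j = 0 := ha j
  rw [← Finset.sum_mul, ← map_sum, haj, map_zero, zero_mul]

include hσ in
lemma exists_mem_span_proj_eq (s : Finset R) (hs : Ideal.span (s : Set R) = maximalIdeal R)
    (t : Rhat) (ht : t ∈ (maximalIdeal R ^ 1 • ⊤ : Submodule R Rhat)) :
    ∃ i : F.E, i ∈ Jσ F σ s ∧ F.proj i = t := by
  refine Submodule.smul_induction_on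
    (p := fun t => ∃ i : F.E, i ∈ Jσ F σ s ∧ F.proj i = t) ht ?_ ?_
  · intro μ hμ t' _
    obtain ⟨f, hf⟩ := F.isExtension.proj_surjective t'
    rw [pow_one, ← hs] at hμ
    obtain ⟨c, hc⟩ := Submodule.mem_span_finset'.mp hμ
    refine ⟨σ μ * f, ?_, ?_⟩
    · rw [← hc, map_sum, Finset.sum_mul]
      refine Ideal.sum_mem _ fun i _ => ?_
      rw [smul_eq_mul, map_mul, mul_assoc, mul_comm (σ (i : R)), ← mul_assoc]
      exact Ideal.mul_mem_left _ _ (Ideal.subset_span ⟨i, rfl⟩)
    · rw [map_mul, hσ, hf, Algebra.smul_def]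
  · rintro x y ⟨i, hi, rfl⟩ ⟨j, hj, rfl⟩
    exact ⟨i + j, Ideal.add_mem _ hi hj, map_add _ _ _⟩

include hσ in
lemma sigma_mem_span (s : Finset R) (hs : Ideal.span (s : Set R) = maximalIdeal R)
    (μ : R) (hμ : μ ∈ maximalIdeal R) :
    σ μ ∈ Jσ F σ s := by
  rw [← hs] at hμ
  obtain ⟨c, hc⟩ := Submodule.mem_span_finset'.mp hμ
  rw [← hc, map_sum]
  refine Ideal.sum_mem _ fun i _ => ?_
  rw [smul_eq_mul, map_mul]
  exact Ideal.mul_mem_left _ _ (Ideal.subset_span ⟨i, rfl⟩)

include hL hσ in
theorem exists_extend :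
    ∃ s : Rhat →+* F.E, (∀ t, F.proj (s t) = t) ∧ ∀ r, s (algebraMap R Rhat r) = σ r := by
  classical
  obtain ⟨S, hS⟩ := (isNoetherianRing_iff_ideal_fg R).mp inferInstance (maximalIdeal R)
  let J : Ideal F.E := Jσ F σ S
  -- the defining property
  let P : Rhat → F.E → Prop := fun t e => F.proj e = t ∧
    ∃ r : R, AdicCompletion.evalₐ (maximalIdeal R) 1 t = Ideal.Quotient.mk _ r ∧ e - σ r ∈ J
  have hex : ∀ t, ∃ e, P t e := by
    intro t
    obtain ⟨r, hr⟩ := Ideal.Quotient.mk_surjective (AdicCompletion.evalₐ (maximalIdeal R) 1 t)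
    have h0 : AdicCompletion.evalₐ (maximalIdeal R) 1 (t - AdicCompletion.of _ R r) = 0 := by
      rw [map_sub, ← hr, AdicCompletion.evalₐ_of, sub_self]
    obtain ⟨i, hi, hit⟩ := exists_mem_span_proj_eq F σ hσ S hS _
      (mem_smul_top_of_evalₐ_eq_zero _ 1 _ h0)
    refine ⟨σ r + i, ?_, r, hr.symm, ?_⟩
    · rw [map_add, hσ, hit]
      change AdicCompletion.of _ R r + (t - AdicCompletion.of _ R r) = t
      ring
    · rw [add_sub_cancel_left]
      exact hi
  have huniq : ∀ t e e', P t e → P t e' → e = e' := by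
    rintro t e e' ⟨h1, r, hr, hJ⟩ ⟨h1', r', hr', hJ'⟩
    have hrr : r - r' ∈ maximalIdeal R := by
      have := hr.symm.trans hr'
      rw [Ideal.Quotient.eq, pow_one] at this
      exact this
    have hmem : e - e' ∈ J := by
      have : e - e' = (e - σ r) - (e' - σ r') + σ (r - r') := by
        rw [map_sub]; ring
      rw [this]
      exact Ideal.add_mem _ (Ideal.sub_mem _ hJ hJ') (sigma_mem_span F σ hσ S hS _ hrr)
    have h0 : F.proj (e - e') = 0 := by rw [map_sub, h1, h1', sub_self]
    exact sub_eq_zero.mp (span_inter_ker hL F σ hσ S hS _ hmem h0)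
  choose sfun hsfun using hex
  have hP : ∀ t e, P t e → sfun t = e := fun t e he => huniq t _ _ (hsfun t) he
  refine ⟨{ toFun := sfun
            map_one' := hP 1 1 ⟨map_one _, 1, by rw [map_one, map_one], by
              rw [map_one, sub_self]; exact Ideal.zero_mem _⟩
            map_mul' := fun x y => by
              obtain ⟨h1, r, hr, hJ⟩ := hsfun x
              obtain ⟨h1', r', hr', hJ'⟩ := hsfun y
              refine hP _ _ ⟨by rw [map_mul, h1, h1'], r * r', by rw [map_mul, hr, hr', map_mul], ?_⟩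
              have : sfun x * sfun y - σ (r * r') =
                  sfun x * (sfun y - σ r') + (sfun x - σ r) * σ r' := by
                rw [map_mul]; ring
              rw [this]
              exact Ideal.add_mem _ (Ideal.mul_mem_left _ _ hJ') (Ideal.mul_mem_right _ _ hJ)
            map_zero' := hP 0 0 ⟨map_zero _, 0, by rw [map_zero, map_zero], by
              rw [map_zero, sub_self]; exact Ideal.zero_mem _⟩
            map_add' := fun x y => by
              obtain ⟨h1, r, hr, hJ⟩ := hsfun x
              obtain ⟨h1', r', hr', hJ'⟩ := hsfun y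
              refine hP _ _ ⟨by rw [map_add, h1, h1'], r + r', by rw [map_add, hr, hr', map_add], ?_⟩
              have : sfun x + sfun y - σ (r + r') = (sfun x - σ r) + (sfun y - σ r') := by
                rw [map_add]; ring
              rw [this]
              exact Ideal.add_mem _ hJ hJ' }, fun t => (hsfun t).1, fun r => ?_⟩
  exact hP _ _ ⟨hσ r, r, AdicCompletion.evalₐ_of _ 1 r, by rw [sub_self]; exact Ideal.zero_mem _⟩

end PartOne

/-! ### Injectivity of the pull-back from the completion -/

section Main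

variable {Λ : Type u} [CommRing Λ] {R : Type u} [CommRing R] [Algebra Λ R] [IsLocalRing R]
  [IsNoetherianRing R]
  {L : Type u} [AddCommGroup L] [Module (AdicCompletion (maximalIdeal R) R) L] [Module R L]
  [IsScalarTower R (AdicCompletion (maximalIdeal R) R) L]
  (hL : ∀ r ∈ maximalIdeal R, ∀ z : L, r • z = 0)

local notation "Rhat" => AdicCompletion (maximalIdeal R) R

include hL in
theorem equiv_of_pullback_equiv_compl (X X' : Ext Λ Rhat L)
    (θ : (X.pullback R).Equiv (X'.pullback R)) : Nonempty (X.Equiv X') := by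
  obtain ⟨s, hs1, hs2⟩ := exists_extend hL (baer X X') (gmap X X' θ) (proj_gmap X X' θ)
  let s' : Rhat →ₐ[Λ] (baer X X').E :=
    { toRingHom := s
      commutes' := by
        intro c
        change s (algebraMap Λ Rhat c) = _
        rw [IsScalarTower.algebraMap_apply Λ R Rhat, hs2]
        exact gmap_algebraMap X X' θ c }
  exact equiv_of_baer_section s' hs1

include hL in
theorem exists_pullback_equiv (Y : Ext Λ R L) :
    ∃ X : Ext Λ Rhat L, Nonempty ((X.pullback R).Equiv Y) := by
  obtain ⟨n, hn⟩ := Groth.Agent.H80.ExalAR.main (Λ := Λ) hL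
  obtain ⟨h1, h2⟩ := hn Y
  exact exists_equiv_pullback hL Y (n + 1) (by omega) h1 h2

end Main

end Groth.Agent.H80.ExalCompl
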