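import Mathlib
import Groth.Prelude.Def_Exal

/-!
Extensions of a local algebra by its residue field versus lifting along small extensions.
-/

set_option autoImplicit false
universe u

namespace Groth.Agent.H80.ExalLift

open IsLocalRing

variable {k : Type u} [Field k] {Λ : Type u} [CommRing Λ] [Algebra k Λ]

section Basic
variable (k Λ) (R : Type u) [CommRing R] [Algebra Λ R]

/-- The structure map `k → Λ → R`. -/
def kmap : k →+* R := (algebraMap Λ R).comp (algebraMap k Λ)

lemma kmap_apply (c : k) : kmap k Λ R c = algebraMap Λ R (algebraMap k Λ c) := rfl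

variable {R} in
lemma kmap_isUnit [Nontrivial R] (c : k) (hc : c ≠ 0) : IsUnit (kmap k Λ R c) :=
  (IsUnit.mk0 c hc).map (kmap k Λ R)

variable {k Λ R} in
lemma algHom_kmap {S : Type u} [CommRing S] [Algebra Λ S] (φ : R →ₐ[Λ] S) (c : k) :
    φ (kmap k Λ R c) = kmap k Λ S c := φ.commutes _

end Basic

section Res
variable {R : Type u} [CommRing R] [Algebra Λ R] [IsLocalRing R]

variable (k Λ R) in
/-- `k → R → κ(R)`. -/
noncomputable def resk : k →+* ResidueField R := (residue R).comp (kmap k Λ R)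

variable (hR : ∀ r : R, ∃ c : k, r - algebraMap Λ R (algebraMap k Λ c) ∈ maximalIdeal R)

include hR in
lemma resk_bijective : Function.Bijective (resk k Λ R) := by
  refine ⟨(resk k Λ R).injective, ?_⟩
  intro z
  obtain ⟨y, rfl⟩ := residue_surjective z
  obtain ⟨c, hc⟩ := hR y
  refine ⟨c, ?_⟩
  have := (residue_eq_zero_iff _).mpr hc
  rw [map_sub, sub_eq_zero] at this
  exact this.symm

/-- The residue field identified with `k`. -/
noncomputable def rho : ResidueField R ≃+* k :=
  (RingEquiv.ofBijective (resk k Λ R) (resk_bijective hR)).symm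

lemma rho_resk (c : k) : rho hR (resk k Λ R c) = c :=
  (RingEquiv.ofBijective (resk k Λ R) (resk_bijective hR)).symm_apply_apply c

lemma resk_rho (z : ResidueField R) : resk k Λ R (rho hR z) = z :=
  (RingEquiv.ofBijective (resk k Λ R) (resk_bijective hR)).apply_symm_apply z

lemma sub_kmap_rho_mem (r : R) :
    r - kmap k Λ R (rho hR (residue R r)) ∈ maximalIdeal R := by
  rw [← residue_eq_zero_iff, map_sub, sub_eq_zero]
  exact (resk_rho hR _).symm

end Res

/-! ### From triviality of extensions to liftings -/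

section PartA
variable {R : Type u} [CommRing R] [Algebra Λ R] [IsLocalRing R]
  (hR : ∀ r : R, ∃ c : k, r - algebraMap Λ R (algebraMap k Λ c) ∈ maximalIdeal R)
  {B : Type u} [CommRing B] [Algebra Λ B] [IsLocalRing B]
  (hB : ∀ b : B, ∃ c : k, b - algebraMap Λ B (algebraMap k Λ c) ∈ maximalIdeal B)
  (t : B) (ht_mem : t ∈ maximalIdeal B) (ht : ∀ b ∈ maximalIdeal B, b * t = 0)
  (φ : R →ₐ[Λ] B ⧸ Ideal.span {t})

/-- The fibre product `R ×_{B/t} B`. -/
def Efib : Subalgebra Λ (R × B) :=
  AlgHom.equalizer (φ.comp (AlgHom.fst Λ R B))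
    ((Ideal.Quotient.mkₐ Λ (Ideal.span {t})).comp (AlgHom.snd Λ R B))

lemma mem_Efib (x : R × B) : x ∈ Efib t φ ↔ φ x.1 = Ideal.Quotient.mk (Ideal.span {t}) x.2 :=
  Iff.rfl

include hB ht_mem in
lemma mem_max_of_mem (r : R) (hr : r ∈ maximalIdeal R) (b : B)
    (h : φ r = Ideal.Quotient.mk (Ideal.span {t}) b) : b ∈ maximalIdeal B := by
  obtain ⟨c, hc⟩ := hB b
  by_cases hc0 : c = 0
  · rw [hc0, map_zero, map_zero, sub_zero] at hc
    exact hc
  · exfalso
    have hu : IsUnit (r - kmap k Λ R c) := by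
      by_contra hnu
      have h1 : r - kmap k Λ R c ∈ maximalIdeal R := (mem_maximalIdeal _).mpr hnu
      have h2 : kmap k Λ R c ∈ maximalIdeal R := by
        have h3 := Ideal.sub_mem _ hr h1
        rwa [sub_sub_cancel] at h3
      exact (mem_maximalIdeal _).mp h2 (kmap_isUnit k Λ c hc0)
    have hu' : IsUnit (φ (r - kmap k Λ R c)) := hu.map φ
    have h4 : φ (r - kmap k Λ R c) =
        Ideal.Quotient.mk (Ideal.span {t}) (b - kmap k Λ B c) := by
      rw [map_sub, h, algHom_kmap, map_sub]
      rfl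
    rw [h4] at hu'
    obtain ⟨y, hy⟩ := hu'.exists_right_inv
    obtain ⟨y', rfl⟩ := Ideal.Quotient.mk_surjective y
    rw [← map_mul, ← map_one (Ideal.Quotient.mk (Ideal.span {t})), Ideal.Quotient.eq] at hy
    have hle : Ideal.span {t} ≤ maximalIdeal B := (Ideal.span_singleton_le_iff_mem _).mpr ht_mem
    have h5 : (b - kmap k Λ B c) * y' - 1 ∈ maximalIdeal B := hle hy
    have h6 : (b - kmap k Λ B c) * y' ∈ maximalIdeal B := Ideal.mul_mem_right _ _ hc
    have h7 : (1 : B) ∈ maximalIdeal B := by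
      have h8 := Ideal.sub_mem _ h6 h5
      rwa [sub_sub_cancel] at h8
    exact (Ideal.ne_top_iff_one _).mp (maximalIdeal.isMaximal B).ne_top h7

/-- The inclusion of the residue field. -/
noncomputable def inclHom : ResidueField R →+ Efib t φ where
  toFun z := ⟨(0, kmap k Λ B (rho hR z) * t), by
    rw [mem_Efib, map_zero]
    exact (Ideal.Quotient.eq_zero_iff_mem.mpr
      (Ideal.mul_mem_left _ _ (Ideal.mem_span_singleton_self t))).symm⟩
  map_zero' := by
    apply Subtype.ext
    change ((0 : R), kmap k Λ B (rho hR 0) * t) = 0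
    rw [map_zero, map_zero, zero_mul]
    rfl
  map_add' z z' := by
    apply Subtype.ext
    change ((0 : R), kmap k Λ B (rho hR (z + z')) * t) =
      ((0 : R), kmap k Λ B (rho hR z) * t) + ((0 : R), kmap k Λ B (rho hR z') * t)
    rw [map_add, map_add, add_mul, Prod.mk_add_mk, add_zero]

lemma inclHom_val (z : ResidueField R) :
    ((inclHom hR t φ z : Efib t φ) : R × B) = (0, kmap k Λ B (rho hR z) * t) := rfl

/-- The extension attached to a lifting problem. -/
noncomputable def extFib (ht0 : t ≠ 0) : Exal.Ext Λ R (ResidueField R) where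
  E := Efib t φ
  proj := (AlgHom.fst Λ R B).comp (Efib t φ).val
  incl := inclHom hR t φ
  isExtension :=
    { proj_surjective := by
        intro r
        obtain ⟨b, hb⟩ := Ideal.Quotient.mk_surjective (φ r)
        exact ⟨⟨(r, b), hb.symm⟩, rfl⟩
      incl_injective := by
        rw [injective_iff_map_eq_zero]
        intro z hz
        have h1 : kmap k Λ B (rho hR z) * t = 0 := by
          have := congrArg (fun x : Efib t φ => (x : R × B).2) hz
          exact this
        by_contra hne
        have h2 : rho hR z ≠ 0 := fun h => hne ((rho hR).map_eq_zero_iff.mp h)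
        exact ht0 ((kmap_isUnit k Λ (rho hR z) h2).mul_right_eq_zero.mp h1)
      exact := by
        intro x
        constructor
        · intro hx
          obtain ⟨⟨r, b⟩, hmem⟩ := x
          change r = 0 at hx
          subst hx
          rw [mem_Efib, map_zero] at hmem
          have hb : b ∈ Ideal.span {t} := Ideal.Quotient.eq_zero_iff_mem.mp hmem.symm
          obtain ⟨a, rfl⟩ := Ideal.mem_span_singleton'.mp hb
          obtain ⟨c, hc⟩ := hB a
          refine ⟨resk k Λ R c, ?_⟩
          apply Subtype.ext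
          rw [inclHom_val, rho_resk]
          change ((0 : R), kmap k Λ B c * t) = (0, a * t)
          have h1 := ht _ hc
          rw [sub_mul, sub_eq_zero] at h1
          exact Prod.ext rfl h1.symm
        · rintro ⟨z, rfl⟩
          rfl
      mul_incl := by
        intro x z
        obtain ⟨⟨r, b⟩, hmem⟩ := x
        apply Subtype.ext
        change (r * 0, b * (kmap k Λ B (rho hR z) * t)) =
          ((0 : R), kmap k Λ B (rho hR (r • z)) * t)
        rw [mul_zero, Algebra.smul_def, ResidueField.algebraMap_eq, map_mul, map_mul]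
        have h0 : b - kmap k Λ B (rho hR (residue R r)) ∈ maximalIdeal B := by
          apply mem_max_of_mem hB t ht_mem φ (r - kmap k Λ R (rho hR (residue R r)))
            (sub_kmap_rho_mem hR r)
          rw [map_sub, algHom_kmap, map_sub]
          rw [mem_Efib] at hmem
          change φ r = _ at hmem
          rw [hmem]
          rfl
        have h1 := ht _ h0
        rw [sub_mul, sub_eq_zero] at h1
        congr 1
        rw [mul_left_comm, h1]
        ring }

include hR hB ht_mem ht in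
theorem lift_of_trivial (htriv : ∀ X : Exal.Ext Λ R (ResidueField R), X.IsTrivial) :
    ∃ φ' : R →ₐ[Λ] B, (Ideal.Quotient.mkₐ Λ (Ideal.span {t})).comp φ' = φ := by
  by_cases ht0 : t = 0
  · have hbot : Ideal.span {t} = ⊥ := Ideal.span_singleton_eq_bot.mpr ht0
    have hbij : Function.Bijective (Ideal.Quotient.mkₐ Λ (Ideal.span {t})) := by
      refine ⟨?_, Ideal.Quotient.mkₐ_surjective Λ _⟩
      rw [injective_iff_map_eq_zero]
      intro x hx
      rw [Ideal.Quotient.mkₐ_eq_mk, Ideal.Quotient.eq_zero_iff_mem, hbot, Ideal.mem_bot] at hx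
      exact hx
    let e := AlgEquiv.ofBijective _ hbij
    refine ⟨e.symm.toAlgHom.comp φ, ?_⟩
    ext r
    exact e.apply_symm_apply (φ r)
  · obtain ⟨s, hs⟩ := htriv (extFib hR hB t ht_mem ht φ ht0)
    refine ⟨(AlgHom.snd Λ R B).comp ((Efib t φ).val.comp s), ?_⟩
    ext r
    let sr : Efib t φ := s r
    have h := (mem_Efib t φ _).mp sr.2
    have h1 : (sr : R × B).1 = r := hs r
    rw [h1] at h
    exact h.symm

end PartA

/-! ### From liftings to triviality of extensions -/

section PartB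
variable {R : Type u} [CommRing R] [Algebra Λ R] [IsLocalRing R]
  (hR : ∀ r : R, ∃ c : k, r - algebraMap Λ R (algebraMap k Λ c) ∈ maximalIdeal R)
  (X : Exal.Ext Λ R (ResidueField R))

lemma proj_incl (z : ResidueField R) : X.proj (X.incl z) = 0 :=
  (X.isExtension.exact _).mpr ⟨z, rfl⟩

lemma incl_mul_incl (z z' : ResidueField R) : X.incl z * X.incl z' = 0 := by
  rw [X.isExtension.mul_incl, proj_incl, zero_smul, map_zero]

lemma isUnit_of_proj (x : X.E) (h : IsUnit (X.proj x)) : IsUnit x := by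
  obtain ⟨r, hr⟩ := h.exists_right_inv
  obtain ⟨y, rfl⟩ := X.isExtension.proj_surjective r
  have h0 : X.proj (x * y - 1) = 0 := by rw [map_sub, map_mul, hr, map_one, sub_self]
  obtain ⟨z, hz⟩ := (X.isExtension.exact _).mp h0
  have h1 : x * (y * (1 - X.incl z)) = 1 := by
    have h2 : x * y = 1 + X.incl z := by rw [hz]; ring
    rw [← mul_assoc, h2]
    have h3 := incl_mul_incl X z z
    linear_combination (-1 : X.E) * h3
  exact IsUnit.of_mul_eq_one _ h1

lemma E_nontrivial : Nontrivial X.E := X.isExtension.proj_surjective.nontrivial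

lemma E_local : IsLocalRing X.E := by
  have := E_nontrivial X
  apply IsLocalRing.of_nonunits_add
  intro a b ha hb
  have ha' : X.proj a ∈ nonunits R := fun h => ha (isUnit_of_proj X a h)
  have hb' : X.proj b ∈ nonunits R := fun h => hb (isUnit_of_proj X b h)
  intro hab
  have := IsLocalRing.nonunits_add ha' hb'
  rw [← map_add] at this
  exact this (hab.map X.proj)

lemma incl_eq_mul (z : ResidueField R) : ∃ x : X.E, X.incl z = x * X.incl 1 := by
  obtain ⟨r, rfl⟩ := residue_surjective z
  obtain ⟨x, rfl⟩ := X.isExtension.proj_surjective r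
  refine ⟨x, ?_⟩
  rw [X.isExtension.mul_incl, Algebra.smul_def, ResidueField.algebraMap_eq, mul_one]

lemma incl_one_eq_mul (z : ResidueField R) (hz : z ≠ 0) : ∃ x : X.E, X.incl 1 = x * X.incl z := by
  obtain ⟨r, hr⟩ := residue_surjective z⁻¹
  obtain ⟨x, rfl⟩ := X.isExtension.proj_surjective r
  refine ⟨x, ?_⟩
  rw [X.isExtension.mul_incl, Algebra.smul_def, ResidueField.algebraMap_eq, hr, inv_mul_cancel₀ hz]

lemma incl_one_ne_zero : X.incl 1 ≠ 0 := by
  intro h
  have := X.isExtension.incl_injective (h.trans (map_zero X.incl).symm)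
  exact one_ne_zero this

lemma E_noeth [IsNoetherianRing R] : IsNoetherianRing X.E := by
  classical
  rw [isNoetherianRing_iff_ideal_fg]
  intro J
  have hsurj : Function.Surjective X.proj.toRingHom := X.isExtension.proj_surjective
  obtain ⟨s, hs⟩ : (J.map X.proj.toRingHom).FG := IsNoetherian.noetherian _
  have hlift : ∀ r ∈ s, ∃ x ∈ J, X.proj x = r := fun r hr =>
    (Ideal.mem_map_iff_of_surjective _ hsurj).mp (hs ▸ Ideal.subset_span hr)
  choose! g hgJ hg using hlift
  have hspanJ : Ideal.span ((s.image g : Finset X.E) : Set X.E) ≤ J := by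
    rw [Ideal.span_le]
    intro x hx
    rw [Finset.coe_image] at hx
    obtain ⟨r, hr, rfl⟩ := hx
    exact hgJ r hr
  have hdecomp : ∀ y ∈ J, ∃ w ∈ Ideal.span ((s.image g : Finset X.E) : Set X.E),
      ∃ z : ResidueField R, y = w + X.incl z := by
    intro y hy
    have h1 : X.proj y ∈ (Ideal.span ((s.image g : Finset X.E) : Set X.E)).map
        X.proj.toRingHom := by
      rw [Ideal.map_span, Finset.coe_image, Set.image_image]
      have h2 : (fun r => X.proj.toRingHom (g r)) '' (s : Set R) = (s : Set R) := by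
        ext r
        constructor
        · rintro ⟨r', hr', hr''⟩
          rw [← hr'']
          change X.proj (g r') ∈ (s : Set R)
          rw [hg r' hr']
          exact hr'
        · intro hr
          exact ⟨r, hr, hg r hr⟩
      rw [h2]
      have h3 : X.proj y ∈ Ideal.span (s : Set R) := by
        rw [hs]
        exact Ideal.mem_map_of_mem _ hy
      exact h3
    obtain ⟨w, hw, hwy⟩ := (Ideal.mem_map_iff_of_surjective _ hsurj).mp h1
    have h0 : X.proj (y - w) = 0 := by
      rw [map_sub]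
      change X.proj y - X.proj.toRingHom w = 0
      rw [hwy]
      exact sub_self _
    obtain ⟨z, hz⟩ := (X.isExtension.exact _).mp h0
    exact ⟨w, hw, z, by rw [hz]; ring⟩
  by_cases he : X.incl 1 ∈ J
  · refine ⟨insert (X.incl 1) (s.image g), le_antisymm ?_ ?_⟩
    · rw [Submodule.span_le]
      intro x hx
      rw [Finset.coe_insert] at hx
      rcases hx with rfl | hx
      · exact he
      · exact hspanJ (Ideal.subset_span hx)
    · intro y hy
      obtain ⟨w, hw, z, rfl⟩ := hdecomp y hy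
      obtain ⟨x, hx⟩ := incl_eq_mul X z
      rw [hx]
      refine Submodule.add_mem _ ?_ ?_
      · exact Ideal.span_mono (by rw [Finset.coe_insert]; exact Set.subset_insert _ _) hw
      · exact Ideal.mul_mem_left _ _ (Ideal.subset_span (by
          rw [Finset.coe_insert]; exact Set.mem_insert _ _))
  · refine ⟨s.image g, le_antisymm hspanJ ?_⟩
    intro y hy
    obtain ⟨w, hw, z, rfl⟩ := hdecomp y hy
    by_cases hz : z = 0
    · rw [hz, map_zero, add_zero]
      exact hw
    · exfalso
      apply he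
      obtain ⟨x, hx⟩ := incl_one_eq_mul X z hz
      rw [hx]
      apply Ideal.mul_mem_left
      have := J.sub_mem hy (hspanJ hw)
      rwa [add_sub_cancel_left] at this

lemma proj_mem_max (x : X.E) (hx : ¬ IsUnit x) : X.proj x ∈ maximalIdeal R :=
  (mem_maximalIdeal _).mpr fun h => hx (isUnit_of_proj X x h)

lemma mul_incl_eq_zero (x : X.E) (hx : ¬ IsUnit x) (z : ResidueField R) : x * X.incl z = 0 := by
  rw [X.isExtension.mul_incl, Algebra.smul_def, ResidueField.algebraMap_eq,
    (residue_eq_zero_iff _).mpr (proj_mem_max X x hx), zero_mul, map_zero]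

include hR in
theorem trivial_of_lift [IsNoetherianRing R]
    (hlift : ∀ (B : Type u) [CommRing B] [Algebra Λ B] [IsLocalRing B] [IsArtinianRing B],
      (∀ b : B, ∃ c : k, b - algebraMap Λ B (algebraMap k Λ c) ∈ IsLocalRing.maximalIdeal B) →
      ∀ t : B, t ∈ IsLocalRing.maximalIdeal B → (∀ b ∈ IsLocalRing.maximalIdeal B, b * t = 0) →
      ∀ φ : R →ₐ[Λ] B ⧸ Ideal.span {t},
        ∃ φ' : R →ₐ[Λ] B, (Ideal.Quotient.mkₐ Λ (Ideal.span {t})).comp φ' = φ) :
    X.IsTrivial := by
  have := E_local X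
  have := E_noeth X
  -- Krull intersection
  obtain ⟨n, hn⟩ : ∃ n : ℕ, X.incl 1 ∉ maximalIdeal X.E ^ n := by
    by_contra hall
    push Not at hall
    have h1 : X.incl 1 ∈ ⨅ i : ℕ, maximalIdeal X.E ^ i := (Ideal.mem_iInf).mpr hall
    rw [Ideal.iInf_pow_eq_bot_of_isLocalRing _ (maximalIdeal.isMaximal X.E).ne_top,
      Ideal.mem_bot] at h1
    exact incl_one_ne_zero X h1
  set I : Ideal X.E := maximalIdeal X.E ^ n with hI
  have hItop : I ≠ ⊤ := fun h => hn (h ▸ Submodule.mem_top)
  have : Nontrivial (X.E ⧸ I) := Ideal.Quotient.nontrivial_iff.mpr hItop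
  have : IsLocalRing (X.E ⧸ I) :=
    IsLocalRing.of_surjective' (Ideal.Quotient.mk I) Ideal.Quotient.mk_surjective
  have hmaxB : ∀ x : X.E, Ideal.Quotient.mk I x ∈ maximalIdeal (X.E ⧸ I) → ¬ IsUnit x :=
    fun x hx hu => (mem_maximalIdeal _).mp hx (hu.map (Ideal.Quotient.mk I))
  have hmaxB' : ∀ x : X.E, ¬ IsUnit x → Ideal.Quotient.mk I x ∈ maximalIdeal (X.E ⧸ I) := by
    intro x hx
    rw [mem_maximalIdeal]
    intro hu
    obtain ⟨y, hy⟩ := hu.exists_right_inv
    obtain ⟨y', rfl⟩ := Ideal.Quotient.mk_surjective y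
    rw [← map_mul, ← map_one (Ideal.Quotient.mk I), Ideal.Quotient.eq] at hy
    have hle : I ≤ maximalIdeal X.E := IsLocalRing.le_maximalIdeal hItop
    have h5 : x * y' - 1 ∈ maximalIdeal X.E := hle hy
    have h6 : x * y' ∈ maximalIdeal X.E :=
      Ideal.mul_mem_right _ _ ((mem_maximalIdeal _).mpr hx)
    have h7 : (1 : X.E) ∈ maximalIdeal X.E := by
      have h8 := Ideal.sub_mem _ h6 h5
      rwa [sub_sub_cancel] at h8
    exact (Ideal.ne_top_iff_one _).mp (maximalIdeal.isMaximal X.E).ne_top h7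
  have : IsArtinianRing (X.E ⧸ I) := by
    rw [isArtinianRing_iff_isNilpotent_maximalIdeal]
    refine ⟨n, ?_⟩
    rw [Ideal.zero_eq_bot, eq_bot_iff]
    have h1 : maximalIdeal (X.E ⧸ I) ≤ (maximalIdeal X.E).map (Ideal.Quotient.mk I) := by
      intro b hb
      obtain ⟨x, rfl⟩ := Ideal.Quotient.mk_surjective b
      exact Ideal.mem_map_of_mem _ ((mem_maximalIdeal _).mpr (hmaxB x hb))
    calc maximalIdeal (X.E ⧸ I) ^ n ≤ ((maximalIdeal X.E).map (Ideal.Quotient.mk I)) ^ n :=
          Ideal.pow_right_mono h1 n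
      _ = (maximalIdeal X.E ^ n).map (Ideal.Quotient.mk I) := (Ideal.map_pow _ _ _).symm
      _ = ⊥ := Ideal.map_quotient_self I
  have hBres : ∀ b : X.E ⧸ I, ∃ c : k,
      b - algebraMap Λ (X.E ⧸ I) (algebraMap k Λ c) ∈ maximalIdeal (X.E ⧸ I) := by
    intro b
    obtain ⟨x, rfl⟩ := Ideal.Quotient.mk_surjective b
    obtain ⟨c, hc⟩ := hR (X.proj x)
    refine ⟨c, ?_⟩
    have h1 : Ideal.Quotient.mk I x - algebraMap Λ (X.E ⧸ I) (algebraMap k Λ c) =
        Ideal.Quotient.mk I (x - algebraMap Λ X.E (algebraMap k Λ c)) := by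
      rw [map_sub]
      rfl
    rw [h1]
    apply hmaxB'
    intro hu
    have h2 : X.proj (x - algebraMap Λ X.E (algebraMap k Λ c)) =
        X.proj x - algebraMap Λ R (algebraMap k Λ c) := by
      rw [map_sub, AlgHom.commutes]
    exact (mem_maximalIdeal _).mp (h2 ▸ hc) (hu.map X.proj)
  have he1 : ¬ IsUnit (X.incl 1) := fun hu => by
    have := hu.map X.proj
    rw [proj_incl] at this
    exact not_isUnit_zero this
  let t : X.E ⧸ I := Ideal.Quotient.mk I (X.incl 1)
  have ht_mem : t ∈ maximalIdeal (X.E ⧸ I) := hmaxB' _ he1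
  have ht : ∀ b ∈ maximalIdeal (X.E ⧸ I), b * t = 0 := by
    intro b hb
    obtain ⟨x, rfl⟩ := Ideal.Quotient.mk_surjective b
    change Ideal.Quotient.mk I x * Ideal.Quotient.mk I (X.incl 1) = 0
    rw [← map_mul, mul_incl_eq_zero X x (hmaxB x hb), map_zero]
  let g : X.E →ₐ[Λ] (X.E ⧸ I) ⧸ Ideal.span {t} :=
    (Ideal.Quotient.mkₐ Λ (Ideal.span {t})).comp (Ideal.Quotient.mkₐ Λ I)
  have hker : RingHom.ker X.proj.toRingHom ≤ RingHom.ker g.toRingHom := by
    intro x hx
    rw [RingHom.mem_ker] at hx ⊢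
    obtain ⟨z, rfl⟩ := (X.isExtension.exact x).mp hx
    obtain ⟨y, hy⟩ := incl_eq_mul X z
    change Ideal.Quotient.mk (Ideal.span {t}) (Ideal.Quotient.mk I (X.incl z)) = 0
    rw [hy, map_mul, Ideal.Quotient.eq_zero_iff_mem]
    exact Ideal.mul_mem_left _ _ (Ideal.mem_span_singleton_self t)
  let φ : R →ₐ[Λ] (X.E ⧸ I) ⧸ Ideal.span {t} :=
    AlgHom.liftOfSurjective X.proj X.isExtension.proj_surjective g hker
  have hφ : ∀ x : X.E, φ (X.proj x) =
      Ideal.Quotient.mk (Ideal.span {t}) (Ideal.Quotient.mk I x) :=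
    fun x => AlgHom.liftOfSurjective_apply X.proj X.isExtension.proj_surjective g hker x
  obtain ⟨φ', hφ'⟩ := hlift (X.E ⧸ I) hBres t ht_mem ht φ
  have hφ'' : ∀ r : R, Ideal.Quotient.mk (Ideal.span {t}) (φ' r) = φ r :=
    fun r => AlgHom.congr_fun hφ' r
  -- the comparison map
  let Ψ : X.E →ₐ[Λ] R × (X.E ⧸ I) := AlgHom.prod X.proj (Ideal.Quotient.mkₐ Λ I)
  have hΨinj : Function.Injective Ψ := by
    rw [injective_iff_map_eq_zero]
    intro x hx
    have h1 : X.proj x = 0 := congrArg Prod.fst hx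
    have h2 : Ideal.Quotient.mk I x = 0 := congrArg Prod.snd hx
    obtain ⟨z, rfl⟩ := (X.isExtension.exact x).mp h1
    by_contra hne
    have hz : z ≠ 0 := fun h => hne (by rw [h, map_zero])
    obtain ⟨y, hy⟩ := incl_one_eq_mul X z hz
    apply hn
    rw [hy]
    exact Ideal.mul_mem_left _ _ (Ideal.Quotient.eq_zero_iff_mem.mp h2)
  have hmem : ∀ r : R, (AlgHom.prod (AlgHom.id Λ R) φ') r ∈ Ψ.range := by
    intro r
    obtain ⟨x₀, hx₀⟩ := X.isExtension.proj_surjective r
    have h1 : Ideal.Quotient.mk (Ideal.span {t}) (Ideal.Quotient.mk I x₀ - φ' r) = 0 := by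
      rw [map_sub, hφ'', ← hx₀, hφ, sub_self]
    obtain ⟨b, hb⟩ := Ideal.mem_span_singleton'.mp (Ideal.Quotient.eq_zero_iff_mem.mp h1)
    obtain ⟨y, rfl⟩ := Ideal.Quotient.mk_surjective b
    refine ⟨x₀ - y * X.incl 1, ?_⟩
    change (X.proj (x₀ - y * X.incl 1), Ideal.Quotient.mk I (x₀ - y * X.incl 1)) = (r, φ' r)
    rw [map_sub, map_mul, proj_incl, mul_zero, sub_zero, hx₀, map_sub, map_mul]
    change (r, Ideal.Quotient.mk I x₀ - Ideal.Quotient.mk I y * t) = (r, φ' r)
    rw [hb, sub_sub_cancel]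
  let e := AlgEquiv.ofInjective Ψ hΨinj
  let s : R →ₐ[Λ] X.E :=
    e.symm.toAlgHom.comp ((AlgHom.prod (AlgHom.id Λ R) φ').codRestrict Ψ.range hmem)
  refine ⟨s, fun r => ?_⟩
  have h1 : e (s r) = ⟨(AlgHom.prod (AlgHom.id Λ R) φ') r, hmem r⟩ :=
    e.apply_symm_apply _
  have h2 : Ψ (s r) = (AlgHom.prod (AlgHom.id Λ R) φ') r := congrArg Subtype.val h1
  exact congrArg Prod.fst h2

end PartB

end Groth.Agent.H80.ExalLift
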