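import Mathlib

set_option autoImplicit false
universe u

namespace Groth.Agent.H80.PDeg

open Polynomial

section Basis
variable {E : Type*} [Field E]

/-- a finite basis of the subfield `B` over the subfield `A`, in elementwise terms -/
def IsBasisOver {ι : Type*} (A B : Subfield E) (s : ι → E) : Prop :=
  (∀ i, s i ∈ B) ∧ (∀ z ∈ B, z ∈ Submodule.span A (Set.range s)) ∧ LinearIndependent A s

lemma relfinrank_eq_card {ι : Type*} [Fintype ι] {A B : Subfield E} (h : A ≤ B) {s : ι → E}
    (hs : IsBasisOver A B s) : A.relfinrank B = Fintype.card ι := by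
  rw [Subfield.relfinrank_eq_finrank_of_le h]
  let v : ι → Subfield.extendScalars h := fun i => ⟨s i, hs.1 i⟩
  have hli : LinearIndependent A v := by
    have h0 : LinearIndependent A ((Subfield.extendScalars h).val.toLinearMap ∘ v) := hs.2.2
    exact LinearIndependent.of_comp _ h0
  have hsp : ⊤ ≤ Submodule.span A (Set.range v) := by
    rintro ⟨z, hz⟩ -
    have h1 := hs.2.1 z hz
    have h2 : Set.range s = (Subfield.extendScalars h).val.toLinearMap '' Set.range v := by
      rw [← Set.range_comp]; rfl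
    rw [h2, ← Submodule.map_span] at h1
    obtain ⟨w, hw, hwz⟩ := h1
    have : w = ⟨z, hz⟩ := Subtype.ext hwz
    rw [← this]; exact hw
  exact Module.finrank_eq_card_basis (Module.Basis.mk hli hsp)

lemma exists_basis {A B : Subfield E} (h : A ≤ B) {n : ℕ} (hn : n ≠ 0)
    (hr : A.relfinrank B = n) : ∃ s : Fin n → E, IsBasisOver A B s := by
  rw [Subfield.relfinrank_eq_finrank_of_le h] at hr
  have hfin : Module.Finite A (Subfield.extendScalars h) :=
    Module.finite_of_finrank_pos (by omega)
  let bas := Module.finBasisOfFinrankEq A (Subfield.extendScalars h) hr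
  refine ⟨fun i => ((bas i : Subfield.extendScalars h) : E), fun i => (bas i).2, ?_, ?_⟩
  · intro z hz
    have h1 : (⟨z, hz⟩ : Subfield.extendScalars h) ∈ Submodule.span A (Set.range bas) := by
      rw [bas.span_eq]; trivial
    have h2 := Submodule.mem_map_of_mem (f := (Subfield.extendScalars h).val.toLinearMap) h1
    rw [Submodule.map_span, ← Set.range_comp] at h2
    exact h2
  · have := bas.linearIndependent.map' (Subfield.extendScalars h).val.toLinearMap
      (LinearMap.ker_eq_bot.mpr (Subfield.extendScalars h).val.injective)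
    exact this

end Basis

section Frob
variable {E : Type*} [Field E] (p : ℕ) [Fact p.Prime] [CharP E p]

/-- the subfield of `p`-th powers of elements of `L` -/
def pw (L : Subfield E) : Subfield E := L.map (frobenius E p)

lemma mem_pw {L : Subfield E} {y : E} : y ∈ pw p L ↔ ∃ z ∈ L, z ^ p = y := by
  simp only [pw, Subfield.mem_map, frobenius_def]

lemma pow_mem_pw {L : Subfield E} {z : E} (hz : z ∈ L) : z ^ p ∈ pw p L :=
  (mem_pw p).mpr ⟨z, hz, rfl⟩

lemma pw_le (L : Subfield E) : pw p L ≤ L := by
  intro y hy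
  obtain ⟨z, hz, rfl⟩ := (mem_pw p).mp hy
  exact pow_mem hz p

lemma pw_mono {L M : Subfield E} (h : L ≤ M) : pw p L ≤ pw p M := by
  intro y hy
  obtain ⟨z, hz, rfl⟩ := (mem_pw p).mp hy
  exact pow_mem_pw p (h hz)

lemma pw_top : pw p (⊤ : Subfield E) = (frobenius E p).fieldRange := by
  rw [pw, RingHom.fieldRange_eq_map]

lemma relfinrank_pw_of_finite {L M : Subfield E} (h : L ≤ M) (hn : L.relfinrank M ≠ 0) :
    (pw p M).relfinrank M = (pw p L).relfinrank L := by
  have h1 := Subfield.relfinrank_mul_relfinrank (pw_mono p h) (pw_le p M)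
  have h2 := Subfield.relfinrank_mul_relfinrank (pw_le p L) h
  have h3 : (pw p L).relfinrank (pw p M) = L.relfinrank M :=
    Subfield.relfinrank_map_map L M (frobenius E p)
  rw [h3] at h1
  have h4 : L.relfinrank M * (pw p M).relfinrank M = L.relfinrank M * (pw p L).relfinrank L := by
    rw [h1, mul_comm, h2]
  exact Nat.eq_of_mul_eq_mul_left (Nat.pos_of_ne_zero hn) h4

end Frob

section Transc
variable {E : Type*} [Field E] (p : ℕ) [Fact p.Prime] [CharP E p]
variable {L' : Type*} [Field L'] [Algebra L' E]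

omit [CharP E p] in
lemma coeff_pow_char {R : Type*} [CommRing R] [CharP R p] (f : R[X]) (k : ℕ) :
    (f ^ p).coeff k = if p ∣ k then (f.coeff (k / p)) ^ p else 0 := by
  have hp : p.Prime := Fact.out
  rw [← Polynomial.map_frobenius_expand, coeff_map, coeff_expand hp.pos, frobenius_def]
  split_ifs
  · rfl
  · exact zero_pow hp.ne_zero

omit [Fact p.Prime] [CharP E p] in
lemma aeval_mem_adjoin (x : E) (g : L'[X]) :
    aeval x g ∈ (IntermediateField.adjoin L' {x}).toSubfield := by
  have h1 : aeval x g ∈ Algebra.adjoin L' {x} := Polynomial.aeval_mem_adjoin_singleton _ _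
  exact IntermediateField.algebra_adjoin_le_adjoin L' {x} h1

omit [Fact p.Prime] [CharP E p] in
lemma exists_frac {x : E} {z : E} (hz : z ∈ (IntermediateField.adjoin L' {x}).toSubfield) :
    ∃ r s : L'[X], aeval x s ≠ 0 ∧ z * aeval x s = aeval x r := by
  obtain ⟨r, s, rfl⟩ := (IntermediateField.mem_adjoin_simple_iff L' z).mp hz
  by_cases hs : aeval x s = 0
  · exact ⟨0, 1, by simp, by simp [hs]⟩
  · exact ⟨r, s, hs, div_mul_cancel₀ _ hs⟩

theorem basis_adjoin_transcendental {x : E} (hx : Transcendental L' x) {n : ℕ} {b : Fin n → E}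
    (hb : IsBasisOver (pw p (algebraMap L' E).fieldRange) (algebraMap L' E).fieldRange b) :
    IsBasisOver (pw p (IntermediateField.adjoin L' {x}).toSubfield)
      (IntermediateField.adjoin L' {x}).toSubfield
      (fun ij : Fin p × Fin n => x ^ (ij.1 : ℕ) * b ij.2) := by
  have hp : p.Prime := Fact.out
  set L : Subfield E := (algebraMap L' E).fieldRange with hL
  set M : Subfield E := (IntermediateField.adjoin L' {x}).toSubfield with hM
  have hLM : L ≤ M := by
    rintro _ ⟨c, rfl⟩
    exact (IntermediateField.adjoin L' {x}).algebraMap_mem c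
  have hxM : x ∈ M := IntermediateField.mem_adjoin_simple_self L' x
  have : CharP L' p := (algebraMap L' E).charP (algebraMap L' E).injective p
  refine ⟨fun ij => mul_mem (pow_mem hxM _) (hLM (hb.1 ij.2)), ?_, ?_⟩
  · -- spanning
    have hxp : x ^ p ∈ pw p M := pow_mem_pw p hxM
    have ha : ∀ l ∈ L, ∀ m : ℕ, x ^ m * l ∈ Submodule.span (pw p M)
        (Set.range fun ij : Fin p × Fin n => x ^ (ij.1 : ℕ) * b ij.2) := by
      intro l hl m
      obtain ⟨c, hc⟩ := (Submodule.mem_span_range_iff_exists_fun _).mp (hb.2.1 l hl)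
      have h1 : x ^ m * l = ∑ j, (⟨(x ^ p) ^ (m / p) * (c j : E),
          mul_mem (pow_mem hxp _) (pw_mono p hLM (c j).2)⟩ : pw p M) • (x ^ (m % p) * b j) := by
        rw [← hc, Finset.mul_sum]
        refine Finset.sum_congr rfl fun j _ => ?_
        rw [Subfield.smul_def, Subfield.smul_def, smul_eq_mul, smul_eq_mul]
        conv_lhs => rw [← Nat.div_add_mod m p, pow_add, pow_mul]
        ring
      rw [h1]
      exact Submodule.sum_mem _ fun j _ => Submodule.smul_mem _ _
        (Submodule.subset_span ⟨(⟨m % p, Nat.mod_lt _ hp.pos⟩, j), rfl⟩)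
    have hbpoly : ∀ g : L'[X], aeval x g ∈ Submodule.span (pw p M)
        (Set.range fun ij : Fin p × Fin n => x ^ (ij.1 : ℕ) * b ij.2) := by
      intro g
      rw [aeval_eq_sum_range]
      refine Submodule.sum_mem _ fun m _ => ?_
      rw [Algebra.smul_def, mul_comm]
      exact ha _ ⟨_, rfl⟩ m
    intro z hz
    obtain ⟨r, s, hs, hzs⟩ := exists_frac hz
    have hinv : ((aeval x s)⁻¹) ^ p ∈ pw p M := pow_mem_pw p (inv_mem (aeval_mem_adjoin x s))
    have h2 : z = (⟨((aeval x s)⁻¹) ^ p, hinv⟩ : pw p M) • aeval x (r * s ^ (p - 1)) := by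
      rw [Subfield.smul_def, smul_eq_mul]
      rw [map_mul, map_pow, ← hzs]
      have hσp : aeval x s * (aeval x s) ^ (p - 1) = (aeval x s) ^ p := by
        rw [← pow_succ', Nat.sub_add_cancel hp.one_le]
      rw [mul_assoc, hσp, ← mul_assoc, mul_comm (((aeval x s)⁻¹) ^ p) z, mul_assoc, ← mul_pow,
        inv_mul_cancel₀ hs, one_pow, mul_one]
    rw [h2]
    exact Submodule.smul_mem _ _ (hbpoly _)
  · -- independence
    rw [Fintype.linearIndependent_iff]
    intro g hg ij0
    have hz : ∀ ij, ∃ z ∈ M, z ^ p = (g ij : E) := fun ij => (mem_pw p).mp (g ij).2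
    choose z hzM hzp using hz
    have hfr : ∀ ij, ∃ r s : L'[X], aeval x s ≠ 0 ∧ z ij * aeval x s = aeval x r :=
      fun ij => exists_frac (hzM ij)
    choose r s hs hrs using hfr
    classical
    let D : L'[X] := ∏ ij, s ij
    let R : Fin p × Fin n → L'[X] := fun ij => r ij * ∏ kl ∈ Finset.univ.erase ij, s kl
    have hD : aeval x D ≠ 0 := by
      rw [map_prod]; exact Finset.prod_ne_zero_iff.mpr fun ij _ => hs ij
    have hR : ∀ ij, z ij * aeval x D = aeval x (R ij) := by
      intro ij
      have h1 : D = s ij * ∏ kl ∈ Finset.univ.erase ij, s kl :=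
        (Finset.mul_prod_erase _ _ (Finset.mem_univ ij)).symm
      rw [h1, map_mul, ← mul_assoc, hrs ij, ← map_mul]
    have hβ : ∀ j, ∃ β : L', algebraMap L' E β = b j := fun j => hb.1 j
    choose β hβ using hβ
    let P : L'[X] := ∑ ij : Fin p × Fin n, (R ij) ^ p * (X ^ (ij.1 : ℕ) * C (β ij.2))
    have hP : aeval x P = 0 := by
      have h1 : aeval x P = (aeval x D) ^ p * ∑ ij, g ij • (x ^ (ij.1 : ℕ) * b ij.2) := by
        rw [map_sum, Finset.mul_sum]
        refine Finset.sum_congr rfl fun ij _ => ?_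
        rw [map_mul, map_pow, ← hR ij, map_mul, map_pow, aeval_X, aeval_C, hβ, Subfield.smul_def,
          smul_eq_mul, ← hzp ij]
        ring
      rw [h1, hg, mul_zero]
    have hP0 : P = 0 := by
      by_contra hne
      exact hx ⟨P, hne, hP⟩
    have hcoef : ∀ (i0 : Fin p) (m : ℕ),
        P.coeff (p * m + i0) = ∑ j, ((R (i0, j)).coeff m) ^ p * β j := by
      intro i0 m
      rw [Polynomial.finsetSum_coeff, Fintype.sum_prod_type]
      rw [Finset.sum_eq_single i0]
      · refine Finset.sum_congr rfl fun j _ => ?_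
        rw [← mul_assoc, coeff_mul_C, coeff_mul_X_pow', if_pos (Nat.le_add_left _ _),
          Nat.add_sub_cancel, coeff_pow_char, if_pos (dvd_mul_right _ _),
          Nat.mul_div_cancel_left _ hp.pos]
      · intro i _ hi
        refine Finset.sum_eq_zero fun j _ => ?_
        rw [← mul_assoc, coeff_mul_C, coeff_mul_X_pow']
        split_ifs with hle
        · rw [coeff_pow_char, if_neg, zero_mul]
          rintro ⟨t, ht⟩
          apply hi
          dsimp only at hle ht
          have h2 : p * m + (i0 : ℕ) = p * t + (i : ℕ) := by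
            omega
          have h3 := congrArg (· % p) h2
          simp only [Nat.mul_add_mod, Nat.mod_eq_of_lt i0.2, Nat.mod_eq_of_lt i.2] at h3
          exact Fin.ext h3.symm
        · rw [zero_mul]
      · intro h; exact absurd (Finset.mem_univ _) h
    have hli := Fintype.linearIndependent_iff.mp hb.2.2
    have hRzero : ∀ i0 j, R (i0, j) = 0 := by
      intro i0 j
      ext m
      rw [coeff_zero]
      have h1 := hcoef i0 m
      rw [hP0, coeff_zero] at h1
      have h2 : ∑ j, (algebraMap L' E ((R (i0, j)).coeff m)) ^ p * b j = 0 := by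
        have h := congrArg (algebraMap L' E) h1
        simp only [map_zero, map_sum, map_mul, map_pow, hβ] at h
        exact h.symm
      have h3 := hli (fun j => (⟨(algebraMap L' E ((R (i0, j)).coeff m)) ^ p,
        pow_mem_pw p ⟨_, rfl⟩⟩ : pw p L)) (by
          rw [← h2]
          refine Finset.sum_congr rfl fun j _ => ?_
          rw [Subfield.smul_def, smul_eq_mul]) j
      have h4 : (algebraMap L' E ((R (i0, j)).coeff m)) ^ p = 0 := congrArg Subtype.val h3
      exact (map_eq_zero _).mp ((pow_eq_zero_iff hp.ne_zero).mp h4)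
    have hz0 : z ij0 = 0 := by
      have h := hR ij0
      rw [show ij0 = (ij0.1, ij0.2) from rfl, hRzero, map_zero] at h
      exact (mul_eq_zero.mp h).resolve_right hD
    apply Subtype.ext
    rw [← hzp ij0, hz0, zero_pow hp.ne_zero]; rfl

end Transc

section Laurent
variable (p : ℕ) [Fact p.Prime] (k : Type*) [Field k] [CharP k p]

lemma ps_coeff_pow (h : PowerSeries k) (N : ℕ) :
    PowerSeries.coeff N (h ^ p) = if p ∣ N then (PowerSeries.coeff (N / p) h) ^ p else 0 := by
  have hp : p.Prime := Fact.out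
  have h1 : h ^ p = PowerSeries.map (frobenius k p) (PowerSeries.expand p hp.ne_zero h) :=
    (MvPowerSeries.map_frobenius_expand p hp.ne_zero (f := h)).symm
  rw [h1, PowerSeries.coeff_map, PowerSeries.coeff_expand, frobenius_def]
  split_ifs
  · rfl
  · exact zero_pow hp.ne_zero

lemma ps_coeff_sum (h : Fin p → PowerSeries k) (m : ℕ) (i0 : Fin p) :
    PowerSeries.coeff (p * m + i0)
      (∑ i : Fin p, (PowerSeries.X : PowerSeries k) ^ (i : ℕ) * (h i) ^ p)
      = (PowerSeries.coeff m (h i0)) ^ p := by
  have hp : p.Prime := Fact.out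
  rw [map_sum, Finset.sum_eq_single i0]
  · rw [PowerSeries.coeff_X_pow_mul', if_pos (Nat.le_add_left _ _), Nat.add_sub_cancel,
      ps_coeff_pow, if_pos (dvd_mul_right _ _), Nat.mul_div_cancel_left _ hp.pos]
  · intro i _ hi
    rw [PowerSeries.coeff_X_pow_mul']
    split_ifs with hle
    · rw [ps_coeff_pow, if_neg]
      rintro ⟨t, ht⟩
      apply hi
      have h2 : p * m + (i0 : ℕ) = p * t + (i : ℕ) := by omega
      have h3 := congrArg (· % p) h2
      simp only [Nat.mul_add_mod, Nat.mod_eq_of_lt i0.2, Nat.mod_eq_of_lt i.2] at h3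
      exact Fin.ext h3.symm
    · rfl
  · intro h; exact absurd (Finset.mem_univ _) h

lemma ps_decomp [PerfectRing k p] (h : PowerSeries k) :
    ∃ hh : Fin p → PowerSeries k,
      h = ∑ i : Fin p, (PowerSeries.X : PowerSeries k) ^ (i : ℕ) * (hh i) ^ p := by
  have hp : p.Prime := Fact.out
  refine ⟨fun i => PowerSeries.mk fun m =>
    (frobeniusEquiv k p).symm (PowerSeries.coeff (p * m + i) h), ?_⟩
  ext N
  obtain ⟨m, i0, rfl⟩ : ∃ (m : ℕ) (i0 : Fin p), N = p * m + i0 :=
    ⟨N / p, ⟨N % p, Nat.mod_lt _ hp.pos⟩, (Nat.div_add_mod N p).symm⟩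
  rw [ps_coeff_sum, PowerSeries.coeff_mk, frobeniusEquiv_symm_pow_p]

omit [CharP k p] [Fact p.Prime] in
lemma laurent_factor (f : LaurentSeries k) (m : ℤ) (hm : m ≤ f.order) :
    ∃ h : PowerSeries k, f = HahnSeries.single m (1 : k) * HahnSeries.ofPowerSeries ℤ k h := by
  refine ⟨PowerSeries.X ^ (f.order - m).toNat * f.powerSeriesPart, ?_⟩
  rw [map_mul, HahnSeries.ofPowerSeries_X_pow, ← mul_assoc, HahnSeries.single_mul_single, mul_one]
  have h1 : m + ((f.order - m).toNat : ℤ) = f.order := by
    rw [Int.toNat_of_nonneg (sub_nonneg.mpr hm)]; ring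
  rw [h1]
  exact (LaurentSeries.single_order_mul_powerSeriesPart f).symm

lemma laurent_span [PerfectRing k p] (f : LaurentSeries k) :
    ∃ g : Fin p → LaurentSeries k,
      f = ∑ i : Fin p, (g i) ^ p * (HahnSeries.single (1 : ℤ) (1 : k)) ^ (i : ℕ) := by
  have hp : p.Prime := Fact.out
  have hm : (p : ℤ) * (-(f.order.natAbs : ℤ)) ≤ f.order := by
    have h1 : (1 : ℤ) ≤ p := by exact_mod_cast hp.one_le
    have h3 : -(f.order.natAbs : ℤ) ≤ f.order := by omega
    have h4 : (0 : ℤ) ≤ (f.order.natAbs : ℤ) := Int.natCast_nonneg _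
    nlinarith
  obtain ⟨h, hf⟩ := laurent_factor k f _ hm
  obtain ⟨hh, hhh⟩ := ps_decomp p k h
  refine ⟨fun i => HahnSeries.single (-(f.order.natAbs : ℤ)) (1 : k) *
    HahnSeries.ofPowerSeries ℤ k (hh i), ?_⟩
  conv_lhs => rw [hf, hhh]
  rw [map_sum, Finset.mul_sum]
  refine Finset.sum_congr rfl fun i _ => ?_
  have hA : (HahnSeries.single (-(f.order.natAbs : ℤ)) (1 : k)) ^ p =
      HahnSeries.single ((p : ℤ) * (-(f.order.natAbs : ℤ))) (1 : k) := by
    rw [HahnSeries.single_pow, one_pow, nsmul_eq_mul]
  rw [map_mul, map_pow, map_pow, HahnSeries.ofPowerSeries_X, mul_pow, hA]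
  ring

lemma laurent_indep (g : Fin p → LaurentSeries k)
    (hg : ∑ i : Fin p, (g i) ^ p * (HahnSeries.single (1 : ℤ) (1 : k)) ^ (i : ℕ) = 0) :
    ∀ i, g i = 0 := by
  have hp : p.Prime := Fact.out
  have hm : ∀ i, -∑ j, ((g j).order.natAbs : ℤ) ≤ (g i).order := by
    intro i
    have h1 : ((g i).order.natAbs : ℤ) ≤ ∑ j, ((g j).order.natAbs : ℤ) :=
      Finset.single_le_sum (f := fun j => ((g j).order.natAbs : ℤ))
        (fun j _ => Int.natCast_nonneg _) (Finset.mem_univ i)
    omega
  choose h hh using fun i => laurent_factor k (g i) _ (hm i)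
  have h1 : (HahnSeries.single (-∑ j, ((g j).order.natAbs : ℤ)) (1 : k)) ^ p *
      HahnSeries.ofPowerSeries ℤ k
        (∑ i : Fin p, (PowerSeries.X : PowerSeries k) ^ (i : ℕ) * (h i) ^ p) = 0 := by
    rw [← hg, map_sum, Finset.mul_sum]
    refine Finset.sum_congr rfl fun i _ => ?_
    rw [map_mul, map_pow, map_pow, HahnSeries.ofPowerSeries_X]
    conv_rhs => rw [hh i]
    rw [mul_pow]; ring
  have h2 : HahnSeries.ofPowerSeries ℤ k
      (∑ i : Fin p, (PowerSeries.X : PowerSeries k) ^ (i : ℕ) * (h i) ^ p) = 0 := by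
    rcases mul_eq_zero.mp h1 with h' | h'
    · exact absurd h' (pow_ne_zero _ (HahnSeries.single_ne_zero one_ne_zero))
    · exact h'
  have h3 : (∑ i : Fin p, (PowerSeries.X : PowerSeries k) ^ (i : ℕ) * (h i) ^ p) = 0 :=
    HahnSeries.ofPowerSeries_injective (by rw [h2, map_zero])
  intro i
  have h4 : h i = 0 := by
    ext n
    have h5 := ps_coeff_sum p k h n i
    rw [h3, map_zero] at h5
    rw [map_zero]; exact (pow_eq_zero_iff hp.ne_zero).mp h5.symm
  rw [hh i, h4, map_zero, mul_zero]

theorem basis_laurent [PerfectRing k p] {K : Type*} [Field K] [Algebra (LaurentSeries k) K]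
    [CharP K p] :
    IsBasisOver (pw p (algebraMap (LaurentSeries k) K).fieldRange)
      (algebraMap (LaurentSeries k) K).fieldRange
      (fun i : Fin p =>
        (algebraMap (LaurentSeries k) K (HahnSeries.single (1 : ℤ) (1 : k))) ^ (i : ℕ)) := by
  have hp : p.Prime := Fact.out
  refine ⟨fun i => pow_mem (RingHom.mem_fieldRange_self _ _) _, ?_, ?_⟩
  · rintro _ ⟨f, rfl⟩
    obtain ⟨g, hg⟩ := laurent_span p k f
    rw [hg, map_sum]
    refine Submodule.sum_mem _ fun i _ => ?_
    rw [map_mul, map_pow, map_pow]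
    have h1 : (algebraMap (LaurentSeries k) K (g i)) ^ p *
        (algebraMap (LaurentSeries k) K (HahnSeries.single (1 : ℤ) (1 : k))) ^ (i : ℕ) =
        (⟨(algebraMap (LaurentSeries k) K (g i)) ^ p, pow_mem_pw p ⟨_, rfl⟩⟩ :
          pw p (algebraMap (LaurentSeries k) K).fieldRange) •
        (algebraMap (LaurentSeries k) K (HahnSeries.single (1 : ℤ) (1 : k))) ^ (i : ℕ) := by
      rw [Subfield.smul_def, smul_eq_mul]
    rw [h1]
    exact Submodule.smul_mem _ _ (Submodule.subset_span ⟨i, rfl⟩)
  · rw [Fintype.linearIndependent_iff]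
    intro c hc i
    have h1 : ∀ i, ∃ γ : LaurentSeries k,
        (algebraMap (LaurentSeries k) K γ) ^ p = (c i : K) := by
      intro i
      obtain ⟨z, ⟨γ, rfl⟩, hz⟩ := (mem_pw p).mp (c i).2
      exact ⟨γ, hz⟩
    choose γ hγ using h1
    have h2 : algebraMap (LaurentSeries k) K
        (∑ i : Fin p, (γ i) ^ p * (HahnSeries.single (1 : ℤ) (1 : k)) ^ (i : ℕ)) = 0 := by
      rw [map_sum, ← hc]
      refine Finset.sum_congr rfl fun i _ => ?_
      rw [map_mul, map_pow, map_pow, hγ, Subfield.smul_def, smul_eq_mul]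
    have h3 := laurent_indep p k γ ((map_eq_zero _).mp h2)
    apply Subtype.ext
    rw [← hγ i, h3 i, map_zero, zero_pow hp.ne_zero]; rfl

end Laurent

section Main
variable (p : ℕ) [Fact p.Prime]

open IntermediateField in
theorem finrank_frobenius_range {F K : Type u} [Field F] [Field K] [Algebra F K] [CharP K p]
    (n0 : ℕ) (hn0 : n0 ≠ 0)
    (hF : (pw p (algebraMap F K).fieldRange).relfinrank (algebraMap F K).fieldRange = n0)
    (hfg : (⊤ : IntermediateField F K).FG) (d : ℕ) (hd : Algebra.trdeg F K = d) :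
    Module.finrank (frobenius K p).fieldRange K = p ^ d * n0 := by
  have hp : p.Prime := Fact.out
  obtain ⟨ι, x, hx⟩ := exists_isTranscendenceBasis' F K
  have hcard : Cardinal.mk ι = d := by rw [← hd]; exact hx.cardinalMk_eq_trdeg
  have hfin : Finite ι := Cardinal.lt_aleph0_iff_finite.mp (by
    rw [hcard]; exact Cardinal.natCast_lt_aleph0)
  let _ : Fintype ι := Fintype.ofFinite ι
  have hcard' : Fintype.card ι = d := by
    have := hcard
    rw [Cardinal.mk_fintype] at this
    exact_mod_cast this
  classical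
  -- the chain
  have chain : ∀ s : Finset ι,
      (pw p (adjoin F (x '' (s : Set ι))).toSubfield).relfinrank
        (adjoin F (x '' (s : Set ι))).toSubfield = p ^ s.card * n0 := by
    intro s
    induction s using Finset.induction_on with
    | empty =>
      rw [Finset.coe_empty, Set.image_empty, adjoin_empty, bot_toSubfield, hF, Finset.card_empty,
        pow_zero, one_mul]
    | insert i s hi ih =>
      have hn : p ^ s.card * n0 ≠ 0 := mul_ne_zero (pow_ne_zero _ hp.ne_zero) hn0
      obtain ⟨b, hb⟩ := exists_basis (pw_le p _) hn ih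
      have hIr : (algebraMap (adjoin F (x '' (s : Set ι))) K).fieldRange =
          (adjoin F (x '' (s : Set ι))).toSubfield := by
        ext z
        constructor
        · rintro ⟨y, rfl⟩; exact y.2
        · intro hz; exact ⟨⟨z, hz⟩, rfl⟩
      rw [← hIr] at hb
      have htr : Transcendental (adjoin F (x '' (s : Set ι))) (x i) :=
        IntermediateField.transcendental_adjoin_iff.mpr
          (hx.1.transcendental_adjoin (by simpa using hi))
      have hB := basis_adjoin_transcendental p htr hb
      have hM : (adjoin (adjoin F (x '' (s : Set ι))) {x i}).toSubfield =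
          (adjoin F (x '' ((insert i s : Finset ι) : Set ι))).toSubfield := by
        rw [Finset.coe_insert, Set.image_insert_eq, ← Set.union_singleton,
          ← adjoin_adjoin_left, restrictScalars_toSubfield]
      rw [hM] at hB
      rw [relfinrank_eq_card (pw_le p _) hB, Fintype.card_prod, Fintype.card_fin, Fintype.card_fin,
        Finset.card_insert_of_notMem hi, pow_succ]
      ring
  have hL := chain Finset.univ
  rw [Finset.coe_univ, Set.image_univ, Finset.card_univ, hcard'] at hL
  -- finiteness of K over the purely transcendental part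
  have halg : Algebra.IsAlgebraic (adjoin F (Set.range x)) K := hx.isAlgebraic_field
  obtain ⟨T, hT⟩ := hfg
  have htop : adjoin (adjoin F (Set.range x)) (T : Set K) = ⊤ := by
    rw [eq_top_iff]
    intro z _
    have h1 : adjoin F (T : Set K) ≤
        (adjoin (adjoin F (Set.range x)) (T : Set K)).restrictScalars F :=
      adjoin_le_iff.mpr (subset_adjoin (adjoin F (Set.range x)) (T : Set K))
    exact h1 (by rw [hT]; trivial)
  have hfd0 : FiniteDimensional (adjoin F (Set.range x))
      (adjoin (adjoin F (Set.range x)) (T : Set K)) :=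
    finiteDimensional_adjoin fun z _ => Algebra.IsIntegral.isIntegral z
  rw [htop] at hfd0
  have hfd : FiniteDimensional (adjoin F (Set.range x)) K :=
    Module.Finite.equiv (IntermediateField.topEquiv (F := adjoin F (Set.range x)) (E := K)).toLinearEquiv
  have hrel : (adjoin F (Set.range x)).toSubfield.relfinrank (⊤ : Subfield K) ≠ 0 := by
    have h1 : IntermediateField.relfinrank (adjoin F (Set.range x)) ⊤ =
        Module.finrank (adjoin F (Set.range x)) K := IntermediateField.relfinrank_top_right _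
    have h2 : IntermediateField.relfinrank (adjoin F (Set.range x)) ⊤ =
        (adjoin F (Set.range x)).toSubfield.relfinrank (⊤ : IntermediateField F K).toSubfield := rfl
    rw [top_toSubfield] at h2
    rw [← h2, h1]
    exact Module.finrank_pos.ne'
  have hA := relfinrank_pw_of_finite p (le_top : (adjoin F (Set.range x)).toSubfield ≤ ⊤) hrel
  rw [hL, pw_top, Subfield.relfinrank_top_right] at hA
  exact hA

end Main

end Groth.Agent.H80.PDeg
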