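import Mathlib
import Groth.Prelude.Def_FrobAlg
import Groth.Agent.H80.PDeg

set_option autoImplicit false
universe u

namespace Groth.Agent.H80.FFinite

open MvPolynomial

section
variable (p : ℕ) [Fact p.Prime]

/-- a finite family spanning `R` over its `p`-th powers -/
def FrobSpanFam (R : Type u) [CommRing R] {ι : Type*} [Fintype ι] (g : ι → R) : Prop :=
  ∀ r : R, ∃ c : ι → R, r = ∑ i, (c i) ^ p * g i

lemma smul_twist {R : Type u} [CommRing R] [CharP R p] (a : R) (t : FrobAlg.Twist p R) :
    a • t = FrobAlg.toTwist p R (a ^ p) * t := by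
  rw [Algebra.smul_def, FrobAlg.algebraMap_twist]

lemma finite_of_fam {R : Type u} [CommRing R] [CharP R p] {ι : Type*} [Fintype ι] (g : ι → R)
    (hg : FrobSpanFam p R g) : (frobenius R p).Finite := by
  suffices h : Module.Finite R (FrobAlg.Twist p R) from h
  classical
  refine ⟨⟨Finset.univ.image fun i => FrobAlg.toTwist p R (g i), ?_⟩⟩
  rw [eq_top_iff]
  intro r _
  obtain ⟨c, hc⟩ := hg ((FrobAlg.toTwist p R).symm r)
  have hr : r = ∑ i, (c i) • FrobAlg.toTwist p R (g i) := by
    have h1 := congrArg (FrobAlg.toTwist p R) hc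
    rw [RingEquiv.apply_symm_apply, map_sum] at h1
    rw [h1]
    refine Finset.sum_congr rfl fun i _ => ?_
    rw [smul_twist, map_mul]
  rw [hr]
  refine Submodule.sum_mem _ fun i _ => ?_
  exact Submodule.smul_mem _ _ (Submodule.subset_span (by simp))

lemma exists_fam_of_finite {R : Type u} [CommRing R] [CharP R p] (h : (frobenius R p).Finite) :
    ∃ (n : ℕ) (g : Fin n → R), FrobSpanFam p R g := by
  have h' : Module.Finite R (FrobAlg.Twist p R) := h
  obtain ⟨n, s, hs⟩ := Module.Finite.exists_fin (R := R) (M := FrobAlg.Twist p R)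
  refine ⟨n, fun i => (FrobAlg.toTwist p R).symm (s i), fun r => ?_⟩
  have hr : FrobAlg.toTwist p R r ∈ Submodule.span R (Set.range s) := by rw [hs]; trivial
  obtain ⟨c, hc⟩ := (Submodule.mem_span_range_iff_exists_fun R).mp hr
  refine ⟨c, ?_⟩
  have h1 := congrArg (FrobAlg.toTwist p R).symm hc
  rw [RingEquiv.symm_apply_apply, map_sum] at h1
  rw [← h1]
  refine Finset.sum_congr rfl fun i _ => ?_
  rw [smul_twist, map_mul, RingEquiv.symm_apply_apply]

lemma finite_of_surjective {R A : Type u} [CommRing R] [CommRing A] [CharP R p] [CharP A p]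
    (f : R →+* A) (hf : Function.Surjective f) (h : (frobenius R p).Finite) :
    (frobenius A p).Finite := by
  have h1 : (f.comp (frobenius R p)).Finite := (RingHom.Finite.of_surjective f hf).comp h
  have h2 : f.comp (frobenius R p) = (frobenius A p).comp f := by
    ext r; simp [frobenius_def]
  rw [h2] at h1
  exact RingHom.Finite.of_comp_finite h1

/-- polynomial rings over an `F`-finite ring are `F`-finite -/
lemma mvPolynomial_fam {R : Type u} [CommRing R] [CharP R p] {σ : Type*} [Fintype σ] [DecidableEq σ]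
    {ι : Type*} [Fintype ι] (g : ι → R) (hg : FrobSpanFam p R g) :
    FrobSpanFam p (MvPolynomial σ R)
      (fun jm : ι × (σ → Fin p) =>
        C (g jm.1) * monomial (Finsupp.equivFunOnFinite.symm fun s => ((jm.2 s : Fin p) : ℕ)) 1) := by
  classical
  have hp : p.Prime := Fact.out
  intro f
  induction f using MvPolynomial.induction_on' with
  | monomial ν a =>
    obtain ⟨d, hd⟩ := hg a
    let μ0 : σ → Fin p := fun s => ⟨ν s % p, Nat.mod_lt _ hp.pos⟩
    let κ : σ →₀ ℕ := Finsupp.equivFunOnFinite.symm fun s => ν s / p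
    refine ⟨fun jm => if jm.2 = μ0 then monomial κ (d jm.1) else 0, ?_⟩
    rw [Fintype.sum_prod_type]
    have h1 : ∀ j : ι, ∑ μ : σ → Fin p,
        (if μ = μ0 then monomial κ (d j) else 0) ^ p *
          (C (g j) * monomial (Finsupp.equivFunOnFinite.symm fun s => ((μ s : Fin p) : ℕ)) 1) =
        monomial ν ((d j) ^ p * g j) := by
      intro j
      rw [Finset.sum_eq_single μ0]
      · have hν : p • κ + (Finsupp.equivFunOnFinite.symm fun s => ((μ0 s : Fin p) : ℕ)) = ν := by
          ext s
          rw [Finsupp.add_apply, Finsupp.smul_apply, smul_eq_mul]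
          exact Nat.div_add_mod (ν s) p
        rw [if_pos rfl, monomial_pow, C_mul_monomial, monomial_mul, mul_one, hν, mul_comm]
      · intro μ _ hμ
        rw [if_neg hμ, zero_pow hp.ne_zero, zero_mul]
      · intro h; exact absurd (Finset.mem_univ _) h
    rw [Finset.sum_congr rfl fun j _ => h1 j, hd]
    exact map_sum (monomial ν) _ _
  | add f1 f2 h1 h2 =>
    obtain ⟨c1, hc1⟩ := h1
    obtain ⟨c2, hc2⟩ := h2
    refine ⟨fun jm => c1 jm + c2 jm, ?_⟩
    rw [hc1, hc2, ← Finset.sum_add_distrib]
    refine Finset.sum_congr rfl fun jm _ => ?_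
    rw [add_pow_char, add_mul]

lemma mvPolynomial_finite {R : Type u} [CommRing R] [CharP R p] {σ : Type*} [Fintype σ]
    (h : (frobenius R p).Finite) : (frobenius (MvPolynomial σ R) p).Finite := by
  classical
  obtain ⟨n, g, hg⟩ := exists_fam_of_finite p h
  exact finite_of_fam p _ (mvPolynomial_fam p g hg)

/-- power series over a perfect field are `F`-finite -/
lemma powerSeries_finite (k : Type u) [Field k] [CharP k p] [PerfectRing k p]
    [CharP (PowerSeries k) p] : (frobenius (PowerSeries k) p).Finite := by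
  refine finite_of_fam p (fun i : Fin p => (PowerSeries.X : PowerSeries k) ^ (i : ℕ)) fun h => ?_
  obtain ⟨hh, hhh⟩ := Groth.Agent.H80.PDeg.ps_decomp p k h
  refine ⟨hh, ?_⟩
  rw [hhh]
  exact Finset.sum_congr rfl fun i _ => mul_comm _ _

end

end Groth.Agent.H80.FFinite
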