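import Mathlib

/-!
# Fibre dimensions of finite modules: semicontinuity, and the dimension of the span of a family
of fibre endomorphisms

Helper library of helper80 (used by S15153).
-/

set_option autoImplicit false
set_option linter.unusedSectionVars false
set_option linter.unusedVariables false
set_option linter.unusedSimpArgs false

namespace Groth.Agent.H80.FibreDim

open TensorProduct

universe u v

section SC

variable {A : Type u} [CommRing A] (N : Type v) [AddCommGroup N] [Module A N]

/-- the dimension of the fibre of `N` at `p` -/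
noncomputable def fd (p : PrimeSpectrum A) : ℕ :=
  Module.finrank p.asIdeal.ResidueField (p.asIdeal.ResidueField ⊗[A] N)

variable {N}

/-- the base change of a submodule is everything iff the quotient has trivial fibre -/
theorem baseChange_eq_top_iff (K : Type*) [Field K] [Algebra A K] (T : Submodule A N) :
    T.baseChange K = ⊤ ↔ Subsingleton (K ⊗[A] (N ⧸ T)) := by
  have hker := lTensor_mkQ (R := A) K T
  have hsurj : Function.Surjective (LinearMap.lTensor K T.mkQ) :=
    LinearMap.lTensor_surjective K (Submodule.mkQ_surjective T)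
  constructor
  · intro h
    refine ⟨fun a b => ?_⟩
    obtain ⟨a', rfl⟩ := hsurj a
    obtain ⟨b', rfl⟩ := hsurj b
    have ha : a' ∈ T.baseChange K := by rw [h]; trivial
    have hb : b' ∈ T.baseChange K := by rw [h]; trivial
    have ha' : a' ∈ LinearMap.range (LinearMap.lTensor K T.subtype) := ha
    have hb' : b' ∈ LinearMap.range (LinearMap.lTensor K T.subtype) := hb
    rw [← hker, LinearMap.mem_ker] at ha' hb'
    rw [ha', hb']
  · intro h
    rw [eq_top_iff]
    rintro z -
    have : z ∈ LinearMap.ker (LinearMap.lTensor K T.mkQ) := by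
      rw [LinearMap.mem_ker]
      exact Subsingleton.elim _ _
    rw [hker] at this
    exact this

theorem span_tmul_eq_top_iff [Module.Finite A N] (p : PrimeSpectrum A) {ι : Type*} (n : ι → N) :
    Submodule.span p.asIdeal.ResidueField
      (Set.range fun i => (1 : p.asIdeal.ResidueField) ⊗ₜ[A] n i) = ⊤ ↔
      p ∉ Module.support A (N ⧸ Submodule.span A (Set.range n)) := by
  rw [Module.mem_support_iff_nontrivial_residueField_tensorProduct, not_nontrivial_iff_subsingleton,
    ← baseChange_eq_top_iff, Submodule.baseChange_span, ← Set.range_comp]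
  rfl

theorem fd_le_of_notMem_support [Module.Finite A N] (p : PrimeSpectrum A) {k : ℕ} (n : Fin k → N)
    (h : p ∉ Module.support A (N ⧸ Submodule.span A (Set.range n))) : fd N p ≤ k := by
  rw [← span_tmul_eq_top_iff] at h
  have h1 := finrank_range_le_card (R := p.asIdeal.ResidueField)
    (fun i => (1 : p.asIdeal.ResidueField) ⊗ₜ[A] n i)
  rw [Set.finrank, h, finrank_top, Fintype.card_fin] at h1
  exact h1

theorem exists_notMem_support [Module.Finite A N] (p : PrimeSpectrum A) :
    ∃ n : Fin (fd N p) → N, p ∉ Module.support A (N ⧸ Submodule.span A (Set.range n)) := by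
  classical
  set κ := p.asIdeal.ResidueField with hκ
  have htop : Submodule.span κ (Set.range fun x : N => (1 : κ) ⊗ₜ[A] x) = ⊤ := by
    have h1 : (⊤ : Submodule A N).baseChange κ = ⊤ := Submodule.baseChange_top κ
    rw [← Submodule.span_univ, Submodule.baseChange_span, Set.image_univ] at h1
    exact h1
  obtain ⟨b, hbs, hbspan, hbli⟩ := exists_linearIndependent κ
    (Set.range fun x : N => (1 : κ) ⊗ₜ[A] x)
  rw [htop] at hbspan
  let B : Module.Basis b κ (κ ⊗[A] N) := Module.Basis.mk hbli (by
    rw [Subtype.range_coe_subtype, Set.setOf_mem_eq, hbspan])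
  haveI : Finite b := Module.Finite.finite_basis B
  haveI : Fintype b := Fintype.ofFinite b
  have hcard : Fintype.card b = fd N p := (Module.finrank_eq_card_basis B).symm
  let e : Fin (fd N p) ≃ b := (Fintype.equivFinOfCardEq hcard).symm
  have hpre : ∀ v : b, ∃ x : N, (1 : κ) ⊗ₜ[A] x = (v : κ ⊗[A] N) := fun v => by
    obtain ⟨x, hx⟩ := hbs v.2
    exact ⟨x, hx⟩
  choose g hg using hpre
  refine ⟨fun i => g (e i), ?_⟩
  rw [← span_tmul_eq_top_iff]
  have : (Set.range fun i => (1 : κ) ⊗ₜ[A] g (e i)) = b := by
    ext v
    constructor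
    · rintro ⟨i, rfl⟩
      show (1 : κ) ⊗ₜ[A] g (e i) ∈ b
      rw [hg]
      exact (e i).2
    · intro hv
      refine ⟨e.symm ⟨v, hv⟩, ?_⟩
      show (1 : κ) ⊗ₜ[A] g (e (e.symm ⟨v, hv⟩)) = v
      rw [Equiv.apply_symm_apply, hg]
  rw [this, hbspan]

/-- upper semicontinuity of the fibre dimension of a finite module -/
theorem isOpen_fd_lt [Module.Finite A N] (c : ℕ) : IsOpen {p : PrimeSpectrum A | fd N p < c} := by
  have : {p : PrimeSpectrum A | fd N p < c} =
      ⋃ (k : ℕ) (_ : k < c) (n : Fin k → N),
        (Module.support A (N ⧸ Submodule.span A (Set.range n)))ᶜ := by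
    ext p
    simp only [Set.mem_setOf_eq, Set.mem_iUnion, Set.mem_compl_iff]
    constructor
    · intro h
      obtain ⟨n, hn⟩ := exists_notMem_support (N := N) p
      exact ⟨fd N p, h, n, hn⟩
    · rintro ⟨k, hk, n, hn⟩
      exact lt_of_le_of_lt (fd_le_of_notMem_support p n hn) hk
  rw [this]
  refine isOpen_iUnion fun k => isOpen_iUnion fun _ => isOpen_iUnion fun n => ?_
  exact (Module.isClosed_support (R := A)
    (M := N ⧸ Submodule.span A (Set.range n))).isOpen_compl

theorem isConstructible_fd_eq [IsNoetherianRing A] [Module.Finite A N] (c : ℕ) :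
    Topology.IsConstructible {p : PrimeSpectrum A | fd N p = c} := by
  have hopen : ∀ c : ℕ, Topology.IsConstructible {p : PrimeSpectrum A | fd N p < c} := fun c =>
    (TopologicalSpace.NoetherianSpace.isCompact _).isConstructible (isOpen_fd_lt c)
  have : {p : PrimeSpectrum A | fd N p = c} =
      {p : PrimeSpectrum A | fd N p < c + 1} \ {p : PrimeSpectrum A | fd N p < c} := by
    ext p
    simp only [Set.mem_setOf_eq, Set.mem_diff]
    omega
  rw [this]
  exact (hopen (c + 1)).sdiff (hopen c)

end SC

section Main

variable {A : Type u} [CommRing A] {S : Type u} [CommRing S] [Algebra A S]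
  {Q : Type u} [AddCommGroup Q] [Module A Q] [Module S Q] [IsScalarTower A S Q]
  {m : ℕ} (π : (Fin m → A) →ₗ[A] Q) (i : Q →ₗ[A] (Fin m → A))

/-- the chosen generators of `Q` -/
def gen (j : Fin m) : Q := π (Pi.single j 1)

/-- `x ↦ (i (x • q_j))_j` -/
def Psi : S →ₗ[A] (Fin m → Fin m → A) where
  toFun := fun x j => i (x • gen π j)
  map_add' := fun x y => by
    funext j
    show i ((x + y) • gen π j) = i (x • gen π j) + i (y • gen π j)
    rw [add_smul, map_add]
  map_smul' := fun a x => by
    funext j
    show i ((a • x) • gen π j) = a • i (x • gen π j)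
    rw [smul_assoc, map_smul]

theorem Psi_apply (x : S) (j : Fin m) : Psi π i x j = i (x • gen π j) := rfl

theorem span_gen_eq_top (hπ : Function.Surjective π) :
    Submodule.span A (Set.range (gen π)) = ⊤ := by
  rw [eq_top_iff]
  rintro z -
  obtain ⟨v, rfl⟩ := hπ z
  have hv : v = ∑ j, v j • (Pi.single j (1 : A) : Fin m → A) := by
    funext l
    simp [Finset.sum_apply, Pi.single_apply]
  rw [hv, map_sum]
  refine Submodule.sum_mem _ fun j _ => ?_
  rw [map_smul]
  exact Submodule.smul_mem _ _ (Submodule.subset_span ⟨j, rfl⟩)

variable (K : Type u) [Field K] [Algebra A K]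

/-- evaluation of an endomorphism of the fibre at the generators -/
noncomputable def J : Module.End K (K ⊗[A] Q) →ₗ[K] (Fin m → K ⊗[A] Q) :=
  LinearMap.pi fun j => LinearMap.applyₗ ((1 : K) ⊗ₜ[A] gen π j)

theorem J_apply (φ : Module.End K (K ⊗[A] Q)) (j : Fin m) :
    J π K φ j = φ ((1 : K) ⊗ₜ[A] gen π j) := rfl

theorem J_injective (hπ : Function.Surjective π) : Function.Injective (J (Q := Q) π K) := by
  intro φ ψ h
  have hspan : Submodule.span K (Set.range fun j => (1 : K) ⊗ₜ[A] gen π j) = ⊤ := by
    have h1 : (Submodule.span A (Set.range (gen π))).baseChange K = ⊤ := by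
      rw [span_gen_eq_top π hπ, Submodule.baseChange_top]
    rw [Submodule.baseChange_span, ← Set.range_comp] at h1
    exact h1
  apply LinearMap.ext_on hspan
  rintro _ ⟨j, rfl⟩
  exact congrFun h j

/-- apply `i` componentwise on the fibre -/
noncomputable def I' : (Fin m → K ⊗[A] Q) →ₗ[K] (Fin m → K ⊗[A] (Fin m → A)) :=
  LinearMap.pi fun j => (i.baseChange K) ∘ₗ LinearMap.proj j

theorem I'_apply (v : Fin m → K ⊗[A] Q) (j : Fin m) : I' i K v j = i.baseChange K (v j) := rfl

theorem I'_injective (hπi : π ∘ₗ i = LinearMap.id) : Function.Injective (I' (Q := Q) i K) := by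
  intro v w h
  funext j
  have h1 : i.baseChange K (v j) = i.baseChange K (w j) := congrFun h j
  have h2 : ∀ z : K ⊗[A] Q, π.baseChange K (i.baseChange K z) = z := by
    intro z
    rw [← LinearMap.comp_apply, ← LinearMap.baseChange_comp, hπi, LinearMap.baseChange_id]
    rfl
  rw [← h2 (v j), h1, h2]

/-- the total embedding of fibre endomorphisms into the fibre of a free module -/
noncomputable def L : Module.End K (K ⊗[A] Q) →ₗ[K] K ⊗[A] (Fin m → Fin m → A) :=
  ((TensorProduct.piRight A K K (fun _ : Fin m => (Fin m → A))).symm.toLinearMap ∘ₗ I' i K) ∘ₗ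
    J π K

theorem L_injective (hπ : Function.Surjective π) (hπi : π ∘ₗ i = LinearMap.id) :
    Function.Injective (L (Q := Q) π i K) := by
  unfold L
  rw [LinearMap.coe_comp, LinearMap.coe_comp]
  exact ((LinearEquiv.injective _).comp (I'_injective π i K hπi)).comp (J_injective π K hπ)

theorem L_baseChange (x : S) :
    L π i K (LinearMap.baseChange K (DistribSMul.toLinearMap A Q x)) =
      (1 : K) ⊗ₜ[A] Psi π i x := by
  unfold L
  rw [LinearMap.comp_apply, LinearMap.comp_apply]
  have h1 : I' i K (J π K (LinearMap.baseChange K (DistribSMul.toLinearMap A Q x))) =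
      fun j => (1 : K) ⊗ₜ[A] Psi π i x j := by
    funext j
    rw [I'_apply, J_apply, LinearMap.baseChange_tmul, LinearMap.baseChange_tmul]
    rfl
  rw [h1]
  exact TensorProduct.piRight_symm_apply A K K (fun _ : Fin m => (Fin m → A)) (1 : K) (Psi π i x)

/-- the key dimension formula -/
theorem finrank_span_add (hπ : Function.Surjective π) (hπi : π ∘ₗ i = LinearMap.id) :
    Module.finrank K (Submodule.span K (Set.range fun x : S =>
        LinearMap.baseChange K (DistribSMul.toLinearMap A Q x))) +
      Module.finrank K (K ⊗[A] ((Fin m → Fin m → A) ⧸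
        Submodule.span A (Set.range (Psi (S := S) π i)))) = m * m := by
  set T : Submodule A (Fin m → Fin m → A) := Submodule.span A (Set.range (Psi (S := S) π i)) with hT
  set W : Submodule K (Module.End K (K ⊗[A] Q)) := Submodule.span K (Set.range fun x : S =>
    LinearMap.baseChange K (DistribSMul.toLinearMap A Q x)) with hW
  -- the image of `W` under `L` is the base change of `T`
  have hmap : W.map (L π i K) = T.baseChange K := by
    have hset : (L π i K) '' (Set.range fun x : S =>
        LinearMap.baseChange K (DistribSMul.toLinearMap A Q x)) =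
        (TensorProduct.mk A K (Fin m → Fin m → A) 1) '' (Set.range (Psi (S := S) π i)) := by
      ext z
      constructor
      · rintro ⟨_, ⟨x, rfl⟩, rfl⟩
        exact ⟨_, ⟨x, rfl⟩, (L_baseChange π i K x).symm⟩
      · rintro ⟨_, ⟨x, rfl⟩, rfl⟩
        exact ⟨_, ⟨x, rfl⟩, L_baseChange π i K x⟩
    rw [hW, Submodule.map_span, hT, Submodule.baseChange_span, hset]
  have h1 : Module.finrank K W = Module.finrank K (T.baseChange K) := by
    rw [← hmap]
    exact (LinearEquiv.finrank_eq (Submodule.equivMapOfInjective (L π i K)
      (L_injective π i K hπ hπi) W))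
  -- the base change of `T` is the kernel of the base change of the quotient map
  have hker : T.baseChange K = LinearMap.ker (T.mkQ.baseChange K) := by
    ext z
    have hk := lTensor_mkQ (R := A) K T
    constructor
    · intro hz
      have hz' : z ∈ LinearMap.range (LinearMap.lTensor K T.subtype) := hz
      rw [← hk] at hz'
      exact hz'
    · intro hz
      have hz' : z ∈ LinearMap.ker (LinearMap.lTensor K T.mkQ) := hz
      rw [hk] at hz'
      exact hz'
  have hsurj : Function.Surjective (T.mkQ.baseChange K) :=
    LinearMap.baseChange_surjective K (Submodule.mkQ_surjective T)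
  have h2 := LinearMap.finrank_range_add_finrank_ker (T.mkQ.baseChange K)
  rw [LinearMap.range_eq_top.mpr hsurj, finrank_top, ← hker] at h2
  have h3 : Module.finrank K (K ⊗[A] (Fin m → Fin m → A)) = m * m := by
    haveI : Nontrivial A := RingHom.domain_nontrivial (algebraMap A K)
    rw [Module.finrank_baseChange, Module.finrank_pi_fintype]
    simp
  rw [h1, add_comm, h2, h3]

end Main

section Final

variable (A : Type u) [CommRing A] [IsNoetherianRing A]
  (S : Type u) [CommRing S] [Algebra A S]
  (Q : Type u) [AddCommGroup Q] [Module A Q] [Module S Q] [IsScalarTower A S Q]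
  [Module.Finite A Q] [Module.Flat A Q]

theorem isConstructible_finrank_span (n : ℕ) :
    Topology.IsConstructible {p : PrimeSpectrum A |
      Module.finrank p.asIdeal.ResidueField
        (Submodule.span p.asIdeal.ResidueField
          (Set.range fun s : S =>
            LinearMap.baseChange p.asIdeal.ResidueField (DistribSMul.toLinearMap A Q s))) = n} := by
  haveI : Module.FinitePresentation A Q := Module.finitePresentation_of_finite A Q
  haveI : Module.Projective A Q := Module.Flat.projective_of_finitePresentation
  obtain ⟨m, π, hπ⟩ := Module.Finite.exists_fin' A Q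
  obtain ⟨i, hπi⟩ := Module.projective_lifting_property π LinearMap.id hπ
  by_cases hn : n ≤ m * m
  · have : {p : PrimeSpectrum A |
        Module.finrank p.asIdeal.ResidueField
          (Submodule.span p.asIdeal.ResidueField
            (Set.range fun s : S =>
              LinearMap.baseChange p.asIdeal.ResidueField (DistribSMul.toLinearMap A Q s))) = n} =
        {p : PrimeSpectrum A | fd ((Fin m → Fin m → A) ⧸
          Submodule.span A (Set.range (Psi (S := S) π i))) p = m * m - n} := by
      ext p
      have h := finrank_span_add (S := S) π i p.asIdeal.ResidueField hπ hπi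
      simp only [Set.mem_setOf_eq, fd]
      omega
    rw [this]
    exact isConstructible_fd_eq _
  · have : {p : PrimeSpectrum A |
        Module.finrank p.asIdeal.ResidueField
          (Submodule.span p.asIdeal.ResidueField
            (Set.range fun s : S =>
              LinearMap.baseChange p.asIdeal.ResidueField (DistribSMul.toLinearMap A Q s))) = n} =
        ∅ := by
      ext p
      have h := finrank_span_add (S := S) π i p.asIdeal.ResidueField hπ hπi
      simp only [Set.mem_setOf_eq, Set.mem_empty_iff_false, iff_false]
      omega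
    rw [this]
    exact Topology.IsConstructible.empty

end Final

end Groth.Agent.H80.FibreDim
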