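import Mathlib

/-!
# Split filtrations are determined by the filtration they induce on a tensor power

Helper library of helper80 (used by S19157).  No localisation is used: everything is tested
against linear functionals, prime by prime, with explicit denominators.
-/

set_option autoImplicit false
set_option linter.unusedSectionVars false
set_option linter.unusedVariables false
set_option linter.unusedSimpArgs false

namespace Groth.Agent.H80.FiltSplit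

open scoped TensorProduct

variable {Γ : Type*} [AddCommGroup Γ] [LinearOrder Γ] [IsOrderedAddMonoid Γ]
variable {R : Type*} [CommRing R] {M : Type*} [AddCommGroup M] [Module R M]

section Proj

variable (G : Γ → Submodule R M) (hG : DirectSum.IsInternal G)

/-- projection of `M = ⨁ G η` onto the piece `G η`, as an endomorphism of `M` -/
noncomputable def proj (η : Γ) : M →ₗ[R] M :=
  letI := hG.chooseDecomposition
  (G η).subtype ∘ₗ (DirectSum.component R Γ (fun i => G i) η) ∘ₗ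
    (DirectSum.decomposeLinearEquiv G).toLinearMap

lemma proj_mem (η : Γ) (x : M) : proj G hG η x ∈ G η := by
  unfold proj
  exact Submodule.coe_mem _

lemma proj_of_mem {η : Γ} {x : M} (hx : x ∈ G η) : proj G hG η x = x := by
  letI := hG.chooseDecomposition
  show ((DirectSum.decompose G x) η : M) = x
  exact DirectSum.decompose_of_mem_same G hx

lemma proj_of_mem_ne {η ε : Γ} {x : M} (hx : x ∈ G ε) (h : ε ≠ η) : proj G hG η x = 0 := by
  letI := hG.chooseDecomposition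
  show ((DirectSum.decompose G x) η : M) = 0
  exact DirectSum.decompose_of_mem_ne G hx h

lemma sum_proj (x : M) : ∃ s : Finset Γ, x = ∑ η ∈ s, proj G hG η x := by
  classical
  letI := hG.chooseDecomposition
  exact ⟨(DirectSum.decompose G x).support, (DirectSum.sum_support_decompose G x).symm⟩

include hG in
lemma exists_finset_bot [Module.Finite R M] : ∃ U : Finset Γ, ∀ η ∉ U, G η = ⊥ := by
  classical
  letI := hG.chooseDecomposition
  obtain ⟨S, hS⟩ := (Module.Finite.fg_top : (⊤ : Submodule R M).FG)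
  refine ⟨S.biUnion (fun s => (DirectSum.decompose G s).support), fun η hη => ?_⟩
  have key : ∀ m : M, (DirectSum.decompose G m) η = 0 := by
    intro m
    have hm : m ∈ Submodule.span R (S : Set M) := by rw [hS]; trivial
    induction hm using Submodule.span_induction with
    | mem x hx =>
      by_contra h
      apply hη
      rw [Finset.mem_biUnion]
      exact ⟨x, hx, DFinsupp.mem_support_iff.mpr h⟩
    | zero => simp
    | add x y _ _ hx hy => rw [DirectSum.decompose_add, DirectSum.add_apply, hx, hy, add_zero]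
    | smul a x _ hx => rw [DirectSum.decompose_smul, DirectSum.smul_apply, hx, smul_zero]
  rw [eq_bot_iff]
  intro x hx
  have h1 := DirectSum.decompose_of_mem_same G hx
  rw [key x] at h1
  simpa using h1.symm

/-- `N` vanishes locally at the prime `𝔭` -/
def LocZero (𝔭 : Ideal R) (N : Submodule R M) : Prop := ∃ s : R, s ∉ 𝔭 ∧ ∀ x ∈ N, s • x = 0

lemma exists_kill (𝔭 : Ideal R) [h𝔭 : 𝔭.IsPrime] (U : Finset Γ) (P : Γ → Prop)
    (h : ∀ ε ∈ U, P ε → LocZero 𝔭 (G ε)) :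
    ∃ s : R, s ∉ 𝔭 ∧ ∀ ε ∈ U, P ε → ∀ x ∈ G ε, s • x = 0 := by
  classical
  induction U using Finset.induction_on with
  | empty =>
    exact ⟨1, (Ideal.ne_top_iff_one 𝔭).mp h𝔭.ne_top, by simp⟩
  | insert a U ha ih =>
    obtain ⟨s, hs, hsU⟩ := ih (fun ε hε => h ε (Finset.mem_insert_of_mem hε))
    by_cases hP : P a
    · obtain ⟨t, ht, hta⟩ := h a (Finset.mem_insert_self a U) hP
      refine ⟨s * t, fun hst => ?_, ?_⟩
      · rcases h𝔭.mem_or_mem hst with h1 | h1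
        exacts [hs h1, ht h1]
      · intro ε hε hPε x hx
        rcases Finset.mem_insert.mp hε with rfl | hε'
        · rw [mul_smul, hta x hx, smul_zero]
        · rw [mul_comm, mul_smul, hsU ε hε' hPε x hx, smul_zero]
    · refine ⟨s, hs, ?_⟩
      intro ε hε hPε x hx
      rcases Finset.mem_insert.mp hε with rfl | hε'
      · exact absurd hPε hP
      · exact hsU ε hε' hPε x hx

include hG in
lemma smul_mem_filt (U : Finset Γ) (hU : ∀ η ∉ U, G η = ⊥) (μ : Γ) (s : R)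
    (hs : ∀ ε ∈ U, ε < μ → ∀ x ∈ G ε, s • x = 0) (m : M) :
    s • m ∈ ⨆ η ∈ Set.Ici μ, G η := by
  have hm : m ∈ ⨆ η, G η := by rw [hG.submodule_iSup_eq_top]; trivial
  refine Submodule.iSup_induction G (motive := fun m => s • m ∈ ⨆ η ∈ Set.Ici μ, G η) hm ?_ ?_ ?_
  · intro ε x hx
    by_cases hε : ε < μ
    · by_cases hεU : ε ∈ U
      · rw [hs ε hεU hε x hx]; exact zero_mem _
      · have : x = 0 := by
          have := hU ε hεU
          rw [this] at hx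
          exact (Submodule.mem_bot R).mp hx
        rw [this, smul_zero]; exact zero_mem _
    · exact Submodule.smul_mem _ s
        (Submodule.mem_iSup_of_mem ε (Submodule.mem_iSup_of_mem (not_lt.mp hε) hx))
  · simp
  · intro x y hx hy
    rw [smul_add]; exact add_mem hx hy

include hG in
lemma smul_eq_zero_of_kill (U : Finset Γ) (hU : ∀ η ∉ U, G η = ⊥) (s : R)
    (hs : ∀ ε ∈ U, ∀ x ∈ G ε, s • x = 0) (m : M) : s • m = 0 := by
  have hm : m ∈ ⨆ η, G η := by rw [hG.submodule_iSup_eq_top]; trivial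
  refine Submodule.iSup_induction G (motive := fun m => s • m = 0) hm ?_ ?_ ?_
  · intro ε x hx
    by_cases hεU : ε ∈ U
    · exact hs ε hεU x hx
    · have : x = 0 := by
        have := hU ε hεU
        rw [this] at hx
        exact (Submodule.mem_bot R).mp hx
      rw [this, smul_zero]
  · simp
  · intro x y hx hy
    rw [smul_add, hx, hy, add_zero]

/-- the functional `f` has weight at most `ε` for the filtration `F` -/
def Low (F : Γ → Submodule R M) (f : M →ₗ[R] R) (ε : Γ) : Prop :=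
  ∀ c, ε < c → ∀ x ∈ F c, f x = 0

lemma low_comp_proj (F : Γ → Submodule R M) (hF : ∀ γ, F γ = ⨆ η ∈ Set.Ici γ, G η)
    (g : M →ₗ[R] R) (η : Γ) : Low F (g ∘ₗ proj G hG η) η := by
  intro c hc x hx
  have h0 : proj G hG η x = 0 := by
    rw [hF c] at hx
    have hle : (⨆ ε ∈ Set.Ici c, G ε) ≤ LinearMap.ker (proj G hG η) := by
      refine iSup_le fun ε => iSup_le fun hε => ?_
      intro y hy
      exact proj_of_mem_ne G hG hy (ne_of_gt (lt_of_lt_of_le hc hε))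
    exact hle hx
  simp [h0]

include hG in
lemma exists_unimod [Module.Finite R M] [Module.Projective R M] (F : Γ → Submodule R M)
    (hF : ∀ γ, F γ = ⨆ η ∈ Set.Ici γ, G η) (𝔭 : Ideal R) [h𝔭 : 𝔭.IsPrime] (μ : Γ)
    (hnz : ¬ LocZero 𝔭 (G μ)) :
    ∃ w ∈ G μ, ∃ f : M →ₗ[R] R, f w ∉ 𝔭 ∧ Low F f μ := by
  classical
  obtain ⟨n, φ, ψ, -, -, hφψ⟩ := Module.Finite.exists_comp_eq_id_of_projective R M
  by_contra hcon
  push Not at hcon
  have hall : ∀ w ∈ G μ, ∀ j, ψ w j ∈ 𝔭 := by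
    intro w hw j
    by_contra hj
    have hfw : ((LinearMap.proj j ∘ₗ ψ) ∘ₗ proj G hG μ) w ∉ 𝔭 := by
      simpa [proj_of_mem G hG hw] using hj
    exact hcon w hw _ hfw (low_comp_proj G hG F hF _ μ)
  have hle : G μ ≤ 𝔭 • G μ := by
    intro w hw
    have h2 : φ (ψ w) = w := by simpa using LinearMap.congr_fun hφψ w
    have h3 : ψ w = ∑ j, ψ w j • (Pi.single j (1 : R) : Fin n → R) := by
      ext i
      simp [Finset.sum_apply, Pi.single_apply]
    have h1 : w = ∑ j, ψ w j • proj G hG μ (φ (Pi.single j 1)) := by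
      calc w = proj G hG μ w := (proj_of_mem G hG hw).symm
        _ = proj G hG μ (φ (ψ w)) := by rw [h2]
        _ = proj G hG μ (φ (∑ j, ψ w j • (Pi.single j (1 : R) : Fin n → R))) := by rw [← h3]
        _ = ∑ j, ψ w j • proj G hG μ (φ (Pi.single j 1)) := by
          simp [map_sum, map_smul]
    rw [h1]
    exact Submodule.sum_mem _ fun j _ => Submodule.smul_mem_smul (hall w hw j) (proj_mem G hG μ _)
  have hfg : (G μ).FG := by
    have hrange : G μ = LinearMap.range (proj G hG μ) := by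
      ext x; constructor
      · intro hx; exact ⟨x, proj_of_mem G hG hx⟩
      · rintro ⟨y, rfl⟩; exact proj_mem G hG μ y
    rw [hrange, LinearMap.range_eq_map]
    exact Submodule.FG.map _ Module.Finite.fg_top
  obtain ⟨r, hr, hr0⟩ :=
    Submodule.exists_sub_one_mem_and_smul_eq_zero_of_fg_of_le_smul 𝔭 (G μ) hfg hle
  apply hnz
  refine ⟨r, fun hrp => ?_, hr0⟩
  have h1 : (1 : R) ∈ 𝔭 := by
    have := 𝔭.sub_mem hrp hr
    simpa using this
  exact (Ideal.ne_top_iff_one 𝔭).mp h𝔭.ne_top h1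

end Proj

section Tensor

variable (F : Γ → Submodule R M) (k : ℕ)

/-- the filtration induced on the `k`-th tensor power -/
def T (δ : Γ) : Submodule R (⨂[R] _ : Fin k, M) :=
  ⨆ c : {c : Fin k → Γ // ∑ i, c i = δ},
    LinearMap.range (PiTensorProduct.map (R := R) (fun i => (F (c.1 i)).subtype))

/-- product of functionals, as a functional on the tensor power -/
noncomputable def Ψ (g : Fin k → (M →ₗ[R] R)) : (⨂[R] _ : Fin k, M) →ₗ[R] R :=
  PiTensorProduct.lift ((MultilinearMap.mkPiAlgebra R (Fin k) R).compLinearMap g)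

lemma Ψ_tprod (g : Fin k → (M →ₗ[R] R)) (x : Fin k → M) :
    Ψ k g (PiTensorProduct.tprod R x) = ∏ i, g i (x i) := by
  simp [Ψ]

lemma tprod_mem_T (δ : Γ) (c : Fin k → Γ) (hc : ∑ i, c i = δ) (x : Fin k → M)
    (hx : ∀ i, x i ∈ F (c i)) : PiTensorProduct.tprod R x ∈ T F k δ := by
  refine Submodule.mem_iSup_of_mem ⟨c, hc⟩ ?_
  refine ⟨PiTensorProduct.tprod R (fun i => (⟨x i, hx i⟩ : F (c i))), ?_⟩
  rw [PiTensorProduct.map_tprod]
  rfl

lemma Ψ_vanish (g : Fin k → (M →ₗ[R] R)) (ε : Fin k → Γ) (hg : ∀ i, Low F (g i) (ε i))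
    (δ : Γ) (hδ : ∑ i, ε i < δ) : T F k δ ≤ LinearMap.ker (Ψ k g) := by
  refine iSup_le ?_
  rintro ⟨c, hc⟩
  rw [LinearMap.range_le_ker_iff]
  apply PiTensorProduct.ext
  ext x
  simp only [LinearMap.compMultilinearMap_apply, LinearMap.coe_comp, Function.comp_apply,
    PiTensorProduct.map_tprod, Ψ_tprod, LinearMap.zero_apply, Submodule.subtype_apply]
  obtain ⟨i, hi⟩ : ∃ i, ε i < c i := by
    by_contra hcon
    push Not at hcon
    have : ∑ i, c i ≤ ∑ i, ε i := Finset.sum_le_sum fun i _ => hcon i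
    rw [hc] at this
    exact absurd hδ (not_lt.mpr this)
  exact Finset.prod_eq_zero (Finset.mem_univ i) (hg i (c i) hi _ (x i).2)

lemma not_lt_of_T (Fa Fb : Γ → Submodule R M) (hk : 1 ≤ k) (μa μb : Γ)
    (hT : T Fa k (∑ _i : Fin k, μa) ≤ T Fb k (∑ _i : Fin k, μa))
    (s : R) (hs : ∀ m, s • m ∈ Fa μa) (f : M →ₗ[R] R) (hf : Low Fb f μb) (w : M)
    (hne : (f (s • w)) ^ k ≠ 0) : ¬ μb < μa := by
  intro hlt
  have hmem : PiTensorProduct.tprod R (fun _ : Fin k => s • w) ∈ T Fa k (∑ _i : Fin k, μa) :=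
    tprod_mem_T Fa k _ (fun _ => μa) rfl _ (fun _ => hs w)
  have hsum : ∑ _i : Fin k, μb < ∑ _i : Fin k, μa := by
    haveI : Nonempty (Fin k) := ⟨⟨0, hk⟩⟩
    exact Finset.sum_lt_sum_of_nonempty Finset.univ_nonempty (fun _ _ => hlt)
  have hker := Ψ_vanish Fb k (fun _ => f) (fun _ => μb) (fun _ => hf) (∑ _i : Fin k, μa) hsum
    (hT hmem)
  rw [LinearMap.mem_ker, Ψ_tprod, Finset.prod_const, Finset.card_univ, Fintype.card_fin] at hker
  exact hne hker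

end Tensor

section Main

variable [Module.Finite R M] [Module.Projective R M]
variable (F₁ F₂ : Γ → Submodule R M)
variable (G₁ : Γ → Submodule R M) (hG₁ : DirectSum.IsInternal G₁)
variable (hF₁ : ∀ γ, F₁ γ = ⨆ η ∈ Set.Ici γ, G₁ η)
variable (G₂ : Γ → Submodule R M) (hG₂ : DirectSum.IsInternal G₂)
variable (hF₂ : ∀ γ, F₂ γ = ⨆ η ∈ Set.Ici γ, G₂ η)
variable (k : ℕ) (hk : 1 ≤ k) (h : ∀ δ, T F₁ k δ = T F₂ k δ)

include hG₁ hF₁ hF₂ hk h in
theorem exists_smul_proj_eq_zero (𝔭 : Ideal R) [h𝔭 : 𝔭.IsPrime] (γ η : Γ) (hη : η < γ)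
    (v : M) (hv : v ∈ F₁ γ) : ∃ s : R, s ∉ 𝔭 ∧ s • proj G₂ hG₂ η v = 0 := by
  classical
  by_cases hz : LocZero 𝔭 (G₂ η)
  · obtain ⟨s, hs, hs0⟩ := hz
    exact ⟨s, hs, hs0 _ (proj_mem G₂ hG₂ η v)⟩
  obtain ⟨U₁, hU₁⟩ := exists_finset_bot G₁ hG₁
  obtain ⟨U₂, hU₂⟩ := exists_finset_bot G₂ hG₂
  have h1p : (1 : R) ∉ 𝔭 := (Ideal.ne_top_iff_one 𝔭).mp h𝔭.ne_top
  have hbot : ∀ N : Submodule R M, N = ⊥ → LocZero 𝔭 N := by
    intro N hN
    refine ⟨1, h1p, ?_⟩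
    intro x hx
    rw [hN] at hx
    rw [(Submodule.mem_bot R).mp hx, smul_zero]
  have hηU : η ∈ U₂ := by
    by_contra hηU
    exact hz (hbot _ (hU₂ η hηU))
  have hηW : η ∈ U₂.filter (fun ε => ¬ LocZero 𝔭 (G₂ ε)) := Finset.mem_filter.mpr ⟨hηU, hz⟩
  by_cases hW₁e : U₁.filter (fun ε => ¬ LocZero 𝔭 (G₁ ε)) = ∅
  · have hall : ∀ ε ∈ U₁, True → LocZero 𝔭 (G₁ ε) := by
      intro ε hε _
      by_contra hc
      have : ε ∈ U₁.filter (fun ε => ¬ LocZero 𝔭 (G₁ ε)) := Finset.mem_filter.mpr ⟨hε, hc⟩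
      rw [hW₁e] at this
      exact absurd this (Finset.notMem_empty _)
    obtain ⟨s, hs, hsU⟩ := exists_kill G₁ 𝔭 U₁ (fun _ => True) hall
    exact ⟨s, hs, smul_eq_zero_of_kill G₁ hG₁ U₁ hU₁ s (fun ε hε => hsU ε hε trivial) _⟩
  have hW₁ne : (U₁.filter (fun ε => ¬ LocZero 𝔭 (G₁ ε))).Nonempty :=
    Finset.nonempty_iff_ne_empty.mpr hW₁e
  have hW₂ne : (U₂.filter (fun ε => ¬ LocZero 𝔭 (G₂ ε))).Nonempty := ⟨η, hηW⟩
  obtain ⟨μ₁, hμ₁W, hμ₁min⟩ : ∃ μ₁ ∈ U₁.filter (fun ε => ¬ LocZero 𝔭 (G₁ ε)),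
      ∀ ε ∈ U₁.filter (fun ε => ¬ LocZero 𝔭 (G₁ ε)), μ₁ ≤ ε :=
    ⟨_, Finset.min'_mem _ hW₁ne, fun ε hε => Finset.min'_le _ ε hε⟩
  obtain ⟨μ₂, hμ₂W, hμ₂min⟩ : ∃ μ₂ ∈ U₂.filter (fun ε => ¬ LocZero 𝔭 (G₂ ε)),
      ∀ ε ∈ U₂.filter (fun ε => ¬ LocZero 𝔭 (G₂ ε)), μ₂ ≤ ε :=
    ⟨_, Finset.min'_mem _ hW₂ne, fun ε hε => Finset.min'_le _ ε hε⟩
  have hnz₁ : ¬ LocZero 𝔭 (G₁ μ₁) := (Finset.mem_filter.mp hμ₁W).2
  have hnz₂ : ¬ LocZero 𝔭 (G₂ μ₂) := (Finset.mem_filter.mp hμ₂W).2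
  have hlow₁ : ∀ ε ∈ U₁, ε < μ₁ → LocZero 𝔭 (G₁ ε) := by
    intro ε hε hlt
    by_contra hc
    exact absurd (hμ₁min ε (Finset.mem_filter.mpr ⟨hε, hc⟩)) (not_le.mpr hlt)
  have hlow₂ : ∀ ε ∈ U₂, ε < μ₂ → LocZero 𝔭 (G₂ ε) := by
    intro ε hε hlt
    by_contra hc
    exact absurd (hμ₂min ε (Finset.mem_filter.mpr ⟨hε, hc⟩)) (not_le.mpr hlt)
  obtain ⟨s₁, hs₁, hs₁U⟩ := exists_kill G₁ 𝔭 U₁ (· < μ₁) hlow₁
  obtain ⟨s₂, hs₂, hs₂U⟩ := exists_kill G₂ 𝔭 U₂ (· < μ₂) hlow₂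
  have hs₁M : ∀ m, s₁ • m ∈ F₁ μ₁ := fun m => by
    rw [hF₁]; exact smul_mem_filt G₁ hG₁ U₁ hU₁ μ₁ s₁ hs₁U m
  have hs₂M : ∀ m, s₂ • m ∈ F₂ μ₂ := fun m => by
    rw [hF₂]; exact smul_mem_filt G₂ hG₂ U₂ hU₂ μ₂ s₂ hs₂U m
  obtain ⟨w₁, hw₁, f₁, hf₁, hf₁low⟩ := exists_unimod G₁ hG₁ F₁ hF₁ 𝔭 μ₁ hnz₁
  obtain ⟨w₂, hw₂, f₂, hf₂, hf₂low⟩ := exists_unimod G₂ hG₂ F₂ hF₂ 𝔭 μ₂ hnz₂
  have hnotmem : ∀ (a b : R) (n : ℕ), a ∉ 𝔭 → b ∉ 𝔭 → (a * b) ^ n ∉ 𝔭 := by
    intro a b n ha hb hmem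
    rcases h𝔭.mem_or_mem (h𝔭.mem_of_pow_mem _ hmem) with h1 | h1
    exacts [ha h1, hb h1]
  have hle₁ : ¬ μ₂ < μ₁ := by
    refine not_lt_of_T k F₁ F₂ hk μ₁ μ₂ (le_of_eq (h _)) s₁ hs₁M f₂ hf₂low w₂ ?_
    intro h0
    rw [map_smul, smul_eq_mul] at h0
    exact hnotmem s₁ (f₂ w₂) k hs₁ hf₂ (h0 ▸ 𝔭.zero_mem)
  have hle₂ : ¬ μ₁ < μ₂ := by
    refine not_lt_of_T k F₂ F₁ hk μ₂ μ₁ (le_of_eq (h _).symm) s₂ hs₂M f₁ hf₁low w₁ ?_
    intro h0
    rw [map_smul, smul_eq_mul] at h0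
    exact hnotmem s₂ (f₁ w₁) k hs₂ hf₁ (h0 ▸ 𝔭.zero_mem)
  have hμ : μ₁ = μ₂ := le_antisymm (not_lt.mp hle₁) (not_lt.mp hle₂)
  obtain ⟨k', rfl⟩ : ∃ k', k = k' + 1 := ⟨k - 1, by omega⟩
  obtain ⟨n, φ, ψ, -, -, hφψ⟩ := Module.Finite.exists_comp_eq_id_of_projective R M
  refine ⟨(s₁ * f₂ w₂) ^ k', hnotmem s₁ (f₂ w₂) k' hs₁ hf₂, ?_⟩
  have hψ0 : ψ ((s₁ * f₂ w₂) ^ k' • proj G₂ hG₂ η v) = 0 := by
    ext j
    have hmem : PiTensorProduct.tprod R (Fin.cons v (fun _ => s₁ • w₂) : Fin (k' + 1) → M) ∈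
        T F₁ (k' + 1) (∑ i, (Fin.cons γ (fun _ => μ₁) : Fin (k' + 1) → Γ) i) := by
      refine tprod_mem_T F₁ (k' + 1) _ (Fin.cons γ (fun _ => μ₁)) rfl _ ?_
      intro i
      refine Fin.cases ?_ ?_ i
      · simpa using hv
      · intro i; simpa using hs₁M w₂
    rw [h] at hmem
    have hlowg : ∀ i : Fin (k' + 1),
        Low F₂ ((Fin.cons ((LinearMap.proj j ∘ₗ ψ) ∘ₗ proj G₂ hG₂ η) (fun _ => f₂) :
          Fin (k' + 1) → (M →ₗ[R] R)) i) ((Fin.cons η (fun _ => μ₂) : Fin (k' + 1) → Γ) i) := by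
      intro i
      refine Fin.cases ?_ ?_ i
      · simpa using low_comp_proj G₂ hG₂ F₂ hF₂ (LinearMap.proj j ∘ₗ ψ) η
      · intro i; simpa using hf₂low
    have hsum : ∑ i, (Fin.cons η (fun _ => μ₂) : Fin (k' + 1) → Γ) i <
        ∑ i, (Fin.cons γ (fun _ => μ₁) : Fin (k' + 1) → Γ) i := by
      rw [Fin.sum_univ_succ, Fin.sum_univ_succ]
      simp only [Fin.cons_zero, Fin.cons_succ]
      rw [hμ]
      exact add_lt_add_left hη _
    have hker := Ψ_vanish F₂ (k' + 1) _ _ hlowg _ hsum hmem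
    rw [LinearMap.mem_ker, Ψ_tprod, Fin.prod_univ_succ] at hker
    simp only [Fin.cons_zero, Fin.cons_succ, LinearMap.coe_comp, Function.comp_apply,
      LinearMap.coe_proj, Function.eval, Finset.prod_const, Finset.card_univ, Fintype.card_fin,
      map_smul, smul_eq_mul] at hker
    simp only [map_smul, Pi.smul_apply, smul_eq_mul, Pi.zero_apply]
    rw [mul_comm]
    exact hker
  have hback : (s₁ * f₂ w₂) ^ k' • proj G₂ hG₂ η v =
      φ (ψ ((s₁ * f₂ w₂) ^ k' • proj G₂ hG₂ η v)) := by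
    have := LinearMap.congr_fun hφψ ((s₁ * f₂ w₂) ^ k' • proj G₂ hG₂ η v)
    simpa using this.symm
  rw [hback, hψ0, map_zero]

include hG₁ hF₁ hG₂ hF₂ hk h in
theorem le_of_T_eq (γ : Γ) : F₁ γ ≤ F₂ γ := by
  classical
  intro v hv
  have hproj : ∀ η, η < γ → proj G₂ hG₂ η v = 0 := by
    intro η hη
    by_contra hx
    have hI : LinearMap.ker (LinearMap.toSpanSingleton R M (proj G₂ hG₂ η v)) ≠ ⊤ := by
      intro htop
      have : (1 : R) ∈ LinearMap.ker (LinearMap.toSpanSingleton R M (proj G₂ hG₂ η v)) := by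
        rw [htop]; trivial
      rw [LinearMap.mem_ker, LinearMap.toSpanSingleton_apply, one_smul] at this
      exact hx this
    obtain ⟨𝔪, h𝔪, hle⟩ := Ideal.exists_le_maximal _ hI
    haveI := h𝔪.isPrime
    obtain ⟨s, hs, hs0⟩ := exists_smul_proj_eq_zero F₁ F₂ G₁ hG₁ hF₁ G₂ hG₂ hF₂ k hk h 𝔪 γ η hη v hv
    apply hs
    apply hle
    rw [LinearMap.mem_ker, LinearMap.toSpanSingleton_apply]
    exact hs0
  obtain ⟨S, hS⟩ := sum_proj G₂ hG₂ v
  rw [hS, hF₂ γ]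
  refine Submodule.sum_mem _ fun η _ => ?_
  by_cases hη : η < γ
  · rw [hproj η hη]; exact zero_mem _
  · exact Submodule.mem_iSup_of_mem η
      (Submodule.mem_iSup_of_mem (not_lt.mp hη) (proj_mem G₂ hG₂ η v))

end Main

end Groth.Agent.H80.FiltSplit
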