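import Mathlib
import Groth.Agent.H80.FiltSplit

/-!
# Splittings of Γ-filtrations: the graded-pieces criterion

Helper library of helper80 (used by S19154).
-/

set_option autoImplicit false
set_option linter.unusedSectionVars false
set_option linter.unusedVariables false
set_option linter.unusedSimpArgs false

namespace Groth.Agent.H80.FiltGr

open scoped TensorProduct
open Groth.Agent.H80.FiltSplit

universe u v w

variable {Γ : Type w} [AddCommGroup Γ] [LinearOrder Γ] [IsOrderedAddMonoid Γ]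
variable {R : Type u} [CommRing R] {M : Type v} [AddCommGroup M] [Module R M]

section Im

variable (κ : Type*) [Field κ] [Algebra R κ]

/-- image of `κ ⊗ S` in `κ ⊗ M` -/
def im (S : Submodule R M) : Submodule κ (κ ⊗[R] M) :=
  Submodule.span κ ((TensorProduct.mk R κ M 1) '' (S : Set M))

lemma tmul_mem_im {S : Submodule R M} {s : M} (hs : s ∈ S) : (1 : κ) ⊗ₜ[R] s ∈ im κ S :=
  Submodule.subset_span ⟨s, hs, rfl⟩

lemma range_baseChange_eq_im (S : Submodule R M) :
    LinearMap.range (S.subtype.baseChange κ) = im κ S := by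
  apply le_antisymm
  · rintro _ ⟨x, rfl⟩
    induction x using TensorProduct.induction_on with
    | zero => simp
    | tmul a s =>
      rw [LinearMap.baseChange_tmul]
      have : a ⊗ₜ[R] (S.subtype s) = a • ((1 : κ) ⊗ₜ[R] (s : M)) := by
        rw [TensorProduct.smul_tmul', smul_eq_mul, mul_one]; rfl
      rw [this]
      exact Submodule.smul_mem _ _ (tmul_mem_im κ s.2)
    | add x y hx hy => rw [map_add]; exact add_mem hx hy
  · rw [im, Submodule.span_le]
    rintro _ ⟨s, hs, rfl⟩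
    exact ⟨(1 : κ) ⊗ₜ ⟨s, hs⟩, by simp⟩

lemma im_mono {S T : Submodule R M} (h : S ≤ T) : im κ S ≤ im κ T :=
  Submodule.span_mono (Set.image_mono h)

lemma im_iSup {ι : Sort*} (S : ι → Submodule R M) : im κ (⨆ i, S i) = ⨆ i, im κ (S i) := by
  apply le_antisymm
  · rw [im, Submodule.span_le]
    rintro _ ⟨s, hs, rfl⟩
    refine Submodule.iSup_induction S (motive := fun s => (1 : κ) ⊗ₜ[R] s ∈ ⨆ i, im κ (S i))
      hs ?_ ?_ ?_
    · intro i x hx
      exact Submodule.mem_iSup_of_mem i (tmul_mem_im κ hx)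
    · rw [TensorProduct.tmul_zero]; exact zero_mem _
    · intro x y hx hy; rw [TensorProduct.tmul_add]; exact add_mem hx hy
  · exact iSup_le fun i => im_mono κ (le_iSup S i)

lemma im_sup (S T : Submodule R M) : im κ (S ⊔ T) = im κ S ⊔ im κ T := by
  apply le_antisymm
  · rw [im, Submodule.span_le]
    rintro _ ⟨x, hx, rfl⟩
    obtain ⟨s, hs, t, ht, rfl⟩ := Submodule.mem_sup.mp hx
    show (1 : κ) ⊗ₜ[R] (s + t) ∈ _
    rw [TensorProduct.tmul_add]
    exact Submodule.add_mem_sup (tmul_mem_im κ hs) (tmul_mem_im κ ht)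
  · exact sup_le (im_mono κ le_sup_left) (im_mono κ le_sup_right)

lemma im_bot : im κ (⊥ : Submodule R M) = ⊥ := by
  rw [im, Submodule.span_eq_bot]
  rintro _ ⟨s, hs, rfl⟩
  rw [(Submodule.mem_bot R).mp hs]
  simp

lemma im_top : im κ (⊤ : Submodule R M) = ⊤ := by
  rw [eq_top_iff]
  rintro x -
  induction x using TensorProduct.induction_on with
  | zero => exact zero_mem _
  | tmul a s =>
    have : a ⊗ₜ[R] s = a • ((1 : κ) ⊗ₜ[R] s) := by
      rw [TensorProduct.smul_tmul', smul_eq_mul, mul_one]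
    rw [this]
    exact Submodule.smul_mem _ _ (tmul_mem_im κ Submodule.mem_top)
  | add x y hx hy => exact add_mem hx hy

end Im

section Field

variable {κ : Type*} [Field κ] {V : Type*} [AddCommGroup V] [Module κ V] [FiniteDimensional κ V]

lemma sum_jumps_le (E : Γ → Submodule κ V) (hE : Antitone E) (T : Finset Γ) :
    ∑ γ ∈ T, (Module.finrank κ (E γ) - Module.finrank κ ↥(⨆ η ∈ Set.Ioi γ, E η)) ≤
      Module.finrank κ ↥(⨆ γ ∈ T, E γ) := by
  classical
  induction T using Finset.induction_on_min with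
  | empty => simp
  | insert a s ha ih =>
    rw [Finset.sum_insert (fun h => lt_irrefl a (ha a h))]
    have h1 : (⨆ γ ∈ s, E γ) ≤ ⨆ η ∈ Set.Ioi a, E η := by
      refine iSup₂_le fun γ hγ => ?_
      exact le_iSup₂ (f := fun η (_ : η ∈ Set.Ioi a) => E η) γ (ha γ hγ)
    have h2 : (⨆ η ∈ Set.Ioi a, E η) ≤ E a := iSup₂_le fun η hη => hE (le_of_lt hη)
    have h3 : E a ≤ ⨆ γ ∈ insert a s, E γ :=
      le_iSup₂ (f := fun γ (_ : γ ∈ insert a s) => E γ) a (Finset.mem_insert_self a s)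
    have h4 := Submodule.finrank_mono h1
    have h5 := Submodule.finrank_mono h2
    have h6 := Submodule.finrank_mono h3
    omega

lemma iSup_eq_top_of_jumps (Fx W : Γ → Submodule κ V) (hFx : Antitone Fx)
    (hW : ∀ γ, W γ ≤ Fx γ) (hcov : ∀ γ, Fx γ ≤ W γ ⊔ ⨆ η ∈ Set.Ioi γ, Fx η)
    (hrank : Module.finrank κ V = ∑ᶠ γ, (Module.finrank κ (Fx γ) -
      Module.finrank κ ↥(⨆ η ∈ Set.Ioi γ, Fx η))) :
    ⨆ γ, W γ = ⊤ := by
  classical
  by_cases h0 : Module.finrank κ V = 0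
  · haveI : Subsingleton V := Module.finrank_zero_iff.mp h0
    exact Subsingleton.elim _ _
  · have hfin : (Function.support (fun γ => Module.finrank κ (Fx γ) -
        Module.finrank κ ↥(⨆ η ∈ Set.Ioi γ, Fx η))).Finite := by
      by_contra hinf
      rw [finsum_of_infinite_support hinf] at hrank
      exact h0 hrank
    rw [finsum_eq_sum_of_support_subset _ (s := hfin.toFinset) (by simp)] at hrank
    have hE : Antitone (fun γ => (⨆ γ, W γ) ⊓ Fx γ) := fun a b hab => inf_le_inf_left _ (hFx hab)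
    have hd' : ∀ γ, Module.finrank κ (Fx γ) - Module.finrank κ ↥(⨆ η ∈ Set.Ioi γ, Fx η) ≤
        Module.finrank κ ↥((⨆ γ, W γ) ⊓ Fx γ) -
          Module.finrank κ ↥(⨆ η ∈ Set.Ioi γ, (⨆ γ, W γ) ⊓ Fx η) := by
      intro γ
      have hplus_le : (⨆ η ∈ Set.Ioi γ, Fx η) ≤ Fx γ := iSup₂_le fun η hη => hFx (le_of_lt hη)
      have hsup : ((⨆ γ, W γ) ⊓ Fx γ) ⊔ (⨆ η ∈ Set.Ioi γ, Fx η) = Fx γ := by
        apply le_antisymm (sup_le inf_le_right hplus_le)
        exact (hcov γ).trans (sup_le_sup_right (le_inf (le_iSup W γ) (hW γ)) _)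
      have hinf : ((⨆ γ, W γ) ⊓ Fx γ) ⊓ (⨆ η ∈ Set.Ioi γ, Fx η) =
          (⨆ γ, W γ) ⊓ ⨆ η ∈ Set.Ioi γ, Fx η := by
        rw [inf_assoc, inf_eq_right.mpr hplus_le]
      have hformula := Submodule.finrank_sup_add_finrank_inf_eq ((⨆ γ, W γ) ⊓ Fx γ)
        (⨆ η ∈ Set.Ioi γ, Fx η)
      rw [hsup, hinf] at hformula
      have hEplus : (⨆ η ∈ Set.Ioi γ, (⨆ γ, W γ) ⊓ Fx η) ≤
          (⨆ γ, W γ) ⊓ ⨆ η ∈ Set.Ioi γ, Fx η :=
        iSup₂_le fun η hη => le_inf inf_le_left
          (le_trans inf_le_right (le_iSup₂ (f := fun η (_ : η ∈ Set.Ioi γ) => Fx η) η hη))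
      have h5 := Submodule.finrank_mono hEplus
      have h6 := Submodule.finrank_mono hplus_le
      omega
    have hle : Module.finrank κ V ≤ Module.finrank κ ↥(⨆ γ, W γ) := by
      calc Module.finrank κ V = ∑ γ ∈ hfin.toFinset, (Module.finrank κ (Fx γ) -
              Module.finrank κ ↥(⨆ η ∈ Set.Ioi γ, Fx η)) := hrank
        _ ≤ ∑ γ ∈ hfin.toFinset, (Module.finrank κ ↥((⨆ γ, W γ) ⊓ Fx γ) -
              Module.finrank κ ↥(⨆ η ∈ Set.Ioi γ, (⨆ γ, W γ) ⊓ Fx η)) :=
            Finset.sum_le_sum fun γ _ => hd' γ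
        _ ≤ Module.finrank κ ↥(⨆ γ ∈ hfin.toFinset, (⨆ γ, W γ) ⊓ Fx γ) :=
            sum_jumps_le (fun γ => (⨆ γ, W γ) ⊓ Fx γ) hE _
        _ ≤ Module.finrank κ ↥(⨆ γ, W γ) :=
            Submodule.finrank_mono (iSup₂_le fun γ _ => inf_le_left)
    exact Submodule.eq_top_of_finrank_eq (le_antisymm (Submodule.finrank_le _) hle)

lemma finrank_biSup_of_indep (W : Γ → Submodule κ V) (hW : iSupIndep W) (s : Finset Γ) :
    Module.finrank κ ↥(⨆ η ∈ s, W η) = ∑ η ∈ s, Module.finrank κ (W η) := by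
  classical
  induction s using Finset.induction_on with
  | empty => simp
  | insert a s ha ih =>
    rw [Finset.sum_insert ha, Finset.iSup_insert, ← ih]
    have hdisj : Disjoint (W a) (⨆ η ∈ s, W η) := by
      have := hW.disjoint_biSup (x := a) (y := (s : Set Γ)) (by simpa using ha)
      simpa using this
    have h := Submodule.finrank_sup_add_finrank_inf_eq (W a) (⨆ η ∈ s, W η)
    rw [hdisj.eq_bot, finrank_bot, add_zero] at h
    exact h

end Field


section Backward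

variable (F Fp : Γ → Submodule R M)

lemma exists_G
    (hproj : ∀ γ, Module.Projective R (↥(F γ) ⧸ Submodule.comap (F γ).subtype (Fp γ))) :
    ∃ G : Γ → Submodule R M, (∀ γ, G γ ≤ F γ) ∧ (∀ γ, G γ ⊓ Fp γ = ⊥) ∧
      (∀ γ, F γ ≤ G γ ⊔ Fp γ) := by
  have h : ∀ γ, ∃ s : (↥(F γ) ⧸ Submodule.comap (F γ).subtype (Fp γ)) →ₗ[R] ↥(F γ),
      (Submodule.mkQ (Submodule.comap (F γ).subtype (Fp γ))) ∘ₗ s = LinearMap.id := by
    intro γ
    haveI := hproj γ
    exact Module.projective_lifting_property _ _ (Submodule.mkQ_surjective _)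
  choose s hs using h
  have hs' : ∀ γ z, Submodule.Quotient.mk (p := Submodule.comap (F γ).subtype (Fp γ)) (s γ z) = z := by
    intro γ z
    exact LinearMap.congr_fun (hs γ) z
  refine ⟨fun γ => Submodule.map (F γ).subtype (LinearMap.range (s γ)), ?_, ?_, ?_⟩
  · rintro γ x ⟨y, _, rfl⟩
    exact y.2
  · intro γ
    rw [eq_bot_iff]
    rintro x ⟨⟨y, ⟨z, rfl⟩, rfl⟩, hx2⟩
    have h1 : s γ z ∈ Submodule.comap (F γ).subtype (Fp γ) := hx2
    have h2 : Submodule.Quotient.mk (p := Submodule.comap (F γ).subtype (Fp γ)) (s γ z) = 0 :=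
      (Submodule.Quotient.mk_eq_zero _).mpr h1
    have h3 : z = 0 := by rw [← hs' γ z, h2]
    rw [h3, map_zero, map_zero]
    exact zero_mem _
  · intro γ x hx
    have h1 : (⟨x, hx⟩ : ↥(F γ)) - s γ (Submodule.Quotient.mk ⟨x, hx⟩) ∈
        Submodule.comap (F γ).subtype (Fp γ) := by
      rw [← Submodule.Quotient.mk_eq_zero, Submodule.Quotient.mk_sub, hs', sub_self]
    have h2 : x = ((s γ (Submodule.Quotient.mk ⟨x, hx⟩) : ↥(F γ)) : M) +
        (((⟨x, hx⟩ : ↥(F γ)) - s γ (Submodule.Quotient.mk ⟨x, hx⟩) : ↥(F γ)) : M) := by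
      simp
    rw [h2]
    exact Submodule.add_mem_sup
      (Submodule.mem_map_of_mem (f := (F γ).subtype) (LinearMap.mem_range_self _ _)) h1

variable {F Fp}

lemma indep_of_sections (hF : Antitone F) (hFp : ∀ γ, Fp γ = ⨆ η ∈ Set.Ioi γ, F η)
    (G : Γ → Submodule R M) (h1 : ∀ γ, G γ ≤ F γ) (h2 : ∀ γ, G γ ⊓ Fp γ = ⊥) : iSupIndep G := by
  classical
  apply iSupIndep_of_dfinsupp_lsum_injective
  rw [injective_iff_map_eq_zero]
  intro v hv
  by_contra hne
  have hsupp : v.support.Nonempty := by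
    rw [Finset.nonempty_iff_ne_empty]
    intro h
    exact hne (DFinsupp.support_eq_empty.mp h)
  set η₀ := v.support.min' hsupp with hη₀
  have hmem : η₀ ∈ v.support := Finset.min'_mem _ _
  have hsum : ∑ i ∈ v.support, ((v i : G i) : M) = 0 := by
    have : DFinsupp.lsum ℕ (fun i => (G i).subtype) v = ∑ i ∈ v.support, ((v i : G i) : M) := by
      rw [DFinsupp.lsum_apply_apply, DFinsupp.sumAddHom_apply]
      rfl
    rw [← this]; exact hv
  rw [← Finset.add_sum_erase _ _ hmem] at hsum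
  have hmemFp : ((v η₀ : G η₀) : M) ∈ Fp η₀ := by
    have : ((v η₀ : G η₀) : M) = -∑ i ∈ v.support.erase η₀, ((v i : G i) : M) :=
      eq_neg_of_add_eq_zero_left hsum
    rw [this]
    apply Submodule.neg_mem
    apply Submodule.sum_mem
    intro i hi
    have hi' := Finset.mem_erase.mp hi
    have hlt : η₀ < i := lt_of_le_of_ne (Finset.min'_le _ _ hi'.2) (Ne.symm hi'.1)
    rw [hFp]
    exact (le_iSup₂ (f := fun η (_ : η ∈ Set.Ioi η₀) => F η) i hlt) (h1 i (v i).2)
  have hzero : ((v η₀ : G η₀) : M) ∈ G η₀ ⊓ Fp η₀ := ⟨(v η₀).2, hmemFp⟩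
  rw [h2, Submodule.mem_bot] at hzero
  exact (DFinsupp.mem_support_iff.mp hmem) (Subtype.ext hzero)

lemma eq_top_of_fibres [Module.Finite R M] (N : Submodule R M)
    (h : ∀ p : PrimeSpectrum R, im p.asIdeal.ResidueField N = ⊤) : N = ⊤ := by
  rw [← Submodule.Quotient.subsingleton_iff, ← Module.support_eq_empty_iff (R := R)]
  ext p
  simp only [Set.mem_empty_iff_false, iff_false]
  rw [Module.mem_support_iff_nontrivial_residueField_tensorProduct, not_nontrivial_iff_subsingleton]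
  have hsurj : Function.Surjective (N.mkQ.baseChange p.asIdeal.ResidueField) :=
    LinearMap.lTensor_surjective _ (Submodule.mkQ_surjective N)
  have hzero : ∀ x, N.mkQ.baseChange p.asIdeal.ResidueField x = 0 := by
    intro x
    have hx : x ∈ im p.asIdeal.ResidueField N := by rw [h p]; trivial
    have hle : im p.asIdeal.ResidueField N ≤
        LinearMap.ker (N.mkQ.baseChange p.asIdeal.ResidueField) := by
      rw [im, Submodule.span_le]
      rintro _ ⟨n, hn, rfl⟩
      show N.mkQ.baseChange p.asIdeal.ResidueField ((1 : p.asIdeal.ResidueField) ⊗ₜ[R] n) = 0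
      rw [LinearMap.baseChange_tmul, Submodule.mkQ_apply, (Submodule.Quotient.mk_eq_zero N).mpr hn,
        TensorProduct.tmul_zero]
    exact hle hx
  constructor
  intro a b
  obtain ⟨a, rfl⟩ := hsurj a
  obtain ⟨b, rfl⟩ := hsurj b
  rw [hzero, hzero]

theorem backward [Module.Finite R M] (hF : Antitone F) (hFp : ∀ γ, Fp γ = ⨆ η ∈ Set.Ioi γ, F η)
    (hproj : ∀ γ, Module.Projective R (↥(F γ) ⧸ Submodule.comap (F γ).subtype (Fp γ)))
    (hrank : ∀ (p : PrimeSpectrum R)
      (Fx : Γ → Submodule p.asIdeal.ResidueField (p.asIdeal.ResidueField ⊗[R] M)),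
      (∀ γ, Fx γ = LinearMap.range ((F γ).subtype.baseChange p.asIdeal.ResidueField)) →
      Module.finrank p.asIdeal.ResidueField (p.asIdeal.ResidueField ⊗[R] M) =
        ∑ᶠ γ, (Module.finrank p.asIdeal.ResidueField ↥(Fx γ) -
          Module.finrank p.asIdeal.ResidueField ↥(⨆ η ∈ Set.Ioi γ, Fx η))) :
    ∃ G : Γ → Submodule R M, DirectSum.IsInternal G ∧ ∀ γ, F γ = ⨆ η ∈ Set.Ici γ, G η := by
  classical
  obtain ⟨G, h1, h2, h3⟩ := exists_G F Fp hproj
  have hind : iSupIndep G := indep_of_sections hF hFp G h1 h2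
  have htop : ⨆ γ, G γ = ⊤ := by
    apply eq_top_of_fibres
    intro p
    rw [im_iSup]
    refine iSup_eq_top_of_jumps (fun γ => im p.asIdeal.ResidueField (F γ))
      (fun γ => im p.asIdeal.ResidueField (G γ)) (fun a b hab => im_mono _ (hF hab))
      (fun γ => im_mono _ (h1 γ)) ?_ ?_
    · intro γ
      have := im_mono p.asIdeal.ResidueField (h3 γ)
      rw [im_sup, hFp γ, im_iSup] at this
      simp_rw [im_iSup] at this
      exact this
    · exact hrank p (fun γ => im p.asIdeal.ResidueField (F γ))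
        (fun γ => (range_baseChange_eq_im _ _).symm)
  have hint : DirectSum.IsInternal G :=
    DirectSum.isInternal_submodule_of_iSupIndep_of_iSup_eq_top hind htop
  refine ⟨G, hint, fun γ => le_antisymm ?_ (iSup₂_le fun η hη => (h1 η).trans (hF hη))⟩
  intro x hx
  obtain ⟨s, hs⟩ := sum_proj G hint x
  -- projections of x onto pieces below γ vanish
  have hvan : ∀ η ∈ s, η < γ → proj G hint η x = 0 := by
    by_contra hcon
    push Not at hcon
    have hB : (s.filter (fun η => η < γ ∧ proj G hint η x ≠ 0)).Nonempty := by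
      obtain ⟨η, hη, hlt, hne⟩ := hcon
      exact ⟨η, Finset.mem_filter.mpr ⟨hη, hlt, hne⟩⟩
    set η₀ := (s.filter (fun η => η < γ ∧ proj G hint η x ≠ 0)).min' hB with hη₀
    have hmem := Finset.min'_mem _ hB
    rw [← hη₀] at hmem
    obtain ⟨hη₀s, hη₀lt, hη₀ne⟩ := Finset.mem_filter.mp hmem
    have hxFp : x ∈ Fp η₀ := by
      rw [hFp]
      exact (le_iSup₂ (f := fun η (_ : η ∈ Set.Ioi η₀) => F η) γ hη₀lt) hx
    have hrest : ∑ η ∈ s.erase η₀, proj G hint η x ∈ Fp η₀ := by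
      apply Submodule.sum_mem
      intro η hη
      have hη' := Finset.mem_erase.mp hη
      rcases lt_or_gt_of_ne hη'.1 with hlt | hgt
      · have : proj G hint η x = 0 := by
          by_contra hne
          have : η ∈ s.filter (fun η => η < γ ∧ proj G hint η x ≠ 0) :=
            Finset.mem_filter.mpr ⟨hη'.2, hlt.trans hη₀lt, hne⟩
          exact absurd (Finset.min'_le _ _ this) (not_le.mpr hlt)
        rw [this]; exact zero_mem _
      · rw [hFp]
        exact (le_iSup₂ (f := fun ζ (_ : ζ ∈ Set.Ioi η₀) => F ζ) η hgt)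
          (h1 η (proj_mem G hint η x))
    have hp : proj G hint η₀ x ∈ Fp η₀ := by
      have : proj G hint η₀ x = x - ∑ η ∈ s.erase η₀, proj G hint η x := by
        rw [eq_sub_iff_add_eq, Finset.add_sum_erase s (fun η => proj G hint η x) hη₀s]
        exact hs.symm
      rw [this]
      exact Submodule.sub_mem _ hxFp hrest
    have hz : proj G hint η₀ x ∈ G η₀ ⊓ Fp η₀ := ⟨proj_mem G hint η₀ x, hp⟩
    rw [h2, Submodule.mem_bot] at hz
    exact hη₀ne hz
  rw [hs]
  apply Submodule.sum_mem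
  intro η hη
  by_cases hlt : η < γ
  · rw [hvan η hη hlt]; exact zero_mem _
  · exact (le_iSup₂ (f := fun ζ (_ : ζ ∈ Set.Ici γ) => G ζ) η (not_lt.mp hlt))
      (proj_mem G hint η x)

end Backward


section Forward

variable {F Fp : Γ → Submodule R M} (G : Γ → Submodule R M) (hG : DirectSum.IsInternal G)

lemma proj_eq_zero_of_mem_biSup (S : Set Γ) {γ : Γ} (hγ : γ ∉ S) {x : M}
    (hx : x ∈ ⨆ η ∈ S, G η) : proj G hG γ x = 0 := by
  have hle : (⨆ η ∈ S, G η) ≤ LinearMap.ker (proj G hG γ) :=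
    iSup₂_le fun η hη y hy => LinearMap.mem_ker.mpr
      (proj_of_mem_ne G hG hy (fun h => hγ (h ▸ hη)))
  exact LinearMap.mem_ker.mp (hle hx)

lemma proj_eq_zero_of_notMem_sum (s : Finset Γ) (x : M) (hs : x = ∑ η ∈ s, proj G hG η x)
    {γ : Γ} (hγ : γ ∉ s) : proj G hG γ x = 0 := by
  rw [hs, map_sum]
  apply Finset.sum_eq_zero
  intro η hη
  exact proj_of_mem_ne G hG (proj_mem G hG η x) (fun h => hγ (h ▸ hη))

include hG in
lemma Fp_eq (hFG : ∀ γ, F γ = ⨆ η ∈ Set.Ici γ, G η) (hFp : ∀ γ, Fp γ = ⨆ η ∈ Set.Ioi γ, F η)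
    (γ : Γ) : Fp γ = ⨆ η ∈ Set.Ioi γ, G η := by
  rw [hFp]
  apply le_antisymm
  · refine iSup₂_le fun η hη => ?_
    rw [hFG]
    refine iSup₂_le fun ζ hζ => ?_
    exact le_iSup₂ (f := fun ζ (_ : ζ ∈ Set.Ioi γ) => G ζ) ζ (lt_of_lt_of_le hη hζ)
  · refine iSup₂_le fun η hη => ?_
    refine le_trans ?_ (le_iSup₂ (f := fun ζ (_ : ζ ∈ Set.Ioi γ) => F ζ) η hη)
    rw [hFG]
    exact le_iSup₂ (f := fun ζ (_ : ζ ∈ Set.Ici η) => G ζ) η (Set.mem_Ici.mpr le_rfl)

include hG in
theorem forward_gr [Module.Finite R M] [Module.Projective R M]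
    (hFG : ∀ γ, F γ = ⨆ η ∈ Set.Ici γ, G η) (hFp : ∀ γ, Fp γ = ⨆ η ∈ Set.Ioi γ, F η) (γ : Γ) :
    Module.Finite R (↥(F γ) ⧸ Submodule.comap (F γ).subtype (Fp γ)) ∧
      Module.Projective R (↥(F γ) ⧸ Submodule.comap (F γ).subtype (Fp γ)) := by
  classical
  have hGF : G γ ≤ F γ := by
    rw [hFG]
    exact le_iSup₂ (f := fun ζ (_ : ζ ∈ Set.Ici γ) => G ζ) γ (Set.mem_Ici.mpr le_rfl)
  -- projection onto G γ
  let π : M →ₗ[R] ↥(G γ) := LinearMap.codRestrict (G γ) (proj G hG γ) (proj_mem G hG γ)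
  have hπ : π ∘ₗ (G γ).subtype = LinearMap.id := by
    ext g
    exact proj_of_mem G hG g.2
  haveI : Module.Finite R ↥(G γ) := Module.Finite.of_surjective π (fun g => ⟨g, by
    have := LinearMap.congr_fun hπ g
    simpa using this⟩)
  haveI : Module.Projective R ↥(G γ) := Module.Projective.of_split (G γ).subtype π hπ
  let φ : ↥(F γ) →ₗ[R] ↥(G γ) := π ∘ₗ (F γ).subtype
  have hφsurj : Function.Surjective φ := by
    intro g
    refine ⟨⟨g, hGF g.2⟩, ?_⟩
    exact LinearMap.congr_fun hπ g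
  have hker : LinearMap.ker φ = Submodule.comap (F γ).subtype (Fp γ) := by
    ext x
    rw [LinearMap.mem_ker, Submodule.mem_comap, Fp_eq G hG hFG hFp γ]
    have hφx : φ x = 0 ↔ proj G hG γ (x : M) = 0 := by
      constructor
      · intro h; exact congrArg Subtype.val h
      · intro h; exact Subtype.ext h
    rw [hφx]
    constructor
    · intro h0
      obtain ⟨s, hs⟩ := sum_proj G hG (x : M)
      have hxF : (x : M) ∈ ⨆ η ∈ Set.Ici γ, G η := by rw [← hFG]; exact x.2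
      show ((F γ).subtype x) ∈ _
      rw [Submodule.subtype_apply, hs]
      apply Submodule.sum_mem
      intro η hη
      rcases lt_trichotomy η γ with hlt | heq | hgt
      · rw [proj_eq_zero_of_mem_biSup G hG (Set.Ici γ) (fun h => absurd h (not_le.mpr hlt)) hxF]
        exact zero_mem _
      · rw [heq, h0]; exact zero_mem _
      · exact (le_iSup₂ (f := fun ζ (_ : ζ ∈ Set.Ioi γ) => G ζ) η hgt) (proj_mem G hG η _)
    · intro h
      exact proj_eq_zero_of_mem_biSup G hG (Set.Ioi γ) (fun h => lt_irrefl γ h) h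
  let e : (↥(F γ) ⧸ Submodule.comap (F γ).subtype (Fp γ)) ≃ₗ[R] ↥(G γ) :=
    (Submodule.quotEquivOfEq _ _ hker.symm).trans (φ.quotKerEquivOfSurjective hφsurj)
  exact ⟨Module.Finite.equiv e.symm, Module.Projective.of_equiv e.symm⟩

section Fibre

variable (κ : Type*) [Field κ] [Algebra R κ]

lemma baseChange_proj_fix {γ : Γ} {v : κ ⊗[R] M} (hv : v ∈ im κ (G γ)) :
    (proj G hG γ).baseChange κ v = v := by
  have hle : im κ (G γ) ≤ LinearMap.eqLocus ((proj G hG γ).baseChange κ) LinearMap.id := by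
    rw [im, Submodule.span_le]
    rintro _ ⟨g, hg, rfl⟩
    show (proj G hG γ).baseChange κ ((1 : κ) ⊗ₜ[R] g) = (1 : κ) ⊗ₜ[R] g
    rw [LinearMap.baseChange_tmul, proj_of_mem G hG hg]
  exact hle hv

lemma baseChange_proj_kill {γ η : Γ} (hne : η ≠ γ) {v : κ ⊗[R] M} (hv : v ∈ im κ (G η)) :
    (proj G hG γ).baseChange κ v = 0 := by
  have hle : im κ (G η) ≤ LinearMap.ker ((proj G hG γ).baseChange κ) := by
    rw [im, Submodule.span_le]
    rintro _ ⟨g, hg, rfl⟩
    show (proj G hG γ).baseChange κ ((1 : κ) ⊗ₜ[R] g) = 0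
    rw [LinearMap.baseChange_tmul, proj_of_mem_ne G hG hg hne, TensorProduct.tmul_zero]
  exact hle hv

include hG in
lemma indep_im : iSupIndep (fun γ => im κ (G γ)) := by
  intro γ
  rw [Submodule.disjoint_def]
  intro v hv hv'
  rw [← baseChange_proj_fix G hG κ hv]
  have hle : (⨆ η, ⨆ (_ : η ≠ γ), im κ (G η)) ≤ LinearMap.ker ((proj G hG γ).baseChange κ) :=
    iSup₂_le fun η hη w hw => LinearMap.mem_ker.mpr (baseChange_proj_kill G hG κ hη hw)
  exact LinearMap.mem_ker.mp (hle hv')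

include hG in
theorem forward_fibre [Module.Finite R M]
    (hFG : ∀ γ, F γ = ⨆ η ∈ Set.Ici γ, G η)
    (Fx : Γ → Submodule κ (κ ⊗[R] M))
    (hFx : ∀ γ, Fx γ = LinearMap.range ((F γ).subtype.baseChange κ)) :
    Module.finrank κ (κ ⊗[R] M) =
      ∑ᶠ γ, (Module.finrank κ ↥(Fx γ) - Module.finrank κ ↥(⨆ η ∈ Set.Ioi γ, Fx η)) := by
  classical
  have hind := indep_im G hG κ
  have hFx' : ∀ γ, Fx γ = ⨆ η ∈ Set.Ici γ, im κ (G η) := by
    intro γ
    rw [hFx, range_baseChange_eq_im, hFG, im_iSup]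
    simp_rw [im_iSup]
  have hplus : ∀ γ, (⨆ η ∈ Set.Ioi γ, Fx η) = ⨆ η ∈ Set.Ioi γ, im κ (G η) := by
    intro γ
    apply le_antisymm
    · refine iSup₂_le fun η hη => ?_
      rw [hFx']
      refine iSup₂_le fun ζ hζ => ?_
      exact le_iSup₂ (f := fun ζ (_ : ζ ∈ Set.Ioi γ) => im κ (G ζ)) ζ (lt_of_lt_of_le hη hζ)
    · refine iSup₂_le fun η hη => ?_
      refine le_trans ?_ (le_iSup₂ (f := fun ζ (_ : ζ ∈ Set.Ioi γ) => Fx ζ) η hη)
      rw [hFx']
      exact le_iSup₂ (f := fun ζ (_ : ζ ∈ Set.Ici η) => im κ (G ζ)) η (Set.mem_Ici.mpr le_rfl)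
  have hterm : ∀ γ, Module.finrank κ ↥(Fx γ) - Module.finrank κ ↥(⨆ η ∈ Set.Ioi γ, Fx η) =
      Module.finrank κ ↥(im κ (G γ)) := by
    intro γ
    have hsplit : Fx γ = im κ (G γ) ⊔ ⨆ η ∈ Set.Ioi γ, Fx η := by
      rw [hplus, hFx']
      apply le_antisymm
      · refine iSup₂_le fun η hη => ?_
        rcases eq_or_lt_of_le (Set.mem_Ici.mp hη) with heq | hlt
        · rw [← heq]; exact le_sup_left
        · exact le_trans (le_iSup₂ (f := fun ζ (_ : ζ ∈ Set.Ioi γ) => im κ (G ζ)) η hlt)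
            le_sup_right
      · refine sup_le ?_ ?_
        · exact le_iSup₂ (f := fun ζ (_ : ζ ∈ Set.Ici γ) => im κ (G ζ)) γ (Set.mem_Ici.mpr le_rfl)
        · refine iSup₂_le fun η hη => ?_
          exact le_iSup₂ (f := fun ζ (_ : ζ ∈ Set.Ici γ) => im κ (G ζ)) η (le_of_lt hη)
    have hdisj : Disjoint (im κ (G γ)) (⨆ η ∈ Set.Ioi γ, Fx η) := by
      rw [hplus]
      have := hind.disjoint_biSup (x := γ) (y := Set.Ioi γ) (fun h => lt_irrefl γ h)
      exact this
    have h := Submodule.finrank_sup_add_finrank_inf_eq (im κ (G γ)) (⨆ η ∈ Set.Ioi γ, Fx η)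
    rw [hdisj.eq_bot, finrank_bot, add_zero, ← hsplit] at h
    omega
  simp_rw [hterm]
  obtain ⟨U, hU⟩ := exists_finset_bot G hG
  have hsupp : Function.support (fun γ => Module.finrank κ ↥(im κ (G γ))) ⊆ (U : Set Γ) := by
    intro γ hγ
    by_contra hnot
    apply hγ
    show Module.finrank κ ↥(im κ (G γ)) = 0
    rw [hU γ hnot, im_bot, finrank_bot]
  rw [finsum_eq_sum_of_support_subset _ hsupp, ← finrank_biSup_of_indep _ hind U]
  have htop : (⨆ η ∈ U, im κ (G η)) = ⊤ := by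
    have h1 : (⨆ η, im κ (G η)) = ⊤ := by
      rw [← im_iSup, hG.submodule_iSup_eq_top, im_top]
    rw [← h1]
    apply le_antisymm
    · exact iSup₂_le fun η _ => le_iSup (fun η => im κ (G η)) η
    · refine iSup_le fun η => ?_
      by_cases hη : η ∈ U
      · exact le_iSup₂ (f := fun ζ (_ : ζ ∈ U) => im κ (G ζ)) η hη
      · rw [hU η hη, im_bot]; exact bot_le
  rw [htop, finrank_top]

end Fibre

end Forward

end Groth.Agent.H80.FiltGr
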