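-- helper80: symmetric tensors of a finite free module form a free module; symmetric tensors of
-- a flat module form a flat module.
import Groth.Agent.H80.FlatTS

set_option autoImplicit false
universe u

open scoped TensorProduct

namespace Groth.Agent.H80.FlatTSFree

open Groth.Agent.H80.FlatTen Groth.Agent.H80.FlatTS Module

section Free

variable {A : Type*} [CommRing A] {F : Type*} [AddCommGroup F] [Module A F] {κ : Type*}
  [Fintype κ] (b : Basis κ A F) (n : ℕ)

/-- the basis of the tensor power -/
noncomputable abbrev EE : Basis (Fin n → κ) A (⨂[A] _ : Fin n, F) :=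
  Basis.piTensorProduct (fun _ : Fin n => b)

theorem reindex_EE (σ : Equiv.Perm (Fin n)) (α : Fin n → κ) :
    PiTensorProduct.reindex A (fun _ : Fin n => F) σ (EE b n α) = EE b n (α ∘ σ.symm) := by
  rw [Basis.piTensorProduct_apply, Basis.piTensorProduct_apply, PiTensorProduct.reindex_tprod]
  rfl

theorem repr_reindex (σ : Equiv.Perm (Fin n)) (t : ⨂[A] _ : Fin n, F) (β : Fin n → κ) :
    (EE b n).repr (PiTensorProduct.reindex A (fun _ : Fin n => F) σ t) β =
      (EE b n).repr t (β ∘ σ) := by
  classical
  have h : (Finsupp.lapply β ∘ₗ (EE b n).repr.toLinearMap) ∘ₗ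
      (PiTensorProduct.reindex A (fun _ : Fin n => F) σ).toLinearMap =
      Finsupp.lapply (β ∘ σ) ∘ₗ (EE b n).repr.toLinearMap := by
    refine (EE b n).ext (fun α => ?_)
    simp only [LinearMap.comp_apply, LinearEquiv.coe_coe, Finsupp.lapply_apply]
    rw [reindex_EE, Basis.repr_self, Basis.repr_self, Finsupp.single_apply, Finsupp.single_apply]
    have hiff : (α ∘ σ.symm = β) ↔ (α = β ∘ σ) := by
      constructor
      · intro h; rw [← h]; funext j; simp
      · intro h; rw [h]; funext j; simp
    simp only [hiff]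
  exact LinearMap.congr_fun h t

variable (κ) in
/-- the orbit relation on tuples -/
def orbS : Setoid (Fin n → κ) where
  r α β := ∃ σ : Equiv.Perm (Fin n), α ∘ σ = β
  iseqv :=
    { refl := fun α => ⟨1, rfl⟩
      symm := by
        rintro α β ⟨σ, rfl⟩
        exact ⟨σ⁻¹, by funext j; simp⟩
      trans := by
        rintro α β γ ⟨σ, rfl⟩ ⟨ρ, rfl⟩
        exact ⟨σ * ρ, rfl⟩ }

theorem repr_eq_of_rel {t : ⨂[A] _ : Fin n, F} (ht : IsInv t) {α β : Fin n → κ}
    (h : (orbS κ n).r α β) : (EE b n).repr t α = (EE b n).repr t β := by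
  obtain ⟨σ, rfl⟩ := h
  rw [← repr_reindex, ht σ]

/-- coordinates of a symmetric tensor on the orbits -/
noncomputable def φQ : TSsub A F n →ₗ[A] (Quotient (orbS κ n) → A) where
  toFun t q := (EE b n).repr t.1 (Quotient.out q)
  map_add' t t' := by
    funext q
    simp
  map_smul' a t := by
    funext q
    simp

theorem φQ_injective : Function.Injective (φQ b n) := by
  rw [← LinearMap.ker_eq_bot, LinearMap.ker_eq_bot']
  intro t ht
  apply Subtype.ext
  apply (EE b n).ext_elem
  intro β
  have h1 := congr_fun ht (Quotient.mk (orbS κ n) β)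
  have h2 : (orbS κ n).r (Quotient.out (Quotient.mk (orbS κ n) β)) β :=
    Quotient.exact (Quotient.out_eq _)
  show (EE b n).repr t.1 β = (EE b n).repr 0 β
  rw [← repr_eq_of_rel b n ((mem_TSsub t.1).1 t.2) h2, map_zero]
  exact h1

theorem φQ_surjective : Function.Surjective (φQ b n) := by
  classical
  intro c
  have hinv : IsInv (∑ β : Fin n → κ, c (Quotient.mk (orbS κ n) β) • EE b n β) := by
    intro σ
    rw [map_sum]
    simp only [map_smul, reindex_EE]
    let e : (Fin n → κ) ≃ (Fin n → κ) :=
      { toFun := fun β => β ∘ σ.symm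
        invFun := fun β => β ∘ σ
        left_inv := fun β => by funext j; simp
        right_inv := fun β => by funext j; simp }
    have hq : ∀ β : Fin n → κ, Quotient.mk (orbS κ n) β = Quotient.mk (orbS κ n) (e β) :=
      fun β => Quotient.sound ⟨σ.symm, rfl⟩
    rw [← Equiv.sum_comp e (fun β => c (Quotient.mk (orbS κ n) β) • EE b n β)]
    refine Finset.sum_congr rfl (fun β _ => ?_)
    rw [← hq β]
    rfl
  refine ⟨⟨_, (mem_TSsub _).2 hinv⟩, ?_⟩
  funext q
  show (EE b n).repr (∑ β : Fin n → κ, c (Quotient.mk (orbS κ n) β) • EE b n β)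
    (Quotient.out q) = c q
  rw [map_sum, Finsupp.finsetSum_apply]
  simp only [map_smul, Basis.repr_self, Finsupp.smul_apply, Finsupp.single_apply, smul_eq_mul,
    mul_ite, mul_one, mul_zero]
  rw [Finset.sum_ite_eq' Finset.univ (Quotient.out q), if_pos (Finset.mem_univ _), Quotient.out_eq]

include b in
/-- the symmetric tensors of a finite free module form a flat module -/
theorem flat_TSsub_of_basis : Module.Flat A (TSsub A F n) := by
  have : Finite (Quotient (orbS κ n)) := Quotient.finite _
  exact Module.Flat.of_linearEquiv (LinearEquiv.ofBijective (φQ b n)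
    ⟨φQ_injective b n, φQ_surjective b n⟩)

end Free

section Flat

variable {A : Type u} [CommRing A] {N : Type u} [AddCommGroup N] [Module A N] [Module.Flat A N]
  (n : ℕ)

/-- **Symmetric tensors of a flat module are flat.** -/
theorem flat_TSsub : Module.Flat A (TSsub A N n) := by
  classical
  rw [Module.Flat.iff_forall_isTrivialRelation]
  intro l f x hfx
  -- lift the family
  obtain ⟨k, g, x', hx'⟩ := exists_lift_family l (fun i => (x i).1)
  have hsum : PiTensorProduct.map (fun _ : Fin n => g) (∑ i, f i • x' i) = 0 := by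
    rw [map_sum]
    simp only [map_smul, hx']
    have := congrArg Subtype.val hfx
    simpa using this
  obtain ⟨k', h, g', hg, hh⟩ := kill_list g
    ((∑ i, f i • x' i) :: (List.finRange l).flatMap (fun i =>
      (Finset.univ : Finset (Equiv.Perm (Fin n))).toList.map
        (fun σ => PiTensorProduct.reindex A (fun _ : Fin n => (Fin k → A)) σ (x' i) - x' i)))
    (by
      intro t ht
      rcases List.mem_cons.1 ht with rfl | ht
      · exact hsum
      · obtain ⟨i, -, hi⟩ := List.mem_flatMap.1 ht
        obtain ⟨σ, -, rfl⟩ := List.mem_map.1 hi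
        rw [map_sub, ← reindex_map, hx', sub_eq_zero]
        exact (mem_TSsub _).1 (x i).2 σ)
  -- the family over the intermediate free module
  have hinv : ∀ i, IsInv (PiTensorProduct.map (fun _ : Fin n => h) (x' i)) := by
    intro i σ
    have := hh (PiTensorProduct.reindex A (fun _ : Fin n => (Fin k → A)) σ (x' i) - x' i)
      (List.mem_cons_of_mem _ (List.mem_flatMap.2 ⟨i, List.mem_finRange i,
        List.mem_map.2 ⟨σ, Finset.mem_toList.2 (Finset.mem_univ σ), rfl⟩⟩))
    rw [map_sub, sub_eq_zero] at this
    rw [reindex_map, this]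
  let z : Fin l → TSsub A (Fin k' → A) n :=
    fun i => ⟨PiTensorProduct.map (fun _ : Fin n => h) (x' i), (mem_TSsub _).2 (hinv i)⟩
  have hz : ∑ i, f i • z i = 0 := by
    apply Subtype.ext
    have := hh (∑ i, f i • x' i) List.mem_cons_self
    rw [map_sum] at this
    simp only [map_smul] at this
    simpa [z] using this
  haveI := flat_TSsub_of_basis (Pi.basisFun A (Fin k')) n
  obtain ⟨m, a, y, hy1, hy2⟩ := Module.Flat.isTrivialRelation_of_sum_smul_eq_zero (R := A)
    (M := TSsub A (Fin k' → A) n) (f := f) (x := z) hz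
  refine ⟨m, a, fun j => ⟨PiTensorProduct.map (fun _ : Fin n => g') (y j).1,
    (mem_TSsub _).2 (((mem_TSsub _).1 (y j).2).map g')⟩, ?_, hy2⟩
  intro i
  apply Subtype.ext
  have h1 := congrArg (fun w : TSsub A (Fin k' → A) n =>
    PiTensorProduct.map (fun _ : Fin n => g') w.1) (hy1 i)
  simp only [z] at h1
  rw [map_map, hg, hx'] at h1
  rw [h1]
  simp

end Flat

end Groth.Agent.H80.FlatTSFree
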