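import Groth.Agent.H80.GaChar

/-!
# Formal characters of `G_a`: coefficient criterion (helper80; for S13373, S13355, S13356)
-/

set_option autoImplicit false
set_option linter.unusedSectionVars false
set_option linter.unusedVariables false
set_option linter.unusedSimpArgs false

namespace Groth.Agent.H80.FormalChar

open Groth.Agent.H80.Lazard Groth.Agent.H80.GaSplit Groth.Agent.H80.GaChar

variable {A : Type*} [CommRing A]

lemma coeff_add_pow (d i j : ℕ) :
    MvPowerSeries.coeff (mon2 i j)
      ((MvPowerSeries.X 0 + MvPowerSeries.X 1 : MvPowerSeries (Fin 2) A) ^ d) =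
      if i + j = d then ((d.choose i : ℕ) : A) else 0 := by
  have : ((MvPowerSeries.X 0 + MvPowerSeries.X 1 : MvPowerSeries (Fin 2) A) ^ d) =
      (((MvPolynomial.X 0 + MvPolynomial.X 1 : MvPolynomial (Fin 2) A) ^ d : MvPolynomial (Fin 2) A) :
        MvPowerSeries (Fin 2) A) := by
    simp [MvPolynomial.coe_pow, MvPolynomial.coe_add, MvPolynomial.coe_X]
  rw [this, MvPolynomial.coeff_coe]
  exact cf_add_pow d i j

lemma hasSubst_add : PowerSeries.HasSubst (MvPowerSeries.X 0 + MvPowerSeries.X 1 : MvPowerSeries (Fin 2) A) :=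
  (PowerSeries.HasSubst.X 0).add (PowerSeries.HasSubst.X 1)

lemma coeff_subst_add (χ : PowerSeries A) (i j : ℕ) :
    MvPowerSeries.coeff (mon2 i j)
      (PowerSeries.subst (MvPowerSeries.X 0 + MvPowerSeries.X 1 : MvPowerSeries (Fin 2) A) χ) =
      PowerSeries.coeff (i + j) χ * (((i + j).choose i : ℕ) : A) := by
  rw [PowerSeries.coeff_subst hasSubst_add, finsum_eq_single _ (i + j)]
  · rw [coeff_add_pow, if_pos rfl, smul_eq_mul]
  · intro d hd
    rw [coeff_add_pow, if_neg (fun h => hd h.symm), smul_zero]

lemma coeff_subst_mul (χ ψ : PowerSeries A) (i j : ℕ) :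
    MvPowerSeries.coeff (mon2 i j)
      (PowerSeries.subst (MvPowerSeries.X 0 : MvPowerSeries (Fin 2) A) χ *
        PowerSeries.subst (MvPowerSeries.X 1 : MvPowerSeries (Fin 2) A) ψ) =
      PowerSeries.coeff i χ * PowerSeries.coeff j ψ := by
  classical
  rw [MvPowerSeries.coeff_mul, Finset.sum_eq_single (Finsupp.single 0 i, Finsupp.single 1 j)]
  · simp only
    rw [PowerSeries.coeff_subst_single, PowerSeries.coeff_subst_single]
    simp
  · rintro ⟨e1, e2⟩ he hne
    have hsum : e1 + e2 = mon2 i j := Finset.HasAntidiagonal.mem_antidiagonal.mp he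
    simp only
    rw [PowerSeries.coeff_subst_single, PowerSeries.coeff_subst_single]
    by_cases h1 : e1 = Finsupp.single 0 (e1 0)
    · by_cases h2 : e2 = Finsupp.single 1 (e2 1)
      · exfalso
        apply hne
        have a0 := DFunLike.congr_fun hsum 0
        have a1 := DFunLike.congr_fun hsum 1
        have b1 : e1 1 = 0 := by rw [h1]; simp
        have b2 : e2 0 = 0 := by rw [h2]; simp
        simp only [Finsupp.add_apply, mon2_zero, mon2_one] at a0 a1
        have c1 : e1 0 = i := by omega
        have c2 : e2 1 = j := by omega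
        rw [h1, h2, c1, c2]
      · rw [if_neg h2, mul_zero]
    · rw [if_neg h1, zero_mul]
  · intro hnot
    exfalso
    apply hnot
    rw [Finset.HasAntidiagonal.mem_antidiagonal]
    rfl

/-- coefficient criterion for formal characters -/
theorem formalChar_iff (χ : PowerSeries A) :
    PowerSeries.subst (MvPowerSeries.X 0 + MvPowerSeries.X 1 : MvPowerSeries (Fin 2) A) χ =
        PowerSeries.subst (MvPowerSeries.X 0 : MvPowerSeries (Fin 2) A) χ *
          PowerSeries.subst (MvPowerSeries.X 1 : MvPowerSeries (Fin 2) A) χ ↔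
      ∀ i j, PowerSeries.coeff (i + j) χ * (((i + j).choose i : ℕ) : A) =
        PowerSeries.coeff i χ * PowerSeries.coeff j χ := by
  constructor
  · intro h i j
    rw [← coeff_subst_add, ← coeff_subst_mul, h]
  · intro h
    ext e
    rw [← mon2_eta e, coeff_subst_add, coeff_subst_mul, h]

/-- coefficient criterion for polynomial characters -/
theorem polyChar_iff (f : Polynomial A) :
    Polynomial.aeval (MvPolynomial.X 0 + MvPolynomial.X 1 : MvPolynomial (Fin 2) A) f =
        Polynomial.aeval (MvPolynomial.X 0 : MvPolynomial (Fin 2) A) f *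
          Polynomial.aeval (MvPolynomial.X 1 : MvPolynomial (Fin 2) A) f ↔
      ∀ i j, f.coeff (i + j) * (((i + j).choose i : ℕ) : A) = f.coeff i * f.coeff j := by
  constructor
  · intro h i j
    rw [← cf_paeval_add, ← cf_paeval_mul, h]
  · intro h
    apply ext_cf
    intro i j
    rw [cf_paeval_add, cf_paeval_mul, h]

section RatAlg

variable [Algebra ℚ A]

/-- `1/n!` in a `ℚ`-algebra -/
noncomputable def qi (n : ℕ) : A := algebraMap ℚ A (1 / (n.factorial : ℚ))

lemma fact_mul_qi (n : ℕ) : ((n.factorial : ℕ) : A) * qi (A := A) n = 1 := by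
  have h : ((n.factorial : ℕ) : ℚ) * (1 / (n.factorial : ℚ)) = 1 := by
    have : ((n.factorial : ℕ) : ℚ) ≠ 0 := by exact_mod_cast n.factorial_ne_zero
    field_simp
  have := congrArg (algebraMap ℚ A) h
  rw [map_mul, map_one, map_natCast] at this
  exact this

lemma qi_choose (i j : ℕ) :
    qi (A := A) (i + j) * (((i + j).choose i : ℕ) : A) = qi (A := A) i * qi (A := A) j := by
  have ha := fact_mul_qi (A := A) (i + j)
  have hb := fact_mul_qi (A := A) i
  have hc := fact_mul_qi (A := A) j
  have hcast : (((i + j).choose i : ℕ) : A) * ((i.factorial : ℕ) : A) * ((j.factorial : ℕ) : A) =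
      (((i + j).factorial : ℕ) : A) := by
    have h1 := Nat.choose_mul_factorial_mul_factorial (Nat.le_add_right i j)
    rw [Nat.add_sub_cancel_left] at h1
    rw [← Nat.cast_mul, ← Nat.cast_mul, h1]
  calc qi (A := A) (i + j) * (((i + j).choose i : ℕ) : A)
      = qi (A := A) (i + j) * (((i + j).choose i : ℕ) : A) * (((i.factorial : ℕ) : A) * qi (A := A) i) *
          (((j.factorial : ℕ) : A) * qi (A := A) j) := by rw [hb, hc]; ring
    _ = qi (A := A) (i + j) * ((((i + j).choose i : ℕ) : A) * ((i.factorial : ℕ) : A) * ((j.factorial : ℕ) : A)) *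
          (qi (A := A) i * qi (A := A) j) := by ring
    _ = ((((i + j).factorial : ℕ) : A) * qi (A := A) (i + j)) * (qi (A := A) i * qi (A := A) j) := by
          rw [hcast]; ring
    _ = qi (A := A) i * qi (A := A) j := by rw [ha, one_mul]

theorem rat_rel_iff (c : ℕ → A) :
    (c 0 = 1 ∧ ∀ i j, c (i + j) * (((i + j).choose i : ℕ) : A) = c i * c j) ↔
      ∃ a : A, ∀ n, c n = a ^ n * qi (A := A) n := by
  constructor
  · rintro ⟨h0, hrel⟩
    refine ⟨c 1, ?_⟩
    intro n
    induction n with
    | zero =>
      have := fact_mul_qi (A := A) 0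
      simp only [Nat.factorial_zero, Nat.cast_one, one_mul] at this
      rw [h0, pow_zero, one_mul, this]
    | succ n ih =>
      have h1 := hrel n 1
      rw [Nat.choose_succ_self_right, ih] at h1
      have h2 := fact_mul_qi (A := A) (n + 1)
      have h3 := fact_mul_qi (A := A) n
      rw [Nat.factorial_succ, Nat.cast_mul] at h2
      calc c (n + 1) = (((n + 1 : ℕ) : A) * ((n.factorial : ℕ) : A) * qi (A := A) (n + 1)) * c (n + 1) := by
            rw [h2, one_mul]
        _ = ((n.factorial : ℕ) : A) * qi (A := A) (n + 1) * (c (n + 1) * ((n + 1 : ℕ) : A)) := by ring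
        _ = ((n.factorial : ℕ) : A) * qi (A := A) (n + 1) * (c 1 ^ n * qi (A := A) n * c 1) := by rw [h1]
        _ = (((n.factorial : ℕ) : A) * qi (A := A) n) * (c 1 ^ (n + 1) * qi (A := A) (n + 1)) := by ring
        _ = c 1 ^ (n + 1) * qi (A := A) (n + 1) := by rw [h3, one_mul]
  · rintro ⟨a, ha⟩
    refine ⟨?_, ?_⟩
    · have := fact_mul_qi (A := A) 0
      simp only [Nat.factorial_zero, Nat.cast_one, one_mul] at this
      rw [ha 0, pow_zero, one_mul, this]
    · intro i j
      rw [ha, ha, ha, mul_assoc, qi_choose, pow_add]; ring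

lemma coeff_rescale_exp (a : A) (n : ℕ) :
    PowerSeries.coeff n (PowerSeries.rescale a (PowerSeries.exp A)) = a ^ n * qi (A := A) n := by
  rw [PowerSeries.coeff_rescale, PowerSeries.coeff_exp]; rfl

end RatAlg

end Groth.Agent.H80.FormalChar
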