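import Groth.Agent.H80.GaSplit

/-!
# Characters of `G_a` and of `α_{p^n}` in characteristic `p` (helper80; for S13357, S13374)
-/

set_option autoImplicit false
set_option linter.unusedSectionVars false
set_option linter.unusedVariables false
set_option linter.unusedSimpArgs false

namespace Groth.Agent.H80.GaChar

open Groth.Agent.H80.Lazard Groth.Agent.H80.GaSplit

open MvPolynomial

variable {A : Type*} [CommRing A] (p : ℕ) [hp : Fact p.Prime] [CharP A p]

local notation "𝕏" => (X 0 : MvPolynomial (Fin 2) A)
local notation "𝕐" => (X 1 : MvPolynomial (Fin 2) A)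

/-- the factor `exp_p(a X^(p^n))` -/
noncomputable def Ea (n : ℕ) (a : A) : Polynomial A := Polynomial.expand A (p ^ n) (E p a)

lemma factor_eq (n : ℕ) (a : A) :
    (∑ j ∈ Finset.range p, Polynomial.C (Ring.inverse (j.factorial : A) * a ^ j) * Polynomial.X ^ (j * p ^ n)) =
      Ea p n a := by
  rw [Ea, E, map_sum]
  apply Finset.sum_congr rfl
  intro j _
  have : Polynomial.expand A (p ^ n) (Polynomial.monomial j (iota A j * a ^ j)) =
      Polynomial.C (iota A j * a ^ j) * Polynomial.X ^ (j * p ^ n) := by
    rw [← Polynomial.C_mul_X_pow_eq_monomial, map_mul, Polynomial.expand_C, map_pow, Polynomial.expand_X,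
      ← pow_mul, mul_comm (p ^ n) j]
  rw [this]
  rfl

/-- polynomial characters -/
def PolyChar (f : Polynomial A) : Prop :=
  f.eval 0 = 1 ∧ Polynomial.aeval (𝕏 + 𝕐) f = Polynomial.aeval 𝕏 f * Polynomial.aeval 𝕐 f

lemma polyChar_one : PolyChar (1 : Polynomial A) := ⟨by simp, by simp⟩

lemma PolyChar.mul {f g : Polynomial A} (hf : PolyChar f) (hg : PolyChar g) : PolyChar (f * g) := by
  refine ⟨by rw [Polynomial.eval_mul, hf.1, hg.1, one_mul], ?_⟩
  simp only [map_mul]
  rw [hf.2, hg.2]; ring

lemma polyChar_prod {ι : Type*} (s : Finset ι) (f : ι → Polynomial A) (h : ∀ i ∈ s, PolyChar (f i)) :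
    PolyChar (∏ i ∈ s, f i) := by
  classical
  induction s using Finset.induction_on with
  | empty => simpa using polyChar_one
  | insert a s ha ih =>
    rw [Finset.prod_insert ha]
    exact (h a (Finset.mem_insert_self _ _)).mul (ih (fun i hi => h i (Finset.mem_insert_of_mem hi)))

lemma polyChar_Ea (n : ℕ) (a : A) (ha : a ^ p = 0) : PolyChar (Ea p n a) := by
  have hpp := hp.out
  refine ⟨?_, ?_⟩
  · rw [← Polynomial.coeff_zero_eq_eval_zero, Ea, Polynomial.coeff_expand (pow_pos hpp.pos n)]
    simp [E_coeff_zero]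
  · obtain ⟨Q, hQ⟩ := truncExp_mul (R := A) (B := MvPolynomial (Fin 2) A) p a (𝕏 ^ p ^ n) (𝕐 ^ p ^ n)
    have e1 : 𝕏 ^ p ^ n + 𝕐 ^ p ^ n = (𝕏 + 𝕐) ^ p ^ n := (add_pow_char_pow 𝕏 𝕐 p n).symm
    rw [e1, ha, pow_succ, ha, zero_mul, map_zero, zero_mul, zero_mul, sub_zero, mul_one, sub_eq_zero] at hQ
    simp only [Ea, Polynomial.expand_aeval]
    exact hQ.symm

section coeffs

lemma cf_paeval_add (f : Polynomial A) (i j : ℕ) :
    cf (Polynomial.aeval (𝕏 + 𝕐) f) i j = f.coeff (i + j) * (((i + j).choose i : ℕ) : A) := by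
  classical
  induction f using Polynomial.induction_on' with
  | add f g hf hg => rw [map_add, cf_add, hf, hg, Polynomial.coeff_add]; ring
  | monomial n a =>
    rw [Polynomial.aeval_monomial, MvPolynomial.algebraMap_eq, cf_C_mul, cf_add_pow,
      Polynomial.coeff_monomial]
    by_cases h : i + j = n
    · subst h; simp
    · rw [if_neg h, if_neg (fun h' => h h'.symm)]; ring

lemma cf_paeval_mul (f g : Polynomial A) (i j : ℕ) :
    cf (Polynomial.aeval 𝕏 f * Polynomial.aeval 𝕐 g) i j = f.coeff i * g.coeff j := by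
  classical
  induction f using Polynomial.induction_on' with
  | add f f' hf hf' => rw [map_add, add_mul, cf_add, hf, hf', Polynomial.coeff_add]; ring
  | monomial n a =>
    induction g using Polynomial.induction_on' with
    | add g g' hg hg' => rw [map_add, mul_add, cf_add, hg, hg', Polynomial.coeff_add]; ring
    | monomial m b =>
      rw [Polynomial.aeval_monomial, Polynomial.aeval_monomial, MvPolynomial.algebraMap_eq]
      have : C a * 𝕏 ^ n * (C b * 𝕐 ^ m) = C (a * b) * monomial (mon2 n m) 1 := by
        rw [← X_pow_mul_X_pow2, C_mul]; ring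
      rw [this, cf_C_mul, cf, coeff_monomial, Polynomial.coeff_monomial, Polynomial.coeff_monomial]
      simp only [mon2_inj]
      by_cases h1 : n = i
      · by_cases h2 : m = j
        · simp [h1, h2]
        · simp [h1, h2]
      · simp [h1]

lemma polyChar_rel {f : Polynomial A} (hf : PolyChar f) (i j : ℕ) :
    f.coeff (i + j) * (((i + j).choose i : ℕ) : A) = f.coeff i * f.coeff j := by
  rw [← cf_paeval_add, ← cf_paeval_mul, hf.2]

end coeffs

/-- the finite product `∏_{i<n} exp_p(a_i X^(p^i))` -/
noncomputable def Pn (n : ℕ) (a : ℕ → A) : Polynomial A := ∏ i ∈ Finset.range n, Ea p i (a i)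

lemma Pn_succ (n : ℕ) (a : ℕ → A) :
    Pn p (n + 1) a = E p (a 0) * Polynomial.expand A p (Pn p n (fun i => a (i + 1))) := by
  rw [Pn, Finset.prod_range_succ', Pn, map_prod, mul_comm]
  congr 1
  · simp [Ea]
  · apply Finset.prod_congr rfl
    intro i _
    rw [Ea, Ea, Polynomial.expand_expand, pow_succ']

lemma coeff_mul_expand (g h : Polynomial A) (hg : ∀ u, p ≤ u → g.coeff u = 0) (k : ℕ) :
    (g * Polynomial.expand A p h).coeff k = g.coeff (k % p) * h.coeff (k / p) := by
  classical
  have hpp := hp.out
  rw [Polynomial.coeff_mul, Finset.sum_eq_single (k % p, p * (k / p))]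
  · simp only
    rw [Polynomial.coeff_expand hpp.pos, if_pos (dvd_mul_right _ _), Nat.mul_div_cancel_left _ hpp.pos]
  · rintro ⟨u, v⟩ huv hne
    have huv' : u + v = k := Finset.HasAntidiagonal.mem_antidiagonal.mp huv
    simp only
    by_cases hu : p ≤ u
    · rw [hg u hu, zero_mul]
    · rw [Polynomial.coeff_expand hpp.pos]
      by_cases hv : p ∣ v
      · exfalso
        apply hne
        obtain ⟨v', rfl⟩ := hv
        have h1 : k % p = u := by
          rw [← huv', Nat.add_mul_mod_self_left, Nat.mod_eq_of_lt (by omega)]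
        have h2 : k / p = v' := by
          rw [← huv', Nat.add_mul_div_left _ _ hpp.pos, Nat.div_eq_of_lt (by omega), zero_add]
        rw [h1, h2]
      · rw [if_neg hv, mul_zero]
  · intro hnot
    exfalso
    apply hnot
    rw [Finset.HasAntidiagonal.mem_antidiagonal]
    exact Nat.mod_add_div k p

lemma E_coeff_ge (a : A) (u : ℕ) (hu : p ≤ u) : (E p a).coeff u = 0 := by
  rw [E_coeff, if_neg (by omega)]

lemma Pn_coeff_ge : ∀ (n : ℕ) (a : ℕ → A) (k : ℕ), p ^ n ≤ k → (Pn p n a).coeff k = 0 := by
  intro n
  induction n with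
  | zero =>
    intro a k hk
    simp only [Pn, Finset.range_zero, Finset.prod_empty, Polynomial.coeff_one]
    rw [if_neg]; simp at hk; omega
  | succ n ih =>
    intro a k hk
    rw [Pn_succ, coeff_mul_expand p _ _ (E_coeff_ge p _)]
    rw [ih _ (k / p) ((Nat.le_div_iff_mul_le hp.out.pos).mpr (by rw [← pow_succ]; exact hk)), mul_zero]

/-- the structure of sequences satisfying the character relations below `p^n` -/
theorem charCoeff : ∀ (n : ℕ) (c : ℕ → A), c 0 = 1 →
    (∀ i j, i < p ^ n → j < p ^ n → c (i + j) * (((i + j).choose i : ℕ) : A) = c i * c j) →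
    (∀ i < n, c (p ^ i) ^ p = 0) ∧ ∀ k < p ^ n, c k = (Pn p n (fun i => c (p ^ i))).coeff k := by
  have hpp := hp.out
  intro n
  induction n with
  | zero =>
    intro c h0 _
    refine ⟨fun i hi => absurd hi (Nat.not_lt_zero _), ?_⟩
    intro k hk
    have : k = 0 := by simpa using hk
    subst this
    simp [Pn, h0]
  | succ n ih =>
    intro c h0 hrel
    have hp1 : p ≤ p ^ (n + 1) := by
      calc p = p ^ 1 := (pow_one p).symm
        _ ≤ p ^ (n + 1) := Nat.pow_le_pow_right hpp.pos (by omega)
    have hp2 := hpp.two_le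
    set a := c 1 with ha
    -- Step A
    have hA : ∀ j, j < p → c j = iota A j * a ^ j := by
      intro j
      induction j with
      | zero => intro _; rw [h0, iota_zero, pow_zero, mul_one]
      | succ j ihj =>
        intro hj
        have h1 := hrel j 1 (by omega) (by omega)
        rw [Nat.choose_succ_self_right, ihj (by omega)] at h1
        have h2 := fact_mul_iota (R := A) p (j + 1) hj
        have h3 := fact_mul_iota (R := A) p j (by omega)
        rw [Nat.factorial_succ, Nat.cast_mul] at h2
        calc c (j + 1) = (((j + 1 : ℕ) : A) * ((j.factorial : ℕ) : A) * iota A (j + 1)) * c (j + 1) := by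
              rw [h2, one_mul]
          _ = ((j.factorial : ℕ) : A) * iota A (j + 1) * (c (j + 1) * ((j + 1 : ℕ) : A)) := by ring
          _ = ((j.factorial : ℕ) : A) * iota A (j + 1) * (iota A j * a ^ j * a) := by rw [h1]
          _ = (((j.factorial : ℕ) : A) * iota A j) * (iota A (j + 1) * a ^ (j + 1)) := by ring
          _ = iota A (j + 1) * a ^ (j + 1) := by rw [h3, one_mul]
    -- Step B
    have hB : a ^ p = 0 := by
      have h1 := hrel (p - 1) 1 (by omega) (by omega)
      have e : p - 1 + 1 = p := by have := hpp.pos; omega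
      rw [e, Nat.choose_symm (by omega : 1 ≤ p), Nat.choose_one_right, CharP.cast_eq_zero A p, mul_zero,
        hA (p - 1) (by have := hpp.pos; omega)] at h1
      have h3 := fact_mul_iota (R := A) p (p - 1) (by have := hpp.pos; omega)
      calc a ^ p = (((p - 1).factorial : ℕ) : A) * iota A (p - 1) * a ^ p := by rw [h3, one_mul]
        _ = (((p - 1).factorial : ℕ) : A) * (iota A (p - 1) * a ^ (p - 1) * a) := by
            conv_lhs => rw [← e, pow_succ]
            rw [e]; ring
        _ = 0 := by rw [← h1, mul_zero]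
    -- Step C
    have hC : ∀ k0 k', k0 < p → k0 + p * k' < p ^ (n + 1) → c (k0 + p * k') = c k0 * c (p * k') := by
      intro k0 k' hk0 hk
      have h1 := hrel k0 (p * k') (by omega) (by omega)
      have hl : (k0 + p * k').choose k0 ≡ 1 [MOD p] := by
        have h := @Choose.choose_modEq_choose_mod_mul_choose_div_nat (k0 + p * k') k0 p _
        have e1 : (k0 + p * k') % p = k0 := by
          rw [Nat.add_mul_mod_self_left, Nat.mod_eq_of_lt hk0]
        have e2 : k0 % p = k0 := Nat.mod_eq_of_lt hk0
        have e3 : k0 / p = 0 := Nat.div_eq_of_lt hk0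
        rw [e1, e2, e3, Nat.choose_self, Nat.choose_zero_right] at h
        simpa using h
      rw [CharP.natCast_eq_natCast' A p hl, Nat.cast_one, mul_one] at h1
      exact h1
    -- Step D
    have hD : ∀ i j, i < p ^ n → j < p ^ n →
        c (p * (i + j)) * (((i + j).choose i : ℕ) : A) = c (p * i) * c (p * j) := by
      intro i j hi hj
      have hi' : p * i < p ^ (n + 1) := by rw [pow_succ']; exact Nat.mul_lt_mul_of_pos_left hi hpp.pos
      have hj' : p * j < p ^ (n + 1) := by rw [pow_succ']; exact Nat.mul_lt_mul_of_pos_left hj hpp.pos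
      have h1 := hrel (p * i) (p * j) hi' hj'
      have hl : (p * i + p * j).choose (p * i) ≡ (i + j).choose i [MOD p] := by
        have h := @Choose.choose_modEq_choose_mod_mul_choose_div_nat (p * i + p * j) (p * i) p _
        have e1 : (p * i + p * j) % p = 0 := by rw [← mul_add]; exact Nat.mul_mod_right _ _
        have e2 : (p * i) % p = 0 := Nat.mul_mod_right _ _
        have e3 : (p * i + p * j) / p = i + j := by rw [← mul_add]; exact Nat.mul_div_cancel_left _ hpp.pos
        have e4 : (p * i) / p = i := Nat.mul_div_cancel_left _ hpp.pos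
        rw [e1, e2, e3, e4, Nat.choose_self, one_mul] at h
        exact h
      rw [CharP.natCast_eq_natCast' A p hl, ← mul_add] at h1
      exact h1
    obtain ⟨ih1, ih2⟩ := ih (fun k => c (p * k)) (by simp [h0]) hD
    refine ⟨?_, ?_⟩
    · intro i hi
      rcases Nat.eq_zero_or_pos i with rfl | hi0
      · rw [pow_zero]; exact hB
      · obtain ⟨i', rfl⟩ : ∃ i', i = i' + 1 := ⟨i - 1, by omega⟩
        have : c (p * p ^ i') ^ p = 0 := ih1 i' (by omega)
        rw [← pow_succ'] at this
        exact this
    · intro k hk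
      have hk' : k / p < p ^ n := by
        rw [Nat.div_lt_iff_lt_mul hpp.pos, ← pow_succ]; exact hk
      have hkd : k % p + p * (k / p) = k := Nat.mod_add_div k p
      rw [Pn_succ, coeff_mul_expand p _ _ (E_coeff_ge p _)]
      have h1 := hC (k % p) (k / p) (Nat.mod_lt _ hpp.pos) (by rw [hkd]; exact hk)
      rw [hkd] at h1
      rw [h1, hA _ (Nat.mod_lt _ hpp.pos), E_coeff, if_pos (Nat.mod_lt _ hpp.pos)]
      have h2 : c (p * (k / p)) = (Pn p n (fun i => c (p * p ^ i))).coeff (k / p) := ih2 (k / p) hk'
      rw [h2]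
      simp only [pow_zero, ← ha, pow_succ']

end Groth.Agent.H80.GaChar
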