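import Groth.Agent.H80.Lazard

/-!
# Splitting of multiplicative symmetric 2-cocycles of `G_a` over rings with surjective Frobenius

Helper library of helper80 for S13380.
-/

set_option autoImplicit false
set_option linter.unusedSectionVars false
set_option linter.unusedVariables false
set_option linter.unusedSimpArgs false

namespace Groth.Agent.H80.GaSplit

open Groth.Agent.H80.Lazard

section TruncExp

variable {R : Type*} [CommRing R] (p : ℕ) [hp : Fact p.Prime] [CharP R p]
variable {B : Type*} [CommRing B] [Algebra R B]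

variable (R) in
/-- inverse of `i!` -/
noncomputable def iota (i : ℕ) : R := Ring.inverse ((i.factorial : ℕ) : R)

lemma fact_mul_iota (i : ℕ) (hi : i < p) : ((i.factorial : ℕ) : R) * iota R i = 1 :=
  Ring.mul_inverse_cancel _ ((IsUnit.natCast_factorial_iff_of_charP p).mpr hi)

lemma iota_zero : iota R 0 = 1 := by simp [iota]

lemma iota_choose (i j : ℕ) (h : i + j < p) :
    iota R (i + j) * (((i + j).choose i : ℕ) : R) = iota R i * iota R j := by
  have ha := fact_mul_iota (R := R) p (i + j) h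
  have hb := fact_mul_iota (R := R) p i (by omega)
  have hc := fact_mul_iota (R := R) p j (by omega)
  have hcast : (((i + j).choose i : ℕ) : R) * ((i.factorial : ℕ) : R) * ((j.factorial : ℕ) : R) =
      (((i + j).factorial : ℕ) : R) := by
    have h1 := Nat.choose_mul_factorial_mul_factorial (Nat.le_add_right i j)
    rw [Nat.add_sub_cancel_left] at h1
    rw [← Nat.cast_mul, ← Nat.cast_mul, h1]
  calc iota R (i + j) * (((i + j).choose i : ℕ) : R)
      = iota R (i + j) * (((i + j).choose i : ℕ) : R) * (((i.factorial : ℕ) : R) * iota R i) *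
          (((j.factorial : ℕ) : R) * iota R j) := by rw [hb, hc]; ring
    _ = iota R (i + j) * ((((i + j).choose i : ℕ) : R) * ((i.factorial : ℕ) : R) * ((j.factorial : ℕ) : R)) *
          (iota R i * iota R j) := by ring
    _ = ((((i + j).factorial : ℕ) : R) * iota R (i + j)) * (iota R i * iota R j) := by rw [hcast]; ring
    _ = iota R i * iota R j := by rw [ha, one_mul]

lemma wilson_cast : (((p - 1).factorial : ℕ) : R) = -1 := by
  have h := ZMod.wilsons_lemma (p := p)
  have h2 : (ZMod.castHom (dvd_refl p) R) (((p - 1).factorial : ℕ) : ZMod p) =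
      (ZMod.castHom (dvd_refl p) R) (-1) := congrArg _ h
  rw [map_natCast, map_neg, map_one] at h2
  exact h2

lemma iota_wilson (i : ℕ) (h0 : 0 < i) (hi : i < p) :
    iota R i * iota R (p - i) = -(((p.choose i / p : ℕ) : ℕ) : R) := by
  have hpp := hp.out
  have hb := fact_mul_iota (R := R) p i hi
  have hd := fact_mul_iota (R := R) p (p - i) (by omega)
  have hdvd : p ∣ p.choose i := hpp.dvd_choose_self (by omega) hi
  have hnat : (p.choose i / p) * i.factorial * (p - i).factorial = (p - 1).factorial := by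
    have h1 : p.choose i * i.factorial * (p - i).factorial = p.factorial :=
      Nat.choose_mul_factorial_mul_factorial hi.le
    have h2 : p.factorial = p * (p - 1).factorial := by
      conv_lhs => rw [← Nat.sub_add_cancel hpp.pos, Nat.factorial_succ]
      rw [Nat.sub_add_cancel hpp.pos]
    have h3 : p * ((p.choose i / p) * i.factorial * (p - i).factorial) = p * (p - 1).factorial := by
      rw [← h2, ← h1, ← mul_assoc, ← mul_assoc, Nat.mul_div_cancel' hdvd]
    exact Nat.eq_of_mul_eq_mul_left hpp.pos h3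
  have hcast : (((p.choose i / p : ℕ) : ℕ) : R) * ((i.factorial : ℕ) : R) * (((p - i).factorial : ℕ) : R) = -1 := by
    rw [← Nat.cast_mul, ← Nat.cast_mul, hnat, wilson_cast]
  calc iota R i * iota R (p - i)
      = - ((((p.choose i / p : ℕ) : ℕ) : R) * ((i.factorial : ℕ) : R) * (((p - i).factorial : ℕ) : R)) *
          (iota R i * iota R (p - i)) := by rw [hcast]; ring
    _ = - (((p.choose i / p : ℕ) : ℕ) : R) * (((i.factorial : ℕ) : R) * iota R i) *
          ((((p - i).factorial : ℕ) : R) * iota R (p - i)) := by ring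
    _ = -(((p.choose i / p : ℕ) : ℕ) : R) := by rw [hb, hd]; ring

variable (R) in
/-- generating polynomial of the truncated exponential in an auxiliary variable -/
noncomputable def PP (x : B) : Polynomial B :=
  ∑ i ∈ Finset.range p, Polynomial.monomial i (algebraMap R B (iota R i) * x ^ i)

lemma coeff_PP (x : B) (n : ℕ) :
    (PP R p x).coeff n = if n < p then algebraMap R B (iota R n) * x ^ n else 0 := by
  classical
  simp only [PP, Polynomial.finsetSum_coeff, Polynomial.coeff_monomial]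
  rw [Finset.sum_ite_eq']
  simp

/-- the truncated exponential `∑_{i<p} s^i T^i / i!` -/
noncomputable def E (s : R) : Polynomial R :=
  ∑ i ∈ Finset.range p, Polynomial.monomial i (iota R i * s ^ i)

lemma aeval_E (s : R) (x : B) :
    Polynomial.aeval x (E p s) = Polynomial.eval (algebraMap R B s) (PP R p x) := by
  simp only [E, PP, map_sum, Polynomial.aeval_monomial, Polynomial.eval_finsetSum, Polynomial.eval_monomial,
    map_mul, map_pow]
  apply Finset.sum_congr rfl
  intro i _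
  ring

variable (R) in
/-- `S(x,y)` for elements of an algebra -/
noncomputable def Sxy (x y : B) : B :=
  ∑ j ∈ Finset.Ioo 0 p, algebraMap R B (((p.choose j / p : ℕ) : ℕ) : R) * x ^ j * y ^ (p - j)

lemma aeval_Spoly (x y : B) : MvPolynomial.aeval ![x, y] (Spoly R p) = Sxy R p x y := by
  simp [Spoly, Sxy, map_sum]

lemma key_dvd (x y : B) :
    (Polynomial.X : Polynomial B) ^ (p + 1) ∣
      PP R p x * PP R p y - PP R p (x + y) * (1 - Polynomial.X ^ p * Polynomial.C (Sxy R p x y)) := by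
  classical
  have hpp := hp.out
  rw [Polynomial.X_pow_dvd_iff]
  intro d hd
  have e : PP R p (x + y) * (1 - Polynomial.X ^ p * Polynomial.C (Sxy R p x y)) =
      PP R p (x + y) - (PP R p (x + y) * Polynomial.C (Sxy R p x y)) * Polynomial.X ^ p := by ring
  rw [e, Polynomial.coeff_sub, Polynomial.coeff_sub, Polynomial.coeff_mul_X_pow', Polynomial.coeff_mul_C,
    Polynomial.coeff_mul]
  simp only [coeff_PP]
  rcases Nat.lt_or_ge d p with hdp | hdp
  · -- d < p
    rw [if_pos hdp, if_neg (by omega), sub_zero, (Commute.all x y).add_pow', Finset.mul_sum, ← Finset.sum_sub_distrib]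
    apply Finset.sum_eq_zero
    rintro ⟨i, j⟩ hij
    have hij' : i + j = d := Finset.HasAntidiagonal.mem_antidiagonal.mp hij
    simp only
    rw [if_pos (by omega), if_pos (by omega)]
    have := iota_choose (R := R) p i j (by omega)
    rw [hij'] at this
    have h2 := congrArg (algebraMap R B) this
    rw [map_mul, map_mul, map_natCast] at h2
    rw [nsmul_eq_mul]
    linear_combination (- x ^ i * y ^ j) * h2
  · -- d = p
    have hd' : d = p := by omega
    subst hd'
    rw [if_neg (lt_irrefl _), if_pos le_rfl, Nat.sub_self, if_pos hpp.pos, iota_zero, map_one, pow_zero, one_mul,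
      one_mul, zero_sub, sub_neg_eq_add, Finset.Nat.sum_antidiagonal_eq_sum_range_succ_mk, Finset.sum_range_succ,
      Finset.range_eq_Ico, Finset.sum_eq_sum_Ico_succ_bot hpp.pos]
    simp only [Nat.sub_zero, lt_irrefl, if_false, mul_zero, zero_mul, zero_add, add_zero, Nat.sub_self]
    have : Finset.Ico (0 + 1) d = Finset.Ioo 0 d := by
      ext x; simp [Finset.mem_Ico, Finset.mem_Ioo]; omega
    rw [this, Sxy, ← Finset.sum_add_distrib]
    apply Finset.sum_eq_zero
    intro k hk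
    obtain ⟨hk0, hkd⟩ := Finset.mem_Ioo.mp hk
    rw [if_pos hkd, if_pos (by omega)]
    have h2 := congrArg (algebraMap R B) (iota_wilson (R := R) d k hk0 hkd)
    rw [map_mul, map_neg] at h2
    linear_combination (x ^ k * y ^ (d - k)) * h2

/-- the fundamental identity of the truncated exponential -/
theorem truncExp_mul (s : R) (x y : B) :
    ∃ Q : B, Polynomial.aeval x (E p s) * Polynomial.aeval y (E p s)
      - Polynomial.aeval (x + y) (E p s) * (1 - algebraMap R B (s ^ p) * Sxy R p x y)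
      = algebraMap R B (s ^ (p + 1)) * Q := by
  obtain ⟨W, hW⟩ := key_dvd (R := R) p x y
  refine ⟨Polynomial.eval (algebraMap R B s) W, ?_⟩
  have := congrArg (Polynomial.eval (algebraMap R B s)) hW
  simp only [Polynomial.eval_sub, Polynomial.eval_mul, Polynomial.eval_one, Polynomial.eval_pow,
    Polynomial.eval_X, Polynomial.eval_C, ← aeval_E] at this
  rw [map_pow, map_pow]
  exact this

end TruncExp

section Coc

open MvPolynomial

variable {R : Type*} [CommRing R]

/-- normalized symmetric unit multiplicative 2-cocycles -/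
structure IsNormCoc (h : MvPolynomial (Fin 2) R) : Prop where
  unit : IsUnit h
  norm : aeval ![(X 0 : MvPolynomial (Fin 2) R), 0] h = 1
  symm : aeval ![(X 1 : MvPolynomial (Fin 2) R), X 0] h = h
  coc : aeval ![(X 1 : MvPolynomial (Fin 3) R), X 2] h * aeval ![(X 0 : MvPolynomial (Fin 3) R), X 1 + X 2] h =
      aeval ![(X 0 : MvPolynomial (Fin 3) R) + X 1, X 2] h * aeval ![(X 0 : MvPolynomial (Fin 3) R), X 1] h

/-- `h` is the coboundary of a unit -/
def Splits (h : MvPolynomial (Fin 2) R) : Prop :=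
  ∃ f : Polynomial R, IsUnit f ∧
    Polynomial.aeval ((X 0 : MvPolynomial (Fin 2) R) + X 1) f =
      Polynomial.aeval (X 0 : MvPolynomial (Fin 2) R) f * Polynomial.aeval (X 1 : MvPolynomial (Fin 2) R) f * h

/-- multiplicative coboundary (inverse convention) of `f` with inverse `fi` -/
noncomputable def D2 (f fi : Polynomial R) : MvPolynomial (Fin 2) R :=
  Polynomial.aeval (X 0 : MvPolynomial (Fin 2) R) f * Polynomial.aeval (X 1 : MvPolynomial (Fin 2) R) f *
    Polynomial.aeval ((X 0 : MvPolynomial (Fin 2) R) + X 1) fi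

lemma aeval_D2 {B : Type*} [CommRing B] [Algebra R B] (g : Fin 2 → B) (f fi : Polynomial R) :
    aeval g (D2 f fi) =
      Polynomial.aeval (g 0) f * Polynomial.aeval (g 1) f * Polynomial.aeval (g 0 + g 1) fi := by
  simp only [D2, map_mul, ← Polynomial.aeval_algHom_apply, map_add, aeval_X]

lemma paeval_inv {B : Type*} [CommRing B] [Algebra R B] {f fi : Polynomial R} (hf : f * fi = 1) (x : B) :
    Polynomial.aeval x f * Polynomial.aeval x fi = 1 := by
  rw [← map_mul, hf, map_one]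

lemma isNormCoc_D2 {f fi : Polynomial R} (hf : f * fi = 1) (h0 : f.coeff 0 = 1) : IsNormCoc (D2 f fi) := by
  refine ⟨?_, ?_, ?_, ?_⟩
  · apply IsUnit.of_mul_eq_one (Polynomial.aeval (X 0 : MvPolynomial (Fin 2) R) fi *
      Polynomial.aeval (X 1 : MvPolynomial (Fin 2) R) fi * Polynomial.aeval ((X 0 : MvPolynomial (Fin 2) R) + X 1) f)
    have h1 := paeval_inv hf (X 0 : MvPolynomial (Fin 2) R)
    have h2 := paeval_inv hf (X 1 : MvPolynomial (Fin 2) R)
    have h3 := paeval_inv hf ((X 0 : MvPolynomial (Fin 2) R) + X 1)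
    rw [D2]
    linear_combination (Polynomial.aeval (X 1 : MvPolynomial (Fin 2) R) f * Polynomial.aeval (X 1 : MvPolynomial (Fin 2) R) fi *
      (Polynomial.aeval ((X 0 : MvPolynomial (Fin 2) R) + X 1) f * Polynomial.aeval ((X 0 : MvPolynomial (Fin 2) R) + X 1) fi)) * h1 +
      (Polynomial.aeval ((X 0 : MvPolynomial (Fin 2) R) + X 1) f * Polynomial.aeval ((X 0 : MvPolynomial (Fin 2) R) + X 1) fi) * h2 + h3
  · rw [aeval_D2]
    simp only [Matrix.cons_val_zero, Matrix.cons_val_one, Matrix.cons_val_fin_one]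
    rw [add_zero, ← Polynomial.coeff_zero_eq_aeval_zero', h0, map_one, mul_one]
    exact paeval_inv hf _
  · rw [aeval_D2]
    simp only [Matrix.cons_val_zero, Matrix.cons_val_one, Matrix.cons_val_fin_one]
    rw [D2, add_comm (X 1 : MvPolynomial (Fin 2) R) (X 0)]
    ring
  · simp only [aeval_D2, Matrix.cons_val_zero, Matrix.cons_val_one, Matrix.cons_val_fin_one]
    have h12 := paeval_inv hf ((X 1 : MvPolynomial (Fin 3) R) + X 2)
    have h01 := paeval_inv hf ((X 0 : MvPolynomial (Fin 3) R) + X 1)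
    rw [add_assoc (X 0 : MvPolynomial (Fin 3) R) (X 1) (X 2)]
    linear_combination
      (Polynomial.aeval (X 0 : MvPolynomial (Fin 3) R) f * Polynomial.aeval (X 1 : MvPolynomial (Fin 3) R) f *
        Polynomial.aeval (X 2 : MvPolynomial (Fin 3) R) f *
        Polynomial.aeval ((X 0 : MvPolynomial (Fin 3) R) + (X 1 + X 2)) fi) * h12 -
      (Polynomial.aeval (X 0 : MvPolynomial (Fin 3) R) f * Polynomial.aeval (X 1 : MvPolynomial (Fin 3) R) f *
        Polynomial.aeval (X 2 : MvPolynomial (Fin 3) R) f *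
        Polynomial.aeval ((X 0 : MvPolynomial (Fin 3) R) + (X 1 + X 2)) fi) * h01

lemma IsNormCoc.mul {h1 h2 : MvPolynomial (Fin 2) R} (H1 : IsNormCoc h1) (H2 : IsNormCoc h2) :
    IsNormCoc (h1 * h2) := by
  refine ⟨H1.unit.mul H2.unit, ?_, ?_, ?_⟩
  · rw [map_mul, H1.norm, H2.norm, one_mul]
  · rw [map_mul, H1.symm, H2.symm]
  · simp only [map_mul]
    have e1 := H1.coc
    have e2 := H2.coc
    linear_combination (aeval ![(X 1 : MvPolynomial (Fin 3) R), X 2] h2 *
      aeval ![(X 0 : MvPolynomial (Fin 3) R), X 1 + X 2] h2) * e1 +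
      (aeval ![(X 0 : MvPolynomial (Fin 3) R) + X 1, X 2] h1 * aeval ![(X 0 : MvPolynomial (Fin 3) R), X 1] h1) * e2

lemma isNormCoc_one : IsNormCoc (1 : MvPolynomial (Fin 2) R) :=
  ⟨isUnit_one, by simp, by simp, by simp⟩

lemma splits_one : Splits (1 : MvPolynomial (Fin 2) R) :=
  ⟨1, isUnit_one, by simp⟩

lemma splits_of_mul_D2 {h : MvPolynomial (Fin 2) R} {f fi : Polynomial R} (hf : f * fi = 1)
    (H : Splits (h * D2 f fi)) : Splits h := by
  obtain ⟨f', hu, he⟩ := H
  refine ⟨f' * f, hu.mul (IsUnit.of_mul_eq_one _ hf), ?_⟩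
  have h3 := paeval_inv hf ((X 0 : MvPolynomial (Fin 2) R) + X 1)
  simp only [map_mul]
  rw [he, D2]
  linear_combination (Polynomial.aeval (X 0 : MvPolynomial (Fin 2) R) f' *
    Polynomial.aeval (X 1 : MvPolynomial (Fin 2) R) f' * h * Polynomial.aeval (X 0 : MvPolynomial (Fin 2) R) f *
    Polynomial.aeval (X 1 : MvPolynomial (Fin 2) R) f) * h3

lemma aeval_mem_IC {τ : Type*} (I : Ideal R) (g : Fin 2 → MvPolynomial τ R) {P : MvPolynomial (Fin 2) R}
    (hP : P ∈ Ideal.map (C : R →+* MvPolynomial (Fin 2) R) I) :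
    aeval g P ∈ Ideal.map (C : R →+* MvPolynomial τ R) I := by
  have h1 : Ideal.map ((aeval g : MvPolynomial (Fin 2) R →ₐ[R] MvPolynomial τ R) : MvPolynomial (Fin 2) R →+* MvPolynomial τ R)
      (Ideal.map C I) = Ideal.map C I := by
    rw [Ideal.map_map]
    congr 1
    ext a
    simp
  rw [← h1]
  exact Ideal.mem_map_of_mem _ hP

lemma paeval_mem_IC {τ : Type*} (I : Ideal R) (G : Polynomial R) (hG : ∀ n, G.coeff n ∈ I)
    (x : MvPolynomial τ R) :
    Polynomial.aeval x G ∈ Ideal.map (C : R →+* MvPolynomial τ R) I := by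
  rw [Polynomial.aeval_eq_sum_range]
  apply Ideal.sum_mem
  intro n _
  rw [MvPolynomial.smul_eq_C_mul]
  exact Ideal.mul_mem_right _ _ (Ideal.mem_map_of_mem C (hG n))

lemma map_aeval2 {A' : Type*} [CommRing A'] {τ : Type*} (f : R →+* A') (F : MvPolynomial (Fin 2) R)
    (g : Fin 2 → MvPolynomial τ R) (g' : Fin 2 → MvPolynomial τ A') (hg : ∀ i, map f (g i) = g' i) :
    map f (aeval g F) = aeval g' (map f F) := by
  rw [aeval_eq_bind₁, map_bind₁, aeval_eq_bind₁]
  have : (fun i => map f (g i)) = g' := funext hg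
  rw [this]

lemma map_sw {A' : Type*} [CommRing A'] (f : R →+* A') (F : MvPolynomial (Fin 2) R) :
    map f (sw F) = sw (map f F) := by
  rw [sw, sw]
  exact map_aeval2 f F _ _ (by intro i; fin_cases i <;> simp)

lemma map_dl {A' : Type*} [CommRing A'] (f : R →+* A') (G : Polynomial R) :
    map f (dl G) = dl (Polynomial.map f G) := by
  have key : ∀ x : MvPolynomial (Fin 2) R,
      map f (Polynomial.aeval x G) = Polynomial.aeval (map f x) (Polynomial.map f G) := by
    intro x
    rw [Polynomial.aeval_def, Polynomial.aeval_def, Polynomial.hom_eval₂, Polynomial.eval₂_map]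
    congr 1
    ext a
    simp [MvPolynomial.algebraMap_eq]
  simp only [dl, map_sub, key, map_add, map_X]

lemma map_SS {A' : Type*} [CommRing A'] (f : R →+* A') (p i : ℕ) :
    map f (SS (A := R) p i) = SS (A := A') p i := by
  rw [SS, SS, map_expand, map_Spoly]

lemma cf_SS_zero (p i : ℕ) (hp : 0 < p) : cf (SS (A := R) p i) 0 0 = 0 := by
  have h0 : mon2 0 0 = 0 := by ext a; simp [mon2]
  rw [cf, h0, SS, coeff_expand_zero _ (pow_pos hp i).ne']
  have := cf_Spoly (A := R) p 0 0
  rw [cf, h0] at this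
  rw [this, if_neg (by omega)]

lemma cf_map {A' : Type*} [CommRing A'] (f : R →+* A') (F : MvPolynomial (Fin 2) R) (i j : ℕ) :
    cf (map f F) i j = f (cf F i j) := by
  rw [cf, cf, coeff_map]

end Coc

section Step

open MvPolynomial

variable {R : Type*} [CommRing R] (p : ℕ) [hp : Fact p.Prime] [CharP R p]

local notation "𝕏" => (X 0 : MvPolynomial (Fin 2) R)
local notation "𝕐" => (X 1 : MvPolynomial (Fin 2) R)

lemma E_coeff (s : R) (i : ℕ) : (E p s).coeff i = if i < p then iota R i * s ^ i else 0 := by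
  classical
  simp only [E, Polynomial.finsetSum_coeff, Polynomial.coeff_monomial]
  rw [Finset.sum_ite_eq']
  simp

lemma E_coeff_zero (s : R) : (E p s).coeff 0 = 1 := by
  rw [E_coeff, if_pos hp.out.pos, iota_zero, pow_zero, mul_one]

lemma E_isUnit (s : R) (hs : IsNilpotent s) : IsUnit (E p s) := by
  rw [Polynomial.isUnit_iff_coeff_isUnit_isNilpotent]
  refine ⟨by rw [E_coeff_zero]; exact isUnit_one, ?_⟩
  intro i hi
  rw [E_coeff]
  split_ifs
  · exact (Commute.all _ _).isNilpotent_mul_left (hs.pow_of_pos hi)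
  · exact IsNilpotent.zero

lemma coeff_zero_of_norm {h : MvPolynomial (Fin 2) R} (hh : IsNormCoc h) : coeff 0 h = 1 := by
  have := congrArg (aeval (fun _ : Fin 2 => (0 : R))) hh.norm
  rw [← AlgHom.comp_apply, comp_aeval] at this
  have e : (fun i => aeval (fun _ : Fin 2 => (0 : R)) ((![𝕏, 0]) i)) = (0 : Fin 2 → R) := by
    funext i; fin_cases i <;> simp
  rw [e, aeval_zero, map_one] at this
  simpa [constantCoeff_eq] using this

theorem step (𝔞 𝔟 : Ideal R) (hnil : ∀ x ∈ 𝔟, IsNilpotent x) (hroot : ∀ a ∈ 𝔞, ∃ s ∈ 𝔟, s ^ p = a)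
    (hle : 𝔞 ≤ 𝔟) (h : MvPolynomial (Fin 2) R) (hh : IsNormCoc h)
    (hmem : h - 1 ∈ Ideal.map (C : R →+* MvPolynomial (Fin 2) R) 𝔞) :
    ∃ f fi : Polynomial R, f * fi = 1 ∧ f.coeff 0 = 1 ∧
      h * D2 f fi - 1 ∈ Ideal.map (C : R →+* MvPolynomial (Fin 2) R) (𝔞 * 𝔟) := by
  classical
  have hpp := hp.out
  have := CharP.nontrivial_of_char_ne_one (R := R) hpp.ne_one
  set I := 𝔞 * 𝔟 with hI
  have hIb : I ≤ 𝔟 := Ideal.mul_le_left (I := 𝔟) (J := 𝔞) |> fun h => (by rw [hI, mul_comm]; exact h)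
  have hIa : 𝔞 * 𝔞 ≤ I := Ideal.mul_mono_right hle
  have : CharP (R ⧸ I) p := CharP.quotient' p I (by
    intro x hx
    by_contra hne
    have hndvd : ¬ p ∣ x := fun hd => hne ((CharP.cast_eq_zero_iff R p x).mpr hd)
    have hu : IsUnit (x : R) := (CharP.isUnit_natCast_iff hpp).mpr hndvd
    obtain ⟨k, hk⟩ := hnil _ (hIb hx)
    exact (hu.pow k).ne_zero hk)
  let π : R →+* R ⧸ I := Ideal.Quotient.mk I
  have hπ : Function.Surjective π := Ideal.Quotient.mk_surjective
  have hkerπ : RingHom.ker π = I := Ideal.mk_ker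
  set F := h - 1 with hF
  have hh1 : h = 1 + F := by rw [hF]; ring
  have hsq2 : ∀ u ∈ Ideal.map (C : R →+* MvPolynomial (Fin 2) R) 𝔞,
      ∀ v ∈ Ideal.map (C : R →+* MvPolynomial (Fin 2) R) 𝔞,
      u * v ∈ Ideal.map (C : R →+* MvPolynomial (Fin 2) R) I := by
    intro u hu v hv
    have h1 : u * v ∈ Ideal.map (C : R →+* MvPolynomial (Fin 2) R) 𝔞 * Ideal.map C 𝔞 :=
      Ideal.mul_mem_mul hu hv
    rw [← Ideal.map_mul] at h1
    exact Ideal.map_mono hIa h1
  have hsq3 : ∀ u ∈ Ideal.map (C : R →+* MvPolynomial (Fin 3) R) 𝔞,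
      ∀ v ∈ Ideal.map (C : R →+* MvPolynomial (Fin 3) R) 𝔞,
      u * v ∈ Ideal.map (C : R →+* MvPolynomial (Fin 3) R) I := by
    intro u hu v hv
    have h1 : u * v ∈ Ideal.map (C : R →+* MvPolynomial (Fin 3) R) 𝔞 * Ideal.map C 𝔞 :=
      Ideal.mul_mem_mul hu hv
    rw [← Ideal.map_mul] at h1
    exact Ideal.map_mono hIa h1
  have hswF : sw F = F := by
    have h1 : sw (1 : MvPolynomial (Fin 2) R) = 1 := by simp [sw]
    rw [hF, sw_sub, h1]
    congr 1
    exact hh.symm
  have hLF : Lop F ∈ Ideal.map (C : R →+* MvPolynomial (Fin 3) R) I := by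
    have hc := hh.coc
    rw [hh1] at hc
    simp only [map_add, map_one] at hc
    have e : Lop F = aeval ![(X 0 : MvPolynomial (Fin 3) R) + X 1, X 2] F * aeval ![(X 0 : MvPolynomial (Fin 3) R), X 1] F
        - aeval ![(X 1 : MvPolynomial (Fin 3) R), X 2] F * aeval ![(X 0 : MvPolynomial (Fin 3) R), X 1 + X 2] F := by
      rw [Lop]; linear_combination hc
    rw [e]
    exact Ideal.sub_mem _ (hsq3 _ (aeval_mem_IC 𝔞 _ hmem) _ (aeval_mem_IC 𝔞 _ hmem))
      (hsq3 _ (aeval_mem_IC 𝔞 _ hmem) _ (aeval_mem_IC 𝔞 _ hmem))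
  have hswb : sw (map π F) = map π F := by rw [← map_sw, hswF]
  have hLb : Lop (map π F) = 0 := by
    rw [← map_Lop]
    have : Lop F ∈ RingHom.ker (map π : MvPolynomial (Fin 3) R →+* MvPolynomial (Fin 3) (R ⧸ I)) := by
      rw [ker_map, hkerπ]; exact hLF
    exact this
  have hcb : ∀ i j, cf (map π F) i j ∈ 𝔞.map π := by
    intro i j
    rw [cf_map]
    exact Ideal.mem_map_of_mem π ((mem_map_C_iff.mp hmem) _)
  obtain ⟨D, hD⟩ := exists_bound (map π F)
  obtain ⟨Gb, N, rb, hGb, hrb, hFb⟩ := lazard p (𝔞.map π) D (map π F) hswb hLb hcb hD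
  have hF00 : cf F 0 0 = 0 := by
    have h0 : mon2 0 0 = 0 := by ext a; simp [mon2]
    rw [cf, h0, hF, coeff_sub, coeff_zero_of_norm hh, coeff_zero_one, sub_self]
  have hGb0 : Gb.coeff 0 = 0 := by
    have h1 : cf (map π F) 0 0 = 0 := by rw [cf_map, hF00, map_zero]
    rw [hFb, cf_add, cf_dl, cf_sum] at h1
    have h2 : ∀ i ∈ Finset.range N, cf (C (rb i) * SS (A := R ⧸ I) p i) 0 0 = 0 := by
      intro i _; rw [cf_C_mul, cf_SS_zero p i hpp.pos, mul_zero]
    rw [Finset.sum_eq_zero h2] at h1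
    simp only [add_zero, Nat.choose_self, Nat.cast_one, mul_one, ↓reduceIte] at h1
    linear_combination (-1 : R ⧸ I) * h1
  have lift : ∀ z ∈ 𝔞.map π, ∃ a ∈ 𝔞, π a = z :=
    fun z hz => (Ideal.mem_map_iff_of_surjective π hπ).mp hz
  choose! ℓ hℓ𝔞 hℓπ using lift
  let G : Polynomial R := ∑ n ∈ Gb.support, Polynomial.monomial n (ℓ (Gb.coeff n))
  have hGc : ∀ n, G.coeff n = if n ∈ Gb.support then ℓ (Gb.coeff n) else 0 := by
    intro n
    simp only [G, Polynomial.finsetSum_coeff, Polynomial.coeff_monomial]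
    rw [Finset.sum_ite_eq']
  have hG𝔞 : ∀ n, G.coeff n ∈ 𝔞 := by
    intro n; rw [hGc]; split_ifs; exacts [hℓ𝔞 _ (hGb n), 𝔞.zero_mem]
  have hGmap : Polynomial.map π G = Gb := by
    ext n
    rw [Polynomial.coeff_map, hGc]
    split_ifs with hn
    · exact hℓπ _ (hGb n)
    · rw [map_zero]; exact (Polynomial.notMem_support_iff.mp hn).symm
  have hG0 : G.coeff 0 = 0 := by
    rw [hGc, if_neg]; rw [Polynomial.mem_support_iff]; exact not_not.mpr hGb0
  let r : ℕ → R := fun i => ℓ (rb i)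
  have hr𝔞 : ∀ i, r i ∈ 𝔞 := fun i => hℓ𝔞 _ (hrb i)
  have hrπ : ∀ i, π (r i) = rb i := fun i => hℓπ _ (hrb i)
  choose s hs𝔟 hsp using fun i => hroot (r i) (hr𝔞 i)
  have hFJ : F - (dl G + ∑ i ∈ Finset.range N, C (r i) * SS (A := R) p i) ∈
      Ideal.map (C : R →+* MvPolynomial (Fin 2) R) I := by
    rw [← hkerπ, ← ker_map, RingHom.mem_ker, map_sub, map_add, map_dl, hGmap, map_sum]
    have : ∀ i ∈ Finset.range N, map π (C (r i) * SS (A := R) p i) = C (rb i) * SS (A := R ⧸ I) p i := by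
      intro i _; rw [map_mul, map_C, hrπ, map_SS]
    rw [Finset.sum_congr rfl this, ← hFb, sub_self]
  let f : Polynomial R := (1 + G) * ∏ i ∈ Finset.range N, Polynomial.expand R (p ^ i) (E p (s i))
  have hGnil : IsNilpotent G := Polynomial.isNilpotent_iff.mpr (fun n => hnil _ (hle (hG𝔞 n)))
  have hfu : IsUnit f := by
    refine hGnil.isUnit_one_add.mul ?_
    apply Finset.prod_induction _ IsUnit (fun a b ha hb => ha.mul hb) isUnit_one
    intro i _
    exact (E_isUnit p (s i) (hnil _ (hs𝔟 i))).map (Polynomial.expand R (p ^ i))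
  have hf0 : f.coeff 0 = 1 := by
    rw [Polynomial.coeff_zero_eq_eval_zero]
    simp only [f, Polynomial.eval_mul, Polynomial.eval_add, Polynomial.eval_one, Polynomial.eval_prod]
    rw [← Polynomial.coeff_zero_eq_eval_zero G, hG0, add_zero, one_mul]
    apply Finset.prod_eq_one
    intro i _
    rw [← Polynomial.coeff_zero_eq_eval_zero, Polynomial.coeff_expand (pow_pos hpp.pos i)]
    simp [E_coeff_zero]
  obtain ⟨fi, hfi⟩ := hfu.exists_right_inv
  -- the quotient computation
  let J : Ideal (MvPolynomial (Fin 2) R) := Ideal.map C I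
  let κ : MvPolynomial (Fin 2) R →+* MvPolynomial (Fin 2) R ⧸ J := Ideal.Quotient.mk J
  have hκ0 : ∀ u, u ∈ J → κ u = 0 := fun u hu => Ideal.Quotient.eq_zero_iff_mem.mpr hu
  have hκsq : ∀ u ∈ Ideal.map (C : R →+* MvPolynomial (Fin 2) R) 𝔞,
      ∀ v ∈ Ideal.map (C : R →+* MvPolynomial (Fin 2) R) 𝔞, κ u * κ v = 0 := by
    intro u hu v hv; rw [← map_mul]; exact hκ0 _ (hsq2 u hu v hv)
  have hGx : Polynomial.aeval 𝕏 G ∈ Ideal.map (C : R →+* MvPolynomial (Fin 2) R) 𝔞 :=
    paeval_mem_IC 𝔞 G hG𝔞 _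
  have hGy : Polynomial.aeval 𝕐 G ∈ Ideal.map (C : R →+* MvPolynomial (Fin 2) R) 𝔞 :=
    paeval_mem_IC 𝔞 G hG𝔞 _
  have hGxy : Polynomial.aeval (𝕏 + 𝕐) G ∈ Ideal.map (C : R →+* MvPolynomial (Fin 2) R) 𝔞 :=
    paeval_mem_IC 𝔞 G hG𝔞 _
  let T : ℕ → MvPolynomial (Fin 2) R := fun i => C (r i) * SS (A := R) p i
  have hT : ∀ i, T i ∈ Ideal.map (C : R →+* MvPolynomial (Fin 2) R) 𝔞 :=
    fun i => Ideal.mul_mem_right _ _ (Ideal.mem_map_of_mem C (hr𝔞 i))
  have hτ : (∑ i ∈ Finset.range N, T i) ∈ Ideal.map (C : R →+* MvPolynomial (Fin 2) R) 𝔞 :=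
    Ideal.sum_mem _ (fun i _ => hT i)
  let ex : ℕ → MvPolynomial (Fin 2) R :=
    fun i => Polynomial.aeval 𝕏 (Polynomial.expand R (p ^ i) (E p (s i)))
  let ey : ℕ → MvPolynomial (Fin 2) R :=
    fun i => Polynomial.aeval 𝕐 (Polynomial.expand R (p ^ i) (E p (s i)))
  let exy : ℕ → MvPolynomial (Fin 2) R :=
    fun i => Polynomial.aeval (𝕏 + 𝕐) (Polynomial.expand R (p ^ i) (E p (s i)))
  have hE : ∀ i, κ (ex i) * κ (ey i) = κ (exy i) * (1 - κ (T i)) := by
    intro i
    obtain ⟨Q, hQ⟩ := truncExp_mul (R := R) (B := MvPolynomial (Fin 2) R) p (s i) (𝕏 ^ p ^ i) (𝕐 ^ p ^ i)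
    have e1 : 𝕏 ^ p ^ i + 𝕐 ^ p ^ i = (𝕏 + 𝕐) ^ p ^ i := (add_pow_char_pow 𝕏 𝕐 p i).symm
    have e2 : Sxy R p (𝕏 ^ p ^ i) (𝕐 ^ p ^ i) = SS (A := R) p i := by
      rw [← aeval_Spoly, SS_eq_aeval]
    have e3 : algebraMap R (MvPolynomial (Fin 2) R) (s i ^ p) = C (r i) := by rw [hsp]; rfl
    have e4 : algebraMap R (MvPolynomial (Fin 2) R) (s i ^ (p + 1)) * Q ∈ J := by
      apply Ideal.mul_mem_right
      apply Ideal.mem_map_of_mem C
      rw [pow_succ, hsp]
      exact Ideal.mul_mem_mul (hr𝔞 i) (hs𝔟 i)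
    rw [e1, e2, e3] at hQ
    simp only [ex, ey, exy, Polynomial.expand_aeval]
    have := congrArg κ hQ
    rw [hκ0 _ e4, map_sub, map_mul, map_mul, map_sub, map_one, map_mul] at this
    simp only [T, map_mul]
    linear_combination this
  have hfx : ∀ x : MvPolynomial (Fin 2) R, κ (Polynomial.aeval x f) =
      (1 + κ (Polynomial.aeval x G)) *
        ∏ i ∈ Finset.range N, κ (Polynomial.aeval x (Polynomial.expand R (p ^ i) (E p (s i)))) := by
    intro x
    simp only [f, map_mul, map_add, map_one, map_prod]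
  have hprod : (∏ i ∈ Finset.range N, κ (ex i)) * (∏ i ∈ Finset.range N, κ (ey i)) =
      (∏ i ∈ Finset.range N, κ (exy i)) * (1 - κ (∑ i ∈ Finset.range N, T i)) := by
    rw [← Finset.prod_mul_distrib, Finset.prod_congr rfl (fun i _ => hE i), Finset.prod_mul_distrib]
    congr 1
    rw [map_sum]
    have : ∀ M : ℕ, ∏ i ∈ Finset.range M, (1 - κ (T i)) = 1 - ∑ i ∈ Finset.range M, κ (T i) := by
      intro M
      induction M with
      | zero => simp
      | succ M ih =>
        rw [Finset.prod_range_succ, Finset.sum_range_succ, ih]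
        have hz : (∑ i ∈ Finset.range M, κ (T i)) * κ (T M) = 0 := by
          rw [← map_sum]
          exact hκsq _ (Ideal.sum_mem _ (fun i _ => hT i)) _ (hT M)
        linear_combination hz
    exact this N
  have hW : h * Polynomial.aeval 𝕏 f * Polynomial.aeval 𝕐 f - Polynomial.aeval (𝕏 + 𝕐) f ∈ J := by
    rw [← Ideal.Quotient.eq_zero_iff_mem]
    show κ _ = 0
    rw [map_sub, map_mul, map_mul, hfx, hfx, hfx, hh1, map_add, map_one]
    have hφ : κ F = (κ (Polynomial.aeval (𝕏 + 𝕐) G) - κ (Polynomial.aeval 𝕏 G) - κ (Polynomial.aeval 𝕐 G)) +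
        κ (∑ i ∈ Finset.range N, T i) := by
      have := hκ0 _ hFJ
      rw [map_sub, map_add] at this
      have hdl : κ (dl G) = κ (Polynomial.aeval (𝕏 + 𝕐) G) - κ (Polynomial.aeval 𝕏 G) -
          κ (Polynomial.aeval 𝕐 G) := by simp only [dl, map_sub]
      rw [hdl] at this
      linear_combination this
    have ha : (1 + κ (Polynomial.aeval 𝕏 G)) * (1 + κ (Polynomial.aeval 𝕐 G)) =
        (1 + κ (Polynomial.aeval (𝕏 + 𝕐) G)) * (1 - (κ (Polynomial.aeval (𝕏 + 𝕐) G) -
          κ (Polynomial.aeval 𝕏 G) - κ (Polynomial.aeval 𝕐 G))) := by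
      have h1 := hκsq _ hGx _ hGy
      have h2 := hκsq _ hGxy _ hGxy
      have h3 := hκsq _ hGxy _ hGx
      have h4 := hκsq _ hGxy _ hGy
      linear_combination h1 + h2 - h3 - h4
    have hb : (1 - (κ (Polynomial.aeval (𝕏 + 𝕐) G) - κ (Polynomial.aeval 𝕏 G) - κ (Polynomial.aeval 𝕐 G))) *
        (1 - κ (∑ i ∈ Finset.range N, T i)) = 1 - κ F := by
      have h1 := hκsq _ hGxy _ hτ
      have h2 := hκsq _ hGx _ hτ
      have h3 := hκsq _ hGy _ hτ
      rw [hφ]; linear_combination h1 - h2 - h3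
    have hc : (1 + κ F) * (1 - κ F) = 1 := by
      have h1 := hκsq _ hmem _ hmem
      linear_combination (-1 : MvPolynomial (Fin 2) R ⧸ J) * h1
    have hprod' := hprod
    simp only [ex, ey, exy] at hprod'
    linear_combination
      ((1 + κ F) * ((∏ i ∈ Finset.range N, κ (Polynomial.aeval 𝕏 (Polynomial.expand R (p ^ i) (E p (s i))))) *
        (∏ i ∈ Finset.range N, κ (Polynomial.aeval 𝕐 (Polynomial.expand R (p ^ i) (E p (s i))))))) * ha +
      ((1 + κ F) * (1 + κ (Polynomial.aeval (𝕏 + 𝕐) G)) * (1 - (κ (Polynomial.aeval (𝕏 + 𝕐) G) -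
          κ (Polynomial.aeval 𝕏 G) - κ (Polynomial.aeval 𝕐 G)))) * hprod' +
      ((1 + κ F) * (1 + κ (Polynomial.aeval (𝕏 + 𝕐) G)) *
        (∏ i ∈ Finset.range N, κ (Polynomial.aeval (𝕏 + 𝕐) (Polynomial.expand R (p ^ i) (E p (s i)))))) * hb +
      ((1 + κ (Polynomial.aeval (𝕏 + 𝕐) G)) *
        (∏ i ∈ Finset.range N, κ (Polynomial.aeval (𝕏 + 𝕐) (Polynomial.expand R (p ^ i) (E p (s i)))))) * hc
  refine ⟨f, fi, hfi, hf0, ?_⟩
  have h3 := paeval_inv hfi (𝕏 + 𝕐)
  have : h * D2 f fi - 1 = (h * Polynomial.aeval 𝕏 f * Polynomial.aeval 𝕐 f - Polynomial.aeval (𝕏 + 𝕐) f) *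
      Polynomial.aeval (𝕏 + 𝕐) fi := by
    rw [D2]; linear_combination h3
  rw [this]
  exact Ideal.mul_mem_right _ _ hW

end Step

section Main

open MvPolynomial

variable {R : Type*} [CommRing R] (p : ℕ) [hp : Fact p.Prime] [CharP R p]

theorem iter (𝔟 : Ideal R) (hnil : ∀ x ∈ 𝔟, IsNilpotent x) (M : ℕ) (hM : 𝔟 ^ M = ⊥) (e0 : ℕ) (he0 : 1 ≤ e0)
    (hroot : ∀ a ∈ 𝔟 ^ e0, ∃ s ∈ 𝔟, s ^ p = a) :
    ∀ (k e : ℕ), e0 ≤ e → M ≤ e + k → ∀ h : MvPolynomial (Fin 2) R, IsNormCoc h →
      h - 1 ∈ Ideal.map (C : R →+* MvPolynomial (Fin 2) R) (𝔟 ^ e) → Splits h := by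
  intro k
  induction k with
  | zero =>
    intro e he hMe h hh hmem
    have h1 : 𝔟 ^ e = ⊥ := by
      rw [← le_bot_iff, ← hM]; exact Ideal.pow_le_pow_right (by omega)
    rw [h1, Ideal.map_bot, Ideal.mem_bot, sub_eq_zero] at hmem
    rw [hmem]; exact splits_one
  | succ k ih =>
    intro e he hMe h hh hmem
    have hle : 𝔟 ^ e ≤ 𝔟 := Ideal.pow_le_self (by omega)
    have hroot' : ∀ a ∈ 𝔟 ^ e, ∃ s ∈ 𝔟, s ^ p = a :=
      fun a ha => hroot a (Ideal.pow_le_pow_right he ha)
    obtain ⟨f, fi, hfi, hf0, hmem'⟩ := step p (𝔟 ^ e) 𝔟 hnil hroot' hle h hh hmem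
    rw [← pow_succ] at hmem'
    have hh' : IsNormCoc (h * D2 f fi) := hh.mul (isNormCoc_D2 hfi hf0)
    exact splits_of_mul_D2 hfi (ih (e + 1) (by omega) (by omega) _ hh' hmem')

lemma span_pow_le [DecidableEq R] (T : Finset R) :
    (Ideal.span (T : Set R)) ^ (T.card * p + 1) ≤ Ideal.span ((T.image (· ^ p) : Finset R) : Set R) := by
  classical
  induction T using Finset.induction_on with
  | empty => simp
  | insert a T ha ih =>
    rw [Finset.card_insert_of_notMem ha, Finset.image_insert, Finset.coe_insert, Finset.coe_insert,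
      Ideal.span_insert, Ideal.span_insert]
    have e : (T.card + 1) * p + 1 = p + (T.card * p + 1) := by ring
    rw [e]
    refine Ideal.sup_pow_add_le_pow_sup_pow.trans (sup_le_sup ?_ ih)
    rw [Ideal.span_singleton_pow]

theorem main (hF : Function.Surjective (frobenius R p)) (h : MvPolynomial (Fin 2) R) (hh : IsNormCoc h) :
    Splits h := by
  classical
  have hpp := hp.out
  -- coefficients of h - 1 are nilpotent
  have hcnil : ∀ m, IsNilpotent (coeff m (h - 1)) := by
    intro m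
    by_cases hm : m = 0
    · subst hm
      rw [coeff_sub, coeff_zero_of_norm hh, coeff_zero_one, sub_self]
      exact IsNilpotent.zero
    · have := (MvPolynomial.isUnit_iff.mp hh.unit).2 m hm
      rw [coeff_sub, coeff_one, if_neg (Ne.symm hm), sub_zero]
      exact this
  let T0 : Finset R := (h - 1).support.image (fun m => coeff m (h - 1))
  let K := T0.card
  let L := K * p + 1
  have hsurj : ∀ c : R, ∃ u : R, u ^ p ^ L = c := by
    intro c
    obtain ⟨u, hu⟩ := (hF.iterate L) c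
    exact ⟨u, by rw [← iterate_frobenius]; exact hu⟩
  choose root hrootL using hsurj
  let T : Finset R := T0.image root
  let 𝔟 : Ideal R := Ideal.span (T : Set R)
  have hTnil : ∀ t ∈ T, IsNilpotent t := by
    intro t ht
    obtain ⟨c, hc, rfl⟩ := Finset.mem_image.mp ht
    obtain ⟨m, -, rfl⟩ := Finset.mem_image.mp hc
    refine IsNilpotent.of_pow (m := p ^ L) ?_
    rw [hrootL]; exact hcnil m
  have h𝔟le : 𝔟 ≤ nilradical R := by
    rw [Ideal.span_le]
    intro t ht
    exact mem_nilradical.mpr (hTnil t (Finset.mem_coe.mp ht))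
  have hnil : ∀ x ∈ 𝔟, IsNilpotent x := fun x hx => mem_nilradical.mp (h𝔟le hx)
  have h𝔟fg : 𝔟.FG := ⟨T, rfl⟩
  obtain ⟨M, hM⟩ := (Ideal.FG.isNilpotent_iff_le_nilradical h𝔟fg).mpr h𝔟le
  have hM' : 𝔟 ^ M = ⊥ := hM
  let e0 := T.card * p + 1
  have hroot : ∀ a ∈ 𝔟 ^ e0, ∃ s ∈ 𝔟, s ^ p = a := by
    intro a ha
    have h1 : a ∈ Ideal.span ((T.image (· ^ p) : Finset R) : Set R) := span_pow_le p T ha
    have h2 : Ideal.span ((T.image (· ^ p) : Finset R) : Set R) = 𝔟.map (frobenius R p) := by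
      rw [Ideal.map_span, Finset.coe_image]
      rfl
    rw [h2, Ideal.mem_map_iff_of_surjective (frobenius R p) hF] at h1
    obtain ⟨x, hx, hxa⟩ := h1
    exact ⟨x, hx, by rw [← hxa]; rfl⟩
  have hmem : h - 1 ∈ Ideal.map (C : R →+* MvPolynomial (Fin 2) R) (𝔟 ^ e0) := by
    rw [mem_map_C_iff]
    intro m
    by_cases hm : m ∈ (h - 1).support
    · have hc : coeff m (h - 1) ∈ T0 := Finset.mem_image_of_mem _ hm
      have hr : root (coeff m (h - 1)) ∈ 𝔟 :=
        Ideal.subset_span (Finset.mem_coe.mpr (Finset.mem_image_of_mem _ hc))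
      have h1 : coeff m (h - 1) ∈ 𝔟 ^ (p ^ L) := by
        rw [← hrootL (coeff m (h - 1))]
        exact Ideal.pow_mem_pow hr _
      have hle : e0 ≤ p ^ L := by
        have h2 : T.card ≤ K := Finset.card_image_le
        have h3 : L < p ^ L := Nat.lt_pow_self hpp.one_lt
        have h4 : T.card * p ≤ K * p := Nat.mul_le_mul_right p h2
        show T.card * p + 1 ≤ p ^ L
        have : L = K * p + 1 := rfl
        omega
      exact Ideal.pow_le_pow_right hle h1
    · rw [notMem_support_iff.mp hm]; exact Ideal.zero_mem _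
  exact iter p 𝔟 hnil M hM' e0 (by omega) hroot M e0 le_rfl (by omega) h hh hmem

end Main

end Groth.Agent.H80.GaSplit
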