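import Groth.Agent.H80.GenFlatRed

/-!
# Generic flatness over a reduced base: scheme side (H80)
-/

set_option autoImplicit false

universe u

open AlgebraicGeometry CategoryTheory TopologicalSpace

namespace Groth.Agent.H80.GenFlatSch

open Groth.Agent.H80.GenFreeRed

variable {X S : Scheme.{u}} (f : X ⟶ S)

theorem appLE_congr (Q : ∀ {R S : Type u} [CommRing R] [CommRing S], (R →+* S) → Prop)
    {U₁ U₂ : S.Opens} {V₁ V₂ : X.Opens} (hU : U₁ = U₂) (hV : V₁ = V₂) (e₁ : V₁ ≤ f ⁻¹ᵁ U₁)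
    (e₂ : V₂ ≤ f ⁻¹ᵁ U₂) (h : Q (f.appLE U₁ V₁ e₁).hom) : Q (f.appLE U₂ V₂ e₂).hom := by
  subst hU hV; exact h

/-- A property with a ring hom property can be checked on a restriction locally on the source,
in terms of the original morphism. -/
theorem restrict_of_locally (P : MorphismProperty Scheme.{u})
    (Q : ∀ {R S : Type u} [CommRing R] [CommRing S], (R →+* S) → Prop) [HasRingHomProperty P Q]
    (hQ : RingHom.StableUnderCompositionWithLocalizationAwaySource Q) (U : S.Opens)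
    (H : ∀ x : X, f x ∈ U → ∃ (U'' : S.Opens) (_ : IsAffineOpen U'') (_ : U'' ≤ U)
      (V'' : X.Opens) (_ : IsAffineOpen V'') (e : V'' ≤ f ⁻¹ᵁ U''), x ∈ V'' ∧
        Q (f.appLE U'' V'' e).hom) : P (f ∣_ U) := by
  rw [HasRingHomProperty.iff_exists_appLE (P := P) hQ]
  intro x
  obtain ⟨U'', hU'', hle, V'', hV'', e, hxV, hq⟩ := H x.1 x.2
  have hV''le : V'' ≤ f ⁻¹ᵁ U := e.trans (f.preimage_mono hle)
  have e1 : U.ι ''ᵁ (U.ι ⁻¹ᵁ U'') = U'' := by
    rw [Scheme.Hom.image_preimage_eq_opensRange_inf, Scheme.Opens.opensRange_ι,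
      inf_eq_right.mpr hle]
  have e2 : (f ⁻¹ᵁ U).ι ''ᵁ ((f ⁻¹ᵁ U).ι ⁻¹ᵁ V'') = V'' := by
    rw [Scheme.Hom.image_preimage_eq_opensRange_inf, Scheme.Opens.opensRange_ι,
      inf_eq_right.mpr hV''le]
  have e3 : (f ⁻¹ᵁ U).ι ⁻¹ᵁ V'' ≤ (f ∣_ U) ⁻¹ᵁ (U.ι ⁻¹ᵁ U'') := by
    rw [← Scheme.Hom.comp_preimage, morphismRestrict_ι, Scheme.Hom.comp_preimage]
    exact Scheme.Hom.preimage_mono _ e
  refine ⟨⟨U.ι ⁻¹ᵁ U'', hU''.preimage_of_isOpenImmersion U.ι
      (by rw [Scheme.Opens.opensRange_ι]; exact hle)⟩,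
    ⟨(f ⁻¹ᵁ U).ι ⁻¹ᵁ V'', hV''.preimage_of_isOpenImmersion _
      (by rw [Scheme.Opens.opensRange_ι]; exact hV''le)⟩, hxV, e3, ?_⟩
  rw [morphismRestrict_appLE]
  exact appLE_congr f Q e1.symm e2.symm e _ hq

theorem good_of_intrGood {V : S.Opens} (hV : IsAffineOpen V) {W : X.Opens}
    (hW : IsAffineOpen W) (e : W ≤ f ⁻¹ᵁ V) (h : Γ(S, V))
    (H : letI := (f.appLE V W e).hom.toAlgebra; IntrGood Γ(S, V) Γ(X, W) h) :
    ∃ e' : X.basicOpen (f.appLE V W e h) ≤ f ⁻¹ᵁ S.basicOpen h,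
      (f.appLE (S.basicOpen h) (X.basicOpen (f.appLE V W e h)) e').hom.Flat ∧
      (f.appLE (S.basicOpen h) (X.basicOpen (f.appLE V W e h)) e').hom.FinitePresentation := by
  letI := (f.appLE V W e).hom.toAlgebra
  haveI i1 := hV.isLocalization_basicOpen h
  haveI i2 : IsLocalization.Away (algebraMap Γ(S, V) Γ(X, W) h)
      Γ(X, X.basicOpen (f.appLE V W e h)) := hW.isLocalization_basicOpen (f.appLE V W e h)
  refine ⟨by simp [Scheme.Hom.appLE], ?_, ?_⟩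
  · rw [hV.appLE_eq_away_map f hW e h, CommRingCat.hom_ofHom]
    exact H.flat_map _ _
  · rw [hV.appLE_eq_away_map f hW e h, CommRingCat.hom_ofHom]
    exact H.fp_map _ _

theorem exists_good_family [LocallyOfFiniteType f] {V : S.Opens} (hV : IsAffineOpen V)
    (t : Finset X.affineOpens) (ht : ∀ W ∈ t, (W : X.Opens) ≤ f ⁻¹ᵁ V) :
    ∀ g : Γ(S, V), g ≠ 0 → ∃ h' : Γ(S, V), g ∣ h' ∧ h' ≠ 0 ∧
      ∀ W ∈ t, ∀ (e : (W : X.Opens) ≤ f ⁻¹ᵁ V),
        letI := (f.appLE V W e).hom.toAlgebra; IntrGood Γ(S, V) Γ(X, W) h' := by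
  classical
  induction t using Finset.induction_on with
  | empty =>
    intro g hg
    exact ⟨g, dvd_rfl, hg, fun W hW => absurd hW (Finset.notMem_empty W)⟩
  | insert W t hWt ih =>
    intro g hg
    obtain ⟨h₁, hd₁, hne₁, H₁⟩ := ih (fun W' hW' => ht W' (Finset.mem_insert_of_mem hW')) g hg
    have eW := ht W (Finset.mem_insert_self W t)
    letI := (f.appLE V W eW).hom.toAlgebra
    haveI : Algebra.FiniteType Γ(S, V) Γ(X, W) := f.finiteType_appLE hV W.2 eW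
    obtain ⟨h₂, hne₂, H₂⟩ := exists_intrGood (R := Γ(S, V)) (B := Γ(X, W)) h₁ hne₁
    refine ⟨h₁ * h₂, hd₁.trans ⟨h₂, rfl⟩, hne₂, fun W' hW' e' => ?_⟩
    rcases Finset.mem_insert.mp hW' with rfl | hW'
    · exact H₂
    · letI := (f.appLE V W' e').hom.toAlgebra
      exact IntrGood.of_dvd (H₁ W' hW' e') ⟨h₂, rfl⟩

/-- **Generic flatness over a reduced base.** -/
theorem generic_flatness [IsReduced S] [LocallyOfFiniteType f] [QuasiCompact f] :
    ∃ U : S.Opens, Dense (U : Set ↑S) ∧ Flat (f ∣_ U) ∧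
      LocallyOfFinitePresentation (f ∣_ U) := by
  classical
  let 𝒢 : Set S.Opens := {O | ∃ (V : S.Opens) (_ : IsAffineOpen V) (h : Γ(S, V)),
    O = S.basicOpen h ∧ ∀ x : X, f x ∈ S.basicOpen h → ∃ (W : X.Opens) (_ : IsAffineOpen W)
      (e : W ≤ f ⁻¹ᵁ V), x ∈ W ∧
      ∃ e' : X.basicOpen (f.appLE V W e h) ≤ f ⁻¹ᵁ S.basicOpen h,
        (f.appLE (S.basicOpen h) (X.basicOpen (f.appLE V W e h)) e').hom.Flat ∧
        (f.appLE (S.basicOpen h) (X.basicOpen (f.appLE V W e h)) e').hom.FinitePresentation}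
  have hloc : ∀ x : X, f x ∈ sSup 𝒢 → ∃ (U'' : S.Opens) (_ : IsAffineOpen U'')
      (_ : U'' ≤ sSup 𝒢) (V'' : X.Opens) (_ : IsAffineOpen V'') (e : V'' ≤ f ⁻¹ᵁ U''), x ∈ V'' ∧
        (f.appLE U'' V'' e).hom.Flat ∧ (f.appLE U'' V'' e).hom.FinitePresentation := by
    intro x hx
    rw [Opens.mem_sSup] at hx
    obtain ⟨O, ⟨V, hV, h, rfl, H⟩, hxO⟩ := hx
    obtain ⟨W, hW, e, hxW, e', hfl, hfp⟩ := H x hxO
    refine ⟨S.basicOpen h, hV.basicOpen h, le_sSup ⟨V, hV, h, rfl, H⟩,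
      X.basicOpen (f.appLE V W e h), hW.basicOpen _, e', ?_, hfl, hfp⟩
    have hx' : x ∈ f ⁻¹ᵁ S.basicOpen h := hxO
    rw [Scheme.Hom.preimage_basicOpen] at hx'
    simp only [Scheme.Hom.appLE, CommRingCat.comp_apply, Scheme.basicOpen_res]
    exact ⟨hxW, hx'⟩
  refine ⟨sSup 𝒢, ?_, ?_, ?_⟩
  · rw [dense_iff_inter_open]
    intro O hO hOne
    obtain ⟨y, hy⟩ := hOne
    obtain ⟨_, ⟨V, hV, rfl⟩, hyV, hVO⟩ :=
      S.isBasis_affineOpens.exists_subset_of_mem_open hy hO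
    have h1 : (1 : Γ(S, V)) ≠ 0 := by
      intro h10
      have hb : S.basicOpen (1 : Γ(S, V)) = ⊥ := by
        rw [h10]; exact Scheme.basicOpen_zero _ _
      rw [S.basicOpen_of_isUnit isUnit_one] at hb
      rw [hb] at hyV
      exact hyV
    have hcpt : IsCompact ((f ⁻¹ᵁ V : X.Opens) : Set X) := f.isCompact_preimage hV.isCompact
    obtain ⟨s, hsfin, hs⟩ := isCompact_iff_finite_and_eq_biUnion_affineOpens.mp hcpt
    have hle : ∀ W ∈ s, (W : X.Opens) ≤ f ⁻¹ᵁ V := by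
      intro W hW
      rw [hs]
      exact le_iSup₂ (f := fun (i : X.affineOpens) (_ : i ∈ s) => (i : X.Opens)) W hW
    obtain ⟨h, -, hne, Hgood⟩ := exists_good_family f hV hsfin.toFinset
      (fun W hW => hle W (hsfin.mem_toFinset.mp hW)) 1 h1
    have hmem : S.basicOpen h ∈ 𝒢 := by
      refine ⟨V, hV, h, rfl, fun x hx => ?_⟩
      have hxV : x ∈ f ⁻¹ᵁ V := S.basicOpen_le h hx
      rw [hs] at hxV
      simp only [Opens.mem_iSup] at hxV
      obtain ⟨W, hW, hxW⟩ := hxV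
      exact ⟨W.1, W.2, hle W hW, hxW, good_of_intrGood f hV W.2 (hle W hW) h
        (Hgood W (hsfin.mem_toFinset.mpr hW) _)⟩
    have hnonempty : (S.basicOpen h : Set S).Nonempty := by
      by_contra hcon
      have hbot : S.basicOpen h = ⊥ := by
        rw [← Opens.not_nonempty_iff_eq_bot]
        exact hcon
      exact hne ((basicOpen_eq_bot_iff h).mp hbot)
    obtain ⟨z, hz⟩ := hnonempty
    exact ⟨z, hVO (S.basicOpen_le h hz), Opens.mem_sSup.mpr ⟨_, hmem, hz⟩⟩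
  · refine restrict_of_locally f @Flat RingHom.Flat
      (RingHom.Flat.stableUnderComposition.stableUnderCompositionWithLocalizationAway
        RingHom.Flat.holdsForLocalizationAway).left (sSup 𝒢) (fun x hx => ?_)
    obtain ⟨U'', hU'', hle, V'', hV'', e, hxV, hfl, -⟩ := hloc x hx
    exact ⟨U'', hU'', hle, V'', hV'', e, hxV, hfl⟩
  · refine restrict_of_locally f @LocallyOfFinitePresentation RingHom.FinitePresentation
      (RingHom.finitePresentation_stableUnderComposition.stableUnderCompositionWithLocalizationAway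
        RingHom.finitePresentation_holdsForLocalizationAway).left (sSup 𝒢) (fun x hx => ?_)
    obtain ⟨U'', hU'', hle, V'', hV'', e, hxV, -, hfp⟩ := hloc x hx
    exact ⟨U'', hU'', hle, V'', hV'', e, hxV, hfp⟩

end Groth.Agent.H80.GenFlatSch
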