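import Mathlib

/-!
# Generic freeness over a reduced base (H80)

Intrinsic notions "free after inverting `f`" (`GF`) and "finitely presented after inverting `h`"
(`HFP`), and the induction on the number of variables proving generic freeness for finite modules
over polynomial rings over a reduced ring.
-/

set_option autoImplicit false

universe u

namespace Groth.Agent.H80.GenFreeRed

section GF

/-- `M` becomes free after inverting `f`: there is an `R`-linear map from a free module to `M`
whose kernel and cokernel are `f`-power torsion. -/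
def GF (R : Type u) [CommRing R] (M : Type u) [AddCommGroup M] [Module R M] (f : R) : Prop :=
  ∃ (Φ : Type u) (_ : AddCommGroup Φ) (_ : Module R Φ) (_ : Module.Free R Φ) (β : Φ →ₗ[R] M),
    (∀ c, β c = 0 → ∃ k : ℕ, f ^ k • c = 0) ∧ (∀ m, ∃ k : ℕ, f ^ k • m ∈ LinearMap.range β)

variable {R : Type u} [CommRing R] {M : Type u} [AddCommGroup M] [Module R M]

theorem pow_smul_eq_zero_of_dvd {X : Type*} [AddCommGroup X] [Module R X] {f f' : R}
    (hd : f ∣ f') {x : X} {k : ℕ} (h : f ^ k • x = 0) : f' ^ k • x = 0 := by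
  obtain ⟨u, rfl⟩ := hd
  rw [mul_pow, mul_comm, mul_smul, h, smul_zero]

theorem pow_smul_mem_of_dvd {X : Type*} [AddCommGroup X] [Module R X] {f f' : R}
    (hd : f ∣ f') (N : Submodule R X) {x : X} {k : ℕ} (h : f ^ k • x ∈ N) : f' ^ k • x ∈ N := by
  obtain ⟨u, rfl⟩ := hd
  rw [mul_pow, mul_comm, mul_smul]
  exact N.smul_mem _ h

theorem GF.of_dvd {f f' : R} (h : GF R M f) (hd : f ∣ f') : GF R M f' := by
  obtain ⟨Φ, _, _, _, β, h1, h2⟩ := h
  refine ⟨Φ, inferInstance, inferInstance, inferInstance, β, ?_, ?_⟩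
  · intro c hc
    obtain ⟨k, hk⟩ := h1 c hc
    exact ⟨k, pow_smul_eq_zero_of_dvd hd hk⟩
  · intro m
    obtain ⟨k, hk⟩ := h2 m
    exact ⟨k, pow_smul_mem_of_dvd hd _ hk⟩

theorem GF.of_torsion {f : R} (h : ∀ m : M, ∃ k : ℕ, f ^ k • m = 0) : GF R M f := by
  refine ⟨PUnit, inferInstance, inferInstance, inferInstance, 0, ?_, ?_⟩
  · intro c _
    exact ⟨0, Subsingleton.elim _ _⟩
  · intro m
    obtain ⟨k, hk⟩ := h m
    exact ⟨k, by rw [hk]; exact Submodule.zero_mem _⟩

theorem GF.of_sub {f : R} (M₀ : Submodule R M) (h3 : ∀ m : M, ∃ k : ℕ, f ^ k • m ∈ M₀)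
    (h : GF R M₀ f) : GF R M f := by
  obtain ⟨Φ, _, _, _, β, h1, h2⟩ := h
  refine ⟨Φ, inferInstance, inferInstance, inferInstance, M₀.subtype ∘ₗ β, ?_, ?_⟩
  · intro c hc
    apply h1 c
    apply Subtype.ext
    simpa using hc
  · intro m
    obtain ⟨k, hk⟩ := h3 m
    obtain ⟨j, c, hc⟩ := h2 ⟨f ^ k • m, hk⟩
    refine ⟨j + k, c, ?_⟩
    have := congrArg Subtype.val hc
    simp only [LinearMap.comp_apply, Submodule.subtype_apply]
    rw [this, pow_add, mul_smul]
    rfl

theorem GF.of_ext {f : R} (M' : Submodule R M) (h' : GF R M' f) (h'' : GF R (M ⧸ M') f) :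
    GF R M f := by
  obtain ⟨Φ', _, _, _, β', h1', h2'⟩ := h'
  obtain ⟨Φ'', _, _, _, β'', h1'', h2''⟩ := h''
  obtain ⟨lam, hlam⟩ := Module.projective_lifting_property M'.mkQ β'' (Submodule.mkQ_surjective M')
  have hlam' : ∀ c, M'.mkQ (lam c) = β'' c := fun c => LinearMap.congr_fun hlam c
  let β : (Φ' × Φ'') →ₗ[R] M := (M'.subtype ∘ₗ β').coprod lam
  have hβ : ∀ c : Φ' × Φ'', β c = (β' c.1 : M) + lam c.2 := fun c => by
    simp [β, LinearMap.coprod_apply]
  refine ⟨Φ' × Φ'', inferInstance, inferInstance, inferInstance, β, ?_, ?_⟩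
  · rintro ⟨c', c''⟩ hc
    rw [hβ] at hc
    simp only at hc
    have h0 : β'' c'' = 0 := by
      rw [← hlam']
      have := congrArg M'.mkQ hc
      rw [map_add, map_zero] at this
      have hz : M'.mkQ (β' c' : M) = 0 := by
        rw [Submodule.mkQ_apply, Submodule.Quotient.mk_eq_zero]; exact (β' c').2
      rwa [hz, zero_add] at this
    obtain ⟨k, hk⟩ := h1'' c'' h0
    have h3 : β' (f ^ k • c') = 0 := by
      apply Subtype.ext
      have h4 := congrArg (fun x => f ^ k • x) hc
      simp only [smul_add, smul_zero] at h4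
      rw [← map_smul lam, hk, map_zero, add_zero] at h4
      rw [map_smul]
      exact h4
    obtain ⟨j, hj⟩ := h1' _ h3
    refine ⟨j + k, ?_⟩
    rw [Prod.smul_mk, Prod.mk_eq_zero]
    constructor
    · rw [pow_add, mul_smul]; exact hj
    · rw [pow_add, mul_smul, hk, smul_zero]
  · intro m
    obtain ⟨k, c'', hc''⟩ := h2'' (M'.mkQ m)
    have h5 : f ^ k • m - lam c'' ∈ M' := by
      rw [← Submodule.Quotient.mk_eq_zero, Submodule.Quotient.mk_sub]
      have : M'.mkQ (lam c'') = f ^ k • M'.mkQ m := by rw [hlam', hc'']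
      rw [← Submodule.mkQ_apply, ← Submodule.mkQ_apply, this, map_smul, sub_self]
    obtain ⟨j, c', hc'⟩ := h2' ⟨_, h5⟩
    refine ⟨j + k, (c', f ^ j • c''), ?_⟩
    rw [hβ]
    simp only
    have h6 := congrArg Subtype.val hc'
    simp only [Submodule.coe_smul] at h6
    rw [h6, map_smul, smul_sub, pow_add, mul_smul]
    abel

/-- The localized module of a module which is free after inverting `f` is free. -/
theorem GF.free {f : R} (h : GF R M f) :
    Module.Free (Localization.Away f) (LocalizedModule (Submonoid.powers f) M) := by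
  obtain ⟨Φ, _, _, _, β, h1, h2⟩ := h
  let mk := LocalizedModule.mkLinearMap (Submonoid.powers f) M
  let ι : Φ →ₗ[R] LocalizedModule (Submonoid.powers f) M := mk ∘ₗ β
  haveI : IsLocalizedModule (Submonoid.powers f) ι := by
    refine ⟨fun x => IsLocalizedModule.map_units mk x, ?_, ?_⟩
    · intro y
      obtain ⟨⟨m, s⟩, hs⟩ := IsLocalizedModule.surj (Submonoid.powers f) mk y
      obtain ⟨k, c, hc⟩ := h2 m
      refine ⟨⟨c, ⟨f ^ k, k, rfl⟩ * s⟩, ?_⟩
      simp only [Submonoid.smul_def, Submonoid.coe_mul] at hs ⊢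
      rw [mul_smul, hs, ← map_smul, ← hc]
      rfl
    · intro c₁ c₂ hc
      have h3 : mk (β c₁) = mk (β c₂) := hc
      obtain ⟨s, hs⟩ := IsLocalizedModule.exists_of_eq (S := Submonoid.powers f) h3
      have h4 : β ((s : R) • (c₁ - c₂)) = 0 := by
        rw [map_smul, map_sub, smul_sub]
        simp only [Submonoid.smul_def] at hs
        rw [hs, sub_self]
      obtain ⟨k, hk⟩ := h1 _ h4
      refine ⟨⟨f ^ k, k, rfl⟩ * s, ?_⟩
      simp only [Submonoid.smul_def, Submonoid.coe_mul]
      rw [← sub_eq_zero, ← smul_sub, mul_smul]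
      exact hk
  exact Module.free_of_isLocalizedModule (Submonoid.powers f) ι

end GF

section GFflex

variable {R : Type u} [CommRing R] {M N : Type u} [AddCommGroup M] [Module R M]
  [AddCommGroup N] [Module R N]

theorem GF.of_equiv {f : R} (e : M ≃ₗ[R] N) (h : GF R M f) : GF R N f := by
  obtain ⟨Φ, _, _, _, β, h1, h2⟩ := h
  refine ⟨Φ, inferInstance, inferInstance, inferInstance, e.toLinearMap ∘ₗ β, ?_, ?_⟩
  · intro c hc
    apply h1 c
    have h0 : e (β c) = 0 := hc
    exact e.map_eq_zero_iff.mp h0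
  · intro n
    obtain ⟨k, c, hc⟩ := h2 (e.symm n)
    refine ⟨k, c, ?_⟩
    simp only [LinearMap.comp_apply, LinearEquiv.coe_coe]
    rw [hc, map_smul, e.apply_symm_apply]

theorem GF.of_injective {f : R} (ι : N →ₗ[R] M) (hι : Function.Injective ι)
    (h3 : ∀ m : M, ∃ k : ℕ, f ^ k • m ∈ LinearMap.range ι) (h : GF R N f) : GF R M f := by
  obtain ⟨Φ, _, _, _, β, h1, h2⟩ := h
  refine ⟨Φ, inferInstance, inferInstance, inferInstance, ι ∘ₗ β, ?_, ?_⟩
  · intro c hc
    apply h1 c
    apply hι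
    rw [map_zero]; exact hc
  · intro m
    obtain ⟨k, n, hn⟩ := h3 m
    obtain ⟨j, c, hc⟩ := h2 n
    refine ⟨j + k, c, ?_⟩
    rw [LinearMap.comp_apply, hc, map_smul, hn, pow_add, mul_smul]

theorem GF.of_exact {M' M'' : Type u} [AddCommGroup M'] [Module R M'] [AddCommGroup M'']
    [Module R M''] {f : R} (ι : M' →ₗ[R] M) (p : M →ₗ[R] M'') (hι : Function.Injective ι)
    (hp : Function.Surjective p) (hex : ∀ m, p m = 0 ↔ m ∈ LinearMap.range ι)
    (h' : GF R M' f) (h'' : GF R M'' f) : GF R M f := by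
  have hk : LinearMap.ker p = LinearMap.range ι := by
    ext m
    rw [LinearMap.mem_ker, hex]
  refine GF.of_ext (LinearMap.range ι) (h'.of_equiv (LinearEquiv.ofInjective ι hι)) ?_
  exact h''.of_equiv ((p.quotKerEquivOfSurjective hp).symm ≪≫ₗ Submodule.quotEquivOfEq _ _ hk)

end GFflex

section HFP

variable {Q : Type u} [CommRing Q]

/-- `L` is finitely generated up to `h`-power torsion. -/
def HFG {F : Type u} [AddCommGroup F] [Module Q F] (L : Submodule Q F) (h : Q) : Prop :=
  ∃ G : Finset F, (↑G : Set F) ⊆ L ∧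
    ∀ l ∈ L, ∃ k : ℕ, h ^ k • l ∈ Submodule.span Q (↑G : Set F)

theorem HFG.of_dvd {F : Type u} [AddCommGroup F] [Module Q F] {L : Submodule Q F} {h h' : Q}
    (H : HFG L h) (hd : h ∣ h') : HFG L h' := by
  obtain ⟨G, hG, H⟩ := H
  refine ⟨G, hG, fun l hl => ?_⟩
  obtain ⟨k, hk⟩ := H l hl
  exact ⟨k, pow_smul_mem_of_dvd hd _ hk⟩

/-- `M` is finitely presented up to `h`-power torsion. -/
def HFP (Q : Type u) [CommRing Q] (M : Type u) [AddCommGroup M] [Module Q M] (h : Q) : Prop :=
  ∃ (F : Type u) (_ : AddCommGroup F) (_ : Module Q F) (_ : Module.Finite Q F)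
    (_ : Module.Projective Q F) (π : F →ₗ[Q] M),
    Function.Surjective π ∧ HFG (LinearMap.ker π) h

theorem HFP.of_dvd {M : Type u} [AddCommGroup M] [Module Q M] {h h' : Q} (H : HFP Q M h)
    (hd : h ∣ h') : HFP Q M h' := by
  obtain ⟨F, _, _, _, _, π, hπ, H⟩ := H
  exact ⟨F, inferInstance, inferInstance, inferInstance, inferInstance, π, hπ, H.of_dvd hd⟩

/-- Independence of the presentation. -/
theorem HFP.hfg_ker {M : Type u} [AddCommGroup M] [Module Q M] {h : Q} (H : HFP Q M h)
    {F : Type u} [AddCommGroup F] [Module Q F] [Module.Finite Q F] [Module.Projective Q F]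
    (π : F →ₗ[Q] M) (hπ : Function.Surjective π) : HFG (LinearMap.ker π) h := by
  classical
  obtain ⟨F₀, _, _, _, _, π₀, hπ₀, G₀, hG₀, H₀⟩ := H
  obtain ⟨α, hα⟩ := Module.projective_lifting_property π π₀ hπ
  obtain ⟨β, hβ⟩ := Module.projective_lifting_property π₀ π hπ₀
  have hα' : ∀ y, π (α y) = π₀ y := fun y => LinearMap.congr_fun hα y
  have hβ' : ∀ y, π₀ (β y) = π y := fun y => LinearMap.congr_fun hβ y
  obtain ⟨S, hS⟩ := (Module.Finite.fg_top : (⊤ : Submodule Q F).FG)
  let δ : F →ₗ[Q] F := LinearMap.id - α ∘ₗ β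
  have hδ : ∀ y, δ y = y - α (β y) := fun y => rfl
  refine ⟨G₀.image α ∪ S.image δ, ?_, ?_⟩
  · intro y hy
    simp only [Finset.coe_union, Finset.coe_image, Set.mem_union, Set.mem_image] at hy
    rcases hy with ⟨z, hz, rfl⟩ | ⟨z, hz, rfl⟩
    · have h0 := hG₀ hz
      rw [SetLike.mem_coe, LinearMap.mem_ker] at h0 ⊢
      rw [hα', h0]
    · rw [SetLike.mem_coe, LinearMap.mem_ker, hδ, map_sub, hα', hβ', sub_self]
  · intro l hl
    rw [LinearMap.mem_ker] at hl
    have h1 : β l ∈ LinearMap.ker π₀ := by rw [LinearMap.mem_ker, hβ', hl]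
    obtain ⟨k, hk⟩ := H₀ _ h1
    refine ⟨k, ?_⟩
    have h2 : l = δ l + α (β l) := by rw [hδ]; abel
    have h3 : δ l ∈ Submodule.span Q (↑(S.image δ) : Set F) := by
      rw [Finset.coe_image, ← Submodule.map_span, hS]
      exact Submodule.mem_map_of_mem Submodule.mem_top
    have h4 : α (h ^ k • β l) ∈ Submodule.span Q (↑(G₀.image α) : Set F) := by
      rw [Finset.coe_image, ← Submodule.map_span]
      exact Submodule.mem_map_of_mem hk
    rw [h2, smul_add]
    apply add_mem
    · apply Submodule.smul_mem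
      refine Submodule.span_mono ?_ h3
      intro y hy
      rw [Finset.coe_union]; exact Or.inr hy
    · rw [← map_smul]
      refine Submodule.span_mono ?_ h4
      intro y hy
      rw [Finset.coe_union]; exact Or.inl hy

theorem HFP.of_exact {M' M M'' : Type u} [AddCommGroup M'] [Module Q M'] [AddCommGroup M]
    [Module Q M] [AddCommGroup M''] [Module Q M''] {h : Q}
    (ι : M' →ₗ[Q] M) (p : M →ₗ[Q] M'') (hι : Function.Injective ι)
    (hp : Function.Surjective p) (hex : ∀ m, p m = 0 ↔ m ∈ LinearMap.range ι)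
    (H' : HFP Q M' h) (H'' : HFP Q M'' h) : HFP Q M h := by
  classical
  obtain ⟨F', _, _, _, _, π', hπ', G', hG', H1⟩ := H'
  obtain ⟨F'', _, _, _, _, π'', hπ'', G'', hG'', H2⟩ := H''
  obtain ⟨lam, hlam⟩ := Module.projective_lifting_property p π'' hp
  have hlam' : ∀ c, p (lam c) = π'' c := fun c => LinearMap.congr_fun hlam c
  let π : (F' × F'') →ₗ[Q] M := (ι ∘ₗ π').coprod lam
  have hπ : ∀ c : F' × F'', π c = ι (π' c.1) + lam c.2 := fun c => by
    simp [π, LinearMap.coprod_apply]
  have hpι : ∀ y, p (ι y) = 0 := fun y => (hex _).mpr ⟨y, rfl⟩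
  have ht : ∀ g ∈ G'', ∃ t : F', ι (π' t) = lam g := by
    intro g hg
    have h0 : π'' g = 0 := hG'' hg
    have h1 : p (lam g) = 0 := by rw [hlam', h0]
    obtain ⟨y, hy⟩ := (hex _).mp h1
    obtain ⟨t, rfl⟩ := hπ' y
    exact ⟨t, hy⟩
  choose! t ht using ht
  let σ : F'' → F' × F'' := fun g => (- t g, g)
  have hσker : ∀ z ∈ G'', σ z ∈ LinearMap.ker π := by
    intro z hz
    rw [LinearMap.mem_ker, hπ]
    show ι (π' (- t z)) + lam z = 0
    rw [map_neg, map_neg, ht z hz, neg_add_cancel]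
  refine ⟨F' × F'', inferInstance, inferInstance, inferInstance, inferInstance, π, ?_,
    G'.image (LinearMap.inl Q F' F'') ∪ G''.image σ, ?_, ?_⟩
  · intro m
    obtain ⟨c'', hc''⟩ := hπ'' (p m)
    have h1 : p (m - lam c'') = 0 := by rw [map_sub, hlam', hc'', sub_self]
    obtain ⟨y, hy⟩ := (hex _).mp h1
    obtain ⟨c', rfl⟩ := hπ' y
    refine ⟨(c', c''), ?_⟩
    rw [hπ]
    show ι (π' c') + lam c'' = m
    rw [hy]; abel
  · intro y hy
    simp only [Finset.coe_union, Finset.coe_image, Set.mem_union, Set.mem_image] at hy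
    rcases hy with ⟨z, hz, rfl⟩ | ⟨z, hz, rfl⟩
    · rw [SetLike.mem_coe, LinearMap.mem_ker, hπ]
      have h0 := hG' hz
      rw [SetLike.mem_coe, LinearMap.mem_ker] at h0
      simp [h0]
    · exact hσker z hz
  · rintro ⟨a, b⟩ hab
    rw [LinearMap.mem_ker, hπ] at hab
    replace hab : ι (π' a) + lam b = 0 := hab
    have hb : b ∈ LinearMap.ker π'' := by
      rw [LinearMap.mem_ker, ← hlam']
      have h1 := congrArg p hab
      rw [map_add, hpι, zero_add, map_zero] at h1
      exact h1
    obtain ⟨k, hk⟩ := H2 b hb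
    have hlift : ∀ b' ∈ Submodule.span Q (↑G'' : Set F''), ∃ a' : F',
        ((a', b') : F' × F'') ∈ Submodule.span Q (↑(G''.image σ) : Set (F' × F'')) := by
      intro b' hb'
      induction hb' using Submodule.span_induction with
      | mem g hg =>
        refine ⟨- t g, Submodule.subset_span ?_⟩
        rw [Finset.coe_image]
        exact ⟨g, hg, rfl⟩
      | zero => exact ⟨0, Submodule.zero_mem _⟩
      | add x y _ _ hx hy =>
        obtain ⟨ax, hax⟩ := hx
        obtain ⟨ay, hay⟩ := hy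
        exact ⟨ax + ay, by simpa using add_mem hax hay⟩
      | smul c x _ hx =>
        obtain ⟨ax, hax⟩ := hx
        exact ⟨c • ax, by simpa using Submodule.smul_mem _ c hax⟩
    obtain ⟨a', ha'⟩ := hlift _ hk
    have hker : ((a', h ^ k • b) : F' × F'') ∈ LinearMap.ker π := by
      have hle : Submodule.span Q (↑(G''.image σ) : Set (F' × F'')) ≤ LinearMap.ker π := by
        rw [Submodule.span_le]
        intro y hy
        rw [Finset.coe_image] at hy
        obtain ⟨z, hz, rfl⟩ := hy
        exact hσker z hz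
      exact hle ha'
    rw [LinearMap.mem_ker, hπ] at hker
    replace hker : ι (π' a') + lam (h ^ k • b) = 0 := hker
    have h5 : h ^ k • a - a' ∈ LinearMap.ker π' := by
      rw [LinearMap.mem_ker]
      apply hι
      rw [map_zero, map_sub, map_sub, map_smul, map_smul]
      have h6 := congrArg (fun x => h ^ k • x) hab
      simp only [smul_add, smul_zero] at h6
      rw [← map_smul lam] at h6
      have h7 : h ^ k • ι (π' a) - ι (π' a') =
          (h ^ k • ι (π' a) + lam (h ^ k • b)) - (ι (π' a') + lam (h ^ k • b)) := by abel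
      rw [h7, h6, hker, sub_zero]
    obtain ⟨j, hj⟩ := H1 _ h5
    refine ⟨j + k, ?_⟩
    have h7 : h ^ (j + k) • ((a, b) : F' × F'') =
        LinearMap.inl Q F' F'' (h ^ j • (h ^ k • a - a')) + h ^ j • ((a', h ^ k • b) : F' × F'') := by
      rw [pow_add, mul_smul]
      ext
      · simp [smul_sub]
      · simp
    rw [h7]
    apply add_mem
    · have h8 : LinearMap.inl Q F' F'' (h ^ j • (h ^ k • a - a')) ∈
          Submodule.span Q (↑(G'.image (LinearMap.inl Q F' F'')) : Set (F' × F'')) := by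
        rw [Finset.coe_image, ← Submodule.map_span]
        exact Submodule.mem_map_of_mem hj
      refine Submodule.span_mono ?_ h8
      intro y hy
      rw [Finset.coe_union]; exact Or.inl hy
    · apply Submodule.smul_mem
      refine Submodule.span_mono ?_ ha'
      intro y hy
      rw [Finset.coe_union]; exact Or.inr hy

end HFP

end Groth.Agent.H80.GenFreeRed
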