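import Groth.Agent.H80.GenFreeRed

/-!
# Generic freeness over a reduced base, part 2 (H80)

Pseudo-division by an almost monic polynomial, the step from `A` to a quotient of `A[X]`, and
the change of variables making a polynomial almost monic.
-/

set_option autoImplicit false

universe u

open Polynomial

namespace Groth.Agent.H80.GenFreeRed

section PseudoDiv

variable {A : Type u} [CommRing A]

theorem poly_eq_sum_fin (p : A[X]) (d : ℕ) (h : ∀ i, d ≤ i → p.coeff i = 0) :
    p = ∑ i : Fin d, C (p.coeff i) * X ^ (i : ℕ) := by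
  ext j
  rw [Polynomial.finset_sum_coeff]
  simp only [Polynomial.coeff_C_mul, Polynomial.coeff_X_pow]
  by_cases hj : j < d
  · rw [Finset.sum_eq_single (⟨j, hj⟩ : Fin d)]
    · simp
    · intro b _ hb
      have hne : j ≠ (b : ℕ) := fun e => hb (Fin.ext e.symm)
      simp [hne]
    · intro h'; exact absurd (Finset.mem_univ _) h'
  · rw [h j (not_lt.mp hj)]
    symm
    apply Finset.sum_eq_zero
    intro b _
    have hne : j ≠ (b : ℕ) := fun e => hj (e ▸ b.2)
    simp [hne]

theorem pseudo_div (q : A[X]) (d : ℕ) (γ : A) (hqd : ∀ k, d < k → q.coeff k = 0)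
    (hqc : q.coeff d = γ) (N : ℕ) : ∀ p : A[X], (∀ i, N ≤ i → p.coeff i = 0) →
    ∃ (k : ℕ) (s r : A[X]), (∀ i, d ≤ i → r.coeff i = 0) ∧ C γ ^ k * p = s * q + r := by
  induction N with
  | zero =>
    intro p hp
    exact ⟨0, 0, p, fun i _ => hp i (Nat.zero_le _), by simp⟩
  | succ N ih =>
    intro p hp
    by_cases hN : N < d
    · exact ⟨0, 0, p, fun i hi => hp i (by omega), by simp⟩
    · have hN' : d ≤ N := not_lt.mp hN
      have hp₁ : ∀ i, N ≤ i → (C γ * p - C (p.coeff N) * X ^ (N - d) * q).coeff i = 0 := by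
        intro i hi
        simp only [Polynomial.coeff_sub, Polynomial.coeff_C_mul, mul_assoc,
          Polynomial.coeff_X_pow_mul']
        rw [if_pos (by omega)]
        rcases Nat.eq_or_lt_of_le hi with rfl | hlt
        · have e : N - (N - d) = d := by omega
          rw [e, hqc]; ring
        · rw [hp i (by omega), hqd (i - (N - d)) (by omega)]; ring
      obtain ⟨k, s, r, hr, hk⟩ := ih _ hp₁
      refine ⟨k + 1, s + C γ ^ k * (C (p.coeff N) * X ^ (N - d)), r, hr, ?_⟩
      have e : C γ ^ (k + 1) * p = C γ ^ k * (C γ * p - C (p.coeff N) * X ^ (N - d) * q) +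
          C γ ^ k * (C (p.coeff N) * X ^ (N - d)) * q := by ring
      rw [e, hk]; ring

theorem pseudo_div' (q : A[X]) (d : ℕ) (γ : A) (hqd : ∀ k, d < k → q.coeff k = 0)
    (hqc : q.coeff d = γ) (p : A[X]) :
    ∃ (k : ℕ) (s : A[X]) (c : Fin d → A),
      C γ ^ k * p = s * q + ∑ i : Fin d, C (c i) * X ^ (i : ℕ) := by
  obtain ⟨k, s, r, hr, hk⟩ := pseudo_div q d γ hqd hqc (p.natDegree + 1) p
    (fun i hi => Polynomial.coeff_eq_zero_of_natDegree_lt (by omega))
  exact ⟨k, s, fun i => r.coeff i, by rw [hk, ← poly_eq_sum_fin r d hr]⟩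

end PseudoDiv

section Step

variable {R A T : Type u} [CommRing R] [CommRing A] [CommRing T] [Algebra R A] [Algebra R T]
  [Algebra A T] [IsScalarTower R A T]
  {M : Type u} [AddCommGroup M] [Module T M] [Module A M] [IsScalarTower A T M] [Module R M]
  [IsScalarTower R A M] [IsScalarTower R T M]

/-- The `A`-span of the first `d` powers of `x` applied to `m₁`. -/
def M0 (A : Type u) [CommRing A] {T M : Type u} [CommRing T] [Algebra A T] [AddCommGroup M]
    [Module T M] [Module A M] (x : T) (m₁ : M) (d : ℕ) : Submodule A M :=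
  Submodule.span A (Set.range fun i : Fin d => x ^ (i : ℕ) • m₁)

theorem step_key (x : T) (hx : ∀ t : T, ∃ p : A[X], aeval x p = t) (q : A[X]) (d : ℕ) (g' : R)
    (hqd : ∀ k, d < k → q.coeff k = 0) (hqc : q.coeff d = algebraMap R A g') (t : T) :
    ∃ (k : ℕ) (s' : T) (c : Fin d → A),
      algebraMap R T g' ^ k * t = s' * aeval x q + ∑ i : Fin d, c i • x ^ (i : ℕ) := by
  obtain ⟨p, rfl⟩ := hx t
  obtain ⟨k, s, c, hk⟩ := pseudo_div' q d _ hqd hqc p
  refine ⟨k, aeval x s, c, ?_⟩
  have h1 := congrArg (aeval x) hk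
  simp only [map_mul, map_add, map_pow, map_sum, aeval_C, aeval_X] at h1
  rw [← IsScalarTower.algebraMap_apply R A T] at h1
  rw [h1]
  congr 1
  apply Finset.sum_congr rfl
  intro i _
  rw [Algebra.smul_def]

theorem step_GF (x : T) (hx : ∀ t : T, ∃ p : A[X], aeval x p = t) (m₁ : M)
    (hm₁ : ∀ m : M, ∃ t : T, t • m₁ = m) (q : A[X]) (d : ℕ) (g' : R)
    (hq0 : aeval x q • m₁ = 0)
    (hqd : ∀ k, d < k → q.coeff k = 0) (hqc : q.coeff d = algebraMap R A g') {f : R}
    (hd : g' ∣ f) (h : GF R (M0 A x m₁ d) f) : GF R M f := by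
  refine GF.of_injective ((M0 A x m₁ d).subtype.restrictScalars R) Subtype.val_injective ?_ h
  intro m
  obtain ⟨t, rfl⟩ := hm₁ m
  obtain ⟨k, s', c, hk⟩ := step_key x hx q d g' hqd hqc t
  refine ⟨k, ?_⟩
  have h1 : g' ^ k • (t • m₁) ∈ M0 A x m₁ d := by
    have e : g' ^ k • (t • m₁) = (algebraMap R T g' ^ k * t) • m₁ := by
      rw [mul_smul, ← map_pow, algebraMap_smul]
    rw [e, hk, add_smul, mul_smul, hq0, smul_zero, zero_add, Finset.sum_smul]
    apply Submodule.sum_mem
    intro i _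
    rw [smul_assoc]
    exact Submodule.smul_mem _ _ (Submodule.subset_span ⟨i, rfl⟩)
  obtain ⟨u, rfl⟩ := hd
  have h2 : (g' * u) ^ k • (t • m₁) ∈ M0 A x m₁ d := by
    rw [mul_pow, mul_comm, mul_smul]
    exact Submodule.smul_of_tower_mem _ _ h1
  exact ⟨⟨_, h2⟩, rfl⟩

theorem step_HFP (x : T) (hx : ∀ t : T, ∃ p : A[X], aeval x p = t) (m₁ : M)
    (hm₁ : ∀ m : M, ∃ t : T, t • m₁ = m) (q : A[X]) (d : ℕ) (g' : R)
    (hq0 : aeval x q • m₁ = 0)
    (hqd : ∀ k, d < k → q.coeff k = 0) (hqc : q.coeff d = algebraMap R A g') {f : R}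
    (hd : g' ∣ f) (H : HFP A (M0 A x m₁ d) (algebraMap R A f)) :
    HFP T M (algebraMap R T f) := by
  classical
  let v : Fin d → M0 A x m₁ d := fun i => ⟨x ^ (i : ℕ) • m₁, Submodule.subset_span ⟨i, rfl⟩⟩
  let πd : (Fin d → A) →ₗ[A] M0 A x m₁ d := Fintype.linearCombination A v
  have hπd : ∀ c, ((πd c : M0 A x m₁ d) : M) = ∑ i, c i • (x ^ (i : ℕ) • m₁) := by
    intro c
    simp only [πd, Fintype.linearCombination_apply, v]
    rw [Submodule.coe_sum]
    rfl
  have hsurj : Function.Surjective πd := by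
    rintro ⟨m, hm⟩
    obtain ⟨c, hc⟩ := (Submodule.mem_span_range_iff_exists_fun A).mp hm
    exact ⟨c, Subtype.ext (by rw [hπd]; exact hc)⟩
  obtain ⟨G₀, hG₀, H₀⟩ := H.hfg_ker πd hsurj
  let E : (Fin d → A) →ₗ[A] T := Fintype.linearCombination A (fun i : Fin d => x ^ (i : ℕ))
  have hE : ∀ c, E c = ∑ i, c i • x ^ (i : ℕ) := fun c => Fintype.linearCombination_apply _ _ _
  let π₀ : T →ₗ[T] M := LinearMap.toSpanSingleton T M m₁
  have hπ₀ : ∀ t, π₀ t = t • m₁ := fun t => rfl
  have hπE : ∀ c, π₀ (E c) = ((πd c : M0 A x m₁ d) : M) := by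
    intro c
    rw [hπ₀, hE, hπd, Finset.sum_smul]
    exact Finset.sum_congr rfl (fun i _ => smul_assoc _ _ _)
  refine ⟨T, inferInstance, inferInstance, inferInstance, inferInstance, π₀, ?_,
    insert (aeval x q) (G₀.image E), ?_, ?_⟩
  · intro m
    obtain ⟨t, ht⟩ := hm₁ m
    exact ⟨t, ht⟩
  · intro y hy
    rw [Finset.coe_insert, Finset.coe_image] at hy
    rcases hy with rfl | ⟨c, hc, rfl⟩
    · rw [SetLike.mem_coe, LinearMap.mem_ker, hπ₀]; exact hq0
    · rw [SetLike.mem_coe, LinearMap.mem_ker, hπE]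
      have h0 := hG₀ hc
      rw [SetLike.mem_coe, LinearMap.mem_ker] at h0
      rw [h0]; rfl
  · intro l hl
    rw [LinearMap.mem_ker, hπ₀] at hl
    obtain ⟨k, s', c, hk⟩ := step_key x hx q d g' hqd hqc l
    rw [← hE] at hk
    have hc : c ∈ LinearMap.ker πd := by
      rw [LinearMap.mem_ker]
      apply Subtype.ext
      rw [← hπE, hπ₀]
      have h1 := congrArg (fun t => t • m₁) hk
      simp only [mul_smul, add_smul] at h1
      rw [hl, smul_zero, hq0, smul_zero, zero_add] at h1
      rw [← h1]; rfl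
    obtain ⟨j, hj⟩ := H₀ c hc
    have h2 : E (algebraMap R A f ^ j • c) ∈ Submodule.span T (↑(G₀.image E) : Set T) := by
      have h3 : E (algebraMap R A f ^ j • c) ∈ Submodule.span A (E '' (↑G₀ : Set _)) := by
        rw [← Submodule.map_span]; exact Submodule.mem_map_of_mem hj
      rw [Finset.coe_image]
      exact Submodule.span_le_restrictScalars A T _ h3
    have hEj : E (algebraMap R A f ^ j • c) = algebraMap R T f ^ j * E c := by
      rw [map_smul, Algebra.smul_def, map_pow, ← IsScalarTower.algebraMap_apply R A T]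
    rw [hEj] at h2
    obtain ⟨u, rfl⟩ := hd
    refine ⟨j + k, ?_⟩
    have h3 : algebraMap R T (g' * u) ^ (j + k) • l =
        (algebraMap R T (g' * u) ^ j * algebraMap R T u ^ k * s') • aeval x q +
          (algebraMap R T u ^ k) • (algebraMap R T (g' * u) ^ j * E c) := by
      have e : algebraMap R T (g' * u) ^ (j + k) • l =
          algebraMap R T (g' * u) ^ j * algebraMap R T u ^ k * (algebraMap R T g' ^ k * l) := by
        rw [smul_eq_mul, map_mul]; ring
      rw [e, hk, smul_eq_mul, smul_eq_mul]; ring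
    rw [h3]
    apply add_mem
    · apply Submodule.smul_mem
      apply Submodule.subset_span
      rw [Finset.coe_insert]
      exact Or.inl rfl
    · apply Submodule.smul_mem
      refine Submodule.span_mono ?_ h2
      intro y hy
      rw [Finset.coe_insert]; exact Or.inr hy

end Step

end Groth.Agent.H80.GenFreeRed
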