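import Mathlib

/-!
# Generic freeness over a reduced base, part 3 (H80)

The change of variables `X_i ↦ X_i + X_0 ^ (D ^ i)` making a nonzero polynomial almost monic
in `X_0`, over an arbitrary commutative ring.
-/

set_option autoImplicit false

universe u

open Polynomial

namespace Groth.Agent.H80.GenFreeRed

section CoV

variable {R : Type u} [CommRing R] (n : ℕ) (D : ℕ)

/-- The inclusion of the polynomial ring in the last `n` shifted variables. -/
noncomputable def psi0 : MvPolynomial (Fin n) R →ₐ[R] MvPolynomial (Fin (n + 1)) R :=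
  MvPolynomial.aeval
    (fun i : Fin n => MvPolynomial.X i.succ - MvPolynomial.X 0 ^ (D ^ (i.val + 1)))

/-- The images of the variables. -/
noncomputable def yv : Fin (n + 1) → (MvPolynomial (Fin n) R)[X] :=
  Fin.cons Polynomial.X
    (fun i : Fin n => Polynomial.X ^ (D ^ (i.val + 1)) + Polynomial.C (MvPolynomial.X i))

/-- The change of variables, with values in one-variable polynomials. -/
noncomputable def theta : MvPolynomial (Fin (n + 1)) R →ₐ[R] (MvPolynomial (Fin n) R)[X] :=
  MvPolynomial.aeval (yv n D)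

/-- The retraction. -/
noncomputable def rho : (MvPolynomial (Fin n) R)[X] →ₐ[R] MvPolynomial (Fin (n + 1)) R :=
  Polynomial.eval₂AlgHom (psi0 n D) (MvPolynomial.X 0) (fun _ => Commute.all _ _)

theorem rho_apply (q : (MvPolynomial (Fin n) R)[X]) :
    rho n D q = Polynomial.eval₂
      ((psi0 n D : MvPolynomial (Fin n) R →ₐ[R] MvPolynomial (Fin (n + 1)) R) :
        MvPolynomial (Fin n) R →+* MvPolynomial (Fin (n + 1)) R) (MvPolynomial.X 0) q :=
  rfl

theorem rho_theta (t : MvPolynomial (Fin (n + 1)) R) : rho n D (theta n D t) = t := by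
  have h : (rho n D).comp (theta n D) = AlgHom.id R _ := by
    apply MvPolynomial.algHom_ext
    intro i
    refine Fin.cases ?_ (fun i => ?_) i
    · simp [rho_apply, theta, yv]
    · simp [rho_apply, theta, yv, psi0]
  exact AlgHom.congr_fun h t

theorem yv_monic [Nontrivial R] (hD : 0 < D) (i : Fin (n + 1)) : (yv n D i : (MvPolynomial (Fin n) R)[X]).Monic := by
  refine Fin.cases ?_ (fun i => ?_) i
  · simp only [yv, Fin.cons_zero]; exact Polynomial.monic_X
  · simp only [yv, Fin.cons_succ]
    exact Polynomial.monic_X_pow_add_C _ (pow_pos hD _).ne'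

theorem yv_natDegree [Nontrivial R] (hD : 0 < D) (i : Fin (n + 1)) :
    (yv n D i : (MvPolynomial (Fin n) R)[X]).natDegree = D ^ i.val := by
  refine Fin.cases ?_ (fun i => ?_) i
  · simp only [yv, Fin.cons_zero]; simp
  · simp only [yv, Fin.cons_succ]
    rw [Polynomial.natDegree_X_pow_add_C]
    simp

/-- The image of a monic monomial. -/
noncomputable def mu (K : Fin (n + 1) →₀ ℕ) : (MvPolynomial (Fin n) R)[X] :=
  ∏ i, yv n D i ^ K i

theorem mu_monic [Nontrivial R] (hD : 0 < D) (K : Fin (n + 1) →₀ ℕ) :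
    (mu n D K : (MvPolynomial (Fin n) R)[X]).Monic :=
  Polynomial.monic_prod_of_monic _ _ (fun i _ => (yv_monic n D hD i).pow _)

theorem mu_natDegree [Nontrivial R] (hD : 0 < D) (K : Fin (n + 1) →₀ ℕ) :
    (mu n D K : (MvPolynomial (Fin n) R)[X]).natDegree = ∑ i, K i * D ^ i.val := by
  unfold mu
  rw [Polynomial.natDegree_prod_of_monic _ _ (fun i _ => (yv_monic n D hD i).pow _)]
  apply Finset.sum_congr rfl
  intro i _
  rw [(yv_monic n D hD i).natDegree_pow, yv_natDegree n D hD]

theorem theta_monomial (K : Fin (n + 1) →₀ ℕ) (a : R) :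
    theta n D (MvPolynomial.monomial K a) = Polynomial.C (MvPolynomial.C a) * mu n D K := by
  unfold theta mu
  rw [MvPolynomial.aeval_monomial, Finsupp.prod_fintype _ _ (fun i => pow_zero _)]
  rfl

theorem sum_mul_pow_ne {D : ℕ} (hD : 1 < D) (v w : Fin (n + 1) →₀ ℕ) (vlt : ∀ i, v i < D)
    (wlt : ∀ i, w i < D) (ne : v ≠ w) :
    ∑ i : Fin (n + 1), v i * D ^ i.val ≠ ∑ i : Fin (n + 1), w i * D ^ i.val := by
  intro h
  refine ne <| Finsupp.ext <| congrFun <| List.ofFn_inj.mp ?_
  apply Nat.ofDigits_inj_of_len_eq hD (by simp)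
    (by intro l hl; rw [List.mem_ofFn] at hl; obtain ⟨i, rfl⟩ := hl; exact vlt i)
    (by intro l hl; rw [List.mem_ofFn] at hl; obtain ⟨i, rfl⟩ := hl; exact wlt i)
  simpa only [Nat.ofDigits_eq_sum_mapIdx, List.mapIdx_eq_ofFn, List.get_ofFn, List.length_ofFn,
    Fin.val_cast, mul_comm, List.sum_ofFn] using! h

theorem exists_leading (p : MvPolynomial (Fin (n + 1)) R) (hp : p ≠ 0) :
    ∃ (D d : ℕ) (K : Fin (n + 1) →₀ ℕ), K ∈ p.support ∧
      (∀ m, d < m → (theta n D p).coeff m = 0) ∧
      (theta n D p).coeff d = MvPolynomial.C (p.coeff K) := by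
  classical
  haveI : Nontrivial R := by
    by_contra h
    rw [not_nontrivial_iff_subsingleton] at h
    exact hp (by ext m; exact Subsingleton.elim _ _)
  obtain ⟨D', hD'⟩ : ∃ D' : ℕ, D' = p.totalDegree + 2 := ⟨_, rfl⟩
  have hD1 : 1 < D' := by omega
  have hD0 : 0 < D' := by omega
  obtain ⟨K, hK, hmax⟩ := Finset.exists_max_image p.support
    (fun K : Fin (n + 1) →₀ ℕ => ∑ i, K i * D' ^ i.val)
    (MvPolynomial.support_nonempty.mpr hp)
  have hθ : theta n D' p = ∑ L ∈ p.support,
      Polynomial.C (MvPolynomial.C (p.coeff L)) * mu n D' L := by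
    have e : theta n D' p = theta n D' (∑ L ∈ p.support, MvPolynomial.monomial L (p.coeff L)) := by
      rw [MvPolynomial.support_sum_monomial_coeff]
    rw [e, map_sum]
    exact Finset.sum_congr rfl (fun L _ => theta_monomial n _ L _)
  have hcoeff : ∀ m, (theta n D' p).coeff m = ∑ L ∈ p.support,
      MvPolynomial.C (p.coeff L) * (mu n D' L).coeff m := by
    intro m
    rw [hθ, Polynomial.finset_sum_coeff]
    simp only [Polynomial.coeff_C_mul]
  have hlt : ∀ L ∈ p.support, ∀ i, L i < D' := by
    intro L hL i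
    exact lt_of_le_of_lt ((MvPolynomial.monomial_le_degreeOf i hL).trans
      (MvPolynomial.degreeOf_le_totalDegree p i)) (by omega)
  refine ⟨D', ∑ i, K i * D' ^ i.val, K, hK, ?_, ?_⟩
  · intro m hm
    rw [hcoeff]
    apply Finset.sum_eq_zero
    intro L hL
    rw [Polynomial.coeff_eq_zero_of_natDegree_lt, mul_zero]
    rw [mu_natDegree n _ hD0]
    exact lt_of_le_of_lt (hmax L hL) hm
  · rw [hcoeff, Finset.sum_eq_single K]
    · have e := (mu_monic (R := R) n _ hD0 K).coeff_natDegree
      rw [mu_natDegree n _ hD0] at e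
      rw [e, mul_one]
    · intro L hL hLK
      have hne := sum_mul_pow_ne n hD1 L K (hlt L hL) (hlt K hK) hLK
      have hlt' := lt_of_le_of_ne (hmax L hL) hne
      rw [Polynomial.coeff_eq_zero_of_natDegree_lt, mul_zero]
      rw [mu_natDegree n _ hD0]
      exact hlt'
    · intro h; exact absurd hK h

end CoV

end Groth.Agent.H80.GenFreeRed
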