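import Groth.Agent.H80.GenFreeRed2
import Groth.Agent.H80.GenFreeRed3

/-!
# Generic freeness over a reduced base, part 4 (H80)

The induction on the number of variables.
-/

set_option autoImplicit false

universe u

open Polynomial

namespace Groth.Agent.H80.GenFreeRed

section Claim

variable (R : Type u) [CommRing R]

/-- Generic freeness and generic finite presentation for finite modules over the polynomial
ring in `n` variables. -/
def Claim (n : ℕ) : Prop :=
  ∀ (M : Type u) [AddCommGroup M] [Module (MvPolynomial (Fin n) R) M] [Module R M]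
    [IsScalarTower R (MvPolynomial (Fin n) R) M] [Module.Finite (MvPolynomial (Fin n) R) M]
    (g : R), g ≠ 0 → ∃ h : R, g * h ≠ 0 ∧ GF R M (g * h) ∧
      HFP (MvPolynomial (Fin n) R) M (algebraMap R (MvPolynomial (Fin n) R) (g * h))

/-- The same for cyclic modules. -/
def CycClaim (n : ℕ) : Prop :=
  ∀ (M : Type u) [AddCommGroup M] [Module (MvPolynomial (Fin n) R) M] [Module R M]
    [IsScalarTower R (MvPolynomial (Fin n) R) M] (m₁ : M),
    (∀ m : M, ∃ t : MvPolynomial (Fin n) R, t • m₁ = m) →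
    ∀ g : R, g ≠ 0 → ∃ h : R, g * h ≠ 0 ∧ GF R M (g * h) ∧
      HFP (MvPolynomial (Fin n) R) M (algebraMap R (MvPolynomial (Fin n) R) (g * h))

theorem claim_of_cyclic (n : ℕ) (hc : CycClaim R n) : Claim R n := by
  have key : ∀ k : ℕ, ∀ (M : Type u) [AddCommGroup M] [Module (MvPolynomial (Fin n) R) M]
      [Module R M] [IsScalarTower R (MvPolynomial (Fin n) R) M] (s : Fin k → M),
      Submodule.span (MvPolynomial (Fin n) R) (Set.range s) = ⊤ → ∀ g : R, g ≠ 0 →
      ∃ h : R, g * h ≠ 0 ∧ GF R M (g * h) ∧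
        HFP (MvPolynomial (Fin n) R) M (algebraMap R (MvPolynomial (Fin n) R) (g * h)) := by
    intro k
    induction k with
    | zero =>
      intro M _ _ _ _ s hs g hg
      refine hc M 0 ?_ g hg
      intro m
      have hm : m ∈ (⊤ : Submodule (MvPolynomial (Fin n) R) M) := trivial
      rw [← hs, Set.range_eq_empty s, Submodule.span_empty] at hm
      exact ⟨0, by rw [zero_smul]; exact ((Submodule.mem_bot _).mp hm).symm⟩
    | succ k ih =>
      intro M _ _ _ _ s hs g hg
      let M' : Submodule (MvPolynomial (Fin n) R) M := Submodule.span _ {s 0}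
      have hs'' : Submodule.span (MvPolynomial (Fin n) R)
          (Set.range (fun i : Fin k => M'.mkQ (s i.succ))) = ⊤ := by
        rw [eq_top_iff, ← Submodule.range_mkQ M', ← Submodule.map_top, ← hs, Submodule.map_span,
          Submodule.span_le]
        rintro _ ⟨_, ⟨i, rfl⟩, rfl⟩
        refine Fin.cases ?_ (fun j => ?_) i
        · have h0 : M'.mkQ (s 0) = 0 := by
            rw [Submodule.mkQ_apply, Submodule.Quotient.mk_eq_zero]
            exact Submodule.mem_span_singleton_self _
          rw [h0]; exact Submodule.zero_mem _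
        · exact Submodule.subset_span ⟨j, rfl⟩
      obtain ⟨h₁, hgh₁, hGF'', hHFP''⟩ := ih (M ⧸ M') (fun i => M'.mkQ (s i.succ)) hs'' g hg
      have hcyc : ∀ m : M', ∃ t : MvPolynomial (Fin n) R,
          t • (⟨s 0, Submodule.mem_span_singleton_self _⟩ : M') = m := by
        intro m
        obtain ⟨a, ha⟩ := Submodule.mem_span_singleton.mp m.2
        exact ⟨a, Subtype.ext ha⟩
      obtain ⟨h₂, hgh₂, hGF', hHFP'⟩ := hc M' ⟨s 0, Submodule.mem_span_singleton_self _⟩ hcyc
        (g * h₁) hgh₁
      have hex : ∀ m : M, M'.mkQ m = 0 ↔ m ∈ LinearMap.range M'.subtype := by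
        intro m
        rw [Submodule.mkQ_apply, Submodule.Quotient.mk_eq_zero, Submodule.range_subtype]
      refine ⟨h₁ * h₂, by rwa [← mul_assoc], ?_, ?_⟩
      · rw [← mul_assoc]
        refine GF.of_exact (M'.subtype.restrictScalars R) (M'.mkQ.restrictScalars R)
          Subtype.val_injective (Submodule.mkQ_surjective M') ?_ hGF' (hGF''.of_dvd ⟨h₂, rfl⟩)
        intro m
        constructor
        · intro h0
          exact ⟨⟨m, (Submodule.Quotient.mk_eq_zero _).mp h0⟩, rfl⟩
        · rintro ⟨y, rfl⟩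
          exact (Submodule.Quotient.mk_eq_zero _).mpr y.2
      · rw [← mul_assoc]
        exact HFP.of_exact M'.subtype M'.mkQ Subtype.val_injective (Submodule.mkQ_surjective M')
          hex hHFP' (hHFP''.of_dvd ⟨algebraMap R _ h₂, by rw [← map_mul]⟩)
  intro M _ _ _ _ _ g hg
  obtain ⟨k, s, hs⟩ := Module.Finite.exists_fin (R := MvPolynomial (Fin n) R) (M := M)
  exact key k M s hs g hg

theorem cyclic_caseB {n : ℕ} (M : Type u) [AddCommGroup M] [Module (MvPolynomial (Fin n) R) M]
    [Module R M] [IsScalarTower R (MvPolynomial (Fin n) R) M] (m₁ : M)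
    (hm₁ : ∀ m : M, ∃ t : MvPolynomial (Fin n) R, t • m₁ = m) (g : R)
    (hb : ∀ p : MvPolynomial (Fin n) R, p • m₁ = 0 →
      algebraMap R (MvPolynomial (Fin n) R) g * p = 0) :
    GF R M g ∧ HFP (MvPolynomial (Fin n) R) M (algebraMap R (MvPolynomial (Fin n) R) g) := by
  constructor
  · refine ⟨MvPolynomial (Fin n) R, inferInstance, inferInstance, inferInstance,
      (LinearMap.toSpanSingleton (MvPolynomial (Fin n) R) M m₁).restrictScalars R, ?_, ?_⟩
    · intro c hc
      refine ⟨1, ?_⟩
      rw [pow_one, Algebra.smul_def]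
      exact hb c hc
    · intro m
      obtain ⟨t, ht⟩ := hm₁ m
      exact ⟨0, t, by rw [pow_zero, one_smul]; exact ht⟩
  · refine ⟨MvPolynomial (Fin n) R, inferInstance, inferInstance, inferInstance, inferInstance,
      LinearMap.toSpanSingleton _ M m₁, ?_, ∅, ?_, ?_⟩
    · intro m
      obtain ⟨t, ht⟩ := hm₁ m
      exact ⟨t, ht⟩
    · simp
    · intro l hl
      refine ⟨1, ?_⟩
      rw [pow_one, smul_eq_mul, hb l hl]
      exact Submodule.zero_mem _

theorem cycClaim_zero : CycClaim R 0 := by
  intro M _ _ _ _ m₁ hm₁ g hg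
  by_cases hb : ∀ p : MvPolynomial (Fin 0) R, p • m₁ = 0 →
      algebraMap R (MvPolynomial (Fin 0) R) g * p = 0
  · obtain ⟨h1, h2⟩ := cyclic_caseB R M m₁ hm₁ g hb
    exact ⟨1, by rwa [mul_one], by rwa [mul_one], by rwa [mul_one]⟩
  · push Not at hb
    obtain ⟨p, hp0, hpg⟩ := hb
    have hpa : algebraMap R (MvPolynomial (Fin 0) R) (p.coeff 0) = p := by
      rw [MvPolynomial.algebraMap_eq]
      exact (MvPolynomial.eq_C_of_isEmpty p).symm
    have hgc : g * p.coeff 0 ≠ 0 := by
      intro h0
      apply hpg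
      rw [← hpa, ← map_mul, h0, map_zero]
    have hkill : ∀ t : MvPolynomial (Fin 0) R,
        (algebraMap R (MvPolynomial (Fin 0) R) (g * p.coeff 0) * t) • m₁ = 0 := by
      intro t
      have e : algebraMap R (MvPolynomial (Fin 0) R) (g * p.coeff 0) * t =
          (algebraMap R (MvPolynomial (Fin 0) R) g * t) * p := by
        rw [map_mul, hpa]; ring
      rw [e, mul_smul, hp0, smul_zero]
    refine ⟨p.coeff 0, hgc, ?_, ?_⟩
    · apply GF.of_torsion
      intro m
      obtain ⟨t, rfl⟩ := hm₁ m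
      refine ⟨1, ?_⟩
      rw [pow_one, ← algebraMap_smul (MvPolynomial (Fin 0) R) (g * p.coeff 0) (t • m₁),
        ← mul_smul]
      exact hkill t
    · refine ⟨MvPolynomial (Fin 0) R, inferInstance, inferInstance, inferInstance, inferInstance,
        LinearMap.toSpanSingleton _ M m₁, ?_, {p}, ?_, ?_⟩
      · intro m
        obtain ⟨t, ht⟩ := hm₁ m
        exact ⟨t, ht⟩
      · intro y hy
        rw [Finset.coe_singleton, Set.mem_singleton_iff] at hy
        rw [hy, SetLike.mem_coe, LinearMap.mem_ker]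
        exact hp0
      · intro l _
        refine ⟨1, ?_⟩
        rw [Finset.coe_singleton, pow_one, smul_eq_mul]
        refine Submodule.mem_span_singleton.mpr
          ⟨algebraMap R (MvPolynomial (Fin 0) R) g * l, ?_⟩
        rw [smul_eq_mul, map_mul, hpa]; ring

theorem cycClaim_succ (n : ℕ) (ih : Claim R n) : CycClaim R (n + 1) := by
  intro M _ _ _ _ m₁ hm₁ g hg
  by_cases hb : ∀ p : MvPolynomial (Fin (n + 1)) R, p • m₁ = 0 →
      algebraMap R (MvPolynomial (Fin (n + 1)) R) g * p = 0
  · obtain ⟨h1, h2⟩ := cyclic_caseB R M m₁ hm₁ g hb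
    exact ⟨1, by rwa [mul_one], by rwa [mul_one], by rwa [mul_one]⟩
  · push Not at hb
    obtain ⟨p, hp0, hpg⟩ := hb
    obtain ⟨D, d, K, hK, hqd, hqc⟩ := exists_leading n
      (algebraMap R (MvPolynomial (Fin (n + 1)) R) g * p) hpg
    have hcoef : (algebraMap R (MvPolynomial (Fin (n + 1)) R) g * p).coeff K = g * p.coeff K := by
      rw [MvPolynomial.algebraMap_eq, MvPolynomial.coeff_C_mul]
    have hg' : g * p.coeff K ≠ 0 := by
      rw [← hcoef]; exact MvPolynomial.mem_support_iff.mp hK
    letI algAT : Algebra (MvPolynomial (Fin n) R) (MvPolynomial (Fin (n + 1)) R) :=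
      (psi0 (R := R) n D).toRingHom.toAlgebra
    haveI : IsScalarTower R (MvPolynomial (Fin n) R) (MvPolynomial (Fin (n + 1)) R) :=
      IsScalarTower.of_algebraMap_eq (fun r => ((psi0 (R := R) n D).commutes r).symm)
    letI modAM : Module (MvPolynomial (Fin n) R) M :=
      Module.compHom M (psi0 (R := R) n D).toRingHom
    haveI : IsScalarTower (MvPolynomial (Fin n) R) (MvPolynomial (Fin (n + 1)) R) M :=
      ⟨fun a t m => by
        show (psi0 (R := R) n D a * t) • m = psi0 (R := R) n D a • (t • m)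
        exact mul_smul _ _ _⟩
    haveI : IsScalarTower R (MvPolynomial (Fin n) R) M :=
      ⟨fun r a m => by
        show psi0 (R := R) n D (r • a) • m = r • (psi0 (R := R) n D a • m)
        rw [map_smul, smul_assoc]⟩
    have hx : ∀ t : MvPolynomial (Fin (n + 1)) R, ∃ q : (MvPolynomial (Fin n) R)[X],
        aeval (MvPolynomial.X 0 : MvPolynomial (Fin (n + 1)) R) q = t :=
      fun t => ⟨theta n D t, rho_theta n D t⟩
    have hq0 : aeval (MvPolynomial.X 0 : MvPolynomial (Fin (n + 1)) R)
        (theta n D (algebraMap R (MvPolynomial (Fin (n + 1)) R) g * p)) • m₁ = 0 := by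
      have e : aeval (MvPolynomial.X 0 : MvPolynomial (Fin (n + 1)) R)
          (theta n D (algebraMap R (MvPolynomial (Fin (n + 1)) R) g * p)) =
          algebraMap R (MvPolynomial (Fin (n + 1)) R) g * p := rho_theta n D _
      rw [e, mul_smul, hp0, smul_zero]
    have hqc' : (theta n D (algebraMap R (MvPolynomial (Fin (n + 1)) R) g * p)).coeff d =
        algebraMap R (MvPolynomial (Fin n) R) (g * p.coeff K) := by
      rw [hqc, hcoef, MvPolynomial.algebraMap_eq]
    haveI : Module.Finite (MvPolynomial (Fin n) R)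
        (M0 (MvPolynomial (Fin n) R) (MvPolynomial.X 0 : MvPolynomial (Fin (n + 1)) R) m₁ d) :=
      Module.Finite.span_of_finite _ (Set.finite_range _)
    obtain ⟨h, hgh, hGF, hHFP⟩ := ih
      (M0 (MvPolynomial (Fin n) R) (MvPolynomial.X 0 : MvPolynomial (Fin (n + 1)) R) m₁ d)
      (g * p.coeff K) hg'
    refine ⟨p.coeff K * h, by rwa [← mul_assoc], ?_, ?_⟩
    · rw [← mul_assoc]
      exact step_GF _ hx m₁ hm₁ _ d (g * p.coeff K) hq0 hqd hqc' ⟨h, rfl⟩ hGF
    · rw [← mul_assoc]
      exact step_HFP _ hx m₁ hm₁ _ d (g * p.coeff K) hq0 hqd hqc' ⟨h, rfl⟩ hHFP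

theorem claim : ∀ n : ℕ, Claim R n
  | 0 => claim_of_cyclic R 0 (cycClaim_zero R)
  | n + 1 => claim_of_cyclic R (n + 1) (cycClaim_succ R n (claim n))

end Claim

end Groth.Agent.H80.GenFreeRed
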