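import Groth.Agent.H80.GenFreeRed4

/-!
# Generic freeness over a reduced base, part 5 (H80)

Passage from the intrinsic statements to localizations: finite presentation of the localized
algebra and of the localized module, and the existence of good elements.
(`module_fp_away` is taken over verbatim from helper11's `H11/GenFree3.lean`.)
-/

set_option autoImplicit false

universe u

open Polynomial

namespace Groth.Agent.H80.GenFreeRed

section Away

open MvPolynomial in
/-- Finite presentation of the localized module, from generation of the relations up to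
`f`-torsion. -/
theorem module_fp_away {R S M : Type u} [CommRing R] [CommRing S] [Algebra R S] [AddCommGroup M]
    [Module S M] {n m : ℕ}
    (φ : MvPolynomial (Fin n) R →ₐ[R] S) (hφ : Function.Surjective φ)
    (x : Fin m → M) (hx : Submodule.span S (Set.range x) = ⊤)
    (G : Finset (Fin m → MvPolynomial (Fin n) R))
    (hG : ∀ g ∈ G, ∑ i, φ (g i) • x i = 0) (f : R)
    (h : ∀ l : Fin m → MvPolynomial (Fin n) R, ∑ i, φ (l i) • x i = 0 → ∃ k : ℕ,
      f ^ k • l ∈ Submodule.span (MvPolynomial (Fin n) R)
        (↑G : Set (Fin m → MvPolynomial (Fin n) R))) :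
    Module.FinitePresentation (Localization.Away (algebraMap R S f))
      (LocalizedModule (Submonoid.powers (algebraMap R S f)) M) := by
  classical
  let P := MvPolynomial (Fin n) R
  let s : S := algebraMap R S f
  let Sf := Localization.Away s
  let Mf := LocalizedModule (Submonoid.powers s) M
  let mk : M →ₗ[S] Mf := LocalizedModule.mkLinearMap (Submonoid.powers s) M
  let ℓ : (Fin m → Sf) →ₗ[Sf] Mf := Fintype.linearCombination Sf (fun i => mk (x i))
  let ψ : P →+* Sf := (algebraMap S Sf).comp φ.toRingHom
  let Λ : (Fin m → P) → (Fin m → Sf) := fun l i => ψ (l i)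
  have hψ : ∀ p, ψ p = algebraMap S Sf (φ p) := fun p => rfl
  have hψC : ψ (C f) = algebraMap S Sf s := by
    rw [hψ]
    congr 1
    rw [← MvPolynomial.algebraMap_eq, φ.commutes]
  have hψu : IsUnit (ψ (C f)) := by
    rw [hψC]; exact IsLocalization.Away.algebraMap_isUnit s
  -- (a)
  have ha : ∀ l : Fin m → P, ℓ (Λ l) = mk (∑ i, φ (l i) • x i) := by
    intro l
    rw [Fintype.linearCombination_apply, map_sum]
    apply Finset.sum_congr rfl
    intro i _
    rw [map_smul]
    exact algebraMap_smul Sf (φ (l i)) (mk (x i))
  -- (b)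
  have hb : ∀ (p : P) (l : Fin m → P), Λ (p • l) = ψ p • Λ l := by
    intro p l
    funext i
    simp [Λ]
  have hΛ0 : Λ 0 = 0 := by
    funext i
    simp [Λ]
  have hΛadd : ∀ l l', Λ (l + l') = Λ l + Λ l' := by
    intro l l'
    funext i
    simp [Λ]
  -- (d)
  have hd : ∀ l : Fin m → P, l ∈ Submodule.span P (↑G : Set (Fin m → P)) →
      Λ l ∈ Submodule.span Sf (Λ '' (↑G : Set (Fin m → P))) := by
    intro l hl
    induction hl using Submodule.span_induction with
    | mem g hg => exact Submodule.subset_span ⟨g, hg, rfl⟩
    | zero => rw [hΛ0]; exact zero_mem _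
    | add a b _ _ iha ihb => rw [hΛadd]; exact add_mem iha ihb
    | smul p a _ iha => rw [hb]; exact Submodule.smul_mem _ _ iha
  -- surjectivity
  have hsurj : Function.Surjective ℓ := by
    rw [← LinearMap.range_eq_top, Fintype.range_linearCombination]
    have := span_eq_top_of_isLocalizedModule Sf (Submonoid.powers s) mk hx
    rw [← Set.range_comp] at this
    exact this
  -- kernel
  have hker : LinearMap.ker ℓ = Submodule.span Sf (Λ '' (↑G : Set (Fin m → P))) := by
    apply le_antisymm
    · intro c hc
      rw [LinearMap.mem_ker] at hc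
      obtain ⟨b, hbint⟩ := IsLocalization.exist_integer_multiples_of_finite (Submonoid.powers s) c
      have hb' : ∀ i, ∃ D : P, ψ D = (b : S) • c i := by
        intro i
        obtain ⟨d, hd⟩ := RingHom.mem_rangeS.mp (hbint i)
        obtain ⟨D, hD⟩ := hφ d
        exact ⟨D, by rw [hψ, hD, hd]⟩
      choose D hD using hb'
      have hΛD : Λ D = algebraMap S Sf (b : S) • c := by
        funext i
        rw [Pi.smul_apply, smul_eq_mul, ← Algebra.smul_def]
        exact hD i
      have h2 : mk (∑ i, φ (D i) • x i) = 0 := by
        rw [← ha, hΛD, map_smul, hc, smul_zero]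
      obtain ⟨b', hb'⟩ := (IsLocalizedModule.eq_zero_iff (Submonoid.powers s) mk).mp h2
      obtain ⟨j', hj'⟩ := b'.2
      have h3 : ∑ i, φ (((C f : P) ^ j' • D) i) • x i = 0 := by
        have e : ∀ i, φ (((C f : P) ^ j' • D) i) • x i = b' • (φ (D i) • x i) := by
          intro i
          rw [Pi.smul_apply, smul_eq_mul, map_mul, map_pow, mul_smul, Submonoid.smul_def, ← hj']
          congr 2
          rw [← MvPolynomial.algebraMap_eq, φ.commutes]
        rw [Finset.sum_congr rfl (fun i _ => e i), ← Finset.smul_sum, hb']
      obtain ⟨k, hk⟩ := h _ h3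
      have hk' : (C f : P) ^ k • ((C f : P) ^ j' • D) ∈ Submodule.span P (↑G : Set (Fin m → P)) := by
        have e : f ^ k • ((C f : P) ^ j' • D) = (C f : P) ^ k • ((C f : P) ^ j' • D) := by
          rw [← algebraMap_smul P (f ^ k) ((C f : P) ^ j' • D), MvPolynomial.algebraMap_eq, map_pow]
        rw [← e]; exact hk
      have h4 := hd _ hk'
      rw [hb, hb, hΛD, map_pow, map_pow, smul_smul, smul_smul] at h4
      have hw : IsUnit (ψ (C f) ^ k * ψ (C f) ^ j' * algebraMap S Sf (b : S)) :=
        ((hψu.pow k).mul (hψu.pow j')).mul (IsLocalization.map_units Sf b)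
      have e : c = (↑hw.unit⁻¹ : Sf) •
          ((ψ (C f) ^ k * ψ (C f) ^ j' * algebraMap S Sf (b : S)) • c) := by
        rw [smul_smul, IsUnit.val_inv_mul, one_smul]
      rw [e]
      exact Submodule.smul_mem _ _ h4
    · rw [Submodule.span_le]
      rintro _ ⟨g, hg, rfl⟩
      rw [SetLike.mem_coe, LinearMap.mem_ker, ha, hG g hg, map_zero]
  have hkerFG : (LinearMap.ker ℓ).FG := by
    rw [hker]
    exact Submodule.fg_span (Set.Finite.image _ G.finite_toSet)
  exact Module.finitePresentation_of_free_of_surjective ℓ hsurj hkerFG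


theorem fp_away {R P S : Type u} [CommRing R] [CommRing P] [CommRing S] [Algebra R P]
    [Algebra R S] [Algebra.FinitePresentation R P] (φ : P →ₐ[R] S)
    (hφ : Function.Surjective φ) (f : R) (G : Finset P)
    (hG : (↑G : Set P) ⊆ RingHom.ker φ)
    (h : ∀ l ∈ RingHom.ker φ, ∃ k : ℕ, algebraMap R P f ^ k * l ∈ Ideal.span (↑G : Set P)) :
    (Localization.awayMap (algebraMap R S) f).FinitePresentation := by
  have hr : (φ : P →+* S) (algebraMap R P f) = algebraMap R S f := φ.commutes f
  have ha : (Localization.awayMap (algebraMap R P) f).FinitePresentation :=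
    RingHom.finitePresentation_localizationPreserves.away (algebraMap R P) f _ _
      (RingHom.finitePresentation_algebraMap.mpr inferInstance)
  haveI inst1 : IsLocalization.Away ((φ : P →+* S) (algebraMap R P f))
      (Localization.Away (algebraMap R S f)) := by
    rw [hr]; infer_instance
  haveI inst2 : IsLocalization ((Submonoid.powers (algebraMap R P f)).map (φ : P →+* S))
      (Localization.Away (algebraMap R S f)) := by
    rw [Submonoid.map_powers]; exact inst1
  have hbsurj : Function.Surjective
      (IsLocalization.Away.map (Localization.Away (algebraMap R P f))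
        (Localization.Away (algebraMap R S f)) (φ : P →+* S) (algebraMap R P f)) :=
    IsLocalization.map_surjective_of_surjective (Submonoid.powers (algebraMap R P f))
      (Localization.Away (algebraMap R P f)) (Localization.Away (algebraMap R S f))
      (g := (φ : P →+* S)) hφ
  have hker : RingHom.ker (IsLocalization.Away.map (Localization.Away (algebraMap R P f))
        (Localization.Away (algebraMap R S f)) (φ : P →+* S) (algebraMap R P f)) =
      Ideal.map (algebraMap P (Localization.Away (algebraMap R P f)))
        (Ideal.span (↑G : Set P)) := by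
    have h1 : RingHom.ker (IsLocalization.Away.map (Localization.Away (algebraMap R P f))
        (Localization.Away (algebraMap R S f)) (φ : P →+* S) (algebraMap R P f)) =
        (RingHom.ker (φ : P →+* S)).map (algebraMap P (Localization.Away (algebraMap R P f))) :=
      IsLocalization.ker_map (Localization.Away (algebraMap R S f)) (φ : P →+* S)
        (Submonoid.map_powers _ (algebraMap R P f))
    rw [h1]
    apply le_antisymm
    · rw [Ideal.map_le_iff_le_comap]
      intro l hl
      obtain ⟨k, hk⟩ := h l hl
      rw [Ideal.mem_comap]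
      have h2 := Ideal.mem_map_of_mem (algebraMap P (Localization.Away (algebraMap R P f))) hk
      rw [map_mul, map_pow] at h2
      have hu : IsUnit (algebraMap P (Localization.Away (algebraMap R P f))
          (algebraMap R P f) ^ k) :=
        (IsLocalization.Away.algebraMap_isUnit (algebraMap R P f)).pow k
      exact (Ideal.unit_mul_mem_iff_mem _ hu).mp h2
    · exact Ideal.map_mono (Ideal.span_le.mpr hG)
  have hb : (IsLocalization.Away.map (Localization.Away (algebraMap R P f))
        (Localization.Away (algebraMap R S f)) (φ : P →+* S)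
        (algebraMap R P f)).FinitePresentation :=
    RingHom.FinitePresentation.of_surjective _ hbsurj
      (by rw [hker]; exact Ideal.FG.map ⟨G, rfl⟩ _)
  have hcomp : Localization.awayMap (algebraMap R S) f =
      (IsLocalization.Away.map (Localization.Away (algebraMap R P f))
        (Localization.Away (algebraMap R S f)) (φ : P →+* S) (algebraMap R P f)).comp
        (Localization.awayMap (algebraMap R P) f) := by
    apply IsLocalization.ringHom_ext (Submonoid.powers f)
    ext x
    simp only [Localization.awayMap, IsLocalization.Away.map, RingHom.comp_apply,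
      IsLocalization.map_eq]
    congr 1
    exact (φ.commutes x).symm
  rw [hcomp]
  exact hb.comp ha


theorem exists_good {R S : Type u} [CommRing R] [CommRing S] [Algebra R S]
    [Algebra.FiniteType R S] (M : Type u) [AddCommGroup M] [Module S M] [Module R M]
    [IsScalarTower R S M] [Module.Finite S M] (g : R) (hg : g ≠ 0) :
    ∃ h : R, g * h ≠ 0 ∧
      Module.Free (Localization.Away (g * h))
        (LocalizedModule (Submonoid.powers (g * h)) M) ∧
      Module.Free (Localization.Away (g * h))
        (LocalizedModule (Submonoid.powers (g * h)) S) ∧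
      (Localization.awayMap (algebraMap R S) (g * h)).FinitePresentation ∧
      Module.FinitePresentation (Localization.Away (algebraMap R S (g * h)))
        (LocalizedModule (Submonoid.powers (algebraMap R S (g * h))) M) := by
  classical
  obtain ⟨n, φ, hφ⟩ := Algebra.FiniteType.iff_quotient_mvPolynomial''.mp
    (inferInstance : Algebra.FiniteType R S)
  obtain ⟨m, x, hx⟩ := Module.Finite.exists_fin (R := S) (M := M)
  letI modPM : Module (MvPolynomial (Fin n) R) M :=
    Module.compHom M (φ : MvPolynomial (Fin n) R →+* S)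
  letI modPS : Module (MvPolynomial (Fin n) R) S :=
    Module.compHom S (φ : MvPolynomial (Fin n) R →+* S)
  have hsmulM : ∀ (p : MvPolynomial (Fin n) R) (y : M), p • y = φ p • y := fun _ _ => rfl
  have hsmulS : ∀ (p : MvPolynomial (Fin n) R) (y : S), p • y = φ p * y := fun _ _ => rfl
  haveI : IsScalarTower R (MvPolynomial (Fin n) R) M :=
    ⟨fun r p y => by rw [hsmulM, hsmulM, map_smul, smul_assoc]⟩
  haveI : IsScalarTower R (MvPolynomial (Fin n) R) S :=
    ⟨fun r p y => by rw [hsmulS, hsmulS, map_smul, smul_mul_assoc]⟩
  haveI : Module.Finite (MvPolynomial (Fin n) R) M := by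
    refine ⟨⟨Finset.univ.image x, ?_⟩⟩
    rw [eq_top_iff]
    intro y _
    have hy : y ∈ Submodule.span S (Set.range x) := by rw [hx]; trivial
    obtain ⟨c, hc⟩ := (Submodule.mem_span_range_iff_exists_fun S).mp hy
    choose c' hc' using fun i => hφ (c i)
    rw [← hc]
    apply Submodule.sum_mem
    intro i _
    rw [← hc' i, ← hsmulM]
    exact Submodule.smul_mem _ _ (Submodule.subset_span (by simp))
  haveI : Module.Finite (MvPolynomial (Fin n) R) S := by
    refine ⟨⟨{1}, ?_⟩⟩
    rw [eq_top_iff]
    intro y _
    obtain ⟨p, hp⟩ := hφ y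
    rw [Finset.coe_singleton]
    exact Submodule.mem_span_singleton.mpr ⟨p, by rw [hsmulS, hp, mul_one]⟩
  obtain ⟨h₁, hgh₁, hGFM, hHFPM⟩ := claim R n M g hg
  obtain ⟨h₂, hgh₂, hGFS, hHFPS⟩ := claim R n S (g * h₁) hgh₁
  have hd : g * h₁ ∣ g * h₁ * h₂ := ⟨h₂, rfl⟩
  have hGFM' := hGFM.of_dvd hd
  have hHFPM' := hHFPM.of_dvd (h' := algebraMap R (MvPolynomial (Fin n) R) (g * h₁ * h₂))
    ⟨algebraMap R _ h₂, by rw [← map_mul]⟩
  refine ⟨h₁ * h₂, by rwa [← mul_assoc], ?_, ?_, ?_, ?_⟩
  · rw [← mul_assoc]; exact hGFM'.free
  · rw [← mul_assoc]; exact hGFS.free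
  · rw [← mul_assoc]
    let π₁ : MvPolynomial (Fin n) R →ₗ[MvPolynomial (Fin n) R] S :=
      LinearMap.toSpanSingleton _ S 1
    have hπ₁ : ∀ p, π₁ p = φ p := fun p => by
      show p • (1 : S) = φ p
      rw [hsmulS, mul_one]
    have hπ₁s : Function.Surjective π₁ := fun y => by
      obtain ⟨p, hp⟩ := hφ y
      exact ⟨p, by rw [hπ₁, hp]⟩
    obtain ⟨G, hG, H⟩ := hHFPS.hfg_ker π₁ hπ₁s
    refine fp_away φ hφ _ G ?_ ?_
    · intro y hy
      have h0 := hG hy
      rw [SetLike.mem_coe, LinearMap.mem_ker, hπ₁] at h0
      exact h0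
    · intro l hl
      obtain ⟨k, hk⟩ := H l (by rw [LinearMap.mem_ker, hπ₁]; exact hl)
      exact ⟨k, hk⟩
  · rw [← mul_assoc]
    let πx : (Fin m → MvPolynomial (Fin n) R) →ₗ[MvPolynomial (Fin n) R] M :=
      Fintype.linearCombination _ x
    have hπx : ∀ l, πx l = ∑ i, φ (l i) • x i := fun l => by
      rw [Fintype.linearCombination_apply]; rfl
    have hπxs : Function.Surjective πx := by
      intro y
      have hy : y ∈ Submodule.span S (Set.range x) := by rw [hx]; trivial
      obtain ⟨c, hc⟩ := (Submodule.mem_span_range_iff_exists_fun S).mp hy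
      choose c' hc' using fun i => hφ (c i)
      exact ⟨c', by rw [hπx, ← hc]; simp only [hc']⟩
    obtain ⟨G, hG, H⟩ := hHFPM'.hfg_ker πx hπxs
    refine module_fp_away φ hφ x hx G ?_ _ ?_
    · intro g' hg'
      have h0 := hG hg'
      rw [SetLike.mem_coe, LinearMap.mem_ker, hπx] at h0
      exact h0
    · intro l hl
      obtain ⟨k, hk⟩ := H l (by rw [LinearMap.mem_ker, hπx]; exact hl)
      refine ⟨k, ?_⟩
      rw [← map_pow, algebraMap_smul] at hk
      exact hk

end Away

end Groth.Agent.H80.GenFreeRed
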