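import Groth.Agent.H80.DimQuot
import Groth.Prelude.Def_EGA4b
import Groth.Prelude.Def_Wider
import Groth.Agent.H34.AdicFib
import Groth.Agent.H34.OnePlus
import Groth.Agent.H15.NorCpl
import Groth.Agent.H63.SmoothNormal
import Groth.Agent.S1802
import Groth.Agent.S11626

set_option autoImplicit false
set_option linter.style.haveILetI false
set_option linter.unusedVariables false

/-!
# Consequences of the Hartshorne–Lichtenbaum vanishing theorem

The statement of HLVT (row S0332) is taken as a hypothesis `HLVT`, so that this file does not depend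
on that row; the row files instantiate it.
-/

universe u

open IsLocalRing AlgebraicGeometry

namespace Groth.Agent.H80.HLDep

/-- The statement of the Hartshorne–Lichtenbaum vanishing theorem (row S0332), for universe `u`. -/
def HLVT : Prop :=
  ∀ (R : Type u) [CommRing R] [IsLocalRing R] [IsNoetherianRing R] (I : Ideal R) (d : ℕ)
    (hd : ringKrullDim R = d)
    (h : ∀ p ∈ minimalPrimes (AdicCompletion (IsLocalRing.maximalIdeal R) R),
      ringKrullDim (AdicCompletion (IsLocalRing.maximalIdeal R) R ⧸ p) = d →
      1 ≤ ringKrullDim (AdicCompletion (IsLocalRing.maximalIdeal R) R ⧸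
        (I.map (algebraMap R (AdicCompletion (IsLocalRing.maximalIdeal R) R)) ⊔ p)))
    (M : Type u) [AddCommGroup M] [Module R M] (i : ℕ) (hi : d ≤ i), Subsingleton (LocCoh.H I i M)

/-- The completion of an excellent normal local domain is a domain. -/
theorem isDomain_cpl (A : Type u) [CommRing A] [IsDomain A] [IsLocalRing A] [IsNoetherianRing A]
    [IsIntegrallyClosed A] (hA : EGA4.IsExcellent A) :
    IsDomain (AdicCompletion (maximalIdeal A) A) := by
  have hregular : CAlg.IsRegularHom A (AdicCompletion (maximalIdeal A) A) :=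
    Groth.Agent.H34.AdicFib.regular A hA.2.2.1 _
  have hnormalhom : EGA4.IsNormalHom A (AdicCompletion (maximalIdeal A) A) := by
    refine ⟨hregular.1, fun p _ k' _ _ hfin => ?_⟩
    haveI := (hregular.2 p).2 k' hfin
    exact Groth.Agent.H63.SmoothRegular.isNormalRing_of_isRegularRing _
  have hAn : EGA4.IsNormalRing A := Groth.Agent.H15.NorCpl.isNormalRing_of_isIntegrallyClosed A
  haveI : IsNoetherianRing (AdicCompletion (maximalIdeal A) A) :=
    Groth.Agent.H34.OnePlus.isNoetherianRing_adic _ _
  have hn := Groth.Agent.H15.NorCpl.isNormalRing_of_isNormalHom _ _ hnormalhom hAn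
  exact Groth.Agent.H15.NorCpl.isDomain_of_isNormalRing_of_isLocalRing _ hn

/-- `cd(A, I) < dim A` for an excellent normal local domain and `dim A/I ≥ 1`. -/
theorem vanishing (HL : HLVT.{u}) (A : Type u) [CommRing A] [IsDomain A] [IsLocalRing A]
    [IsNoetherianRing A] [IsIntegrallyClosed A] (hA : EGA4.IsExcellent A) (I : Ideal A)
    (hI : (1 : WithBot ℕ∞) ≤ ringKrullDim (A ⧸ I))
    (M : Type u) [AddCommGroup M] [Module A M] (i : ℕ)
    (hi : ringKrullDim A ≤ (i : WithBot ℕ∞)) : Subsingleton (LocCoh.H I i M) := by
  obtain ⟨d, hd⟩ := DimQuot.exists_nat_ringKrullDim A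
  haveI := isDomain_cpl A hA
  refine HL A I d hd ?_ M i ?_
  · intro p hp _
    rw [IsDomain.minimalPrimes_eq_singleton_bot] at hp
    rw [Set.mem_singleton_iff.mp hp, sup_bot_eq]
    exact DimQuot.one_le_dim_quot_map I hI
  · rw [hd] at hi
    exact_mod_cast hi

/-- In dimension two the punctured open is affine. -/
theorem affine (HL : HLVT.{u}) (A : Type u) [CommRing A] [IsDomain A] [IsLocalRing A]
    [IsNoetherianRing A] [IsIntegrallyClosed A] (hA : EGA4.IsExcellent A) (I : Ideal A)
    (hI : (1 : WithBot ℕ∞) ≤ ringKrullDim (A ⧸ I)) (h2 : ringKrullDim A = 2) :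
    IsAffine (↑(LocCoh.puncturedOpen A I) : Scheme.{u}) := by
  by_cases h0 : I = ⊥
  · subst h0
    haveI : IsEmpty (↑(LocCoh.puncturedOpen A (⊥ : Ideal A)) : Scheme.{u}) := by
      constructor
      rintro ⟨x, hx⟩
      apply hx
      let y : PrimeSpectrum A := x
      have hy : y ∈ PrimeSpectrum.zeroLocus (R := A) ((⊥ : Ideal A) : Set A) := by
        rw [PrimeSpectrum.mem_zeroLocus]
        intro a ha
        rw [SetLike.mem_coe, Ideal.mem_bot] at ha
        rw [ha]
        exact zero_mem _
      exact hy
    exact isAffine_of_isEmpty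
  · have hcd1 : LocCoh.CdLE A I 1 := by
      intro M _ _ i hi
      apply vanishing HL A hA I hI M i
      rw [h2]
      have : 2 ≤ i := hi
      exact_mod_cast this
    have hItop : I ≠ ⊤ := by
      rintro rfl
      have h1 : ringKrullDim (A ⧸ (⊤ : Ideal A)) = ⊥ := by
        haveI : Subsingleton (A ⧸ (⊤ : Ideal A)) := Ideal.Quotient.subsingleton_iff.mpr rfl
        exact ringKrullDim_eq_bot_of_subsingleton
      rw [h1] at hI
      exact absurd hI (by decide)
    have hcd0 : ¬ LocCoh.CdLE A I 0 := by
      intro hcd
      have hfin : I.height ≠ ⊤ := Ideal.height_ne_top hItop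
      obtain ⟨h, hh⟩ := ENat.ne_top_iff_exists.mp hfin
      have hnt := Groth.Agent.S11626.result A I hItop h hh.symm
      have hpos : 0 < h := by
        rcases Nat.eq_zero_or_pos h with h0' | h0'
        · exfalso
          apply h0
          rw [← Ideal.height_eq_zero_iff_eq_bot, ← hh, h0']
          rfl
        · exact h0'
      have hs := hcd A h hpos
      exact not_subsingleton _ hs
    exact (Groth.Agent.S1802.result A I hcd1 hcd0).2

end Groth.Agent.H80.HLDep
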