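import Groth.Prelude.Def_QuadGrp
import Groth.Agent.H84.HalfDisc
import Mathlib

set_option autoImplicit false

open QuadGrp

namespace Groth.Agent.H80.HalfDiscNondeg

open Groth.Agent.H84

/-- The polar matrix of a coefficient array. -/
def polarMatOf {R : Type*} [CommRing R] {n : ℕ} (a : Sym2 (Fin n) → R) : Matrix (Fin n) (Fin n) R :=
  Matrix.of fun i j => if i = j then 2 * a (Sym2.mk i j) else a (Sym2.mk i j)

theorem polarMatOf_eq_map {R : Type*} [CommRing R] {n : ℕ} (a : Sym2 (Fin n) → R) :
    polarMatOf a = (MvPolynomial.eval₂Hom (Int.castRingHom R) a).mapMatrix (univPolarMat n) := by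
  ext i j
  simp only [polarMatOf, univPolarMat, Matrix.of_apply, RingHom.mapMatrix_apply, Matrix.map_apply]
  split_ifs <;> simp

theorem two_mul_hdEval {R : Type*} [CommRing R] {n : ℕ} (hn : Odd n) (a : Sym2 (Fin n) → R) :
    2 * hdEval a = (polarMatOf a).det := by
  have h1 : (2 : R) * hdEval a =
      MvPolynomial.eval₂ (Int.castRingHom R) a (2 * halfDiscUniv n) := by
    rw [MvPolynomial.eval₂_mul, hdEval]
    congr 1
    simp
  rw [h1, two_mul_halfDiscUniv hn, discUniv, polarMatOf_eq_map]
  change (MvPolynomial.eval₂Hom (Int.castRingHom R) a) _ = _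
  rw [RingHom.map_det]

theorem polarMatOf_map {R S : Type*} [CommRing R] [CommRing S] (φ : R →+* S) {n : ℕ}
    (a : Sym2 (Fin n) → R) : polarMatOf (φ ∘ a) = φ.mapMatrix (polarMatOf a) := by
  ext i j
  simp only [polarMatOf, Matrix.of_apply, RingHom.mapMatrix_apply, Matrix.map_apply, Function.comp]
  split_ifs
  · rw [map_mul, map_ofNat]
  · rfl

/-- The universal splitting identity: if the `k`-th basis vector is polar-orthogonal to the other basis
vectors, the half-discriminant is `a_kk` times the discriminant of the complementary minor. -/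
theorem hdEval_split {R : Type*} [CommRing R] {m : ℕ} (a : Sym2 (Fin (2 * m + 1)) → R)
    (k : Fin (2 * m + 1)) (hk : ∀ j, j ≠ k → a (Sym2.mk k j) = 0) :
    hdEval a = a (Sym2.mk k k) * ((polarMatOf a).submatrix k.succAbove k.succAbove).det := by
  classical
  let S := MvPolynomial (Sym2 (Fin (2 * m + 1))) ℤ
  let a₀ : Sym2 (Fin (2 * m + 1)) → S := fun s =>
    if (k ∈ s ∧ ¬ s.IsDiag) then 0 else MvPolynomial.X s
  let φ : S →+* R := MvPolynomial.eval₂Hom (Int.castRingHom R) a
  have hφ : φ ∘ a₀ = a := by
    funext s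
    simp only [Function.comp, a₀]
    split_ifs with h
    · obtain ⟨h1, h2⟩ := h
      obtain ⟨j, rfl⟩ := Sym2.mem_iff_exists.mp h1
      have hj : j ≠ k := by
        rintro rfl
        exact h2 (Sym2.mk_isDiag_iff.mpr rfl)
      rw [map_zero, hk j hj]
    · exact MvPolynomial.eval₂_X _ _ _
  have key : hdEval a₀ =
      a₀ (Sym2.mk k k) * ((polarMatOf a₀).submatrix k.succAbove k.succAbove).det := by
    have h2 : (2 : S) ≠ 0 := two_ne_zero
    apply mul_left_cancel₀ h2
    rw [two_mul_hdEval ⟨m, rfl⟩, Matrix.det_succ_row _ k, Finset.sum_eq_single k]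
    · have h3 : polarMatOf a₀ k k = 2 * a₀ (Sym2.mk k k) := by simp [polarMatOf]
      have h4 : ((-1 : S)) ^ ((k : ℕ) + (k : ℕ)) = 1 := Even.neg_one_pow ⟨k, rfl⟩
      rw [h3, h4]
      ring
    · intro j _ hj
      have h3 : polarMatOf a₀ k j = 0 := by
        simp only [polarMatOf, Matrix.of_apply, if_neg (Ne.symm hj), a₀]
        rw [if_pos]
        exact ⟨Sym2.mem_mk_left k j, by simpa using (Ne.symm hj)⟩
      rw [h3]
      ring
    · simp
  have h4 := congrArg φ key
  rw [map_mul, ← hdEval_map, RingHom.map_det, hφ] at h4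
  rw [h4]
  congr 2
  · exact congrFun hφ _
  · rw [← hφ, polarMatOf_map]
    rfl

theorem polarMatOf_coeffs {R : Type*} {V : Type*} [CommRing R] [AddCommGroup V] [Module R V] {n : ℕ}
    (b : Module.Basis (Fin n) R V) (Q : QuadraticForm R V) :
    polarMatOf (coeffs b (LinearEquiv.refl R R) Q) = LinearMap.BilinForm.toMatrix b Q.polarBilin := by
  ext i j
  simp only [polarMatOf, Matrix.of_apply, coeffs_mk, LinearMap.BilinForm.toMatrix_apply,
    QuadraticMap.polarBilin_apply_apply, LinearEquiv.refl_apply]
  split_ifs with h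
  · subst h
    rw [QuadraticMap.polar_self, nsmul_eq_mul]
    norm_num
  · rfl

/-- Splitting identity for forms. -/
theorem halfDisc_split {R : Type*} {V : Type*} [CommRing R] [AddCommGroup V] [Module R V] {m : ℕ}
    (b : Module.Basis (Fin (2 * m + 1)) R V) (Q : QuadraticForm R V) (k : Fin (2 * m + 1))
    (hk : ∀ j, j ≠ k → QuadraticMap.polar Q (b k) (b j) = 0) :
    halfDisc b (LinearEquiv.refl R R) Q =
      Q (b k) * ((LinearMap.BilinForm.toMatrix b Q.polarBilin).submatrix
        k.succAbove k.succAbove).det := by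
  rw [halfDisc_eq_hdEval, hdEval_split _ k, polarMatOf_coeffs, coeffs_mk, if_pos rfl]
  · rfl
  · intro j hj
    rw [coeffs_mk, if_neg (Ne.symm hj)]
    exact hk j hj

theorem bilin_sum_apply {R : Type*} {V : Type*} [CommRing R] [AddCommGroup V] [Module R V]
    {ι α : Type*} [Fintype ι] [DecidableEq ι] [Fintype α]
    (b : Module.Basis ι R V) (B : LinearMap.BilinForm R V) (f : α → ι) (c : α → R) (a' : α) :
    B (∑ a, c a • b (f a)) (b (f a')) =
      (Matrix.vecMul c ((LinearMap.BilinForm.toMatrix b B).submatrix f f)) a' := by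
  simp [Matrix.vecMul, dotProduct, LinearMap.BilinForm.toMatrix_apply, map_sum, LinearMap.sum_apply,
    map_smul, LinearMap.smul_apply]

theorem repr_sum_succAbove {R : Type*} {V : Type*} [CommRing R] [AddCommGroup V] [Module R V] {n : ℕ}
    (b : Module.Basis (Fin (n + 1)) R V) (k : Fin (n + 1)) (c : Fin n → R) (a₀ : Fin n) :
    b.repr (∑ a, c a • b (k.succAbove a)) (k.succAbove a₀) = c a₀ := by
  classical
  simp only [map_sum, map_smul, Module.Basis.repr_self, Finsupp.coe_finsetSum, Finset.sum_apply,
    Finsupp.smul_apply, Finsupp.single_apply, smul_eq_mul, mul_ite, mul_one, mul_zero,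
    Fin.succAbove_right_inj]
  rw [Finset.sum_ite_eq']
  simp

theorem repr_sum_succAbove_self {R : Type*} {V : Type*} [CommRing R] [AddCommGroup V] [Module R V]
    {n : ℕ} (b : Module.Basis (Fin (n + 1)) R V) (k : Fin (n + 1)) (c : Fin n → R) :
    b.repr (∑ a, c a • b (k.succAbove a)) k = 0 := by
  classical
  simp only [map_sum, map_smul, Module.Basis.repr_self, Finsupp.coe_finsetSum, Finset.sum_apply,
    Finsupp.smul_apply, Finsupp.single_apply, smul_eq_mul, mul_ite, mul_one, mul_zero]
  apply Finset.sum_eq_zero
  intro a _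
  rw [if_neg (Fin.succAbove_ne k a)]

section Field

variable {K : Type*} [Field K] {V : Type*} [AddCommGroup V] [Module K V]

/-- If the `k`-th basis vector lies in the polar kernel, non-degeneracy is `Q (b k) ≠ 0` together with the
non-vanishing of the complementary minor of the polar matrix. -/
theorem nondegenerate_iff_of_mem_ker {n : ℕ} (b : Module.Basis (Fin (n + 1)) K V)
    (Q : QuadraticForm K V) (k : Fin (n + 1)) (hk : b k ∈ LinearMap.ker Q.polarBilin) :
    Q.Nondegenerate ↔ Q (b k) ≠ 0 ∧
      ((LinearMap.BilinForm.toMatrix b Q.polarBilin).submatrix k.succAbove k.succAbove).det ≠ 0 := by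
  classical
  constructor
  · intro h
    constructor
    · intro h0
      have hrad : b k ∈ Q.radical := ⟨h0, hk⟩
      rw [h.radical_eq_bot] at hrad
      exact b.ne_zero k ((Submodule.mem_bot K).mp hrad)
    · intro hdet
      obtain ⟨c, hc, hcM⟩ := Matrix.exists_vecMul_eq_zero_iff.mpr hdet
      have huker : (∑ a, c a • b (k.succAbove a)) ∈ LinearMap.ker Q.polarBilin := by
        rw [LinearMap.mem_ker]
        apply b.ext
        intro j
        rcases Fin.eq_self_or_eq_succAbove k j with rfl | ⟨j', rfl⟩
        · rw [QuadraticMap.polarBilin_apply_apply, QuadraticMap.polar_comm,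
            ← QuadraticMap.polarBilin_apply_apply, LinearMap.mem_ker.mp hk]
          simp
        · rw [bilin_sum_apply b Q.polarBilin k.succAbove c j', hcM]
          simp
      obtain ⟨v₀, hv₀⟩ := (rank_submodule_le_one_iff' _).mp h.rank_rad_polar_le
      obtain ⟨α, hα⟩ := Submodule.mem_span_singleton.mp (hv₀ hk)
      obtain ⟨β, hβ⟩ := Submodule.mem_span_singleton.mp (hv₀ huker)
      have hα0 : α ≠ 0 := by
        rintro rfl
        rw [zero_smul] at hα
        exact b.ne_zero k hα.symm
      have hu' : (∑ a, c a • b (k.succAbove a)) = (β * α⁻¹) • b k := by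
        rw [← hα, smul_smul, mul_assoc, inv_mul_cancel₀ hα0, mul_one, hβ]
      apply hc
      funext a
      have h5 := congrArg (fun v => b.repr v (k.succAbove a)) hu'
      simp only [repr_sum_succAbove] at h5
      rw [h5]
      simp [Fin.succAbove_ne]
  · rintro ⟨hQ, hdet⟩
    have hle : LinearMap.ker Q.polarBilin ≤ Submodule.span K {b k} := by
      intro y hy
      have hy' : y = b.repr y k • b k + ∑ a, b.repr y (k.succAbove a) • b (k.succAbove a) := by
        conv_lhs => rw [← b.sum_repr y, Fin.sum_univ_succAbove _ k]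
      have huker : (∑ a, b.repr y (k.succAbove a) • b (k.succAbove a)) ∈
          LinearMap.ker Q.polarBilin := by
        have h6 : (∑ a, b.repr y (k.succAbove a) • b (k.succAbove a)) = y - b.repr y k • b k := by
          rw [eq_sub_iff_add_eq, add_comm]
          exact hy'.symm
        rw [h6]
        exact Submodule.sub_mem _ hy (Submodule.smul_mem _ _ hk)
      have hc : (fun a => b.repr y (k.succAbove a)) = 0 := by
        apply Matrix.eq_zero_of_vecMul_eq_zero hdet
        funext j'
        rw [← bilin_sum_apply b Q.polarBilin k.succAbove _ j', LinearMap.mem_ker.mp huker]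
        simp
      have hu0 : (∑ a, b.repr y (k.succAbove a) • b (k.succAbove a)) = 0 := by
        apply Finset.sum_eq_zero
        intro a _
        rw [show b.repr y (k.succAbove a) = 0 from congrFun hc a, zero_smul]
      rw [hy', hu0, add_zero]
      exact Submodule.smul_mem _ _ (Submodule.mem_span_singleton_self _)
    refine ⟨?_, (rank_submodule_le_one_iff' _).mpr ⟨b k, hle⟩⟩
    rw [eq_bot_iff]
    intro y hy
    obtain ⟨α, rfl⟩ := Submodule.mem_span_singleton.mp
      (hle (QuadraticMap.radical_le_ker_polarBilin hy))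
    have h7 : Q (α • b k) = 0 := hy.1
    rw [QuadraticMap.map_smul, smul_eq_mul, mul_eq_zero, mul_self_eq_zero] at h7
    rcases h7 with h | h
    · simp [h]
    · exact absurd h hQ

/-- Over a field, for odd rank: the half-discriminant is non-zero iff the form is non-degenerate. -/
theorem field_main {m : ℕ} (b : Module.Basis (Fin (2 * m + 1)) K V) (Q : QuadraticForm K V) :
    halfDisc b (LinearEquiv.refl K K) Q ≠ 0 ↔ Q.Nondegenerate := by
  classical
  have hfin : Module.Finite K V := Module.Finite.of_basis b
  have hfree : Module.Free K V := Module.Free.of_basis b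
  by_cases hker : LinearMap.ker Q.polarBilin = ⊥
  · have hnd : Q.Nondegenerate := by
      refine ⟨?_, ?_⟩
      · exact eq_bot_iff.mpr (hker ▸ QuadraticMap.radical_le_ker_polarBilin)
      · rw [hker]
        simp
    refine ⟨fun _ => hnd, fun _ => ?_⟩
    have h2 := two_mul_hdEval (n := 2 * m + 1) ⟨m, rfl⟩ (coeffs b (LinearEquiv.refl K K) Q)
    rw [polarMatOf_coeffs] at h2
    intro h0
    rw [halfDisc_eq_hdEval] at h0
    rw [h0, mul_zero] at h2
    obtain ⟨c, hc, hcM⟩ := Matrix.exists_vecMul_eq_zero_iff.mpr h2.symm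
    have hu : (∑ a, c a • b a) ∈ LinearMap.ker Q.polarBilin := by
      rw [LinearMap.mem_ker]
      apply b.ext
      intro j
      have h3 := bilin_sum_apply b Q.polarBilin id c j
      simp only [id, Matrix.submatrix_id_id] at h3
      rw [h3, hcM]
      simp
    rw [hker, Submodule.mem_bot] at hu
    apply hc
    funext a
    have h4 := congrArg (fun v => b.repr v a) hu
    simpa [Finsupp.single_apply] using h4
  · obtain ⟨x, hx, hx0⟩ := Submodule.exists_mem_ne_zero_of_ne_bot hker
    obtain ⟨k, hk⟩ : ∃ k, b.repr x k ≠ 0 := by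
      by_contra hcon
      push Not at hcon
      apply hx0
      apply b.repr.injective
      ext k
      simp [hcon k]
    set g : V →ₗ[K] V := LinearMap.transvection (b.coord k) (x - b k) with hg
    have hdet : LinearMap.det g = b.repr x k := by
      rw [hg, LinearMap.transvection.det]
      simp
    have hgk : g (b k) = x := by
      simp [hg, LinearMap.transvection.apply]
    have hunit : IsUnit (LinearMap.det g) := by
      rw [hdet]
      exact isUnit_iff_ne_zero.mpr hk
    set ge : V ≃ₗ[K] V := LinearMap.equivOfIsUnitDet hunit with hge'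
    have hge : ∀ v, ge v = g v := LinearMap.equivOfIsUnitDet_apply hunit
    set b' : Module.Basis (Fin (2 * m + 1)) K V := b.map ge with hb'
    have hb'k : b' k = x := by
      simp [hb', hge, hgk]
    have e1 := Groth.Agent.H84.halfDisc_comp ⟨m, rfl⟩ b Q g
    have e2 : halfDisc b (LinearEquiv.refl K K) (Q.comp g) =
        halfDisc b' (LinearEquiv.refl K K) Q := by
      unfold halfDisc
      congr 1
      ext p
      induction p using Sym2.ind with | _ i j =>
      simp [coeffs_mk, hb', hge, QuadraticMap.polar]
    have hk' : b' k ∈ LinearMap.ker Q.polarBilin := hb'k ▸ hx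
    have e3 := halfDisc_split b' Q k (fun j _ => by
      have h5 := LinearMap.mem_ker.mp hk'
      exact congrArg (fun f => f (b' j)) h5)
    have e4 := nondegenerate_iff_of_mem_ker b' Q k hk'
    have e5 : halfDisc b' (LinearEquiv.refl K K) Q =
        (b.repr x k) ^ 2 * halfDisc b (LinearEquiv.refl K K) Q := by
      rw [← e2, e1, hdet]
    rw [e4, ← mul_ne_zero_iff, ← e3, e5]
    constructor
    · intro h
      exact mul_ne_zero (pow_ne_zero 2 hk) h
    · intro h
      exact right_ne_zero_of_mul h

end Field

section BaseChange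

open TensorProduct

theorem coeffs_baseChangeForm {R : Type*} {M : Type*} [CommRing R] [AddCommGroup M] [Module R M]
    [Module.Free R M] (A : Type*) [CommRing A] [Algebra R A] {n : ℕ}
    (b : Module.Basis (Fin n) R M) (Q : QuadraticForm R M) :
    coeffs (Algebra.TensorProduct.basis A b) (LinearEquiv.refl A A) (baseChangeForm A Q) =
      algebraMap R A ∘ coeffs b (LinearEquiv.refl R R) Q := by
  have key : ∀ v : M, baseChangeForm A Q ((1 : A) ⊗ₜ[R] v) = algebraMap R A (Q v) := by
    intro v
    simp [baseChangeForm, baseChange_tmul, Algebra.algebraMap_eq_smul_one]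
  ext p
  induction p using Sym2.ind with | _ i j =>
  simp only [coeffs_mk, Function.comp, Algebra.TensorProduct.basis_apply, LinearEquiv.refl_apply]
  split_ifs with h
  · exact key _
  · rw [QuadraticMap.polar, ← TensorProduct.tmul_add, key, key, key, QuadraticMap.polar, map_sub,
      map_sub]

theorem halfDisc_baseChangeForm {R : Type*} {M : Type*} [CommRing R] [AddCommGroup M] [Module R M]
    [Module.Free R M] (A : Type*) [CommRing A] [Algebra R A] {n : ℕ}
    (b : Module.Basis (Fin n) R M) (Q : QuadraticForm R M) :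
    halfDisc (Algebra.TensorProduct.basis A b) (LinearEquiv.refl A A) (baseChangeForm A Q) =
      algebraMap R A (halfDisc b (LinearEquiv.refl R R) Q) := by
  rw [halfDisc_eq_hdEval, coeffs_baseChangeForm, hdEval_map]
  rfl

end BaseChange

end Groth.Agent.H80.HalfDiscNondeg
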