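import Groth.Prelude.Def_ConstGrp
import Mathlib.RingTheory.Idempotents
import Mathlib.RingTheory.Nilpotent.Basic

set_option autoImplicit false
universe u v w

namespace Groth.Agent.H80

open ConstGrp in
/-- There is no injective algebra map from the function algebra of a set with two distinct points
into a commutative algebra `B` admitting an augmentation `B → R` with nil kernel. -/
theorem no_injective_of_nil_aug {R : Type u} [CommRing R] [Nontrivial R] {G : Type v}
    [DecidableEq G] (g₁ g₂ : G) (hne : g₂ ≠ g₁)
    {B : Type w} [CommRing B] [Algebra R B] (π : B →ₐ[R] R)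
    (hπ : ∀ b : B, π b = 0 → IsNilpotent b)
    (φ : ConstGrp.F R G →ₐ[R] B) (hφ : Function.Injective φ) : False := by
  set e : ConstGrp.F R G := ConstGrp.e R g₁ with he
  have hidem : IsIdempotentElem e := by
    have := ConstGrp.e_mul_e (R := R) g₁ g₁
    simpa [IsIdempotentElem, he] using this
  set r : R := π (φ e) with hr
  have hr_idem : IsIdempotentElem r := (hidem.map φ).map π
  have h1 : φ e = algebraMap R B r := by
    apply eq_of_isNilpotent_sub_of_isIdempotentElem (hidem.map φ) (hr_idem.map (algebraMap R B))
    apply hπ
    rw [map_sub, AlgHom.commutes, hr]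
    simp
  have h2 : φ (r • (1 - e)) = 0 := by
    rw [map_smul, Algebra.smul_def, ← h1, ← map_mul, mul_sub, mul_one, hidem.eq, sub_self, map_zero]
  have h3 : r • (1 - e) = 0 := hφ (by rw [h2, map_zero])
  have h4 : r = 0 := by
    have := congrFun h3 g₂
    simpa [he, ConstGrp.e_apply_of_ne hne] using this
  have h5 : e = 0 := hφ (by rw [h1, h4, map_zero, map_zero])
  have h6 := congrFun h5 g₁
  simp [he] at h6

end Groth.Agent.H80
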