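import Mathlib
import Groth.Agent.H69.DirColim
import Groth.Agent.H15.NilPair.Base
import Groth.Agent.H15.NilPair.Sys
import Groth.Agent.H15.IntPair.Sys

/-!
# (Ma) for S18014 (helper15): `A → B` surjective ⇒ `A → B_j` surjective
-/

set_option autoImplicit false
universe u
open CategoryTheory MvPolynomial Limits
open Groth.Agent.H69 Groth.Agent.H15.IntPair
open Groth.Agent.H15.NilPair (PS IT Cq mkq mkq_surjective mkq_eq_zero mkq_eq_zero_iff fp tr tr_mkq
  tr_refl tr_trans toE toE_mkq toE_tr gen_top X_mem_PS PS_mono dirNat)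
open scoped Classical

namespace Groth.Agent.H80.IntPair_Ma

variable {A B C : Type u} [CommRing A] [CommRing B] [CommRing C] [Algebra A B] [Algebra A C]
  [Algebra B C] [IsScalarTower A B C]

theorem surj_A_FB (h : Function.Surjective (algebraMap A B)) (j : J A B C) :
    Function.Surjective (algebraMap A (FB j)) := by
  have htop : (⊥ : Subalgebra A (FB j)) = ⊤ := by
    apply gen_top
    intro v hv
    have hv' : v ∈ j.1.Z.disjSum (∅ : Finset C) := hv
    rcases Finset.mem_disjSum.mp hv' with ⟨b, hb, rfl⟩ | ⟨d, hd, rfl⟩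
    · exact j.2.2.2.2.2.1 h b hb
    · exact absurd hd (Finset.notMem_empty d)
  exact Algebra.surjective_algebraMap_iff.2 htop.symm

end Groth.Agent.H80.IntPair_Ma
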