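import Mathlib
import Groth.Agent.H69.DirColim
import Groth.Agent.H15.NilPair.Base
import Groth.Agent.H15.NilPair.Sys
import Groth.Agent.H15.IntPair.Sys

/-!
# (Mdf) for S18014 (helper15): nilpotent kernels pass to the stages
-/

set_option autoImplicit false
universe u
open CategoryTheory MvPolynomial Limits
open Groth.Agent.H69 Groth.Agent.H15.IntPair
open Groth.Agent.H15.NilPair (PS IT Cq mkq mkq_surjective mkq_eq_zero mkq_eq_zero_iff fp tr tr_mkq
  tr_refl tr_trans toE toE_mkq toE_tr gen_top X_mem_PS PS_mono dirNat)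
open scoped Classical

namespace Groth.Agent.H80.IntPair_Mdf

variable {A B C : Type u} [CommRing A] [CommRing B] [CommRing C] [Algebra A B] [Algebra A C]
  [Algebra B C] [IsScalarTower A B C]

lemma nil_of_le {R : Type*} [CommRing R] {I J : Ideal R} (h : J ≤ I) (hI : IsNilpotent I) :
    IsNilpotent J := by
  obtain ⟨n, hn⟩ := hI
  refine ⟨n, ?_⟩
  rw [Ideal.zero_eq_bot] at hn ⊢
  exact le_bot_iff.1 (hn ▸ Ideal.pow_right_mono h n)

theorem nil_ker_stage (j : J A B C) :
    (IsNilpotent (RingHom.ker (algebraMap A B)) → IsNilpotent (RingHom.ker (algebraMap A (FB j)))) ∧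
    (IsNilpotent (RingHom.ker (algebraMap A C)) → IsNilpotent (RingHom.ker (algebraMap A (FC j)))) := by
  constructor
  · refine nil_of_le ?_
    intro a ha
    rw [RingHom.mem_ker] at ha ⊢
    have := (toB j).commutes a
    rw [ha, map_zero] at this
    exact this.symm
  · refine nil_of_le ?_
    intro a ha
    rw [RingHom.mem_ker] at ha ⊢
    have := (toC j).commutes a
    rw [ha, map_zero] at this
    exact this.symm

end Groth.Agent.H80.IntPair_Mdf
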