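import Mathlib

/-!
# The "no-name lemma" (Speiser descent for a linear action)

Helper library of helper80 (used by S15697).
-/

set_option autoImplicit false
set_option linter.unusedSectionVars false
set_option linter.unusedVariables false
set_option linter.unusedSimpArgs false

namespace Groth.Agent.H80.NoName

open scoped BigOperators

section BasisChange

variable {K A : Type*} [Field K] [CommRing A] [Algebra K A] {m : ℕ}

theorem algIndep_of_basis_change (y t : Fin m → A)
    (hy : AlgebraicIndependent K y) (ht : LinearIndependent K t)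
    (Amat : Fin m → Fin m → K) (hA : ∀ j, t j = ∑ l, Amat j l • y l)
    (Bmat : Fin m → Fin m → K) (hB : ∀ j, y j = ∑ l, Bmat j l • t l) :
    AlgebraicIndependent K t := by
  classical
  let φ : MvPolynomial (Fin m) K →ₐ[K] MvPolynomial (Fin m) K :=
    MvPolynomial.aeval (fun j => ∑ l, MvPolynomial.C (Amat j l) * MvPolynomial.X l)
  let ψ : MvPolynomial (Fin m) K →ₐ[K] MvPolynomial (Fin m) K :=
    MvPolynomial.aeval (fun j => ∑ l, MvPolynomial.C (Bmat j l) * MvPolynomial.X l)
  have h1 : (MvPolynomial.aeval y).comp φ = MvPolynomial.aeval t := by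
    apply MvPolynomial.algHom_ext
    intro j
    simp only [AlgHom.comp_apply, φ, MvPolynomial.aeval_X, map_sum, map_mul, MvPolynomial.aeval_C]
    rw [hA j]
    refine Finset.sum_congr rfl fun l _ => ?_
    rw [Algebra.smul_def]
  -- A * B = 1
  have hAB : ∀ j r, ∑ l, Amat j l * Bmat l r = if j = r then 1 else 0 := by
    intro j
    have h2 : ∑ r, (∑ l, Amat j l * Bmat l r - if j = r then 1 else 0) • t r = 0 := by
      simp only [sub_smul, Finset.sum_sub_distrib]
      have e1 : ∑ r, (∑ l, Amat j l * Bmat l r) • t r = t j := by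
        conv_rhs => rw [hA j]
        simp only [Finset.sum_smul]
        rw [Finset.sum_comm]
        refine Finset.sum_congr rfl fun l _ => ?_
        rw [hB l, Finset.smul_sum]
        refine Finset.sum_congr rfl fun r _ => ?_
        rw [mul_smul]
      have e2 : ∑ r, (if j = r then (1 : K) else 0) • t r = t j := by
        simp
      rw [e1, e2, sub_self]
    intro r
    have := Fintype.linearIndependent_iff.mp ht _ h2 r
    exact sub_eq_zero.mp this
  have h3 : ψ.comp φ = AlgHom.id K _ := by
    apply MvPolynomial.algHom_ext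
    intro j
    simp only [AlgHom.comp_apply, φ, ψ, MvPolynomial.aeval_X, map_sum, map_mul,
      MvPolynomial.aeval_C, AlgHom.id_apply]
    calc ∑ l, (algebraMap K (MvPolynomial (Fin m) K)) (Amat j l) *
          ∑ r, MvPolynomial.C (Bmat l r) * MvPolynomial.X r
        = ∑ r, MvPolynomial.C (∑ l, Amat j l * Bmat l r) * MvPolynomial.X r := by
          simp only [Finset.mul_sum, map_sum, Finset.sum_mul]
          rw [Finset.sum_comm]
          refine Finset.sum_congr rfl fun r _ => Finset.sum_congr rfl fun l _ => ?_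
          rw [MvPolynomial.algebraMap_eq, map_mul, mul_assoc]
      _ = MvPolynomial.X j := by
          simp only [hAB]
          simp
  rw [algebraicIndependent_iff_injective_aeval, ← h1]
  have hφ : Function.Injective φ := by
    intro a b hab
    have := congrArg ψ hab
    have e : ∀ c, ψ (φ c) = c := fun c => by
      have := AlgHom.congr_fun h3 c
      simpa using this
    rwa [e, e] at this
  exact (algebraicIndependent_iff_injective_aeval.mp hy).comp hφ

end BasisChange


section Main

variable {k L : Type*} [Field k] [Field L] [Algebra k L]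
  (K₁ : IntermediateField k L) (G : Subgroup (L ≃ₐ[k] L)) [Finite G] {m : ℕ} (y : Fin m → L)
  (h1 : ∀ σ ∈ G, ∀ c ∈ K₁, σ c ∈ K₁)
  (h2 : ∀ σ ∈ G, (∀ c ∈ K₁, σ c = c) → σ = 1)
  (h3 : ∀ σ ∈ G, ∀ j, σ (y j) ∈ Submodule.span ↥K₁ (Set.range y))

include h1 h3 in
lemma map_mem_W {σ : L ≃ₐ[k] L} (hσ : σ ∈ G) {w : L}
    (hw : w ∈ Submodule.span ↥K₁ (Set.range y)) :
    σ w ∈ Submodule.span ↥K₁ (Set.range y) := by
  induction hw using Submodule.span_induction with
  | mem x hx => obtain ⟨j, rfl⟩ := hx; exact h3 σ hσ j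
  | zero => rw [map_zero]; exact zero_mem _
  | add a b _ _ ha hb => rw [map_add]; exact add_mem ha hb
  | smul c a _ ha =>
    have : σ (c • a) = (⟨σ (c : L), h1 σ hσ c c.2⟩ : ↥K₁) • σ a := by
      rw [Algebra.smul_def, map_mul, Algebra.smul_def]; rfl
    rw [this]
    exact Submodule.smul_mem _ _ ha

/-- the invariant vectors of `W = span_{K₁} y` -/
def Inv : Set L := {w | w ∈ Submodule.span ↥K₁ (Set.range y) ∧ ∀ σ ∈ G, σ w = w}

include h1 h2 h3 in
lemma W_le_span_inv :
    Submodule.span ↥K₁ (Set.range y) ≤ Submodule.span ↥K₁ (Inv K₁ G y) := by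
  classical
  haveI : Fintype G := Fintype.ofFinite G
  intro w hw
  by_contra hnot
  obtain ⟨lam, hlamw, hlamS⟩ := Submodule.exists_dual_map_eq_bot_of_notMem hnot inferInstance
  have hlam0 : ∀ s ∈ Submodule.span ↥K₁ (Inv K₁ G y), lam s = 0 := by
    intro s hs
    have : lam s ∈ (Submodule.span ↥K₁ (Inv K₁ G y)).map lam := Submodule.mem_map_of_mem hs
    rw [hlamS] at this
    exact (Submodule.mem_bot _).mp this
  let χ : G → (↥K₁ →* ↥K₁) := fun σ =>
    { toFun := fun c => ⟨(σ : L ≃ₐ[k] L) (c : L), h1 σ σ.2 c c.2⟩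
      map_one' := Subtype.ext (map_one _)
      map_mul' := fun a b => Subtype.ext (map_mul _ _ _) }
  have hχ : Function.Injective χ := by
    intro σ τ hστ
    have h4 : ∀ c ∈ K₁, ((τ⁻¹ * σ : G) : L ≃ₐ[k] L) c = c := by
      intro c hc
      have e : (σ : L ≃ₐ[k] L) c = (τ : L ≃ₐ[k] L) c :=
        congrArg (fun f : ↥K₁ →* ↥K₁ => ((f ⟨c, hc⟩ : ↥K₁) : L)) hστ
      simp only [Subgroup.coe_mul, Subgroup.coe_inv, AlgEquiv.mul_apply]
      rw [e]
      exact (τ : L ≃ₐ[k] L).symm_apply_apply c
    have h5 := h2 _ (τ⁻¹ * σ).2 h4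
    have h6 : τ⁻¹ * σ = 1 := Subtype.ext h5
    exact (inv_mul_eq_one.mp h6).symm
  have hT : ∀ c : ↥K₁, ∑ σ : G, (χ σ c) * lam ((σ : L ≃ₐ[k] L) w) = 0 := by
    intro c
    have hmem : (∑ σ : G, (σ : L ≃ₐ[k] L) (c • w)) ∈ Inv K₁ G y := by
      constructor
      · exact Submodule.sum_mem _ fun σ _ =>
          map_mem_W K₁ G y h1 h3 σ.2 (Submodule.smul_mem _ c hw)
      · intro τ hτ
        rw [map_sum]
        exact Fintype.sum_equiv (Equiv.mulLeft (⟨τ, hτ⟩ : G)) _ _ (fun σ => rfl)
    have h0 := hlam0 _ (Submodule.subset_span hmem)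
    rw [map_sum] at h0
    rw [← h0]
    refine Finset.sum_congr rfl fun σ _ => ?_
    have : (σ : L ≃ₐ[k] L) (c • w) = (χ σ c) • (σ : L ≃ₐ[k] L) w := by
      rw [Algebra.smul_def, map_mul, Algebra.smul_def]; rfl
    rw [this, map_smul, smul_eq_mul]
  have hli : LinearIndependent ↥K₁ (fun σ : G => ((χ σ : ↥K₁ →* ↥K₁) : ↥K₁ → ↥K₁)) :=
    (linearIndependent_monoidHom ↥K₁ ↥K₁).comp χ hχ
  have hzero := Fintype.linearIndependent_iff.mp hli (fun σ => lam ((σ : L ≃ₐ[k] L) w)) (by
    funext c
    simp only [Finset.sum_apply, Pi.smul_apply, smul_eq_mul, Pi.zero_apply]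
    rw [← hT c]
    exact Finset.sum_congr rfl fun σ _ => mul_comm _ _) 1
  apply hlamw
  simpa using hzero

include h1 h2 h3 in
lemma exists_inv_basis (hy : LinearIndependent ↥K₁ y) :
    ∃ t : Fin m → L, (∀ j, t j ∈ Submodule.span ↥K₁ (Set.range y)) ∧
      (∀ j, ∀ σ ∈ G, σ (t j) = t j) ∧ LinearIndependent ↥K₁ t ∧
      Submodule.span ↥K₁ (Set.range t) = Submodule.span ↥K₁ (Set.range y) := by
  have hspan : Submodule.span ↥K₁ (Inv K₁ G y) = Submodule.span ↥K₁ (Set.range y) :=
    le_antisymm (Submodule.span_le.mpr fun w hw => hw.1) (W_le_span_inv K₁ G y h1 h2 h3)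
  haveI : Module.Finite ↥K₁ (Submodule.span ↥K₁ (Inv K₁ G y)) := by
    rw [hspan]; exact Module.Finite.span_of_finite _ (Set.finite_range y)
  obtain ⟨f, hfmem, hfspan, hfli⟩ := Submodule.exists_fun_fin_finrank_span_eq ↥K₁ (Inv K₁ G y)
  have hm : Module.finrank ↥K₁ (Submodule.span ↥K₁ (Inv K₁ G y)) = m := by
    rw [hspan, finrank_span_eq_card hy, Fintype.card_fin]
  refine ⟨f ∘ finCongr hm.symm, ?_, ?_, ?_, ?_⟩
  · intro j; exact (hfmem _).1
  · intro j; exact (hfmem _).2
  · exact hfli.comp _ (finCongr hm.symm).injective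
  · rw [EquivLike.range_comp f (finCongr hm.symm), hfspan, hspan]

include h1 h2 h3 in
theorem noname (hcard : (Nat.card G : L) ≠ 0) (hy : AlgebraicIndependent ↥K₁ y)
    (h5 : IntermediateField.adjoin ↥K₁ (Set.range y) = ⊤) :
    ∃ t : Fin m → L, AlgebraicIndependent ↥(K₁ ⊓ IntermediateField.fixedField G) t ∧
      IntermediateField.restrictScalars k
        (IntermediateField.adjoin ↥(K₁ ⊓ IntermediateField.fixedField G) (Set.range t)) =
        IntermediateField.fixedField G := by
  classical
  haveI : Fintype G := Fintype.ofFinite G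
  obtain ⟨t, htW, htinv, htli, htspan⟩ := exists_inv_basis K₁ G y h1 h2 h3 hy.linearIndependent
  have hA : ∀ j, ∃ a : Fin m → ↥K₁, t j = ∑ l, a l • y l := fun j => by
    have := htW j
    rw [Submodule.mem_span_range_iff_exists_fun] at this
    obtain ⟨a, ha⟩ := this
    exact ⟨a, ha.symm⟩
  choose Amat hAmat using hA
  have hB : ∀ j, ∃ b : Fin m → ↥K₁, y j = ∑ l, b l • t l := fun j => by
    have : y j ∈ Submodule.span ↥K₁ (Set.range t) := by
      rw [htspan]; exact Submodule.subset_span ⟨j, rfl⟩
    rw [Submodule.mem_span_range_iff_exists_fun] at this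
    obtain ⟨b, hb⟩ := this
    exact ⟨b, hb.symm⟩
  choose Bmat hBmat using hB
  have htalg : AlgebraicIndependent ↥K₁ t :=
    algIndep_of_basis_change y t hy htli Amat hAmat Bmat hBmat
  have hFK : K₁ ⊓ IntermediateField.fixedField G ≤ K₁ := inf_le_left
  have hFG : K₁ ⊓ IntermediateField.fixedField G ≤ IntermediateField.fixedField G := inf_le_right
  letI : Algebra ↥(K₁ ⊓ IntermediateField.fixedField G) ↥K₁ :=
    (IntermediateField.inclusion hFK).toRingHom.toAlgebra
  haveI : IsScalarTower ↥(K₁ ⊓ IntermediateField.fixedField G) ↥K₁ L :=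
    IsScalarTower.of_algebraMap_eq (fun _ => rfl)
  refine ⟨t, htalg.restrictScalars
    (algebraMap ↥(K₁ ⊓ IntermediateField.fixedField G) ↥K₁).injective, ?_⟩
  have hle : IntermediateField.adjoin ↥(K₁ ⊓ IntermediateField.fixedField G) (Set.range t) ≤
      IntermediateField.extendScalars hFG := by
    rw [IntermediateField.adjoin_le_iff]
    rintro _ ⟨j, rfl⟩
    exact (IntermediateField.mem_fixedField_iff _ _).mpr (fun σ hσ => htinv j σ hσ)
  have hE'inv : ∀ e ∈ IntermediateField.adjoin ↥(K₁ ⊓ IntermediateField.fixedField G)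
      (Set.range t), ∀ σ ∈ G, σ e = e := by
    intro e he σ hσ
    exact (IntermediateField.mem_fixedField_iff _ _).mp (hle he) σ hσ
  apply le_antisymm
  · intro z hz
    exact hle hz
  · letI : MulSemiringAction ↥G ↥K₁ :=
      { smul := fun σ c => ⟨(σ : L ≃ₐ[k] L) (c : L), h1 σ σ.2 c c.2⟩
        one_smul := fun c => Subtype.ext rfl
        mul_smul := fun σ τ c => Subtype.ext rfl
        smul_zero := fun σ => Subtype.ext (map_zero _)
        smul_add := fun σ a b => Subtype.ext (map_add _ _ _)
        smul_one := fun σ => Subtype.ext (map_one _)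
        smul_mul := fun σ a b => Subtype.ext (map_mul _ _ _) }
    haveI : Algebra.IsInvariant ↥(K₁ ⊓ IntermediateField.fixedField G) ↥K₁ ↥G :=
      ⟨fun b hb => ⟨⟨(b : L), ⟨b.2, (IntermediateField.mem_fixedField_iff _ _).mpr
        fun σ hσ => congrArg Subtype.val (hb ⟨σ, hσ⟩)⟩⟩, rfl⟩⟩
    have hint : Algebra.IsIntegral ↥(K₁ ⊓ IntermediateField.fixedField G) ↥K₁ :=
      Algebra.IsInvariant.isIntegral ↥(K₁ ⊓ IntermediateField.fixedField G) ↥K₁ ↥G
    have hintL : ∀ c ∈ K₁, IsIntegral ↥(K₁ ⊓ IntermediateField.fixedField G) (c : L) := by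
      intro c hc
      have := hint.isIntegral ⟨c, hc⟩
      exact this.map (IsScalarTower.toAlgHom ↥(K₁ ⊓ IntermediateField.fixedField G) ↥K₁ L)
    have hintE' : ∀ c ∈ (K₁ : Set L), IsAlgebraic
        ↥(IntermediateField.adjoin ↥(K₁ ⊓ IntermediateField.fixedField G) (Set.range t)) c :=
      fun c hc => (hintL c hc).tower_top.isAlgebraic
    have hadj := IntermediateField.adjoin_toSubalgebra_of_isAlgebraic hintE'
    have htop : IntermediateField.adjoin
        ↥(IntermediateField.adjoin ↥(K₁ ⊓ IntermediateField.fixedField G) (Set.range t))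
        (K₁ : Set L) = ⊤ := by
      rw [eq_top_iff]
      rintro z -
      have hz : z ∈ IntermediateField.adjoin ↥K₁ (Set.range y) := by rw [h5]; trivial
      induction hz using IntermediateField.adjoin_induction with
      | mem x hx =>
        obtain ⟨j, rfl⟩ := hx
        rw [hBmat j]
        refine sum_mem fun l _ => ?_
        rw [Algebra.smul_def]
        refine mul_mem (IntermediateField.subset_adjoin _ _ (Bmat j l).2) ?_
        exact IntermediateField.algebraMap_mem _ (⟨t l, IntermediateField.subset_adjoin _ _ ⟨l, rfl⟩⟩ :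
          ↥(IntermediateField.adjoin ↥(K₁ ⊓ IntermediateField.fixedField G) (Set.range t)))
      | algebraMap c => exact IntermediateField.subset_adjoin _ _ c.2
      | add a b _ _ ha hb => exact add_mem ha hb
      | inv a _ ha => exact inv_mem ha
      | mul a b _ _ ha hb => exact mul_mem ha hb
    have hspanE : ∀ z : L, z ∈ Submodule.span
        ↥(IntermediateField.adjoin ↥(K₁ ⊓ IntermediateField.fixedField G) (Set.range t))
        (K₁ : Set L) := by
      intro z
      have hz : z ∈ Subalgebra.toSubmodule (Algebra.adjoin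
          ↥(IntermediateField.adjoin ↥(K₁ ⊓ IntermediateField.fixedField G) (Set.range t))
          (K₁ : Set L)) := by
        rw [Subalgebra.mem_toSubmodule, ← hadj, htop]; trivial
      have hcl : Submonoid.closure (K₁ : Set L) = K₁.toSubalgebra.toSubsemiring.toSubmonoid :=
        Submonoid.closure_eq _
      rw [Algebra.adjoin_eq_span, hcl] at hz
      exact hz
    have htr : ∀ z ∈ Submodule.span
        ↥(IntermediateField.adjoin ↥(K₁ ⊓ IntermediateField.fixedField G) (Set.range t))
        (K₁ : Set L), (∑ σ : G, (σ : L ≃ₐ[k] L) z) ∈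
        IntermediateField.adjoin ↥(K₁ ⊓ IntermediateField.fixedField G) (Set.range t) := by
      intro z hz
      induction hz using Submodule.span_induction with
      | mem c hc =>
        have hmemF : (∑ σ : G, (σ : L ≃ₐ[k] L) c) ∈ K₁ ⊓ IntermediateField.fixedField G := by
          refine ⟨sum_mem fun σ _ => h1 σ σ.2 c hc, ?_⟩
          show _ ∈ IntermediateField.fixedField G
          rw [IntermediateField.mem_fixedField_iff]
          intro τ hτ
          rw [map_sum]
          exact Fintype.sum_equiv (Equiv.mulLeft (⟨τ, hτ⟩ : G)) _ _ (fun σ => rfl)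
        exact IntermediateField.algebraMap_mem _
          (⟨_, hmemF⟩ : ↥(K₁ ⊓ IntermediateField.fixedField G))
      | zero => simp
      | add a b _ _ ha hb =>
        simp only [map_add, Finset.sum_add_distrib]; exact add_mem ha hb
      | smul e a _ ha =>
        have : ∑ σ : G, (σ : L ≃ₐ[k] L) (e • a) = (e : L) * ∑ σ : G, (σ : L ≃ₐ[k] L) a := by
          rw [Finset.mul_sum]
          refine Finset.sum_congr rfl fun σ _ => ?_
          rw [Algebra.smul_def, map_mul]
          congr 1
          exact hE'inv _ e.2 σ σ.2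
        rw [this]
        exact mul_mem e.2 ha
    intro z hz
    have hzinv : ∀ σ ∈ G, σ z = z := (IntermediateField.mem_fixedField_iff _ _).mp hz
    have hsum : ∑ σ : G, (σ : L ≃ₐ[k] L) z = (Nat.card G : L) * z := by
      rw [Finset.sum_congr rfl (fun (σ : G) _ => hzinv (σ : L ≃ₐ[k] L) σ.2), Finset.sum_const, Finset.card_univ,
        nsmul_eq_mul, Nat.card_eq_fintype_card]
    have h6 := htr z (hspanE z)
    rw [hsum] at h6
    have h7 : z = (Nat.card G : L)⁻¹ * ((Nat.card G : L) * z) := by field_simp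
    show z ∈ IntermediateField.adjoin ↥(K₁ ⊓ IntermediateField.fixedField G) (Set.range t)
    rw [h7]
    exact mul_mem (inv_mem (natCast_mem _ _)) h6

end Main

end Groth.Agent.H80.NoName
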