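import Mathlib
import Groth.Prelude.Def_W4c2brnrinvarInvFld
import Groth.Agent.H80.NoName

/-!
# Rational function fields: embeddings along index maps and joint extension of automorphisms

Helper library of helper80 (used by S15696, S15698).
-/

set_option autoImplicit false
set_option linter.unusedSectionVars false
set_option linter.unusedVariables false
set_option linter.unusedSimpArgs false

namespace Groth.Agent.H80.InvFldAct

open MvPolynomial

universe u

variable {k : Type u} [Field k]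

section Basics

variable {ι ι' : Type*}

theorem algHom_ext_X {L' : Type*} [Field L'] [Algebra k L'] (f g : InvFld.Fld ι k →ₐ[k] L')
    (h : ∀ i, f (InvFld.X i) = g (InvFld.X i)) : f = g := by
  have h1 : (f : InvFld.Fld ι k →+* L').comp (algebraMap (MvPolynomial ι k) (InvFld.Fld ι k)) =
      (g : InvFld.Fld ι k →+* L').comp (algebraMap (MvPolynomial ι k) (InvFld.Fld ι k)) := by
    apply MvPolynomial.ringHom_ext
    · intro a
      have e : algebraMap (MvPolynomial ι k) (InvFld.Fld ι k) (C a) =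
          algebraMap k (InvFld.Fld ι k) a := by
        rw [← MvPolynomial.algebraMap_eq, ← IsScalarTower.algebraMap_apply]
      simp only [RingHom.comp_apply, e, RingHom.coe_coe, AlgHom.commutes]
    · intro i
      exact h i
  have h2 := IsLocalization.ringHom_ext (nonZeroDivisors (MvPolynomial ι k)) h1
  exact AlgHom.ext fun x => DFunLike.congr_fun h2 x

theorem exists_poly_of_mem_span {v : InvFld.Fld ι k}
    (hv : v ∈ Submodule.span k (Set.range fun j : ι => (InvFld.X j : InvFld.Fld ι k))) :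
    ∃ p : MvPolynomial ι k, algebraMap (MvPolynomial ι k) (InvFld.Fld ι k) p = v := by
  have hle : Submodule.span k (Set.range fun j : ι => (InvFld.X j : InvFld.Fld ι k)) ≤
      LinearMap.range (IsScalarTower.toAlgHom k (MvPolynomial ι k) (InvFld.Fld ι k)).toLinearMap := by
    rw [Submodule.span_le]
    rintro _ ⟨j, rfl⟩
    exact ⟨X j, rfl⟩
  obtain ⟨p, hp⟩ := hle hv
  exact ⟨p, hp⟩

theorem aeval_X_eq_algebraMap (p : MvPolynomial ι k) :
    aeval (fun i => (InvFld.X i : InvFld.Fld ι k)) p =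
      algebraMap (MvPolynomial ι k) (InvFld.Fld ι k) p := by
  have : aeval (fun i => (InvFld.X i : InvFld.Fld ι k)) =
      IsScalarTower.toAlgHom k (MvPolynomial ι k) (InvFld.Fld ι k) := by
    apply MvPolynomial.algHom_ext
    intro i
    simp
  rw [this]; rfl

/-- the polynomial-level map underlying `emb` -/
noncomputable def embHom (j : ι → ι') : MvPolynomial ι k →ₐ[k] InvFld.Fld ι' k :=
  (IsScalarTower.toAlgHom k (MvPolynomial ι' k) (InvFld.Fld ι' k)).comp (rename j)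

theorem embHom_apply (j : ι → ι') (p : MvPolynomial ι k) :
    embHom j p = algebraMap (MvPolynomial ι' k) (InvFld.Fld ι' k) (rename j p) := rfl

theorem embHom_injective (j : ι → ι') (hj : Function.Injective j) :
    Function.Injective (embHom (k := k) j) := by
  intro a b h
  rw [embHom_apply, embHom_apply] at h
  exact rename_injective j hj (IsFractionRing.injective (MvPolynomial ι' k) (InvFld.Fld ι' k) h)

/-- embedding of rational function fields along an injective map of index types -/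
noncomputable def emb (j : ι → ι') (hj : Function.Injective j) :
    InvFld.Fld ι k →ₐ[k] InvFld.Fld ι' k :=
  IsFractionRing.liftAlgHom (g := embHom j) (embHom_injective j hj)

theorem emb_algebraMap (j : ι → ι') (hj : Function.Injective j) (p : MvPolynomial ι k) :
    emb j hj (algebraMap (MvPolynomial ι k) (InvFld.Fld ι k) p) =
      algebraMap (MvPolynomial ι' k) (InvFld.Fld ι' k) (rename j p) := by
  unfold emb
  rw [IsFractionRing.liftAlgHom_apply, IsFractionRing.lift_algebraMap]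
  rfl

theorem emb_X (j : ι → ι') (hj : Function.Injective j) (i : ι) :
    emb j hj (InvFld.X i : InvFld.Fld ι k) = InvFld.X (j i) := by
  show emb j hj (algebraMap _ _ (X i)) = _
  rw [emb_algebraMap, rename_X]

theorem emb_fieldRange (j : ι → ι') (hj : Function.Injective j) :
    (emb (k := k) j hj).fieldRange =
      IntermediateField.adjoin k (Set.range fun i : ι => (InvFld.X (j i) : InvFld.Fld ι' k)) := by
  apply le_antisymm
  · rintro _ ⟨z, rfl⟩
    have hpoly : ∀ p : MvPolynomial ι k,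
        emb j hj (algebraMap (MvPolynomial ι k) (InvFld.Fld ι k) p) ∈
        IntermediateField.adjoin k (Set.range fun i : ι =>
          (InvFld.X (j i) : InvFld.Fld ι' k)) := by
      intro p
      induction p using MvPolynomial.induction_on with
      | C a =>
        have e : algebraMap (MvPolynomial ι k) (InvFld.Fld ι k) (C a) =
            algebraMap k (InvFld.Fld ι k) a := by
          rw [← MvPolynomial.algebraMap_eq, ← IsScalarTower.algebraMap_apply]
        rw [e, AlgHom.commutes]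
        exact IntermediateField.algebraMap_mem _ a
      | add p q hp hq => rw [map_add, map_add]; exact add_mem hp hq
      | mul_X p i hp =>
        rw [map_mul, map_mul]
        refine mul_mem hp ?_
        have : emb j hj (algebraMap (MvPolynomial ι k) (InvFld.Fld ι k) (X i)) =
            InvFld.X (j i) := emb_X j hj i
        rw [this]
        exact IntermediateField.subset_adjoin _ _ ⟨i, rfl⟩
    obtain ⟨a, b, _, rfl⟩ := IsFractionRing.div_surjective (A := MvPolynomial ι k) z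
    show emb j hj (_ / _) ∈ _
    rw [map_div₀]
    exact div_mem (hpoly a) (hpoly b)
  · rw [IntermediateField.adjoin_le_iff]
    rintro _ ⟨i, rfl⟩
    exact ⟨InvFld.X i, emb_X j hj i⟩

theorem emb_mem_span (j : ι → ι') (hj : Function.Injective j) {v : InvFld.Fld ι k}
    (hv : v ∈ Submodule.span k (Set.range fun i : ι => (InvFld.X i : InvFld.Fld ι k))) :
    emb j hj v ∈ Submodule.span k
      (Set.range fun i : ι => (InvFld.X (j i) : InvFld.Fld ι' k)) := by
  induction hv using Submodule.span_induction with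
  | mem x hx =>
    obtain ⟨i, rfl⟩ := hx
    rw [emb_X]
    exact Submodule.subset_span ⟨i, rfl⟩
  | zero => rw [map_zero]; exact zero_mem _
  | add a b _ _ ha hb => rw [map_add]; exact add_mem ha hb
  | smul c a _ ha => rw [map_smul]; exact Submodule.smul_mem _ _ ha

theorem mem_adjoin_iff_emb (j : ι → ι') (hj : Function.Injective j) (c : InvFld.Fld ι' k) :
    c ∈ IntermediateField.adjoin k
      (Set.range fun i : ι => (InvFld.X (j i) : InvFld.Fld ι' k)) ↔
      ∃ z, emb j hj z = c := by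
  rw [← emb_fieldRange j hj]
  exact Iff.rfl

end Basics

section Ext

variable {ι ι₁ ι₂ : Type*}

/-- `σ` sends each variable to a polynomial -/
def IsPoly (σ : InvFld.Fld ι k ≃ₐ[k] InvFld.Fld ι k) : Prop :=
  ∀ i, ∃ p : MvPolynomial ι k,
    algebraMap (MvPolynomial ι k) (InvFld.Fld ι k) p = σ (InvFld.X i)

theorem aeval_comp_lift (σ : InvFld.Fld ι k ≃ₐ[k] InvFld.Fld ι k) (q : ι → MvPolynomial ι k)
    (hq : ∀ i, algebraMap (MvPolynomial ι k) (InvFld.Fld ι k) (q i) = σ (InvFld.X i))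
    (p : MvPolynomial ι k) :
    algebraMap (MvPolynomial ι k) (InvFld.Fld ι k) (aeval q p) =
      σ (algebraMap (MvPolynomial ι k) (InvFld.Fld ι k) p) := by
  have : (IsScalarTower.toAlgHom k (MvPolynomial ι k) (InvFld.Fld ι k)).comp (aeval q) =
      (σ : InvFld.Fld ι k →ₐ[k] InvFld.Fld ι k).comp
        (IsScalarTower.toAlgHom k (MvPolynomial ι k) (InvFld.Fld ι k)) := by
    apply MvPolynomial.algHom_ext
    intro i
    show algebraMap (MvPolynomial ι k) (InvFld.Fld ι k) (aeval q (X i)) =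
      σ (algebraMap (MvPolynomial ι k) (InvFld.Fld ι k) (X i))
    rw [aeval_X, hq]
  exact AlgHom.congr_fun this p

/-- the polynomial-level joint substitution -/
noncomputable def theta (p₁ : ι₁ → MvPolynomial ι₁ k) (p₂ : ι₂ → MvPolynomial ι₂ k) :
    MvPolynomial (ι₁ ⊕ ι₂) k →ₐ[k] MvPolynomial (ι₁ ⊕ ι₂) k :=
  aeval (Sum.elim (fun i => rename Sum.inl (p₁ i)) (fun j => rename Sum.inr (p₂ j)))

theorem theta_X_inl (p₁ : ι₁ → MvPolynomial ι₁ k) (p₂ : ι₂ → MvPolynomial ι₂ k) (i : ι₁) :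
    theta p₁ p₂ (X (Sum.inl i)) = rename Sum.inl (p₁ i) := by
  unfold theta
  rw [aeval_X]
  rfl

theorem theta_X_inr (p₁ : ι₁ → MvPolynomial ι₁ k) (p₂ : ι₂ → MvPolynomial ι₂ k) (j : ι₂) :
    theta p₁ p₂ (X (Sum.inr j)) = rename Sum.inr (p₂ j) := by
  unfold theta
  rw [aeval_X]
  rfl

theorem theta_rename_inl (p₁ : ι₁ → MvPolynomial ι₁ k) (p₂ : ι₂ → MvPolynomial ι₂ k)
    (a : MvPolynomial ι₁ k) :
    theta p₁ p₂ (rename Sum.inl a) = rename Sum.inl (aeval p₁ a) := by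
  have : (theta p₁ p₂).comp (rename Sum.inl) =
      (rename Sum.inl : MvPolynomial ι₁ k →ₐ[k] MvPolynomial (ι₁ ⊕ ι₂) k).comp (aeval p₁) := by
    apply MvPolynomial.algHom_ext
    intro i
    show theta p₁ p₂ (rename Sum.inl (X i)) = rename Sum.inl (aeval p₁ (X i))
    rw [rename_X, theta_X_inl, aeval_X]
  exact AlgHom.congr_fun this a

theorem theta_rename_inr (p₁ : ι₁ → MvPolynomial ι₁ k) (p₂ : ι₂ → MvPolynomial ι₂ k)
    (a : MvPolynomial ι₂ k) :
    theta p₁ p₂ (rename Sum.inr a) = rename Sum.inr (aeval p₂ a) := by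
  have : (theta p₁ p₂).comp (rename Sum.inr) =
      (rename Sum.inr : MvPolynomial ι₂ k →ₐ[k] MvPolynomial (ι₁ ⊕ ι₂) k).comp (aeval p₂) := by
    apply MvPolynomial.algHom_ext
    intro i
    show theta p₁ p₂ (rename Sum.inr (X i)) = rename Sum.inr (aeval p₂ (X i))
    rw [rename_X, theta_X_inr, aeval_X]
  exact AlgHom.congr_fun this a

theorem theta_comp (p₁ q₁ : ι₁ → MvPolynomial ι₁ k) (p₂ q₂ : ι₂ → MvPolynomial ι₂ k)
    (h₁ : ∀ i, aeval q₁ (p₁ i) = X i) (h₂ : ∀ j, aeval q₂ (p₂ j) = X j) :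
    (theta q₁ q₂).comp (theta p₁ p₂) = AlgHom.id k (MvPolynomial (ι₁ ⊕ ι₂) k) := by
  apply MvPolynomial.algHom_ext
  rintro (i | j)
  · show theta q₁ q₂ (theta p₁ p₂ (X (Sum.inl i))) = X (Sum.inl i)
    rw [theta_X_inl, theta_rename_inl, h₁, rename_X]
  · show theta q₁ q₂ (theta p₁ p₂ (X (Sum.inr j))) = X (Sum.inr j)
    rw [theta_X_inr, theta_rename_inr, h₂, rename_X]

theorem exists_ext (σ₁ : InvFld.Fld ι₁ k ≃ₐ[k] InvFld.Fld ι₁ k)
    (σ₂ : InvFld.Fld ι₂ k ≃ₐ[k] InvFld.Fld ι₂ k)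
    (h1 : IsPoly σ₁) (h1' : IsPoly σ₁.symm) (h2 : IsPoly σ₂) (h2' : IsPoly σ₂.symm) :
    ∃ Φ : InvFld.Fld (ι₁ ⊕ ι₂) k ≃ₐ[k] InvFld.Fld (ι₁ ⊕ ι₂) k,
      (∀ z, Φ (emb Sum.inl Sum.inl_injective z) = emb Sum.inl Sum.inl_injective (σ₁ z)) ∧
      (∀ w, Φ (emb Sum.inr Sum.inr_injective w) = emb Sum.inr Sum.inr_injective (σ₂ w)) := by
  choose p₁ hp₁ using h1
  choose q₁ hq₁ using h1'
  choose p₂ hp₂ using h2
  choose q₂ hq₂ using h2'
  have hinj₁ := IsFractionRing.injective (MvPolynomial ι₁ k) (InvFld.Fld ι₁ k)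
  have hinj₂ := IsFractionRing.injective (MvPolynomial ι₂ k) (InvFld.Fld ι₂ k)
  have a₁ : ∀ i, aeval q₁ (p₁ i) = X i := fun i => hinj₁ (by
    rw [aeval_comp_lift σ₁.symm q₁ hq₁, hp₁, AlgEquiv.symm_apply_apply])
  have b₁ : ∀ i, aeval p₁ (q₁ i) = X i := fun i => hinj₁ (by
    rw [aeval_comp_lift σ₁ p₁ hp₁, hq₁, AlgEquiv.apply_symm_apply])
  have a₂ : ∀ i, aeval q₂ (p₂ i) = X i := fun i => hinj₂ (by
    rw [aeval_comp_lift σ₂.symm q₂ hq₂, hp₂, AlgEquiv.symm_apply_apply])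
  have b₂ : ∀ i, aeval p₂ (q₂ i) = X i := fun i => hinj₂ (by
    rw [aeval_comp_lift σ₂ p₂ hp₂, hq₂, AlgEquiv.apply_symm_apply])
  let Θ : MvPolynomial (ι₁ ⊕ ι₂) k ≃ₐ[k] MvPolynomial (ι₁ ⊕ ι₂) k :=
    AlgEquiv.ofAlgHom (theta p₁ p₂) (theta q₁ q₂) (theta_comp q₁ p₁ q₂ p₂ b₁ b₂)
      (theta_comp p₁ q₁ p₂ q₂ a₁ a₂)
  let Φ : InvFld.Fld (ι₁ ⊕ ι₂) k ≃ₐ[k] InvFld.Fld (ι₁ ⊕ ι₂) k :=
    IsFractionRing.algEquivOfAlgEquiv Θ
  have hΦ : ∀ a : MvPolynomial (ι₁ ⊕ ι₂) k,
      Φ (algebraMap (MvPolynomial (ι₁ ⊕ ι₂) k) (InvFld.Fld (ι₁ ⊕ ι₂) k) a) =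
        algebraMap (MvPolynomial (ι₁ ⊕ ι₂) k) (InvFld.Fld (ι₁ ⊕ ι₂) k) (theta p₁ p₂ a) :=
    fun a => IsFractionRing.algEquivOfAlgEquiv_algebraMap Θ a
  refine ⟨Φ, ?_, ?_⟩
  · have : (Φ : InvFld.Fld (ι₁ ⊕ ι₂) k →ₐ[k] InvFld.Fld (ι₁ ⊕ ι₂) k).comp
        (emb Sum.inl Sum.inl_injective) =
        (emb Sum.inl Sum.inl_injective).comp (σ₁ : InvFld.Fld ι₁ k →ₐ[k] InvFld.Fld ι₁ k) := by
      apply algHom_ext_X
      intro i
      show Φ (emb Sum.inl Sum.inl_injective (InvFld.X i)) =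
        emb Sum.inl Sum.inl_injective (σ₁ (InvFld.X i))
      rw [emb_X, ← hp₁ i, emb_algebraMap]
      show Φ (algebraMap _ _ (X (Sum.inl i))) = _
      rw [hΦ, theta_X_inl]
    exact fun z => AlgHom.congr_fun this z
  · have : (Φ : InvFld.Fld (ι₁ ⊕ ι₂) k →ₐ[k] InvFld.Fld (ι₁ ⊕ ι₂) k).comp
        (emb Sum.inr Sum.inr_injective) =
        (emb Sum.inr Sum.inr_injective).comp (σ₂ : InvFld.Fld ι₂ k →ₐ[k] InvFld.Fld ι₂ k) := by
      apply algHom_ext_X
      intro i
      show Φ (emb Sum.inr Sum.inr_injective (InvFld.X i)) =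
        emb Sum.inr Sum.inr_injective (σ₂ (InvFld.X i))
      rw [emb_X, ← hp₂ i, emb_algebraMap]
      show Φ (algebraMap _ _ (X (Sum.inr i))) = _
      rw [hΦ, theta_X_inr]
    exact fun z => AlgHom.congr_fun this z

theorem ext_unique (Φ Φ' : InvFld.Fld (ι₁ ⊕ ι₂) k ≃ₐ[k] InvFld.Fld (ι₁ ⊕ ι₂) k)
    (h1 : ∀ i, Φ (InvFld.X (Sum.inl i)) = Φ' (InvFld.X (Sum.inl i)))
    (h2 : ∀ j, Φ (InvFld.X (Sum.inr j)) = Φ' (InvFld.X (Sum.inr j))) : Φ = Φ' := by
  have : (Φ : InvFld.Fld (ι₁ ⊕ ι₂) k →ₐ[k] InvFld.Fld (ι₁ ⊕ ι₂) k) = Φ' := by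
    apply algHom_ext_X
    rintro (i | j)
    · exact h1 i
    · exact h2 j
  exact AlgEquiv.ext fun x => AlgHom.congr_fun this x

end Ext

section Gamma

variable {ι₁ ι₂ : Type*} (G : Subgroup (InvFld.Fld ι₁ k ≃ₐ[k] InvFld.Fld ι₁ k))
  (H : Subgroup (InvFld.Fld ι₂ k ≃ₐ[k] InvFld.Fld ι₂ k)) (e : G ≃* H)

/-- `γ` acts as `g` on the first block of variables and as `e g` on the second -/
def IsJoint (g : G) (γ : InvFld.Fld (ι₁ ⊕ ι₂) k ≃ₐ[k] InvFld.Fld (ι₁ ⊕ ι₂) k) : Prop :=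
  (∀ z, γ (emb Sum.inl Sum.inl_injective z) =
    emb Sum.inl Sum.inl_injective ((g : InvFld.Fld ι₁ k ≃ₐ[k] InvFld.Fld ι₁ k) z)) ∧
  (∀ w, γ (emb Sum.inr Sum.inr_injective w) =
    emb Sum.inr Sum.inr_injective ((e g : InvFld.Fld ι₂ k ≃ₐ[k] InvFld.Fld ι₂ k) w))

/-- the diagonal group acting on `k(x, y)` -/
def Gamma : Subgroup (InvFld.Fld (ι₁ ⊕ ι₂) k ≃ₐ[k] InvFld.Fld (ι₁ ⊕ ι₂) k) where
  carrier := {γ | ∃ g : G, IsJoint G H e g γ}
  mul_mem' := by
    rintro γ γ' ⟨g, hg1, hg2⟩ ⟨g', hg1', hg2'⟩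
    refine ⟨g * g', fun z => ?_, fun w => ?_⟩
    · show γ (γ' _) = _
      rw [hg1', hg1]
      rfl
    · show γ (γ' _) = _
      rw [hg2', hg2, map_mul]
      rfl
  one_mem' := ⟨1, fun z => rfl, fun w => by rw [map_one]; rfl⟩
  inv_mem' := by
    rintro γ ⟨g, hg1, hg2⟩
    refine ⟨g⁻¹, fun z => ?_, fun w => ?_⟩
    · show γ.symm (emb Sum.inl Sum.inl_injective z) =
        emb Sum.inl Sum.inl_injective
          ((g : InvFld.Fld ι₁ k ≃ₐ[k] InvFld.Fld ι₁ k).symm z)
      rw [AlgEquiv.symm_apply_eq, hg1, AlgEquiv.apply_symm_apply]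
    · rw [map_inv]
      show γ.symm (emb Sum.inr Sum.inr_injective w) =
        emb Sum.inr Sum.inr_injective
          ((e g : InvFld.Fld ι₂ k ≃ₐ[k] InvFld.Fld ι₂ k).symm w)
      rw [AlgEquiv.symm_apply_eq, hg2, AlgEquiv.apply_symm_apply]

theorem mem_Gamma {γ : InvFld.Fld (ι₁ ⊕ ι₂) k ≃ₐ[k] InvFld.Fld (ι₁ ⊕ ι₂) k} :
    γ ∈ Gamma G H e ↔ ∃ g : G, IsJoint G H e g γ := Iff.rfl

theorem joint_unique {g : G} {γ γ' : InvFld.Fld (ι₁ ⊕ ι₂) k ≃ₐ[k] InvFld.Fld (ι₁ ⊕ ι₂) k}
    (h : IsJoint G H e g γ) (h' : IsJoint G H e g γ') : γ = γ' := by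
  apply ext_unique
  · intro i
    rw [← emb_X Sum.inl Sum.inl_injective i, h.1, h'.1]
  · intro j
    rw [← emb_X Sum.inr Sum.inr_injective j, h.2, h'.2]

variable (hGp : ∀ σ ∈ G, IsPoly σ) (hHp : ∀ τ ∈ H, IsPoly τ)

include hGp hHp in
theorem exists_joint (g : G) : ∃ γ, IsJoint G H e g γ :=
  exists_ext (g : InvFld.Fld ι₁ k ≃ₐ[k] InvFld.Fld ι₁ k)
    (e g : InvFld.Fld ι₂ k ≃ₐ[k] InvFld.Fld ι₂ k) (hGp _ g.2) (hGp _ (G.inv_mem g.2))
    (hHp _ (e g).2) (hHp _ (H.inv_mem (e g).2))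

include hGp hHp in
theorem finite_Gamma [Finite G] : Finite (Gamma G H e) := by
  choose Φ hΦ using exists_joint G H e hGp hHp
  have hsub : (Gamma G H e : Set (InvFld.Fld (ι₁ ⊕ ι₂) k ≃ₐ[k] InvFld.Fld (ι₁ ⊕ ι₂) k)) ⊆
      Set.range Φ := by
    rintro γ ⟨g, hg⟩
    exact ⟨g, joint_unique G H e (hΦ g) hg⟩
  exact (Set.Finite.subset (Set.finite_range Φ) hsub).to_subtype

end Gamma

section Side

variable {A L : Type*} [Field A] [Field L] [Algebra k A] [Algebra k L]

theorem side (j : A →ₐ[k] L) (GA : Subgroup (A ≃ₐ[k] A)) (Γ : Subgroup (L ≃ₐ[k] L)) [Finite Γ]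
    (K₁ : IntermediateField k L) (hK : ∀ c, c ∈ K₁ ↔ ∃ z, j z = c)
    (hcompat : ∀ γ ∈ Γ, ∃ σ ∈ GA, ∀ z, γ (j z) = j (σ z))
    (hsurj : ∀ σ ∈ GA, ∃ γ ∈ Γ, ∀ z, γ (j z) = j (σ z))
    (hfaith : ∀ γ ∈ Γ, (∀ z, γ (j z) = j z) → γ = 1)
    {m : ℕ} (y : Fin m → L)
    (h3 : ∀ γ ∈ Γ, ∀ i, γ (y i) ∈ Submodule.span ↥K₁ (Set.range y))
    (hcard : (Nat.card Γ : L) ≠ 0) (hy : AlgebraicIndependent ↥K₁ y)
    (h5 : IntermediateField.adjoin ↥K₁ (Set.range y) = ⊤) :
    Nonempty (InvFld.Fld (Fin m) ↥(IntermediateField.fixedField GA) ≃ₐ[k]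
      ↥(IntermediateField.fixedField Γ)) := by
  have h1 : ∀ γ ∈ Γ, ∀ c ∈ K₁, γ c ∈ K₁ := by
    intro γ hγ c hc
    obtain ⟨z, rfl⟩ := (hK c).mp hc
    obtain ⟨σ, -, hσ⟩ := hcompat γ hγ
    rw [hσ]
    exact (hK _).mpr ⟨_, rfl⟩
  have h2 : ∀ γ ∈ Γ, (∀ c ∈ K₁, γ c = c) → γ = 1 :=
    fun γ hγ hfix => hfaith γ hγ (fun z => hfix _ ((hK _).mpr ⟨z, rfl⟩))
  obtain ⟨t, ht, hF⟩ := Groth.Agent.H80.NoName.noname K₁ Γ y h1 h2 h3 hcard hy h5
  have hmap : (IntermediateField.fixedField GA).map j =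
      K₁ ⊓ IntermediateField.fixedField Γ := by
    ext x
    rw [IntermediateField.mem_map, IntermediateField.mem_inf]
    constructor
    · rintro ⟨z, hz, rfl⟩
      refine ⟨(hK _).mpr ⟨z, rfl⟩, ?_⟩
      rw [IntermediateField.mem_fixedField_iff]
      intro γ hγ
      obtain ⟨σ, hσG, hσ⟩ := hcompat γ hγ
      rw [hσ, (IntermediateField.mem_fixedField_iff _ _).mp hz σ hσG]
    · rintro ⟨hx1, hx2⟩
      obtain ⟨z, rfl⟩ := (hK x).mp hx1
      refine ⟨z, ?_, rfl⟩
      rw [IntermediateField.mem_fixedField_iff]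
      intro σ hσG
      obtain ⟨γ, hγ, hγσ⟩ := hsurj σ hσG
      apply j.toRingHom.injective
      show j (σ z) = j z
      rw [← hγσ]
      exact (IntermediateField.mem_fixedField_iff _ _).mp hx2 γ hγ
  let e1 : ↥(IntermediateField.fixedField GA) ≃ₐ[k] ↥(K₁ ⊓ IntermediateField.fixedField Γ) :=
    (IntermediateField.equivMap _ j).trans (IntermediateField.equivOfEq hmap)
  let e2 : InvFld.Fld (Fin m) ↥(IntermediateField.fixedField GA) ≃ₐ[k]
      InvFld.Fld (Fin m) ↥(K₁ ⊓ IntermediateField.fixedField Γ) :=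
    IsFractionRing.algEquivOfAlgEquiv (MvPolynomial.mapAlgEquiv (Fin m) e1)
  let e3 : InvFld.Fld (Fin m) ↥(K₁ ⊓ IntermediateField.fixedField Γ) ≃ₐ[k]
      ↥(IntermediateField.adjoin ↥(K₁ ⊓ IntermediateField.fixedField Γ) (Set.range t)) :=
    ht.aevalEquivField.restrictScalars k
  have hmem : ∀ x : L, x ∈ IntermediateField.adjoin ↥(K₁ ⊓ IntermediateField.fixedField Γ)
      (Set.range t) ↔ x ∈ IntermediateField.fixedField Γ :=
    fun x => SetLike.ext_iff.mp hF x
  let e4 : ↥(IntermediateField.adjoin ↥(K₁ ⊓ IntermediateField.fixedField Γ) (Set.range t)) ≃ₐ[k]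
      ↥(IntermediateField.fixedField Γ) :=
    { toFun := fun x => ⟨x.1, (hmem x.1).mp x.2⟩
      invFun := fun x => ⟨x.1, (hmem x.1).mpr x.2⟩
      left_inv := fun x => rfl
      right_inv := fun x => rfl
      map_mul' := fun x y => rfl
      map_add' := fun x y => rfl
      commutes' := fun c => rfl }
  exact ⟨(e2.trans e3).trans e4⟩

end Side

section FldFacts

variable {ι κ ι' : Type*}

theorem algIndep_X : AlgebraicIndependent k (fun i : ι' => (InvFld.X i : InvFld.Fld ι' k)) :=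
  (MvPolynomial.algebraicIndependent_X ι' k).map'
    (f := IsScalarTower.toAlgHom k (MvPolynomial ι' k) (InvFld.Fld ι' k))
    (IsFractionRing.injective _ _)

theorem algIndep_compl (jι : ι → ι') (jκ : κ → ι')
    (hbij : Function.Bijective (Sum.elim jι jκ)) :
    AlgebraicIndependent ↥(IntermediateField.adjoin k (Set.range fun i : ι =>
      (InvFld.X (jι i) : InvFld.Fld ι' k)))
      (fun j : κ => (InvFld.X (jκ j) : InvFld.Fld ι' k)) := by
  have hinj : Function.Injective (Sum.elim jκ jι) := by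
    have : Sum.elim jκ jι = Sum.elim jι jκ ∘ Sum.swap := by
      funext i; cases i <;> rfl
    rw [this]
    exact hbij.1.comp Sum.swap_leftInverse.injective
  have hswap : AlgebraicIndependent k (Sum.elim
      (fun j : κ => (InvFld.X (jκ j) : InvFld.Fld ι' k))
      (fun i : ι => (InvFld.X (jι i) : InvFld.Fld ι' k))) := by
    have := (algIndep_X (k := k) (ι' := ι')).comp (Sum.elim jκ jι) hinj
    convert this using 1
    funext i; cases i <;> rfl
  have hD := (AlgebraicIndependent.sumElim_iff.mp hswap).2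
  open scoped IntermediateField.algebraAdjoinAdjoin in
  exact hD.extendScalars ↥(IntermediateField.adjoin k (Set.range fun i : ι =>
    (InvFld.X (jι i) : InvFld.Fld ι' k)))

theorem adjoin_compl_eq_top (jι : ι → ι') (jκ : κ → ι')
    (hbij : Function.Bijective (Sum.elim jι jκ)) :
    IntermediateField.adjoin ↥(IntermediateField.adjoin k (Set.range fun i : ι =>
      (InvFld.X (jι i) : InvFld.Fld ι' k)))
      (Set.range fun j : κ => (InvFld.X (jκ j) : InvFld.Fld ι' k)) = ⊤ := by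
  rw [eq_top_iff]
  rintro z -
  have hxK : ∀ i : ι, (InvFld.X (jι i) : InvFld.Fld ι' k) ∈
      IntermediateField.adjoin k (Set.range fun i : ι =>
        (InvFld.X (jι i) : InvFld.Fld ι' k)) :=
    fun i => IntermediateField.subset_adjoin _ _ ⟨i, rfl⟩
  have hpoly : ∀ p : MvPolynomial ι' k,
      algebraMap _ (InvFld.Fld ι' k) p ∈
      IntermediateField.adjoin ↥(IntermediateField.adjoin k (Set.range fun i : ι =>
        (InvFld.X (jι i) : InvFld.Fld ι' k)))
        (Set.range fun j : κ => (InvFld.X (jκ j) : InvFld.Fld ι' k)) := by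
    intro p
    induction p using MvPolynomial.induction_on with
    | C a =>
      have : algebraMap (MvPolynomial ι' k) (InvFld.Fld ι' k) (MvPolynomial.C a) =
          algebraMap ↥(IntermediateField.adjoin k (Set.range fun i : ι =>
            (InvFld.X (jι i) : InvFld.Fld ι' k)))
            (InvFld.Fld ι' k) (algebraMap k _ a) := by
        rw [← IsScalarTower.algebraMap_apply k _ (InvFld.Fld ι' k),
          ← MvPolynomial.algebraMap_eq,
          ← IsScalarTower.algebraMap_apply k (MvPolynomial _ k) (InvFld.Fld ι' k)]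
      rw [this]; exact IntermediateField.algebraMap_mem _ _
    | add p q hp hq => rw [map_add]; exact add_mem hp hq
    | mul_X p i hp =>
      rw [map_mul]
      refine mul_mem hp ?_
      obtain ⟨i0, rfl⟩ := hbij.2 i
      cases i0 with
      | inl i1 =>
        exact IntermediateField.algebraMap_mem _
          (⟨_, hxK i1⟩ : ↥(IntermediateField.adjoin k (Set.range fun i : ι =>
            (InvFld.X (jι i) : InvFld.Fld ι' k))))
      | inr j1 => exact IntermediateField.subset_adjoin _ _ ⟨j1, rfl⟩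
  obtain ⟨a, b, _, rfl⟩ := IsFractionRing.div_surjective (A := MvPolynomial ι' k) z
  exact div_mem (hpoly a) (hpoly b)

end FldFacts

section Main

variable [CharZero k]

theorem isPoly_of_linear {ι : Type*} (σ : InvFld.Fld ι k ≃ₐ[k] InvFld.Fld ι k)
    (h : ∀ i : ι, σ (InvFld.X i) ∈
      Submodule.span k (Set.range fun j : ι => (InvFld.X j : InvFld.Fld ι k))) : IsPoly σ :=
  fun i => exists_poly_of_mem_span (h i)

theorem stable_equiv (n m : ℕ)
    (G : Subgroup (InvFld.Fld (Fin n) k ≃ₐ[k] InvFld.Fld (Fin n) k)) [Finite G]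
    (H : Subgroup (InvFld.Fld (Fin m) k ≃ₐ[k] InvFld.Fld (Fin m) k)) [Finite H] (e : G ≃* H)
    (hG : ∀ σ ∈ G, ∀ i : Fin n, σ (InvFld.X i) ∈
      Submodule.span k (Set.range fun j : Fin n => (InvFld.X j : InvFld.Fld (Fin n) k)))
    (hH : ∀ τ ∈ H, ∀ i : Fin m, τ (InvFld.X i) ∈
      Submodule.span k (Set.range fun j : Fin m => (InvFld.X j : InvFld.Fld (Fin m) k))) :
    Nonempty (InvFld.Fld (Fin m) ↥(IntermediateField.fixedField G) ≃ₐ[k]
      InvFld.Fld (Fin n) ↥(IntermediateField.fixedField H)) := by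
  have hGp : ∀ σ ∈ G, IsPoly σ := fun σ hσ => isPoly_of_linear σ (hG σ hσ)
  have hHp : ∀ τ ∈ H, IsPoly τ := fun τ hτ => isPoly_of_linear τ (hH τ hτ)
  haveI : Finite (Gamma G H e) := finite_Gamma G H e hGp hHp
  haveI : CharZero (InvFld.Fld (Fin n ⊕ Fin m) k) :=
    charZero_of_injective_algebraMap (algebraMap k (InvFld.Fld (Fin n ⊕ Fin m) k)).injective
  have hcard : (Nat.card (Gamma G H e) : InvFld.Fld (Fin n ⊕ Fin m) k) ≠ 0 :=
    Nat.cast_ne_zero.mpr Nat.card_pos.ne'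
  have hb1 : Function.Bijective (Sum.elim (Sum.inl : Fin n → Fin n ⊕ Fin m) Sum.inr) := by
    have : Sum.elim (Sum.inl : Fin n → Fin n ⊕ Fin m) Sum.inr = id := by
      funext i; cases i <;> rfl
    rw [this]; exact Function.bijective_id
  have hb2 : Function.Bijective (Sum.elim (Sum.inr : Fin m → Fin n ⊕ Fin m) Sum.inl) := by
    have : Sum.elim (Sum.inr : Fin m → Fin n ⊕ Fin m) Sum.inl = Sum.swap := by
      funext i; cases i <;> rfl
    rw [this]; exact (Equiv.sumComm _ _).bijective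
  -- first side
  have S1 : Nonempty (InvFld.Fld (Fin m) ↥(IntermediateField.fixedField G) ≃ₐ[k]
      ↥(IntermediateField.fixedField (Gamma G H e))) := by
    refine side (emb Sum.inl Sum.inl_injective) G (Gamma G H e)
      (IntermediateField.adjoin k (Set.range fun i : Fin n =>
        (InvFld.X (Sum.inl i) : InvFld.Fld (Fin n ⊕ Fin m) k)))
      (mem_adjoin_iff_emb Sum.inl Sum.inl_injective) ?_ ?_ ?_
      (fun j : Fin m => (InvFld.X (Sum.inr j) : InvFld.Fld (Fin n ⊕ Fin m) k)) ?_ hcard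
      (algIndep_compl Sum.inl Sum.inr hb1) (adjoin_compl_eq_top Sum.inl Sum.inr hb1)
    · rintro γ ⟨g, hg1, hg2⟩
      exact ⟨g, g.2, hg1⟩
    · intro σ hσ
      obtain ⟨γ, hγ⟩ := exists_joint G H e hGp hHp ⟨σ, hσ⟩
      exact ⟨γ, ⟨⟨σ, hσ⟩, hγ⟩, hγ.1⟩
    · rintro γ ⟨g, hg⟩ hfix
      have hg1 : g = 1 := by
        apply Subtype.ext
        apply AlgEquiv.ext
        intro z
        apply (emb (k := k) (Sum.inl : Fin n → Fin n ⊕ Fin m) Sum.inl_injective).toRingHom.injective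
        show emb Sum.inl Sum.inl_injective ((g : InvFld.Fld (Fin n) k ≃ₐ[k] _) z) =
          emb Sum.inl Sum.inl_injective z
        rw [← hg.1, hfix]
      subst hg1
      exact joint_unique G H e hg ⟨fun z => rfl, fun w => by rw [map_one]; rfl⟩
    · rintro γ ⟨g, hg⟩ j
      have : γ (InvFld.X (Sum.inr j)) =
          emb Sum.inr Sum.inr_injective
            ((e g : InvFld.Fld (Fin m) k ≃ₐ[k] InvFld.Fld (Fin m) k) (InvFld.X j)) := by
        rw [← emb_X Sum.inr Sum.inr_injective j, hg.2]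
      rw [this]
      exact Submodule.span_subset_span k _ _
        (emb_mem_span Sum.inr Sum.inr_injective (hH _ (e g).2 j))
  -- second side
  have S2 : Nonempty (InvFld.Fld (Fin n) ↥(IntermediateField.fixedField H) ≃ₐ[k]
      ↥(IntermediateField.fixedField (Gamma G H e))) := by
    refine side (emb Sum.inr Sum.inr_injective) H (Gamma G H e)
      (IntermediateField.adjoin k (Set.range fun i : Fin m =>
        (InvFld.X (Sum.inr i) : InvFld.Fld (Fin n ⊕ Fin m) k)))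
      (mem_adjoin_iff_emb Sum.inr Sum.inr_injective) ?_ ?_ ?_
      (fun j : Fin n => (InvFld.X (Sum.inl j) : InvFld.Fld (Fin n ⊕ Fin m) k)) ?_ hcard
      (algIndep_compl Sum.inr Sum.inl hb2) (adjoin_compl_eq_top Sum.inr Sum.inl hb2)
    · rintro γ ⟨g, hg1, hg2⟩
      exact ⟨e g, (e g).2, hg2⟩
    · intro τ hτ
      obtain ⟨γ, hγ⟩ := exists_joint G H e hGp hHp (e.symm ⟨τ, hτ⟩)
      refine ⟨γ, ⟨e.symm ⟨τ, hτ⟩, hγ⟩, fun w => ?_⟩
      have := hγ.2 w
      rw [MulEquiv.apply_symm_apply] at this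
      exact this
    · rintro γ ⟨g, hg⟩ hfix
      have hg0 : e g = 1 := by
        apply Subtype.ext
        apply AlgEquiv.ext
        intro z
        apply (emb (k := k) (Sum.inr : Fin m → Fin n ⊕ Fin m) Sum.inr_injective).toRingHom.injective
        show emb Sum.inr Sum.inr_injective ((e g : InvFld.Fld (Fin m) k ≃ₐ[k] _) z) =
          emb Sum.inr Sum.inr_injective z
        rw [← hg.2, hfix]
      have hg1 : g = 1 := by
        apply e.injective
        rw [hg0, map_one]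
      subst hg1
      exact joint_unique G H e hg ⟨fun z => rfl, fun w => by rw [map_one]; rfl⟩
    · rintro γ ⟨g, hg⟩ j
      have : γ (InvFld.X (Sum.inl j)) =
          emb Sum.inl Sum.inl_injective
            ((g : InvFld.Fld (Fin n) k ≃ₐ[k] InvFld.Fld (Fin n) k) (InvFld.X j)) := by
        rw [← emb_X Sum.inl Sum.inl_injective j, hg.1]
      rw [this]
      exact Submodule.span_subset_span k _ _
        (emb_mem_span Sum.inl Sum.inl_injective (hG _ g.2 j))
  obtain ⟨E1⟩ := S1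
  obtain ⟨E2⟩ := S2
  exact ⟨E1.trans E2.symm⟩

end Main

end Groth.Agent.H80.InvFldAct
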