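import Mathlib
import Groth.Prelude.Def_W4c2brnrinvarInvFld
import Groth.Agent.H80.InvFldAct

/-!
# The permutation action on a rational function field: invariants are purely transcendental

Helper library of helper80 (used by S15698).
-/

set_option autoImplicit false
set_option linter.unusedSectionVars false
set_option linter.unusedVariables false
set_option linter.unusedSimpArgs false

namespace Groth.Agent.H80.InvFldSym

open MvPolynomial Groth.Agent.H80.InvFldAct

universe u

variable {k : Type u} [Field k]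

theorem algEquiv_ext_X {ι : Type*} (Φ Φ' : InvFld.Fld ι k ≃ₐ[k] InvFld.Fld ι k)
    (h : ∀ i, Φ (InvFld.X i) = Φ' (InvFld.X i)) : Φ = Φ' := by
  have : (Φ : InvFld.Fld ι k →ₐ[k] InvFld.Fld ι k) = Φ' := algHom_ext_X _ _ h
  exact AlgEquiv.ext fun x => AlgHom.congr_fun this x

theorem X_injective {ι : Type*} :
    Function.Injective (fun i : ι => (InvFld.X i : InvFld.Fld ι k)) := by
  intro i i' h
  exact MvPolynomial.X_injective
    (IsFractionRing.injective (MvPolynomial ι k) (InvFld.Fld ι k) h)

section Sym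

variable (n : ℕ)

/-- the automorphism of `k(x_1..x_n)` permuting the variables -/
noncomputable def permAut (π : Equiv.Perm (Fin n)) :
    InvFld.Fld (Fin n) k ≃ₐ[k] InvFld.Fld (Fin n) k :=
  IsFractionRing.algEquivOfAlgEquiv (MvPolynomial.renameEquiv k π)

theorem permAut_algebraMap (π : Equiv.Perm (Fin n)) (p : MvPolynomial (Fin n) k) :
    permAut n π (algebraMap (MvPolynomial (Fin n) k) (InvFld.Fld (Fin n) k) p) =
      algebraMap (MvPolynomial (Fin n) k) (InvFld.Fld (Fin n) k) (rename π p) := by
  unfold permAut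
  rw [IsFractionRing.algEquivOfAlgEquiv_algebraMap]
  rfl

theorem permAut_X (π : Equiv.Perm (Fin n)) (i : Fin n) :
    permAut n π (InvFld.X i : InvFld.Fld (Fin n) k) = InvFld.X (π i) := by
  show permAut n π (algebraMap _ _ (X i)) = _
  rw [permAut_algebraMap, rename_X]

/-- the permutation representation as a group homomorphism -/
noncomputable def permHom :
    Equiv.Perm (Fin n) →* (InvFld.Fld (Fin n) k ≃ₐ[k] InvFld.Fld (Fin n) k) where
  toFun := permAut n
  map_one' := algEquiv_ext_X _ _ (fun i => by rw [permAut_X]; rfl)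
  map_mul' := fun π π' => algEquiv_ext_X _ _ (fun i => by
    show permAut n (π * π') (InvFld.X i) = permAut n π (permAut n π' (InvFld.X i))
    rw [permAut_X, permAut_X, permAut_X]; rfl)

theorem permHom_apply (π : Equiv.Perm (Fin n)) : permHom (k := k) n π = permAut n π := rfl

theorem permHom_injective : Function.Injective (permHom (k := k) n) := by
  intro π π' h
  ext i
  have h1 : permAut (k := k) n π (InvFld.X i) = permAut n π' (InvFld.X i) := by
    rw [← permHom_apply, ← permHom_apply, h]
  rw [permAut_X, permAut_X] at h1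
  exact congrArg Fin.val (X_injective (k := k) h1)

theorem mem_fixed_iff (z : InvFld.Fld (Fin n) k) :
    z ∈ IntermediateField.fixedField (permHom (k := k) n).range ↔
      ∀ π : Equiv.Perm (Fin n), permAut n π z = z := by
  rw [IntermediateField.mem_fixedField_iff]
  constructor
  · intro h π
    exact h _ ⟨π, rfl⟩
  · rintro h _ ⟨π, rfl⟩
    exact h π

theorem sym_mem_fixed (p : MvPolynomial (Fin n) k) (hp : p.IsSymmetric) :
    algebraMap (MvPolynomial (Fin n) k) (InvFld.Fld (Fin n) k) p ∈
      IntermediateField.fixedField (permHom (k := k) n).range := by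
  rw [mem_fixed_iff]
  intro π
  rw [permAut_algebraMap, hp π]

theorem esymm_exists (p : MvPolynomial (Fin n) k) (hp : p.IsSymmetric) :
    ∃ q : MvPolynomial (Fin n) k,
      aeval (fun i : Fin n => esymm (Fin n) k ((i : ℕ) + 1)) q = p := by
  obtain ⟨q, hq⟩ := esymmAlgHom_surjective (σ := Fin n) k (n := n) (by simp) ⟨p, hp⟩
  refine ⟨q, ?_⟩
  rw [← esymmAlgHom_apply, hq]

theorem esymm_algIndep :
    AlgebraicIndependent k (fun i : Fin n => esymm (Fin n) k ((i : ℕ) + 1)) := by
  rw [algebraicIndependent_iff_injective_aeval]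
  intro a b h
  apply esymmAlgHom_injective (σ := Fin n) k (n := n) (by simp)
  apply Subtype.ext
  rw [esymmAlgHom_apply, esymmAlgHom_apply]
  exact h

theorem exists_sym_frac (z : InvFld.Fld (Fin n) k)
    (hz : ∀ π : Equiv.Perm (Fin n), permAut n π z = z) :
    ∃ a b : MvPolynomial (Fin n) k, a.IsSymmetric ∧ b.IsSymmetric ∧ b ≠ 0 ∧
      z = algebraMap (MvPolynomial (Fin n) k) (InvFld.Fld (Fin n) k) a /
        algebraMap (MvPolynomial (Fin n) k) (InvFld.Fld (Fin n) k) b := by
  classical
  have hinj := IsFractionRing.injective (MvPolynomial (Fin n) k) (InvFld.Fld (Fin n) k)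
  obtain ⟨a, b, hb, hzab⟩ := IsFractionRing.div_surjective (A := MvPolynomial (Fin n) k) z
  have hb0 : b ≠ 0 := nonZeroDivisors.ne_zero hb
  let N : MvPolynomial (Fin n) k := ∏ π : Equiv.Perm (Fin n), rename π b
  let b' : MvPolynomial (Fin n) k :=
    ∏ π ∈ (Finset.univ.erase (1 : Equiv.Perm (Fin n))), rename π b
  have hNb : N = b * b' := by
    show (∏ π : Equiv.Perm (Fin n), rename π b) = b * b'
    rw [← Finset.mul_prod_erase Finset.univ (fun π : Equiv.Perm (Fin n) => rename π b)
      (Finset.mem_univ 1)]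
    have : rename (⇑(1 : Equiv.Perm (Fin n))) b = b := by
      rw [Equiv.Perm.coe_one, rename_id_apply]
    rw [this]
  have hNsym : N.IsSymmetric := by
    intro π
    show rename π (∏ π' : Equiv.Perm (Fin n), rename π' b) = ∏ π' : Equiv.Perm (Fin n), rename π' b
    rw [map_prod]
    refine Fintype.prod_equiv (Equiv.mulLeft π) _ _ (fun π' => ?_)
    rw [rename_rename]
    rfl
  have hN0 : N ≠ 0 := by
    show (∏ π : Equiv.Perm (Fin n), rename π b) ≠ 0
    rw [Finset.prod_ne_zero_iff]
    intro π _
    exact (map_ne_zero_iff _ (rename_injective _ π.injective)).mpr hb0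
  have hb'0 : b' ≠ 0 := by
    intro h
    apply hN0
    rw [hNb, h, mul_zero]
  have hN0' : algebraMap (MvPolynomial (Fin n) k) (InvFld.Fld (Fin n) k) N ≠ 0 :=
    (map_ne_zero_iff _ hinj).mpr hN0
  have hb'0' : algebraMap (MvPolynomial (Fin n) k) (InvFld.Fld (Fin n) k) b' ≠ 0 :=
    (map_ne_zero_iff _ hinj).mpr hb'0
  have hz' : z = algebraMap (MvPolynomial (Fin n) k) (InvFld.Fld (Fin n) k) (a * b') /
      algebraMap (MvPolynomial (Fin n) k) (InvFld.Fld (Fin n) k) N := by
    rw [← hzab, hNb, map_mul, map_mul, mul_div_mul_right _ _ hb'0']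
  have hasym : (a * b').IsSymmetric := by
    intro π
    apply hinj
    have h1 : algebraMap (MvPolynomial (Fin n) k) (InvFld.Fld (Fin n) k) (a * b') =
        z * algebraMap (MvPolynomial (Fin n) k) (InvFld.Fld (Fin n) k) N := by
      rw [hz', div_mul_cancel₀ _ hN0']
    rw [← permAut_algebraMap, h1, map_mul, hz π, permAut_algebraMap, hNsym π]
  exact ⟨a * b', N, hasym, hNsym, hN0, hz'⟩

theorem fixed_pure :
    ∃ s : Fin n → ↥(IntermediateField.fixedField (permHom (k := k) n).range),
      AlgebraicIndependent k s ∧ IntermediateField.adjoin k (Set.range s) = ⊤ := by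
  have hs₀ : ∀ i : Fin n, algebraMap (MvPolynomial (Fin n) k) (InvFld.Fld (Fin n) k)
      (esymm (Fin n) k ((i : ℕ) + 1)) ∈
      IntermediateField.fixedField (permHom (k := k) n).range :=
    fun i => sym_mem_fixed n _ (esymm_isSymmetric (Fin n) k _)
  let s : Fin n → ↥(IntermediateField.fixedField (permHom (k := k) n).range) :=
    fun i => ⟨_, hs₀ i⟩
  have hcoe : ∀ q : MvPolynomial (Fin n) k,
      ((aeval s q : ↥(IntermediateField.fixedField (permHom (k := k) n).range)) :
        InvFld.Fld (Fin n) k) =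
      algebraMap (MvPolynomial (Fin n) k) (InvFld.Fld (Fin n) k)
        (aeval (fun i : Fin n => esymm (Fin n) k ((i : ℕ) + 1)) q) := by
    intro q
    have e1 := AlgHom.congr_fun (MvPolynomial.comp_aeval (R := k) s
      (IntermediateField.val (IntermediateField.fixedField (permHom (k := k) n).range))) q
    have e2 := AlgHom.congr_fun (MvPolynomial.comp_aeval (R := k)
      (fun i : Fin n => esymm (Fin n) k ((i : ℕ) + 1))
      (IsScalarTower.toAlgHom k (MvPolynomial (Fin n) k) (InvFld.Fld (Fin n) k))) q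
    exact e1.trans e2.symm
  refine ⟨s, ?_, ?_⟩
  · apply AlgebraicIndependent.of_comp
      (IntermediateField.val (IntermediateField.fixedField (permHom (k := k) n).range))
    exact (esymm_algIndep (k := k) n).map'
      (f := IsScalarTower.toAlgHom k (MvPolynomial (Fin n) k) (InvFld.Fld (Fin n) k))
      (IsFractionRing.injective _ _)
  · rw [eq_top_iff]
    rintro ⟨z, hz⟩ -
    have hsym : ∀ (p : MvPolynomial (Fin n) k) (hp : p.IsSymmetric),
        (⟨algebraMap (MvPolynomial (Fin n) k) (InvFld.Fld (Fin n) k) p,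
          sym_mem_fixed n p hp⟩ :
          ↥(IntermediateField.fixedField (permHom (k := k) n).range)) ∈
        IntermediateField.adjoin k (Set.range s) := by
      intro p hp
      obtain ⟨q, hq⟩ := esymm_exists n p hp
      have : (⟨algebraMap (MvPolynomial (Fin n) k) (InvFld.Fld (Fin n) k) p,
          sym_mem_fixed n p hp⟩ :
          ↥(IntermediateField.fixedField (permHom (k := k) n).range)) = aeval s q := by
        apply Subtype.ext
        rw [hcoe, hq]
      rw [this]
      apply IntermediateField.algebra_adjoin_le_adjoin k (Set.range s)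
      rw [Algebra.adjoin_range_eq_range_aeval]
      exact ⟨q, rfl⟩
    obtain ⟨a, b, ha, hb, hb0, hzab⟩ := exists_sym_frac n z ((mem_fixed_iff n z).mp hz)
    have : (⟨z, hz⟩ : ↥(IntermediateField.fixedField (permHom (k := k) n).range)) =
        ⟨_, sym_mem_fixed n a ha⟩ / ⟨_, sym_mem_fixed n b hb⟩ := by
      apply Subtype.ext
      rw [IntermediateField.coe_div]
      exact hzab
    rw [this]
    exact div_mem (hsym a ha) (hsym b hb)

end Sym

section Pure

variable {F : Type*} [Field F] [Algebra k F]

theorem pure_of_pure {n : ℕ} (m : ℕ) (s : Fin n → F) (hs : AlgebraicIndependent k s)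
    (hs' : IntermediateField.adjoin k (Set.range s) = ⊤) :
    AlgebraicIndependent k (Sum.elim (fun j : Fin m => (InvFld.X j : InvFld.Fld (Fin m) F))
      (algebraMap F (InvFld.Fld (Fin m) F) ∘ s)) ∧
    IntermediateField.adjoin k (Set.range (Sum.elim
      (fun j : Fin m => (InvFld.X j : InvFld.Fld (Fin m) F))
      (algebraMap F (InvFld.Fld (Fin m) F) ∘ s))) = ⊤ := by
  refine ⟨AlgebraicIndependent.sumElim_comp hs (algIndep_X (k := F) (ι' := Fin m)), ?_⟩
  rw [eq_top_iff]
  rintro z -
  have hF : ∀ a : F, algebraMap F (InvFld.Fld (Fin m) F) a ∈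
      IntermediateField.adjoin k (Set.range (Sum.elim
        (fun j : Fin m => (InvFld.X j : InvFld.Fld (Fin m) F))
        (algebraMap F (InvFld.Fld (Fin m) F) ∘ s))) := by
    intro a
    have ha : a ∈ IntermediateField.adjoin k (Set.range s) := by rw [hs']; trivial
    induction ha using IntermediateField.adjoin_induction with
    | mem x hx =>
      obtain ⟨i, rfl⟩ := hx
      exact IntermediateField.subset_adjoin _ _ ⟨Sum.inr i, rfl⟩
    | algebraMap c =>
      rw [← IsScalarTower.algebraMap_apply k F (InvFld.Fld (Fin m) F)]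
      exact IntermediateField.algebraMap_mem _ c
    | add a b _ _ ha hb => rw [map_add]; exact add_mem ha hb
    | inv a _ ha => rw [map_inv₀]; exact inv_mem ha
    | mul a b _ _ ha hb => rw [map_mul]; exact mul_mem ha hb
  have hpoly : ∀ p : MvPolynomial (Fin m) F,
      algebraMap (MvPolynomial (Fin m) F) (InvFld.Fld (Fin m) F) p ∈
      IntermediateField.adjoin k (Set.range (Sum.elim
        (fun j : Fin m => (InvFld.X j : InvFld.Fld (Fin m) F))
        (algebraMap F (InvFld.Fld (Fin m) F) ∘ s))) := by
    intro p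
    induction p using MvPolynomial.induction_on with
    | C a =>
      have : algebraMap (MvPolynomial (Fin m) F) (InvFld.Fld (Fin m) F) (MvPolynomial.C a) =
          algebraMap F (InvFld.Fld (Fin m) F) a := by
        rw [← MvPolynomial.algebraMap_eq, ← IsScalarTower.algebraMap_apply]
      rw [this]
      exact hF a
    | add p q hp hq => rw [map_add]; exact add_mem hp hq
    | mul_X p i hp =>
      rw [map_mul]
      refine mul_mem hp ?_
      exact IntermediateField.subset_adjoin _ _ ⟨Sum.inl i, rfl⟩
  obtain ⟨a, b, _, rfl⟩ := IsFractionRing.div_surjective (A := MvPolynomial (Fin m) F) z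
  exact div_mem (hpoly a) (hpoly b)

theorem transport_pure {B B' ι : Type*} [Field B] [Field B'] [Algebra k B] [Algebra k B']
    (Ψ : B ≃ₐ[k] B') (t : ι → B) (ht : AlgebraicIndependent k t)
    (ht' : IntermediateField.adjoin k (Set.range t) = ⊤) :
    AlgebraicIndependent k (Ψ ∘ t) ∧ IntermediateField.adjoin k (Set.range (Ψ ∘ t)) = ⊤ := by
  refine ⟨ht.map' (f := (Ψ : B →ₐ[k] B')) Ψ.injective, ?_⟩
  rw [eq_top_iff]
  rintro z -
  have h1 : Ψ.symm z ∈ IntermediateField.adjoin k (Set.range t) := by rw [ht']; trivial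
  have h2 : (Ψ : B →ₐ[k] B') (Ψ.symm z) ∈
      (IntermediateField.adjoin k (Set.range t)).map (Ψ : B →ₐ[k] B') :=
    (IntermediateField.mem_map _).mpr ⟨_, h1, rfl⟩
  rw [IntermediateField.adjoin_map, ← Set.range_comp] at h2
  have h3 : (Ψ : B →ₐ[k] B') (Ψ.symm z) = z := Ψ.apply_symm_apply z
  rw [h3] at h2
  exact h2

end Pure

section Final

variable [CharZero k]

theorem stably_pure (n m : ℕ)
    (G : Subgroup (InvFld.Fld (Fin m) k ≃ₐ[k] InvFld.Fld (Fin m) k)) [Finite G]
    (e : G ≃* Equiv.Perm (Fin n))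
    (hG : ∀ σ ∈ G, ∀ i : Fin m, σ (InvFld.X i) ∈
      Submodule.span k (Set.range fun j : Fin m => (InvFld.X j : InvFld.Fld (Fin m) k))) :
    ∃ (r N : ℕ) (t : Fin N → InvFld.Fld (Fin r) (IntermediateField.fixedField G)),
      AlgebraicIndependent k t ∧ IntermediateField.adjoin k (Set.range t) = ⊤ := by
  let e' : Equiv.Perm (Fin n) ≃* (permHom (k := k) n).range :=
    MonoidHom.ofInjective (permHom_injective n)
  haveI : Finite (permHom (k := k) n).range := Finite.of_equiv _ e'.toEquiv
  have hH : ∀ τ ∈ (permHom (k := k) n).range, ∀ i : Fin n, τ (InvFld.X i) ∈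
      Submodule.span k (Set.range fun j : Fin n => (InvFld.X j : InvFld.Fld (Fin n) k)) := by
    rintro _ ⟨π, rfl⟩ i
    rw [permHom_apply, permAut_X]
    exact Submodule.subset_span ⟨π i, rfl⟩
  obtain ⟨Ψ⟩ := stable_equiv m n G (permHom (k := k) n).range (e.trans e') hG hH
  obtain ⟨s, hs, hs'⟩ := fixed_pure (k := k) n
  obtain ⟨h1, h2⟩ := pure_of_pure (k := k) m s hs hs'
  obtain ⟨h3, h4⟩ := transport_pure Ψ.symm _ h1 h2
  refine ⟨n, m + n, _ ∘ (finSumFinEquiv (m := m) (n := n)).symm,
    h3.comp _ (finSumFinEquiv (m := m) (n := n)).symm.injective, ?_⟩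
  rw [Set.range_comp, Set.range_eq_univ.mpr (finSumFinEquiv (m := m) (n := n)).symm.surjective,
    Set.image_univ]
  exact h4

end Final

end Groth.Agent.H80.InvFldSym
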