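import Groth.Agent.H34.KeyRelDefs
import Groth.Agent.H95.C1Cap
import Groth.Agent.H37.KeyRelT3

/-!
# (T13) `S1921` from the relative key formula

`c₁(L) ∩ -` kills rational equivalence: hypothesis-style derivation from
`Groth.Agent.H34.KeyRel.RKFStatement`.
-/

set_option autoImplicit false
set_option linter.style.haveILetI false

universe u

open CategoryTheory AlgebraicGeometry TopologicalSpace Opposite

namespace Groth.Agent.H80.KeyRelT13

open Groth.Agent.H34.KeyRel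
open Groth.Agent.H18.TensorGen (IsGen isGen_one isInvertible_of_isGen)
open Groth.Agent.H95.SecOrd
open Groth.Agent.H95.C1Cap (ordAt_one divFun_zpow divFun_eq_zero secDivFun_eq_zero)

section Generic

theorem finite_support_prod {ι Y : Type*} (T : ι × Y → ℤ) (F : Set ι) (hF : F.Finite)
    (E : ι → Set Y) (hE : ∀ i, (E i).Finite)
    (h : ∀ i y, T (i, y) ≠ 0 → i ∈ F ∧ y ∈ E i) : (Function.support T).Finite := by
  refine Set.Finite.subset (Set.Finite.biUnion hF (fun i _ => (hE i).image (fun y => (i, y)))) ?_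
  rintro ⟨i, y⟩ hp
  obtain ⟨h1, h2⟩ := h i y hp
  exact Set.mem_biUnion h1 ⟨y, h2, rfl⟩

theorem finsum_finsum_comm {ι Y : Type*} (T : ι × Y → ℤ) (hT : (Function.support T).Finite) :
    ∑ᶠ y, ∑ᶠ i, T (i, y) = ∑ᶠ i, ∑ᶠ y, T (i, y) := by
  have hT' : (Function.support (fun q : Y × ι => T (q.2, q.1))).Finite := by
    refine Set.Finite.subset (hT.image (fun p => (p.2, p.1))) ?_
    rintro ⟨y, i⟩ hq
    exact ⟨(i, y), hq, rfl⟩
  have h1 : ∑ᶠ p, T p = ∑ᶠ i, ∑ᶠ y, T (i, y) := finsum_curry T hT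
  have h2 : ∑ᶠ q : Y × ι, T (q.2, q.1) = ∑ᶠ y, ∑ᶠ i, T (i, y) :=
    finsum_curry (fun q : Y × ι => T (q.2, q.1)) hT'
  have h3 : ∑ᶠ q : Y × ι, T (q.2, q.1) = ∑ᶠ p, T p :=
    finsum_comp_equiv (Equiv.prodComm Y ι) (f := T)
  rw [← h1, ← h2, h3]

end Generic

variable {X : Scheme.{u}}

theorem finite_divFun_ne_zero (δ : X → ℤ) (hX : Cyc.IsSetup X δ) (ζ x : X)
    (f : X.residueField ζ) (hf : f ≠ 0) :
    {ξ : X | Cyc.divFun δ ζ f ξ ≠ 0 ∧ ξ ⤳ x}.Finite := by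
  by_cases h : ζ ⤳ x
  · obtain ⟨U, hxU, hfin⟩ := Groth.Agent.H37.KeyRelT3.finite_not_unitAtRel δ hX h f hf
    refine hfin.subset ?_
    rintro ξ ⟨hne, hξx⟩
    refine ⟨hξx.mem_open U.2 hxU, ?_⟩
    unfold Cyc.divFun at hne
    split_ifs at hne with h'
    · refine ⟨h'.1, h'.2, ?_⟩
      rintro ⟨c, hc, hcf⟩
      apply hne
      rw [← hcf]
      exact ordAt_specMap_unit h'.1 hc
    · exact absurd rfl hne
  · convert Set.finite_empty
    ext ξ
    simp only [Set.mem_ofPred_eq, Set.mem_empty_iff_false, iff_false, not_and]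
    intro hne hξx
    apply h
    have h1 : ζ ⤳ ξ := by
      by_contra hn
      exact hne (divFun_eq_zero δ ζ f ξ hn)
    exact h1.trans hξx

theorem stepA (hrkf : RKFStatement.{u}) (δ : X → ℤ) (hX : Cyc.IsSetup X δ) {L : X.Modules}
    (hL : PicF.IsInvertible L) (s : (ξ : X) → Cyc.secFibre L ξ) (hs : ∀ ξ, s ξ ≠ 0)
    (ζ : X) (f : X.residueField ζ) (hf : f ≠ 0) :
    ∃ g : (ξ : X) → X.residueField ξ, (∀ ξ, g ξ ≠ 0) ∧
      (∀ x : X, ∃ U : Set X, IsOpen U ∧ x ∈ U ∧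
        {ξ : X | g ξ ≠ 1 ∧ (closure {ξ} ∩ U).Nonempty}.Finite) ∧
      (∀ ξ, g ξ ≠ 1 → ζ ⤳ ξ ∧ δ ξ + 1 = δ ζ) ∧
      ∀ x : X, ∑ᶠ ξ : X, Cyc.divFun δ ξ (g ξ) x =
        - Cyc.c1CapFun δ L (Cyc.divFun δ ζ f) s x := by
  classical
  have hgen : IsGen (Coh.structureModule X) ⊤
      (show Γ(Coh.structureModule X, ⊤) from (1 : Γ(X, ⊤))) := isGen_one ⊤
  have hN : PicF.IsInvertible (Coh.structureModule X) :=
    isInvertible_of_isGen _ (fun x => ⟨⊤, _, trivial, hgen⟩)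
  obtain ⟨ft, hft⟩ := X.residue_surjective ζ f
  obtain ⟨e, he⟩ : ∃ e : (ξ : X) → Cyc.secFibre (Coh.structureModule X) ξ,
      e = fun ξ => Submodule.Quotient.mk ((Coh.structureModule X).presheaf.germ ⊤ ξ trivial
        (show Γ(Coh.structureModule X, ⊤) from (1 : Γ(X, ⊤)))) := ⟨_, rfl⟩
  have heξ : ∀ ξ, e ξ = Submodule.Quotient.mk ((Coh.structureModule X).presheaf.germ ⊤ ξ trivial
        (show Γ(Coh.structureModule X, ⊤) from (1 : Γ(X, ⊤)))) := fun ξ => by rw [he]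
  obtain ⟨t, htdef⟩ : ∃ t : Cyc.secFibre (Coh.structureModule X) ζ, t = ft • e ζ := ⟨_, rfl⟩
  have ht : t ≠ 0 := by
    intro h0
    rw [htdef, heξ] at h0
    have hm := mem_maximalIdeal_of_smul_mk_eq_zero hgen ζ trivial ft h0
    apply hf
    rw [← hft]
    exact (residue_eq_zero_iff ft).mpr hm
  have hu : ∀ ξ, e ξ ≠ 0 := by
    intro ξ h0
    have h1 : (1 : X.presheaf.stalk ξ) • (Submodule.Quotient.mk
        ((Coh.structureModule X).presheaf.germ ⊤ ξ trivial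
        (show Γ(Coh.structureModule X, ⊤) from (1 : Γ(X, ⊤)))) :
          Cyc.secFibre (Coh.structureModule X) ξ) = 0 := by
      rw [one_smul, ← heξ]
      exact h0
    have hm := mem_maximalIdeal_of_smul_mk_eq_zero hgen ξ trivial 1 h1
    exact (IsLocalRing.mem_maximalIdeal _).mp hm isUnit_one
  have hdivt : Cyc.secDivFun δ (Coh.structureModule X) ζ t = Cyc.divFun δ ζ f := by
    funext x
    unfold Cyc.secDivFun Cyc.divFun
    split_ifs with h
    · rw [secOrdAt_eq_of_isGen hgen h.1 trivial trivial t ft (by rw [htdef, heξ]), hft]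
    · rfl
  have hdivu : ∀ ξ x, Cyc.secDivFun δ (Coh.structureModule X) ξ (e ξ) x = 0 := by
    intro ξ x
    unfold Cyc.secDivFun
    split_ifs with h
    · rw [secOrdAt_eq_of_isGen hgen h.1 trivial trivial (e ξ) 1 (by rw [one_smul, heξ])]
      have h1 : X.residue ξ (1 : X.presheaf.stalk ξ) = 1 := map_one (X.residue ξ).hom
      rw [h1]
      exact ordAt_one h.1
    · rfl
  obtain ⟨g, hg0, hglf, hgsupp, hgsum⟩ :=
    hrkf X δ hX L (Coh.structureModule X) hL hN ζ (s ζ) (hs ζ) t ht e hu s hs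
  refine ⟨g, hg0, hglf, hgsupp, fun x => ?_⟩
  rw [hgsum x, hdivt]
  have h0 : Cyc.c1CapFun δ (Coh.structureModule X) (Cyc.secDivFun δ L ζ (s ζ)) e x = 0 := by
    unfold Cyc.c1CapFun
    refine finsum_eq_zero_of_forall_eq_zero (fun ξ => ?_)
    rw [hdivu ξ x, mul_zero]
  rw [h0, zero_sub]

/-- (T13) `S1921` from the relative key formula. -/
theorem s1921_of_rkf (hrkf : RKFStatement.{u}) (X : Scheme.{u}) (δ : X → ℤ)
    (hX : Cyc.IsSetup X δ) (L : X.Modules) (hL : PicF.IsInvertible L) (k : ℤ)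
    (α : AlgebraicCycle X ℤ) (hα : α ∈ Cyc.Zk X δ (k + 1))
    (h0 : Cyc.RatEquivZero δ (k + 1) α) (s : (ξ : X) → Cyc.secFibre L ξ) (hs : ∀ ξ, s ξ ≠ 0)
    (γ : AlgebraicCycle X ℤ) (hγ : ⇑γ = Cyc.c1CapFun δ L ⇑α s) : Cyc.RatEquivZero δ k γ := by
  classical
  obtain ⟨ι, ζ, f, hδζ, hf, hlf, hαsum⟩ := h0
  choose g hg0 hglf hgsupp hgsum using
    fun i => stepA hrkf δ hX hL s hs (ζ i) (f i) (hf i)
  refine ⟨{p : ι × X // g p.1 p.2 ≠ 1}, fun p => p.1.2, fun p => (g p.1.1 p.1.2)⁻¹,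
    ?_, ?_, ?_, ?_⟩
  · intro p
    have h1 := (hgsupp p.1.1 p.1.2 p.2).2
    have h2 := hδζ p.1.1
    show δ p.1.2 = k + 1
    omega
  · intro p
    exact inv_ne_zero (hg0 p.1.1 p.1.2)
  · intro x
    obtain ⟨U, hUo, hxU, hUfin⟩ := hlf x
    choose V hVo hxV hVfin using fun i => hglf i x
    refine ⟨U ∩ ⋂ i ∈ hUfin.toFinset, V i, ?_, ?_, ?_⟩
    · exact hUo.inter (isOpen_biInter_finset (fun i _ => hVo i))
    · exact ⟨hxU, Set.mem_iInter₂.mpr (fun i _ => hxV i)⟩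
    · have hfinU : (⋃ i ∈ {i | (closure {ζ i} ∩ U).Nonempty},
          (fun ξ => ((i, ξ) : ι × X)) '' {ξ | g i ξ ≠ 1 ∧ (closure {ξ} ∩ V i).Nonempty}).Finite :=
        Set.Finite.biUnion hUfin (fun i _ => (hVfin i).image _)
      refine Set.Finite.subset (hfinU.preimage (Subtype.val_injective.injOn)) ?_
      rintro p ⟨y, hy, hyU, hyV⟩
      have hsp : ζ p.1.1 ⤳ p.1.2 := (hgsupp p.1.1 p.1.2 p.2).1
      have hsub : closure {p.1.2} ⊆ closure {ζ p.1.1} := specializes_iff_closure_subset.mp hsp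
      have hiF : p.1.1 ∈ {i | (closure {ζ i} ∩ U).Nonempty} := ⟨y, hsub hy, hyU⟩
      have hiF' : p.1.1 ∈ hUfin.toFinset := hUfin.mem_toFinset.mpr hiF
      refine Set.mem_biUnion hiF ⟨p.1.2, ⟨p.2, ⟨y, hy, ?_⟩⟩, rfl⟩
      exact Set.mem_iInter₂.mp hyV p.1.1 hiF'
  · intro x
    obtain ⟨U, hUo, hxU, hUfin⟩ := hlf x
    have hFx : ∀ i, ζ i ⤳ x → i ∈ {i | (closure {ζ i} ∩ U).Nonempty} := fun i hi =>
      ⟨x, specializes_iff_mem_closure.mp hi, hxU⟩
    obtain ⟨S, hS⟩ : ∃ S : X → ℤ, S = fun ξ => Cyc.secDivFun δ L ξ (s ξ) x := ⟨_, rfl⟩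
    have hS0 : ∀ ξ, S ξ ≠ 0 → ξ ⤳ x := by
      intro ξ hne
      by_contra hn
      apply hne
      rw [hS]
      exact secDivFun_eq_zero δ L ξ (s ξ) x hn
    obtain ⟨T, hT⟩ : ∃ T : ι × X → ℤ,
        T = fun p : ι × X => Cyc.divFun δ (ζ p.1) (f p.1) p.2 * S p.2 := ⟨_, rfl⟩
    have hTfin : (Function.support T).Finite := by
      refine finite_support_prod T _ hUfin
        (fun i => {ξ | Cyc.divFun δ (ζ i) (f i) ξ ≠ 0 ∧ ξ ⤳ x})
        (fun i => finite_divFun_ne_zero δ hX (ζ i) x (f i) (hf i)) ?_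
      intro i ξ hne
      rw [hT] at hne
      have h1 : Cyc.divFun δ (ζ i) (f i) ξ ≠ 0 := left_ne_zero_of_mul hne
      have h2 : S ξ ≠ 0 := right_ne_zero_of_mul hne
      have h3 : ξ ⤳ x := hS0 ξ h2
      have h4 : ζ i ⤳ ξ := by
        by_contra hn
        exact h1 (divFun_eq_zero δ (ζ i) (f i) ξ hn)
      exact ⟨hFx i (h4.trans h3), h1, h3⟩
    obtain ⟨G, hG⟩ : ∃ G : ι × X → ℤ,
        G = fun p : ι × X => Cyc.divFun δ p.2 ((g p.1 p.2)⁻¹) x := ⟨_, rfl⟩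
    have hG1 : ∀ i ξ, g i ξ = 1 → G (i, ξ) = 0 := by
      intro i ξ h1
      rw [hG]
      show Cyc.divFun δ ξ ((g i ξ)⁻¹) x = 0
      rw [h1, inv_one]
      unfold Cyc.divFun
      split_ifs with h
      · exact ordAt_one h.1
      · rfl
    choose V hVo hxV hVfin using fun i => hglf i x
    have hGfin : (Function.support G).Finite := by
      refine finite_support_prod G _ hUfin
        (fun i => {ξ | g i ξ ≠ 1 ∧ (closure {ξ} ∩ V i).Nonempty}) (fun i => hVfin i) ?_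
      intro i ξ hne
      have h1 : g i ξ ≠ 1 := fun h => hne (hG1 i ξ h)
      have h3 : ξ ⤳ x := by
        by_contra hn
        apply hne
        rw [hG]
        exact divFun_eq_zero δ ξ _ x hn
      have h4 : ζ i ⤳ ξ := (hgsupp i ξ h1).1
      exact ⟨hFx i (h4.trans h3), h1, ⟨x, specializes_iff_mem_closure.mp h3, hxV i⟩⟩
    have hinv : ∀ i ξ, G (i, ξ) = - Cyc.divFun δ ξ (g i ξ) x := by
      intro i ξ
      rw [hG]
      show Cyc.divFun δ ξ ((g i ξ)⁻¹) x = _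
      rw [← zpow_neg_one, divFun_zpow δ ξ (hg0 i ξ) (-1) x]
      ring
    have hLHS : γ x = ∑ᶠ i, ∑ᶠ ξ, G (i, ξ) := by
      have e1 : γ x = ∑ᶠ ξ, α ξ * S ξ := by
        have h1 := congrFun hγ x
        rw [h1, hS]
        rfl
      rw [e1]
      have e2 : ∀ ξ, α ξ * S ξ = ∑ᶠ i, T (i, ξ) := by
        intro ξ
        rw [hαsum ξ, finsum_mul, hT]
      rw [finsum_congr e2, finsum_finsum_comm T hTfin]
      refine finsum_congr (fun i => ?_)
      have e3 : ∑ᶠ ξ, T (i, ξ) = Cyc.c1CapFun δ L (Cyc.divFun δ (ζ i) (f i)) s x := by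
        rw [hT, hS]
        rfl
      rw [e3]
      have e4 := hgsum i x
      have e5 : Cyc.c1CapFun δ L (Cyc.divFun δ (ζ i) (f i)) s x =
          - ∑ᶠ ξ, Cyc.divFun δ ξ (g i ξ) x := by
        rw [e4, neg_neg]
      rw [e5, ← finsum_neg_distrib]
      exact finsum_congr (fun ξ => (hinv i ξ).symm)
    rw [hLHS, ← finsum_curry G hGfin]
    symm
    show (∑ᶠ p : {p : ι × X // g p.1 p.2 ≠ 1},
        Cyc.divFun δ p.1.2 ((g p.1.1 p.1.2)⁻¹) x) = _
    have hR : (∑ᶠ p : {p : ι × X // g p.1 p.2 ≠ 1},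
        Cyc.divFun δ p.1.2 ((g p.1.1 p.1.2)⁻¹) x) =
        ∑ᶠ p : {p : ι × X // g p.1 p.2 ≠ 1}, G p.1 := by
      rw [hG]
    rw [hR, finsum_subtype_eq_finsum_cond (f := G) (fun p : ι × X => g p.1 p.2 ≠ 1)]
    refine finsum_congr (fun p => ?_)
    rw [finsum_eq_if]
    split_ifs with hp
    · rfl
    · rw [not_not] at hp
      exact (hG1 p.1 p.2 hp).symm

end Groth.Agent.H80.KeyRelT13
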