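import Mathlib
import Groth.Prelude.Def_LinSer
import Groth.Prelude.Def_Curve

/-!
# (RES) for S14471 (helper7): the residue field at a closed point of a proper curve over an
algebraically closed field is the base field
-/

set_option autoImplicit false
set_option linter.style.haveILetI false
universe u
open CategoryTheory AlgebraicGeometry Opposite

namespace Groth.Agent.H80.LSO_RES

theorem bijective_residue_toGlobal (k : Type u) [Field k] [IsAlgClosed k] (C : Scheme.{u})
    [C.Over (Spec (CommRingCat.of k))]
    (hC : Curve.IsSmoothProperCurve k C (C ↘ (Spec (CommRingCat.of k)))) (p : C)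
    (hp : IsClosed ({p} : Set C)) :
    Function.Bijective ((IsLocalRing.residue ↑(C.presheaf.stalk p)).comp
      ((C.presheaf.germ ⊤ p trivial).hom.comp (Coh.toGlobal (C ↘ Spec (CommRingCat.of k))))) := by
  haveI : IsProper (C ↘ Spec (CommRingCat.of k)) := hC.1
  set f : C ⟶ Spec (CommRingCat.of k) := C ↘ Spec (CommRingCat.of k) with hf
  set ψ : k →+* IsLocalRing.ResidueField ↑(C.presheaf.stalk p) :=
    (IsLocalRing.residue ↑(C.presheaf.stalk p)).comp
      ((C.presheaf.germ ⊤ p trivial).hom.comp (Coh.toGlobal f)) with hψ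
  -- Spec-level identification
  have key : Spec.map (CommRingCat.ofHom ψ) = C.fromSpecResidueField p ≫ f := by
    have e : (CommRingCat.ofHom ψ : CommRingCat.of k ⟶ C.residueField p) =
        (Scheme.ΓSpecIso (CommRingCat.of k)).inv ≫ f.appTop ≫
          C.presheaf.germ ⊤ p trivial ≫ C.residue p := by
      ext x; rfl
    have e2 : Spec.map ((Scheme.ΓSpecIso (CommRingCat.of k)).inv ≫ f.appTop ≫
          C.presheaf.germ ⊤ p trivial ≫ C.residue p) =
        Spec.map (C.residue p) ≫ Spec.map (C.presheaf.germ ⊤ p trivial) ≫ Spec.map f.appTop ≫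
          Spec.map (Scheme.ΓSpecIso (CommRingCat.of k)).inv := by
      simp only [Spec.map_comp, Category.assoc]
    have e3 : Spec.map (C.presheaf.germ ⊤ p trivial) ≫ Spec.map f.appTop ≫
          Spec.map (Scheme.ΓSpecIso (CommRingCat.of k)).inv = C.fromSpecStalk p ≫ f := by
      rw [← Scheme.fromSpecStalk_toSpecΓ, Category.assoc, ← Scheme.toSpecΓ_naturality_assoc,
        toSpecΓ_SpecMap_ΓSpecIso_inv, Category.comp_id]
    have e4 : Spec.map (C.residue p) ≫ Spec.map (C.presheaf.germ ⊤ p trivial) ≫
          Spec.map f.appTop ≫ Spec.map (Scheme.ΓSpecIso (CommRingCat.of k)).inv =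
        C.fromSpecResidueField p ≫ f := by
      rw [e3, Scheme.fromSpecResidueField, Category.assoc]
    exact (congrArg Spec.map e).trans (e2.trans e4)
  haveI : IsClosedImmersion (C.fromSpecResidueField p) :=
    isClosed_singleton_iff_isClosedImmersion.mp hp
  haveI : LocallyOfFiniteType (C.fromSpecResidueField p ≫ f) := inferInstance
  have hfinite : IsFinite (C.fromSpecResidueField p ≫ f) :=
    (isFinite_iff_locallyOfFiniteType_of_jacobsonSpace
      (f := C.fromSpecResidueField p ≫ f)).mpr inferInstance
  have hfin : ψ.Finite := by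
    have h1 : IsFinite (Spec.map (CommRingCat.ofHom ψ)) := by rw [key]; exact hfinite
    exact (IsFinite.SpecMap_iff _).1 h1
  letI : Algebra k (IsLocalRing.ResidueField ↑(C.presheaf.stalk p)) := ψ.toAlgebra
  haveI : Module.Finite k (IsLocalRing.ResidueField ↑(C.presheaf.stalk p)) := hfin
  haveI : Algebra.IsIntegral k (IsLocalRing.ResidueField ↑(C.presheaf.stalk p)) :=
    Algebra.IsIntegral.of_finite k _
  exact IsAlgClosed.algebraMap_bijective_of_isIntegral (k := k)
    (K := IsLocalRing.ResidueField ↑(C.presheaf.stalk p))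

end Groth.Agent.H80.LSO_RES
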