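import Mathlib

/-!
# Lazard's lemma in characteristic `p` (symmetric polynomial 2-cocycles of the additive group)

Helper library of helper80 (used by S13358 and available for S13380).
-/

set_option autoImplicit false
set_option linter.unusedSectionVars false
set_option linter.unusedVariables false
set_option linter.unusedSimpArgs false

namespace Groth.Agent.H80.Lazard

open MvPolynomial

variable {A : Type*} [CommRing A]

/-- exponent vector `(i,j)` -/
noncomputable def mon2 (i j : ℕ) : Fin 2 →₀ ℕ := Finsupp.single 0 i + Finsupp.single 1 j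
/-- exponent vector `(i,j,k)` -/
noncomputable def mon3 (i j k : ℕ) : Fin 3 →₀ ℕ :=
  Finsupp.single 0 i + Finsupp.single 1 j + Finsupp.single 2 k

@[simp] lemma mon2_zero (i j : ℕ) : mon2 i j 0 = i := by simp [mon2]
@[simp] lemma mon2_one (i j : ℕ) : mon2 i j 1 = j := by simp [mon2]
@[simp] lemma mon3_zero (i j k : ℕ) : mon3 i j k 0 = i := by simp [mon3]
@[simp] lemma mon3_one (i j k : ℕ) : mon3 i j k 1 = j := by simp [mon3]
@[simp] lemma mon3_two (i j k : ℕ) : mon3 i j k 2 = k := by simp [mon3]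

lemma mon2_eta (m : Fin 2 →₀ ℕ) : mon2 (m 0) (m 1) = m := by
  ext a; fin_cases a <;> simp [mon2]

lemma mon3_eta (m : Fin 3 →₀ ℕ) : mon3 (m 0) (m 1) (m 2) = m := by
  ext a; fin_cases a <;> simp [mon3]

lemma mon2_inj {i j i' j' : ℕ} : mon2 i j = mon2 i' j' ↔ i = i' ∧ j = j' :=
  ⟨fun h => ⟨by simpa using DFunLike.congr_fun h 0, by simpa using DFunLike.congr_fun h 1⟩,
    by rintro ⟨rfl, rfl⟩; rfl⟩

lemma mon3_inj {i j k i' j' k' : ℕ} : mon3 i j k = mon3 i' j' k' ↔ i = i' ∧ j = j' ∧ k = k' :=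
  ⟨fun h => ⟨by simpa using DFunLike.congr_fun h 0, by simpa using DFunLike.congr_fun h 1,
    by simpa using DFunLike.congr_fun h 2⟩,
    by rintro ⟨rfl, rfl, rfl⟩; rfl⟩

lemma X_pow_mul_X_pow2 (i j : ℕ) :
    (X 0 : MvPolynomial (Fin 2) A) ^ i * X 1 ^ j = monomial (mon2 i j) 1 := by
  simp [mon2, X_pow_eq_monomial, monomial_mul]

lemma X_pow_mul_X_pow3 (i j k : ℕ) :
    (X 0 : MvPolynomial (Fin 3) A) ^ i * X 1 ^ j * X 2 ^ k = monomial (mon3 i j k) 1 := by
  simp [mon3, X_pow_eq_monomial, monomial_mul]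

/-- coefficient function -/
noncomputable def cf (F : MvPolynomial (Fin 2) A) (i j : ℕ) : A := coeff (mon2 i j) F

lemma coeff_eq_cf (F : MvPolynomial (Fin 2) A) (m : Fin 2 →₀ ℕ) : coeff m F = cf F (m 0) (m 1) := by
  rw [cf, mon2_eta]

lemma ext_cf {F G : MvPolynomial (Fin 2) A} (h : ∀ i j, cf F i j = cf G i j) : F = G := by
  ext m; rw [coeff_eq_cf, coeff_eq_cf, h]

@[simp] lemma cf_add (F G : MvPolynomial (Fin 2) A) (i j : ℕ) : cf (F + G) i j = cf F i j + cf G i j := by
  simp [cf]
@[simp] lemma cf_sub (F G : MvPolynomial (Fin 2) A) (i j : ℕ) : cf (F - G) i j = cf F i j - cf G i j := by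
  simp [cf]
@[simp] lemma cf_zero (i j : ℕ) : cf (0 : MvPolynomial (Fin 2) A) i j = 0 := by simp [cf]
@[simp] lemma cf_C_mul (c : A) (F : MvPolynomial (Fin 2) A) (i j : ℕ) : cf (C c * F) i j = c * cf F i j := by
  simp [cf]
lemma cf_sum {ι : Type*} (s : Finset ι) (f : ι → MvPolynomial (Fin 2) A) (i j : ℕ) :
    cf (∑ x ∈ s, f x) i j = ∑ x ∈ s, cf (f x) i j := by
  simp [cf, coeff_sum]

section aeval2

variable {τ : Type*}

lemma aeval2_eq_sum {B : Type*} [CommRing B] [Algebra A B] (F : MvPolynomial (Fin 2) A) (g : Fin 2 → B) :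
    aeval g F = ∑ m ∈ F.support, algebraMap A B (coeff m F) * (g 0 ^ m 0 * g 1 ^ m 1) := by
  rw [aeval_def, eval₂_eq']
  simp [Fin.prod_univ_two]

lemma coeff_aeval2 (F : MvPolynomial (Fin 2) A) (g : Fin 2 → MvPolynomial τ A) (d : τ →₀ ℕ) :
    coeff d (aeval g F) = ∑ m ∈ F.support, coeff m F * coeff d (g 0 ^ m 0 * g 1 ^ m 1) := by
  rw [aeval2_eq_sum, coeff_sum]
  simp [MvPolynomial.algebraMap_eq]

lemma coeff_aeval2_of_shape (F : MvPolynomial (Fin 2) A) (g : Fin 2 → MvPolynomial τ A) (d : τ →₀ ℕ)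
    (a₀ b₀ : ℕ) (c : A)
    (h : ∀ a b, coeff d (g 0 ^ a * g 1 ^ b) = if a = a₀ ∧ b = b₀ then c else 0) :
    coeff d (aeval g F) = cf F a₀ b₀ * c := by
  classical
  rw [coeff_aeval2]
  have : ∀ m ∈ F.support, coeff m F * coeff d (g 0 ^ m 0 * g 1 ^ m 1) =
      if m = mon2 a₀ b₀ then coeff m F * c else 0 := by
    intro m _
    rw [h]
    by_cases hm : m = mon2 a₀ b₀
    · subst hm; simp
    · rw [if_neg hm, if_neg, mul_zero]
      rintro ⟨h0, h1⟩
      exact hm (by rw [← mon2_eta m, h0, h1])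
  rw [Finset.sum_congr rfl this, Finset.sum_ite_eq']
  split_ifs with hs
  · rfl
  · rw [cf, notMem_support_iff.mp hs, zero_mul]

end aeval2

section shapes

lemma shape1 (i j k a b : ℕ) :
    coeff (mon3 i j k) ((X 1 : MvPolynomial (Fin 3) A) ^ a * X 2 ^ b) =
      if a = j ∧ b = k then (if i = 0 then 1 else 0) else 0 := by
  classical
  have : (X 1 : MvPolynomial (Fin 3) A) ^ a * X 2 ^ b = monomial (mon3 0 a b) 1 := by
    rw [← X_pow_mul_X_pow3]; simp
  rw [this, coeff_monomial]
  simp only [mon3_inj]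
  by_cases h1 : a = j ∧ b = k
  · by_cases h2 : i = 0
    · rw [if_pos ⟨h2.symm, h1.1, h1.2⟩, if_pos h1, if_pos h2]
    · rw [if_neg (fun h => h2 h.1.symm), if_pos h1, if_neg h2]
  · rw [if_neg (fun h => h1 ⟨h.2.1, h.2.2⟩), if_neg h1]

lemma shape4 (i j k a b : ℕ) :
    coeff (mon3 i j k) ((X 0 : MvPolynomial (Fin 3) A) ^ a * X 1 ^ b) =
      if a = i ∧ b = j then (if k = 0 then 1 else 0) else 0 := by
  classical
  have : (X 0 : MvPolynomial (Fin 3) A) ^ a * X 1 ^ b = monomial (mon3 a b 0) 1 := by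
    rw [← X_pow_mul_X_pow3]; simp
  rw [this, coeff_monomial]
  simp only [mon3_inj]
  by_cases h1 : a = i ∧ b = j
  · by_cases h2 : k = 0
    · rw [if_pos ⟨h1.1, h1.2, h2.symm⟩, if_pos h1, if_pos h2]
    · rw [if_neg (fun h => h2 h.2.2.symm), if_pos h1, if_neg h2]
  · rw [if_neg (fun h => h1 ⟨h.1, h.2.1⟩), if_neg h1]

lemma shape2 (i j k a b : ℕ) :
    coeff (mon3 i j k) ((X 0 : MvPolynomial (Fin 3) A) ^ a * (X 1 + X 2) ^ b) =
      if a = i ∧ b = j + k then (((j + k).choose j : ℕ) : A) else 0 := by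
  classical
  rw [add_pow, Finset.mul_sum, coeff_sum]
  have key : ∀ l ∈ Finset.range (b + 1),
      coeff (mon3 i j k) ((X 0 : MvPolynomial (Fin 3) A) ^ a *
        (X 1 ^ l * X 2 ^ (b - l) * ((b.choose l : ℕ) : MvPolynomial (Fin 3) A))) =
      if (a = i ∧ l = j ∧ b - l = k) then ((b.choose l : ℕ) : A) else 0 := by
    intro l _
    have : (X 0 : MvPolynomial (Fin 3) A) ^ a *
        (X 1 ^ l * X 2 ^ (b - l) * ((b.choose l : ℕ) : MvPolynomial (Fin 3) A)) =
        C ((b.choose l : ℕ) : A) * monomial (mon3 a l (b - l)) 1 := by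
      rw [← X_pow_mul_X_pow3, map_natCast]; ring
    rw [this, coeff_C_mul, coeff_monomial]
    simp only [mon3_inj]
    split_ifs <;> simp
  rw [Finset.sum_congr rfl key]
  by_cases h : a = i ∧ b = j + k
  · obtain ⟨rfl, rfl⟩ := h
    rw [if_pos ⟨rfl, rfl⟩, Finset.sum_eq_single j]
    · rw [if_pos ⟨rfl, rfl, by omega⟩]
    · intro l _ hl
      rw [if_neg (fun h => hl h.2.1)]
    · intro hj
      exact absurd (Finset.mem_range.mpr (by omega)) hj
  · rw [if_neg h]
    apply Finset.sum_eq_zero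
    intro l hl
    rw [if_neg]
    rintro ⟨h1, h2, h3⟩
    have := Finset.mem_range.mp hl
    exact h ⟨h1, by omega⟩

lemma shape3 (i j k a b : ℕ) :
    coeff (mon3 i j k) (((X 0 : MvPolynomial (Fin 3) A) + X 1) ^ a * X 2 ^ b) =
      if a = i + j ∧ b = k then (((i + j).choose i : ℕ) : A) else 0 := by
  classical
  rw [add_pow, Finset.sum_mul, coeff_sum]
  have key : ∀ l ∈ Finset.range (a + 1),
      coeff (mon3 i j k) (((X 0 : MvPolynomial (Fin 3) A) ^ l * X 1 ^ (a - l) *
        ((a.choose l : ℕ) : MvPolynomial (Fin 3) A)) * X 2 ^ b) =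
      if (l = i ∧ a - l = j ∧ b = k) then ((a.choose l : ℕ) : A) else 0 := by
    intro l _
    have : ((X 0 : MvPolynomial (Fin 3) A) ^ l * X 1 ^ (a - l) *
        ((a.choose l : ℕ) : MvPolynomial (Fin 3) A)) * X 2 ^ b =
        C ((a.choose l : ℕ) : A) * monomial (mon3 l (a - l) b) 1 := by
      rw [← X_pow_mul_X_pow3, map_natCast]; ring
    rw [this, coeff_C_mul, coeff_monomial]
    simp only [mon3_inj]
    split_ifs <;> simp
  rw [Finset.sum_congr rfl key]
  by_cases h : a = i + j ∧ b = k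
  · obtain ⟨rfl, rfl⟩ := h
    rw [if_pos ⟨rfl, rfl⟩, Finset.sum_eq_single i]
    · rw [if_pos ⟨rfl, by omega, rfl⟩]
    · intro l _ hl
      rw [if_neg (fun h => hl h.1)]
    · intro hj
      exact absurd (Finset.mem_range.mpr (by omega)) hj
  · rw [if_neg h]
    apply Finset.sum_eq_zero
    intro l hl
    rw [if_neg]
    rintro ⟨h1, h2, h3⟩
    have := Finset.mem_range.mp hl
    exact h ⟨by omega, h3⟩

end shapes

/-- the additive 2-cocycle operator -/
noncomputable def Lop (F : MvPolynomial (Fin 2) A) : MvPolynomial (Fin 3) A :=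
  aeval ![(X 0 : MvPolynomial (Fin 3) A), X 1 + X 2] F + aeval ![(X 1 : MvPolynomial (Fin 3) A), X 2] F
    - aeval ![(X 0 : MvPolynomial (Fin 3) A) + X 1, X 2] F - aeval ![(X 0 : MvPolynomial (Fin 3) A), X 1] F

/-- swap of variables -/
noncomputable def sw (F : MvPolynomial (Fin 2) A) : MvPolynomial (Fin 2) A :=
  aeval ![(X 1 : MvPolynomial (Fin 2) A), X 0] F

lemma coeff_Lop (F : MvPolynomial (Fin 2) A) (i j k : ℕ) :
    coeff (mon3 i j k) (Lop F) =
      cf F i (j + k) * (((j + k).choose j : ℕ) : A) + cf F j k * (if i = 0 then 1 else 0)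
        - cf F (i + j) k * (((i + j).choose i : ℕ) : A) - cf F i j * (if k = 0 then 1 else 0) := by
  rw [Lop, coeff_sub, coeff_sub, coeff_add]
  rw [coeff_aeval2_of_shape F _ (mon3 i j k) i (j + k) (((j + k).choose j : ℕ) : A)
      (by intro a b; simpa using shape2 (A := A) i j k a b),
    coeff_aeval2_of_shape F _ (mon3 i j k) j k (if i = 0 then 1 else 0)
      (by intro a b; simpa using shape1 (A := A) i j k a b),
    coeff_aeval2_of_shape F _ (mon3 i j k) (i + j) k (((i + j).choose i : ℕ) : A)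
      (by intro a b; simpa using shape3 (A := A) i j k a b),
    coeff_aeval2_of_shape F _ (mon3 i j k) i j (if k = 0 then 1 else 0)
      (by intro a b; simpa using shape4 (A := A) i j k a b)]

lemma cf_sw (F : MvPolynomial (Fin 2) A) (i j : ℕ) : cf (sw F) i j = cf F j i := by
  classical
  have h : ∀ a b, coeff (mon2 i j) ((X 1 : MvPolynomial (Fin 2) A) ^ a * X 0 ^ b) =
      if a = j ∧ b = i then (1 : A) else 0 := by
    intro a b
    rw [mul_comm, X_pow_mul_X_pow2, coeff_monomial]
    simp only [mon2_inj]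
    by_cases h : a = j ∧ b = i
    · rw [if_pos h, if_pos ⟨h.2, h.1⟩]
    · rw [if_neg h, if_neg (fun h' => h ⟨h'.2, h'.1⟩)]
  have := coeff_aeval2_of_shape F ![(X 1 : MvPolynomial (Fin 2) A), X 0] (mon2 i j) j i 1
    (by intro a b; simpa using h a b)
  rw [cf, sw, this, mul_one]

section linear

lemma Lop_add (F G : MvPolynomial (Fin 2) A) : Lop (F + G) = Lop F + Lop G := by
  simp only [Lop, map_add]; ring
lemma Lop_sub (F G : MvPolynomial (Fin 2) A) : Lop (F - G) = Lop F - Lop G := by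
  simp only [Lop, map_sub]; ring
lemma Lop_C_mul (c : A) (F : MvPolynomial (Fin 2) A) : Lop (C c * F) = C c * Lop F := by
  simp only [Lop, map_mul, aeval_C, MvPolynomial.algebraMap_eq]; ring
lemma Lop_zero : Lop (0 : MvPolynomial (Fin 2) A) = 0 := by simp [Lop]
lemma Lop_sum {ι : Type*} (s : Finset ι) (f : ι → MvPolynomial (Fin 2) A) :
    Lop (∑ x ∈ s, f x) = ∑ x ∈ s, Lop (f x) := by
  classical
  induction s using Finset.induction_on with
  | empty => simp [Lop_zero]
  | insert a s ha ih => rw [Finset.sum_insert ha, Finset.sum_insert ha, Lop_add, ih]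
lemma sw_add (F G : MvPolynomial (Fin 2) A) : sw (F + G) = sw F + sw G := by simp [sw]
lemma sw_sub (F G : MvPolynomial (Fin 2) A) : sw (F - G) = sw F - sw G := by simp [sw]
lemma sw_C_mul (c : A) (F : MvPolynomial (Fin 2) A) : sw (C c * F) = C c * sw F := by
  simp [sw, MvPolynomial.algebraMap_eq]
lemma sw_sum {ι : Type*} (s : Finset ι) (f : ι → MvPolynomial (Fin 2) A) :
    sw (∑ x ∈ s, f x) = ∑ x ∈ s, sw (f x) := by
  simp [sw]

end linear

/-- additive coboundary of a one-variable polynomial -/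
noncomputable def dl (G : Polynomial A) : MvPolynomial (Fin 2) A :=
  Polynomial.aeval ((X 0 : MvPolynomial (Fin 2) A) + X 1) G - Polynomial.aeval (X 0 : MvPolynomial (Fin 2) A) G
    - Polynomial.aeval (X 1 : MvPolynomial (Fin 2) A) G

lemma dl_add (G H : Polynomial A) : dl (G + H) = dl G + dl H := by
  simp only [dl, map_add]; ring

lemma aeval_dl {B : Type*} [CommRing B] [Algebra A B] (g : Fin 2 → B) (G : Polynomial A) :
    aeval g (dl G) = Polynomial.aeval (g 0 + g 1) G - Polynomial.aeval (g 0) G - Polynomial.aeval (g 1) G := by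
  simp only [dl, map_sub, ← Polynomial.aeval_algHom_apply, map_add, aeval_X]

lemma Lop_dl (G : Polynomial A) : Lop (dl G) = 0 := by
  simp only [Lop, aeval_dl]
  simp only [Matrix.cons_val_zero, Matrix.cons_val_one, Matrix.cons_val_fin_one]
  rw [add_assoc (X 0 : MvPolynomial (Fin 3) A) (X 1) (X 2)]
  ring

lemma sw_dl (G : Polynomial A) : sw (dl G) = dl G := by
  rw [sw, aeval_dl]
  simp only [dl, Matrix.cons_val_zero, Matrix.cons_val_one, Matrix.cons_val_fin_one]
  rw [add_comm (X 1 : MvPolynomial (Fin 2) A) (X 0)]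
  ring

lemma cf_add_pow (n i j : ℕ) :
    cf (((X 0 : MvPolynomial (Fin 2) A) + X 1) ^ n) i j = if i + j = n then ((n.choose i : ℕ) : A) else 0 := by
  classical
  rw [add_pow, cf_sum]
  have key : ∀ l ∈ Finset.range (n + 1),
      cf ((X 0 : MvPolynomial (Fin 2) A) ^ l * X 1 ^ (n - l) * ((n.choose l : ℕ) : MvPolynomial (Fin 2) A)) i j =
      if (l = i ∧ n - l = j) then ((n.choose l : ℕ) : A) else 0 := by
    intro l _
    have : (X 0 : MvPolynomial (Fin 2) A) ^ l * X 1 ^ (n - l) * ((n.choose l : ℕ) : MvPolynomial (Fin 2) A) =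
        C ((n.choose l : ℕ) : A) * monomial (mon2 l (n - l)) 1 := by
      rw [← X_pow_mul_X_pow2, map_natCast]; ring
    rw [this, cf_C_mul, cf, coeff_monomial]
    simp only [mon2_inj]
    split_ifs <;> simp
  rw [Finset.sum_congr rfl key]
  by_cases h : i + j = n
  · subst h
    rw [if_pos rfl, Finset.sum_eq_single i]
    · rw [if_pos ⟨rfl, by omega⟩]
    · intro l _ hl
      rw [if_neg (fun h => hl h.1)]
    · intro hj
      exact absurd (Finset.mem_range.mpr (by omega)) hj
  · rw [if_neg h]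
    apply Finset.sum_eq_zero
    intro l hl
    rw [if_neg]
    rintro ⟨h1, h2⟩
    have := Finset.mem_range.mp hl
    exact h (by omega)

lemma cf_X0_pow (n i j : ℕ) :
    cf ((X 0 : MvPolynomial (Fin 2) A) ^ n) i j = if i = n ∧ j = 0 then 1 else 0 := by
  classical
  have : (X 0 : MvPolynomial (Fin 2) A) ^ n = monomial (mon2 n 0) 1 := by
    rw [← X_pow_mul_X_pow2]; simp
  rw [this, cf, coeff_monomial]
  simp only [mon2_inj]
  by_cases h : i = n ∧ j = 0
  · rw [if_pos h, if_pos ⟨h.1.symm, h.2.symm⟩]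
  · rw [if_neg h, if_neg (fun h' => h ⟨h'.1.symm, h'.2.symm⟩)]

lemma cf_X1_pow (n i j : ℕ) :
    cf ((X 1 : MvPolynomial (Fin 2) A) ^ n) i j = if i = 0 ∧ j = n then 1 else 0 := by
  classical
  have : (X 1 : MvPolynomial (Fin 2) A) ^ n = monomial (mon2 0 n) 1 := by
    rw [← X_pow_mul_X_pow2]; simp
  rw [this, cf, coeff_monomial]
  simp only [mon2_inj]
  by_cases h : i = 0 ∧ j = n
  · rw [if_pos h, if_pos ⟨h.1.symm, h.2.symm⟩]
  · rw [if_neg h, if_neg (fun h' => h ⟨h'.1.symm, h'.2.symm⟩)]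

lemma cf_dl (G : Polynomial A) (i j : ℕ) :
    cf (dl G) i j = G.coeff (i + j) * (((i + j).choose i : ℕ) : A)
      - (if j = 0 then G.coeff i else 0) - (if i = 0 then G.coeff j else 0) := by
  classical
  induction G using Polynomial.induction_on' with
  | add G H hG hH =>
    rw [dl_add, cf_add, hG, hH]
    simp only [Polynomial.coeff_add]
    split_ifs <;> ring
  | monomial n a =>
    have : dl (Polynomial.monomial n a) = C a * (((X 0 : MvPolynomial (Fin 2) A) + X 1) ^ n - X 0 ^ n - X 1 ^ n) := by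
      simp only [dl, Polynomial.aeval_monomial, MvPolynomial.algebraMap_eq]; ring
    rw [this, cf_C_mul, cf_sub, cf_sub, cf_add_pow, cf_X0_pow, cf_X1_pow]
    simp only [Polynomial.coeff_monomial]
    by_cases h1 : i + j = n
    · subst h1
      by_cases hj : j = 0
      · subst hj
        by_cases hi : i = 0
        · subst hi; simp
        · simp [hi]
      · by_cases hi : i = 0
        · subst hi; simp [hj]
        · have h2 : ¬ (i + j = i) := by omega
          have h3 : ¬ (i + j = j) := by omega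
          simp [hi, hj, h2, h3]
    · have h2 : ¬ (i = n ∧ j = 0) := by omega
      have h3 : ¬ (i = 0 ∧ j = n) := by omega
      have h4 : ¬ (n = i + j) := by omega
      rw [if_neg h1, if_neg h2, if_neg h3, if_neg h4]
      have e1 : (if j = 0 then if n = i then a else 0 else 0) = 0 := by
        split_ifs with hj hn
        · exact absurd (by omega) h1
        · rfl
        · rfl
      have e2 : (if i = 0 then if n = j then a else 0 else 0) = 0 := by
        split_ifs with hj hn
        · exact absurd (by omega) h1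
        · rfl
        · rfl
      rw [e1, e2]; ring

section Spoly

variable (A) in
/-- the reduction mod `p` of `((X+Y)^p - X^p - Y^p)/p` -/
noncomputable def Spoly (p : ℕ) : MvPolynomial (Fin 2) A :=
  ∑ j ∈ Finset.Ioo 0 p, C ((p.choose j / p : ℕ) : A) * X 0 ^ j * X 1 ^ (p - j)

lemma cf_Spoly (p i j : ℕ) :
    cf (Spoly A p) i j = if (0 < i ∧ i < p ∧ i + j = p) then ((p.choose i / p : ℕ) : A) else 0 := by
  classical
  rw [Spoly, cf_sum]
  have key : ∀ l ∈ Finset.Ioo 0 p,
      cf (C ((p.choose l / p : ℕ) : A) * X 0 ^ l * X 1 ^ (p - l)) i j =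
      if (l = i ∧ p - l = j) then ((p.choose l / p : ℕ) : A) else 0 := by
    intro l _
    rw [mul_assoc, X_pow_mul_X_pow2, cf_C_mul, cf, coeff_monomial]
    simp only [mon2_inj]
    split_ifs <;> simp
  rw [Finset.sum_congr rfl key]
  by_cases h : 0 < i ∧ i < p ∧ i + j = p
  · rw [if_pos h, Finset.sum_eq_single i]
    · rw [if_pos ⟨rfl, by omega⟩]
    · intro l _ hl
      rw [if_neg (fun h => hl h.1)]
    · intro hj
      exact absurd (Finset.mem_Ioo.mpr ⟨h.1, h.2.1⟩) hj
  · rw [if_neg h]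
    apply Finset.sum_eq_zero
    intro l hl
    rw [if_neg]
    rintro ⟨h1, h2⟩
    have := Finset.mem_Ioo.mp hl
    exact h (by omega)

lemma sw_Spoly (p : ℕ) : sw (Spoly A p) = Spoly A p := by
  apply ext_cf
  intro i j
  rw [cf_sw, cf_Spoly, cf_Spoly]
  by_cases h : 0 < i ∧ i < p ∧ i + j = p
  · have h' : 0 < j ∧ j < p ∧ j + i = p := by omega
    rw [if_pos h, if_pos h']
    have : p.choose j = p.choose i := Nat.choose_symm_of_eq_add (by omega)
    rw [this]
  · have h' : ¬ (0 < j ∧ j < p ∧ j + i = p) := by omega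
    rw [if_neg h, if_neg h']

lemma map_Lop {A' : Type*} [CommRing A'] (f : A →+* A') (F : MvPolynomial (Fin 2) A) :
    map f (Lop F) = Lop (map f F) := by
  have key : ∀ (g : Fin 2 → MvPolynomial (Fin 3) A) (g' : Fin 2 → MvPolynomial (Fin 3) A'),
      (∀ i, map f (g i) = g' i) → map f (aeval g F) = aeval g' (map f F) := by
    intro g g' hg
    rw [aeval_eq_bind₁, map_bind₁, aeval_eq_bind₁]
    have : (fun i => map f (g i)) = g' := funext hg
    rw [this]
  simp only [Lop, map_sub, map_add]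
  rw [key ![(X 0 : MvPolynomial (Fin 3) A), X 1 + X 2] ![(X 0 : MvPolynomial (Fin 3) A'), X 1 + X 2]
      (by intro i; fin_cases i <;> simp),
    key ![(X 1 : MvPolynomial (Fin 3) A), X 2] ![(X 1 : MvPolynomial (Fin 3) A'), X 2]
      (by intro i; fin_cases i <;> simp),
    key ![(X 0 : MvPolynomial (Fin 3) A) + X 1, X 2] ![(X 0 : MvPolynomial (Fin 3) A') + X 1, X 2]
      (by intro i; fin_cases i <;> simp),
    key ![(X 0 : MvPolynomial (Fin 3) A), X 1] ![(X 0 : MvPolynomial (Fin 3) A'), X 1]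
      (by intro i; fin_cases i <;> simp)]

lemma map_Spoly {A' : Type*} [CommRing A'] (f : A →+* A') (p : ℕ) :
    map f (Spoly A p) = Spoly A' p := by
  simp [Spoly, map_sum]

lemma p_mul_Spoly_int (p : ℕ) (hp : p.Prime) :
    C (p : ℤ) * Spoly ℤ p = ((X 0 : MvPolynomial (Fin 2) ℤ) + X 1) ^ p - X 0 ^ p - X 1 ^ p := by
  have hp0 : 0 < p := hp.pos
  rw [add_pow, Finset.sum_range_succ, Finset.range_eq_Ico, Finset.sum_eq_sum_Ico_succ_bot hp0]
  simp only [pow_zero, one_mul, Nat.sub_zero, Nat.choose_zero_right, Nat.cast_one, mul_one,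
    Nat.sub_self, Nat.choose_self]
  rw [Spoly, Finset.mul_sum]
  have : Finset.Ico (0 + 1) p = Finset.Ioo 0 p := by
    ext x; simp [Finset.mem_Ico, Finset.mem_Ioo]; omega
  rw [this]
  have key : ∀ j ∈ Finset.Ioo 0 p,
      C (p : ℤ) * (C ((p.choose j / p : ℕ) : ℤ) * X 0 ^ j * X 1 ^ (p - j)) =
        (X 0 : MvPolynomial (Fin 2) ℤ) ^ j * X 1 ^ (p - j) * ((p.choose j : ℕ) : MvPolynomial (Fin 2) ℤ) := by
    intro j hj
    obtain ⟨h1, h2⟩ := Finset.mem_Ioo.mp hj
    have hdvd : p ∣ p.choose j := hp.dvd_choose_self (by omega) h2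
    have e : ((p.choose j : ℕ) : MvPolynomial (Fin 2) ℤ) = C (p : ℤ) * C ((p.choose j / p : ℕ) : ℤ) := by
      rw [← C_mul, ← Nat.cast_mul, Nat.mul_div_cancel' hdvd, map_natCast]
    rw [e]; ring
  rw [Finset.sum_congr rfl key]
  ring

end Spoly

section Spoly2

lemma Lop_Spoly_int (p : ℕ) (hp : p.Prime) : Lop (Spoly ℤ p) = 0 := by
  have h1 : C (p : ℤ) * Lop (Spoly ℤ p) = 0 := by
    rw [← Lop_C_mul, p_mul_Spoly_int p hp]
    simp only [Lop, map_sub, map_pow, map_add, aeval_X, Matrix.cons_val_zero, Matrix.cons_val_one,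
      Matrix.cons_val_fin_one]
    ring
  rcases mul_eq_zero.mp h1 with h | h
  · exfalso
    have : (p : ℤ) = 0 := by
      have := (C_eq_zero (σ := Fin 3) (R := ℤ)).mp h
      exact this
    exact hp.ne_zero (by exact_mod_cast this)
  · exact h

lemma Lop_Spoly (p : ℕ) (hp : p.Prime) : Lop (Spoly A p) = 0 := by
  rw [← map_Spoly (Int.castRingHom A) p, ← map_Lop, Lop_Spoly_int p hp, map_zero]

/-- `S(X^(p^i), Y^(p^i))` -/
noncomputable def SS (p i : ℕ) : MvPolynomial (Fin 2) A := expand (p ^ i) (Spoly A p)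

lemma expand_eq_aeval2 (n : ℕ) (F : MvPolynomial (Fin 2) A) :
    expand n F = aeval ![(X 0 : MvPolynomial (Fin 2) A) ^ n, X 1 ^ n] F := by
  have : (fun i : Fin 2 => (X i : MvPolynomial (Fin 2) A) ^ n) = ![X 0 ^ n, X 1 ^ n] := by
    funext i; fin_cases i <;> simp
  rw [← this]; rfl

lemma SS_eq_aeval (p i : ℕ) :
    SS (A := A) p i = aeval ![(X 0 : MvPolynomial (Fin 2) A) ^ p ^ i, X 1 ^ p ^ i] (Spoly A p) :=
  expand_eq_aeval2 _ _

lemma SS_zero (p : ℕ) : SS (A := A) p 0 = Spoly A p := by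
  simp [SS]

lemma expand_SS (p i : ℕ) : expand p (SS (A := A) p i) = SS p (i + 1) := by
  rw [SS, SS, pow_succ', expand_mul]

variable (p : ℕ) [hp : Fact p.Prime] [CharP A p]

lemma Lop_expand (F : MvPolynomial (Fin 2) A) : Lop (expand p F) = expand p (Lop F) := by
  have key : ∀ (g : Fin 2 → MvPolynomial (Fin 3) A),
      (∀ i, expand p (g i) = g i ^ p) → aeval g (expand p F) = expand p (aeval g F) := by
    intro g hg
    rw [aeval_expand, aeval_eq_bind₁, aeval_eq_bind₁, expand_bind₁]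
    have : (fun i => expand p (g i)) = g ^ p := funext hg
    rw [this]
  simp only [Lop, map_sub, map_add]
  rw [key _ (by intro i; fin_cases i <;> simp [add_pow_char]),
    key _ (by intro i; fin_cases i <;> simp [add_pow_char]),
    key _ (by intro i; fin_cases i <;> simp [add_pow_char]),
    key _ (by intro i; fin_cases i <;> simp [add_pow_char])]

lemma sw_expand (n : ℕ) (F : MvPolynomial (Fin 2) A) : sw (expand n F) = expand n (sw F) := by
  rw [sw, sw, aeval_expand, aeval_eq_bind₁, aeval_eq_bind₁, expand_bind₁]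
  have : (fun i => expand n (![(X 1 : MvPolynomial (Fin 2) A), X 0] i)) = ![(X 1 : MvPolynomial (Fin 2) A), X 0] ^ n := by
    funext i; fin_cases i <;> simp
  rw [this]

lemma expand_dl (G : Polynomial A) : expand p (dl G) = dl (Polynomial.expand A p G) := by
  simp only [dl, map_sub, ← Polynomial.aeval_algHom_apply, Polynomial.expand_aeval, map_add, expand_X,
    add_pow_char]

lemma Lop_SS (i : ℕ) : Lop (SS (A := A) p i) = 0 := by
  induction i with
  | zero => rw [SS_zero]; exact Lop_Spoly p hp.out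
  | succ i ih => rw [← expand_SS, Lop_expand, ih, map_zero]

lemma sw_SS (i : ℕ) : sw (SS (A := A) p i) = SS p i := by
  rw [SS, sw_expand, sw_Spoly]

end Spoly2

section main

variable (p : ℕ) [hp : Fact p.Prime] [CharP A p]

lemma coc_rel {F : MvPolynomial (Fin 2) A} (hL : Lop F = 0) (i j k : ℕ) :
    cf F i (j + k) * (((j + k).choose j : ℕ) : A) + cf F j k * (if i = 0 then 1 else 0)
        - cf F (i + j) k * (((i + j).choose i : ℕ) : A) - cf F i j * (if k = 0 then 1 else 0) = 0 := by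
  rw [← coeff_Lop, hL, coeff_zero]

lemma coc_norm {F : MvPolynomial (Fin 2) A} (hL : Lop F = 0) (i : ℕ) (hi : 0 < i) : cf F i 0 = 0 := by
  have h := coc_rel hL i 0 0
  rw [if_neg hi.ne', if_pos rfl] at h
  simp only [add_zero, Nat.choose_zero_right, Nat.choose_self, Nat.cast_one, mul_one, mul_zero] at h
  linear_combination (-1 : A) * h

lemma coc_one {F : MvPolynomial (Fin 2) A} (hL : Lop F = 0) (j k : ℕ) (hk : 0 < k) :
    cf F 1 (j + k) * (((j + k).choose j : ℕ) : A) = cf F (1 + j) k * ((1 + j : ℕ) : A) := by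
  have h := coc_rel hL 1 j k
  rw [if_neg one_ne_zero, if_neg hk.ne', Nat.choose_one_right] at h
  linear_combination h

lemma choose_lucas_one (k : ℕ) (hk : 1 ≤ k) : (p * k - 1).choose (p - 1) ≡ 1 [MOD p] := by
  have hp' := hp.out
  have hpos := hp'.pos
  have h := @Choose.choose_modEq_choose_mod_mul_choose_div_nat (p * k - 1) (p - 1) p _
  have e1 : (p * k - 1) % p = p - 1 := by
    obtain ⟨k', rfl⟩ : ∃ k', k = k' + 1 := ⟨k - 1, by omega⟩
    have : p * (k' + 1) - 1 = (p - 1) + p * k' := by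
      rw [mul_add, mul_one]; omega
    rw [this, Nat.add_mul_mod_self_left, Nat.mod_eq_of_lt (by omega)]
  have e2 : (p - 1) % p = p - 1 := Nat.mod_eq_of_lt (by omega)
  have e3 : (p - 1) / p = 0 := Nat.div_eq_of_lt (by omega)
  rw [e1, e2, e3, Nat.choose_self, Nat.choose_zero_right] at h
  simpa using h

lemma mon2_smul (n i j : ℕ) : n • mon2 i j = mon2 (n * i) (n * j) := by
  ext a; fin_cases a <;> simp [mon2]

/-- a polynomial all of whose exponents are multiples of `p` is an expansion -/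
lemma exists_expand (F : MvPolynomial (Fin 2) A)
    (h1 : ∀ i j, ¬ p ∣ i → cf F i j = 0) (h2 : ∀ i j, ¬ p ∣ j → cf F i j = 0) :
    ∃ F' : MvPolynomial (Fin 2) A, expand p F' = F ∧ ∀ i j, cf F' i j = cf F (p * i) (p * j) := by
  classical
  have hp0 : 0 < p := hp.out.pos
  let F' : MvPolynomial (Fin 2) A := ∑ m ∈ F.support, monomial (mon2 (m 0 / p) (m 1 / p)) (coeff m F)
  have hF' : ∀ i j, cf F' i j = cf F (p * i) (p * j) := by
    intro i j
    have key : ∀ m ∈ F.support, cf (monomial (mon2 (m 0 / p) (m 1 / p)) (coeff m F)) i j =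
        if m = mon2 (p * i) (p * j) then coeff m F else 0 := by
      intro m hm
      have hm0 : coeff m F ≠ 0 := mem_support_iff.mp hm
      have d0 : p ∣ m 0 := by
        by_contra h; exact hm0 (by rw [coeff_eq_cf]; exact h1 _ _ h)
      have d1 : p ∣ m 1 := by
        by_contra h; exact hm0 (by rw [coeff_eq_cf]; exact h2 _ _ h)
      rw [cf, coeff_monomial]
      simp only [mon2_inj]
      have : (m 0 / p = i ∧ m 1 / p = j) ↔ m = mon2 (p * i) (p * j) := by
        constructor
        · rintro ⟨rfl, rfl⟩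
          rw [Nat.mul_div_cancel' d0, Nat.mul_div_cancel' d1, mon2_eta]
        · intro h
          rw [h]; simp [Nat.mul_div_cancel_left _ hp0]
      simp only [this]
    rw [cf_sum, Finset.sum_congr rfl key, Finset.sum_ite_eq']
    split_ifs with hs
    · rfl
    · rw [cf, notMem_support_iff.mp hs]
  refine ⟨F', ?_, hF'⟩
  apply ext_cf
  intro i j
  by_cases hi : p ∣ i
  · by_cases hj : p ∣ j
    · obtain ⟨i', rfl⟩ := hi
      obtain ⟨j', rfl⟩ := hj
      rw [cf, ← mon2_smul, coeff_expand_smul p hp0.ne', ← cf, hF']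
    · rw [h2 i j hj, cf]
      exact coeff_expand_of_not_dvd (p := p) F' (m := mon2 i j) (i := 1) (by simpa using hj)
  · rw [h1 i j hi, cf]
    exact coeff_expand_of_not_dvd (p := p) F' (m := mon2 i j) (i := 0) (by simpa using hi)

/-- **Lazard's lemma in characteristic `p`**, with coefficients in an ideal. -/
theorem lazard (𝔠 : Ideal A) :
    ∀ (D : ℕ) (F : MvPolynomial (Fin 2) A), sw F = F → Lop F = 0 → (∀ i j, cf F i j ∈ 𝔠) →
      (∀ i j, D < i + j → cf F i j = 0) →
      ∃ (G : Polynomial A) (N : ℕ) (r : ℕ → A), (∀ n, G.coeff n ∈ 𝔠) ∧ (∀ i, r i ∈ 𝔠) ∧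
        F = dl G + ∑ i ∈ Finset.range N, C (r i) * SS p i := by
  intro D
  induction D using Nat.strong_induction_on with
  | _ D IH =>
  intro F hsw hL hc hD
  classical
  have hpp : p.Prime := hp.out
  have hp2 : 2 ≤ p := hpp.two_le
  set c0 := cf F 0 0 with hc0
  let g : ℕ → A := fun n => if n = 0 then -c0 else
    if 2 ≤ n ∧ ¬ p ∣ n then Ring.inverse (n : A) * cf F 1 (n - 1) else 0
  have hg𝔠 : ∀ n, g n ∈ 𝔠 := by
    intro n
    simp only [g]
    split_ifs
    · exact 𝔠.neg_mem (hc 0 0)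
    · exact 𝔠.mul_mem_left _ (hc _ _)
    · exact 𝔠.zero_mem
  have hgD : ∀ n, D < n → g n = 0 := by
    intro n hn
    simp only [g]
    rw [if_neg (by omega)]
    split_ifs with h
    · rw [hD 1 (n - 1) (by omega), mul_zero]
    · rfl
  let G1 : Polynomial A := ∑ n ∈ Finset.range (D + 1), Polynomial.monomial n (g n)
  have hG1 : ∀ n, G1.coeff n = g n := by
    intro n
    simp only [G1, Polynomial.finsetSum_coeff, Polynomial.coeff_monomial]
    rw [Finset.sum_ite_eq']
    split_ifs with h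
    · rfl
    · exact (hgD n (by simpa using h)).symm
  set F1 := F - dl G1 with hF1
  have hsw1 : sw F1 = F1 := by rw [hF1, sw_sub, hsw, sw_dl]
  have hL1 : Lop F1 = 0 := by rw [hF1, Lop_sub, hL, Lop_dl, sub_zero]
  have hcfdl : ∀ i j, cf (dl G1) i j = g (i + j) * (((i + j).choose i : ℕ) : A)
      - (if j = 0 then g i else 0) - (if i = 0 then g j else 0) := by
    intro i j; rw [cf_dl]; simp only [hG1]
  have hc1 : ∀ i j, cf F1 i j ∈ 𝔠 := by
    intro i j
    rw [hF1, cf_sub, hcfdl]
    refine 𝔠.sub_mem (hc i j) (𝔠.sub_mem (𝔠.sub_mem (𝔠.mul_mem_right _ (hg𝔠 _)) ?_) ?_)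
    · split_ifs; exacts [hg𝔠 _, 𝔠.zero_mem]
    · split_ifs; exacts [hg𝔠 _, 𝔠.zero_mem]
  have hD1 : ∀ i j, D < i + j → cf F1 i j = 0 := by
    intro i j hij
    rw [hF1, cf_sub, hcfdl, hD i j hij, hgD _ hij]
    have e1 : (if j = 0 then g i else 0) = 0 := by
      split_ifs with h
      · exact hgD i (by omega)
      · rfl
    have e2 : (if i = 0 then g j else 0) = 0 := by
      split_ifs with h
      · exact hgD j (by omega)
      · rfl
    rw [e1, e2]; ring
  have h1a : ∀ m, 1 ≤ m → ¬ p ∣ (m + 1) → cf F1 1 m = 0 := by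
    intro m hm hpm
    rw [hF1, cf_sub, hcfdl]
    have hpm' : ¬ p ∣ (1 + m) := by rwa [add_comm]
    have hu : IsUnit ((1 + m : ℕ) : A) := (CharP.isUnit_natCast_iff hpp).mpr hpm'
    have e0 : g (1 + m) = Ring.inverse ((1 + m : ℕ) : A) * cf F 1 m := by
      simp only [g]
      rw [if_neg (by omega), if_pos ⟨by omega, hpm'⟩]
      have : 1 + m - 1 = m := by omega
      rw [this]
    rw [e0, if_neg (by omega : ¬ m = 0), if_neg one_ne_zero, Nat.choose_one_right]
    have : ((1 + m : ℕ) : A) * Ring.inverse ((1 + m : ℕ) : A) = 1 :=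
      Ring.mul_inverse_cancel _ hu
    linear_combination (- cf F 1 m) * this
  have h1b : ∀ k, 2 ≤ k → cf F1 1 (p * k - 1) = 0 := by
    intro k hk
    have hpk : p * 2 ≤ p * k := Nat.mul_le_mul_left p hk
    have hrel := coc_one hL1 (p - 1) (p * k - p) (by omega)
    have e1 : p - 1 + (p * k - p) = p * k - 1 := by omega
    have e2 : 1 + (p - 1) = p := by omega
    rw [e1, e2, CharP.cast_eq_zero A p, mul_zero] at hrel
    have hl := CharP.natCast_eq_natCast' A p (choose_lucas_one p k (by omega))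
    rw [hl, Nat.cast_one, mul_one] at hrel
    exact hrel
  set w := cf F1 1 (p - 1) with hw
  set F2 := F1 - C w * Spoly A p with hF2
  have hsw2 : sw F2 = F2 := by rw [hF2, sw_sub, hsw1, sw_C_mul, sw_Spoly]
  have hL2 : Lop F2 = 0 := by
    rw [hF2, Lop_sub, hL1, Lop_C_mul, Lop_Spoly p hpp, mul_zero, sub_zero]
  have hc2 : ∀ i j, cf F2 i j ∈ 𝔠 := by
    intro i j
    rw [hF2, cf_sub, cf_C_mul]
    exact 𝔠.sub_mem (hc1 i j) (𝔠.mul_mem_right _ (hc1 _ _))
  have hD2 : ∀ i j, D < i + j → cf F2 i j = 0 := by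
    intro i j hij
    rw [hF2, cf_sub, cf_C_mul, hD1 i j hij, cf_Spoly]
    split_ifs with h
    · have : w = 0 := hD1 1 (p - 1) (by omega)
      rw [this]; ring
    · ring
  have h2one : ∀ m, cf F2 1 m = 0 := by
    intro m
    rw [hF2, cf_sub, cf_C_mul, cf_Spoly]
    by_cases hm : m = p - 1
    · subst hm
      rw [if_pos ⟨by omega, by omega, by omega⟩, Nat.choose_one_right, Nat.div_self hpp.pos,
        Nat.cast_one, mul_one, sub_self]
    · rw [if_neg (by omega), mul_zero, sub_zero]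
      rcases Nat.eq_zero_or_pos m with rfl | hm0
      · exact coc_norm hL1 1 one_pos
      · by_cases hd : p ∣ (m + 1)
        · obtain ⟨k, hk⟩ := hd
          have hk2 : 2 ≤ k := by
            by_contra hlt
            have : k = 0 ∨ k = 1 := by omega
            rcases this with rfl | rfl
            · simp at hk
            · rw [mul_one] at hk; omega
          have : m = p * k - 1 := by omega
          rw [this]; exact h1b k hk2
        · exact h1a m hm0 hd
  have hv1 : ∀ i k, ¬ p ∣ i → cf F2 i k = 0 := by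
    intro i k hi
    have hi0 : 0 < i := Nat.pos_of_ne_zero (by rintro rfl; exact hi (dvd_zero p))
    rcases Nat.eq_zero_or_pos k with rfl | hk
    · exact coc_norm hL2 i hi0
    · obtain ⟨j, rfl⟩ : ∃ j, i = 1 + j := ⟨i - 1, by omega⟩
      have hrel := coc_one hL2 j k hk
      rw [h2one, zero_mul] at hrel
      have hu : IsUnit ((1 + j : ℕ) : A) := (CharP.isUnit_natCast_iff hpp).mpr hi
      exact (hu.mul_left_eq_zero).mp hrel.symm
  have hv2 : ∀ i k, ¬ p ∣ k → cf F2 i k = 0 := by
    intro i k hk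
    have := cf_sw F2 k i
    rw [hsw2] at this
    rw [← this]; exact hv1 k i hk
  obtain ⟨F', hF'e, hF'c⟩ := exists_expand p F2 hv1 hv2
  have hFdec : F = dl G1 + C w * SS p 0 + expand p F' := by
    rw [hF'e, SS_zero, hF2, hF1]; ring
  rcases Nat.eq_zero_or_pos D with hD0 | hDpos
  · have hF'0 : F' = 0 := by
      apply ext_cf; intro i j
      rw [hF'c, cf_zero]
      rcases Nat.eq_zero_or_pos (i + j) with h | h
      · have hi : i = 0 := by omega
        have hj : j = 0 := by omega
        subst hi hj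
        simp only [mul_zero]
        rw [hF2, cf_sub, cf_C_mul, cf_Spoly, if_neg (by omega), mul_zero, sub_zero, hF1, cf_sub, hcfdl]
        simp [g, hc0]
      · apply hD2
        have : 0 < p * i + p * j := by
          rw [← mul_add]; exact Nat.mul_pos hpp.pos h
        omega
    refine ⟨G1, 1, fun _ => w, fun n => by rw [hG1]; exact hg𝔠 n, fun _ => hc1 _ _, ?_⟩
    rw [hFdec, hF'0, map_zero, add_zero, Finset.sum_range_one]
  · have hlt : D / p < D := Nat.div_lt_self hDpos hpp.one_lt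
    have hsw' : sw F' = F' := by
      apply expand_injective hpp.pos
      rw [← sw_expand, hF'e, hsw2]
    have hL' : Lop F' = 0 := by
      apply expand_injective hpp.pos
      rw [← Lop_expand, hF'e, hL2, map_zero]
    obtain ⟨G', N', r', hG', hr', hF'⟩ := IH (D / p) hlt F' hsw' hL'
      (fun i j => by rw [hF'c]; exact hc2 _ _)
      (fun i j hij => by
        rw [hF'c]; apply hD2
        have h3 := (Nat.div_lt_iff_lt_mul hpp.pos).mp hij
        calc D < (i + j) * p := h3
          _ = p * i + p * j := by ring)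
    refine ⟨G1 + Polynomial.expand A p G', N' + 1, fun i => if i = 0 then w else r' (i - 1), ?_, ?_, ?_⟩
    · intro n
      rw [Polynomial.coeff_add, hG1, Polynomial.coeff_expand hpp.pos]
      refine 𝔠.add_mem (hg𝔠 n) ?_
      split_ifs; exacts [hG' _, 𝔠.zero_mem]
    · intro i
      show (if i = 0 then w else r' (i - 1)) ∈ 𝔠
      split_ifs
      · exact hc1 _ _
      · exact hr' _
    · rw [hFdec, hF', map_add, expand_dl, map_sum, dl_add, Finset.sum_range_succ']
      simp only [map_mul, expand_C, expand_SS, Nat.add_one_ne_zero, if_false, if_true,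
        Nat.add_sub_cancel]
      ring

/-- the easy direction: polynomials of Lazard's form are symmetric cocycles -/
theorem lazard_converse (G : Polynomial A) (N : ℕ) (r : ℕ → A) :
    sw (dl G + ∑ i ∈ Finset.range N, C (r i) * SS (A := A) p i) = dl G + ∑ i ∈ Finset.range N, C (r i) * SS p i ∧
    Lop (dl G + ∑ i ∈ Finset.range N, C (r i) * SS (A := A) p i) = 0 := by
  constructor
  · rw [sw_add, sw_dl, sw_sum]
    congr 1
    apply Finset.sum_congr rfl
    intro i _
    rw [sw_C_mul, sw_SS]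
  · rw [Lop_add, Lop_dl, Lop_sum, zero_add]
    apply Finset.sum_eq_zero
    intro i _
    rw [Lop_C_mul, Lop_SS, mul_zero]

/-- degree bound used to start the induction -/
lemma exists_bound (F : MvPolynomial (Fin 2) A) : ∃ D : ℕ, ∀ i j, D < i + j → cf F i j = 0 := by
  classical
  refine ⟨F.support.sup (fun m => m 0 + m 1), ?_⟩
  intro i j hij
  by_contra h
  have hm : mon2 i j ∈ F.support := mem_support_iff.mpr h
  have := Finset.le_sup (f := fun m : Fin 2 →₀ ℕ => m 0 + m 1) hm
  simp at this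
  omega

end main

end Groth.Agent.H80.Lazard
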