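import Mathlib

/-!
# Lazard's theorem on flat modules (H80)

A module is flat iff it is a colimit, over a directed poset, of finite free modules.
-/

set_option autoImplicit false

universe u

open CategoryTheory

namespace Groth.Agent.H80.LazardFlat

section Backward

variable {R : Type u} [CommRing R]

theorem flat_of_colimit {J : Type u} [Preorder J] [IsDirected J (· ≤ ·)] [Nonempty J]
    (F : J ⥤ ModuleCat.{u} R) (hF : ∀ j, Module.Flat R (F.obj j)) :
    Module.Flat R (Limits.colimit F : ModuleCat.{u} R) := by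
  classical
  rw [Module.Flat.iff_forall_isTrivialRelation]
  intro l f x hfx
  have hrep : ∀ i, ∃ (j : J) (y : F.obj j), (Limits.colimit.ι F j).hom y = x i := fun i =>
    Limits.Concrete.colimit_exists_rep F (x i)
  choose j y hy using hrep
  obtain ⟨j₀, hj₀⟩ := Finset.exists_le (Finset.univ.image j)
  have hle : ∀ i, j i ≤ j₀ := fun i => hj₀ _ (Finset.mem_image_of_mem _ (Finset.mem_univ i))
  have hw : ∀ {a b : J} (g : a ⟶ b) (t : F.obj a),
      (Limits.colimit.ι F b).hom ((F.map g).hom t) = (Limits.colimit.ι F a).hom t := by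
    intro a b g t
    have h1 := Limits.colimit.w F g
    have h2 := congrArg (fun m => m.hom t) h1
    exact h2
  let z : Fin l → F.obj j₀ := fun i => (F.map (homOfLE (hle i))).hom (y i)
  have hz : ∀ i, (Limits.colimit.ι F j₀).hom (z i) = x i := by
    intro i
    rw [← hy i]
    exact hw _ _
  have h0 : (Limits.colimit.ι F j₀).hom (∑ i, f i • z i) = (Limits.colimit.ι F j₀).hom 0 := by
    rw [map_sum, map_zero]
    simp only [map_smul, hz]
    exact hfx
  obtain ⟨k, g₁, g₂, hk⟩ := Limits.Concrete.colimit_exists_of_rep_eq F _ _ h0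
  replace hk : (F.map g₁).hom (∑ i, f i • z i) = (F.map g₂).hom 0 := hk
  rw [map_zero, map_sum] at hk
  simp only [map_smul] at hk
  obtain ⟨w, hwdef⟩ : ∃ w : Fin l → F.obj k, ∀ i, w i = (F.map g₁).hom (z i) := ⟨_, fun _ => rfl⟩
  simp only [← hwdef] at hk
  obtain ⟨k', a, y', h1, h2⟩ := Module.Flat.iff_forall_isTrivialRelation.mp (hF k) hk
  refine ⟨k', a, fun j => (Limits.colimit.ι F k).hom (y' j), ?_, h2⟩
  intro i
  have e : x i = (Limits.colimit.ι F k).hom (w i) := by
    rw [hwdef, hw, hz]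
  rw [e, h1 i, map_sum]
  simp only [map_smul]

end Backward

section Forward

variable (R : Type u) [CommRing R] (M : Type u) [AddCommGroup M] [Module R M]

/-- Finite free modules over `M`. -/
structure FFOver : Type u where
  n : ℕ
  φ : (Fin n → R) →ₗ[R] M

variable {R M}

instance : Category (FFOver R M) where
  Hom a b := {g : (Fin a.n → R) →ₗ[R] (Fin b.n → R) // b.φ ∘ₗ g = a.φ}
  id a := ⟨LinearMap.id, LinearMap.comp_id _⟩
  comp f g := ⟨g.1 ∘ₗ f.1, by rw [← LinearMap.comp_assoc, g.2, f.2]⟩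

@[ext]
theorem FFOver.hom_ext {a b : FFOver R M} (f g : a ⟶ b) (h : f.1 = g.1) : f = g :=
  Subtype.ext h

theorem FFOver.comp_val {a b c : FFOver R M} (f : a ⟶ b) (g : b ⟶ c) :
    (f ≫ g).1 = g.1 ∘ₗ f.1 := rfl

variable (R M)

/-- The forgetful functor. -/
def forgetFF : FFOver R M ⥤ ModuleCat.{u} R where
  obj a := ModuleCat.of R (Fin a.n → R)
  map f := ModuleCat.ofHom f.1
  map_id _ := rfl
  map_comp _ _ := rfl

/-- The tautological cocone. -/
def coconeFF : Limits.Cocone (forgetFF R M) where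
  pt := ModuleCat.of R M
  ι :=
    { app := fun a => ModuleCat.ofHom a.φ
      naturality := fun a b f => by
        ext x
        exact LinearMap.congr_fun f.2 x }

variable {R M}

/-- The object given by one element. -/
abbrev pt1 (m : M) : FFOver R M := ⟨1, (LinearMap.proj 0).smulRight m⟩

theorem pt1_φ (m : M) (x : Fin 1 → R) : (pt1 (R := R) m).φ x = x 0 • m := rfl

/-- The object given by two elements. -/
abbrev pt2 (m m' : M) : FFOver R M :=
  ⟨2, (LinearMap.proj 0).smulRight m + (LinearMap.proj 1).smulRight m'⟩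

theorem pt2_φ (m m' : M) (x : Fin 2 → R) : (pt2 (R := R) m m').φ x = x 0 • m + x 1 • m' := rfl

/-- `x ↦ (x, 0)` -/
def lin₁ : (Fin 1 → R) →ₗ[R] (Fin 2 → R) where
  toFun x := ![x 0, 0]
  map_add' x y := by ext i; fin_cases i <;> simp
  map_smul' r x := by ext i; fin_cases i <;> simp

/-- `x ↦ (0, x)` -/
def lin₂ : (Fin 1 → R) →ₗ[R] (Fin 2 → R) where
  toFun x := ![0, x 0]
  map_add' x y := by ext i; fin_cases i <;> simp
  map_smul' r x := by ext i; fin_cases i <;> simp

/-- `x ↦ (x, x)` -/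
def lin₃ : (Fin 1 → R) →ₗ[R] (Fin 2 → R) where
  toFun x := ![x 0, x 0]
  map_add' x y := by ext i; fin_cases i <;> simp
  map_smul' r x := by ext i; fin_cases i <;> simp

/-- first inclusion -/
def i₁ (m m' : M) : pt1 (R := R) m ⟶ pt2 m m' :=
  ⟨lin₁, LinearMap.ext fun x => by
    show (pt2 (R := R) m m').φ (![x 0, 0]) = (pt1 (R := R) m).φ x
    rw [pt2_φ, pt1_φ]; simp⟩

/-- second inclusion -/
def i₂ (m m' : M) : pt1 (R := R) m' ⟶ pt2 m m' :=
  ⟨lin₂, LinearMap.ext fun x => by
    show (pt2 (R := R) m m').φ (![0, x 0]) = (pt1 (R := R) m').φ x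
    rw [pt2_φ, pt1_φ]; simp⟩

/-- diagonal -/
def dg (m m' : M) : pt1 (R := R) (m + m') ⟶ pt2 m m' :=
  ⟨lin₃, LinearMap.ext fun x => by
    show (pt2 (R := R) m m').φ (![x 0, x 0]) = (pt1 (R := R) (m + m')).φ x
    rw [pt2_φ, pt1_φ]; simp⟩

/-- scaling -/
def sc (r : R) (m : M) : pt1 (R := R) (r • m) ⟶ pt1 m :=
  ⟨(r • LinearMap.id : (Fin 1 → R) →ₗ[R] (Fin 1 → R)), LinearMap.ext fun x => by
    show (pt1 (R := R) m).φ (r • x) = (pt1 (R := R) (r • m)).φ x
    rw [pt1_φ, pt1_φ, Pi.smul_apply, smul_eq_mul, smul_smul, mul_comm]⟩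

/-- evaluation -/
def ev (a : FFOver R M) (x : Fin a.n → R) : pt1 (R := R) (a.φ x) ⟶ a :=
  ⟨((LinearMap.proj 0).smulRight x : (Fin 1 → R) →ₗ[R] (Fin a.n → R)), LinearMap.ext fun y => by
    show a.φ (y 0 • x) = (pt1 (R := R) (a.φ x)).φ y
    rw [pt1_φ, map_smul]⟩

theorem cocone_w_apply (s : Limits.Cocone (forgetFF R M)) {a b : FFOver R M} (f : a ⟶ b)
    (x : Fin a.n → R) : (s.ι.app b).hom (f.1 x) = (s.ι.app a).hom x := by
  have h := s.w f
  have h2 := congrArg (fun t => t.hom x) h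
  exact h2

/-- The unit vector of `R^1`. -/
def e1 : Fin 1 → R := fun _ => 1

variable (R M)

/-- The tautological cocone is a colimit. -/
noncomputable def isColimitCoconeFF : Limits.IsColimit (coconeFF R M) where
  desc s := ModuleCat.ofHom
    { toFun := fun m => (s.ι.app (pt1 m)).hom e1
      map_add' := fun m m' => by
        have h1 := cocone_w_apply s (i₁ m m') e1
        have h2 := cocone_w_apply s (i₂ m m') e1
        have h3 := cocone_w_apply s (dg m m') e1
        have hadd : (dg (R := R) m m').1 e1 = (i₁ m m').1 e1 + (i₂ m m').1 e1 := by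
          ext i
          fin_cases i <;> simp [i₁, i₂, dg, lin₁, lin₂, lin₃, e1]
        rw [← h1, ← h2, ← h3, hadd]
        exact (s.ι.app (pt2 m m')).hom.map_add ((i₁ m m').1 e1) ((i₂ m m').1 e1)
      map_smul' := fun r m => by
        have h1 := cocone_w_apply s (sc r m) e1
        have hs : (sc (R := R) r m).1 e1 = r • e1 := rfl
        rw [← h1, RingHom.id_apply, hs]
        exact (s.ι.app (pt1 m)).hom.map_smul r e1 }
  fac s a := by
    ext x
    have h1 := cocone_w_apply s (ev a x) e1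
    show (s.ι.app (pt1 (a.φ x))).hom e1 = (s.ι.app a).hom x
    rw [← h1]
    congr 1
    show (e1 (R := R)) 0 • x = x
    simp [e1]
  uniq s m' h := by
    ext m
    have h1 := congrArg (fun t => t.hom (e1 (R := R))) (h (pt1 m))
    show m'.hom m = (s.ι.app (pt1 m)).hom e1
    rw [← h1]
    show m'.hom m = m'.hom ((pt1 (R := R) m).φ e1)
    rw [pt1_φ]
    simp [e1]

variable {R M}

/-- The splitting of `R^(a+b)`. -/
noncomputable def splitE (a b : ℕ) : (Fin (a + b) → R) ≃ₗ[R] (Fin a → R) × (Fin b → R) :=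
  (LinearEquiv.funCongrLeft R R finSumFinEquiv).trans
    (LinearEquiv.sumArrowLequivProdArrow (Fin a) (Fin b) R R)

instance [Module.Flat R M] : IsFiltered (FFOver R M) where
  nonempty := ⟨⟨0, 0⟩⟩
  cocone_objs a b := by
    refine ⟨⟨a.n + b.n, (a.φ.coprod b.φ) ∘ₗ (splitE a.n b.n).toLinearMap⟩,
      ⟨(splitE a.n b.n).symm.toLinearMap ∘ₗ LinearMap.inl R _ _, ?_⟩,
      ⟨(splitE a.n b.n).symm.toLinearMap ∘ₗ LinearMap.inr R _ _, ?_⟩, trivial⟩
    · ext x
      simp
    · ext x
      simp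
  cocone_maps a b f g := by
    have h0 : b.φ ∘ₗ (f.1 - g.1) = 0 := by
      rw [LinearMap.comp_sub, f.2, g.2, sub_self]
    obtain ⟨k, a', y, hy, ha'⟩ := Module.Flat.exists_factorization_of_comp_eq_zero_of_free h0
    refine ⟨⟨k, y ∘ₗ (Finsupp.linearEquivFunOnFinite R R (Fin k)).symm.toLinearMap⟩,
      ⟨(Finsupp.linearEquivFunOnFinite R R (Fin k)).toLinearMap ∘ₗ a', ?_⟩, ?_⟩
    · rw [hy]
      ext x
      simp
    · apply FFOver.hom_ext
      rw [FFOver.comp_val, FFOver.comp_val]
      show ((Finsupp.linearEquivFunOnFinite R R (Fin k)).toLinearMap ∘ₗ a') ∘ₗ f.1 =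
        ((Finsupp.linearEquivFunOnFinite R R (Fin k)).toLinearMap ∘ₗ a') ∘ₗ g.1
      rw [LinearMap.comp_assoc, LinearMap.comp_assoc]
      congr 1
      rw [← sub_eq_zero, ← LinearMap.comp_sub]
      exact ha'

variable (R M)

theorem exists_directed_colimit [Module.Flat R M] :
    ∃ (J : Type u) (_ : Preorder J) (_ : IsDirected J (fun a b => a ≤ b)) (_ : Nonempty J)
      (F : J ⥤ ModuleCat.{u} R), (∀ j, Module.Finite R (F.obj j) ∧ Module.Free R (F.obj j)) ∧
      Nonempty (Limits.colimit F ≅ ModuleCat.of R M) := by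
  obtain ⟨α, _, hdir, hne, F₀, hfinal⟩ := IsFiltered.exists_directed (FFOver R M)
  refine ⟨α, inferInstance, hdir, hne, F₀ ⋙ forgetFF R M, ?_, ?_⟩
  · intro j
    constructor
    · show Module.Finite R (Fin (F₀.obj j).n → R)
      infer_instance
    · show Module.Free R (Fin (F₀.obj j).n → R)
      infer_instance
  · exact ⟨(Functor.Final.colimitIso F₀ (forgetFF R M)).trans
      (Limits.IsColimit.coconePointUniqueUpToIso (Limits.colimit.isColimit _)
        (isColimitCoconeFF R M))⟩

end Forward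

end Groth.Agent.H80.LazardFlat
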