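import Mathlib
import Groth.Prelude
import Groth.Agent.H8.LocFreeSections
import Groth.Agent.H8.LocFreeNearFinite

/-!
# (S1) for S14113 (helper42): global sections of a finite locally free module on `Spec R` form a
projective object of `ModuleCat R`
-/

set_option autoImplicit false
universe u
open CategoryTheory CategoryTheory.Limits AlgebraicGeometry

namespace Groth.Agent.H80.NH_S1

theorem S1 (R : CommRingCat.{u}) (M : (Spec R).Modules) (hM : FlatMod.IsFinLocFree M) :
    Projective ((moduleSpecΓFunctor (R := R)).obj M) := by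
  haveI : M.IsQuasicoherent := Groth.Agent.H8.isQuasicoherent_of_isFinLocFree M hM
  haveI hproj : Module.Projective Γ(Spec R, ⊤) Γ(M, ⊤) :=
    (Groth.Agent.H8.finitePresentation_projective_sections_of_isFinLocFree M hM (U := ⊤)
      (isAffineOpen_top _)).2
  let σ : Γ(Spec R, ⊤) →+* R := (Scheme.ΓSpecIso R).hom.hom
  let σ' : R →+* Γ(Spec R, ⊤) := (Scheme.ΓSpecIso R).inv.hom
  have h1 : ∀ x, σ' (σ x) = x := fun x =>
    congrArg (fun t => t.hom x) (Scheme.ΓSpecIso R).hom_inv_id
  have h2 : ∀ x, σ (σ' x) = x := fun x =>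
    congrArg (fun t => t.hom x) (Scheme.ΓSpecIso R).inv_hom_id
  haveI : RingHomInvPair σ σ' := ⟨RingHom.ext h1, RingHom.ext h2⟩
  haveI : RingHomInvPair σ' σ := ⟨RingHom.ext h2, RingHom.ext h1⟩
  let N := (moduleSpecΓFunctor (R := R)).obj M
  let e₂ : Γ(M, ⊤) ≃ₛₗ[σ] N :=
    { toFun := fun x => x
      invFun := fun x => x
      map_add' := fun _ _ => rfl
      map_smul' := fun s x => by
        change s • x = (σ s) • x
        rw [Scheme.Modules.smul_Spec_def]
        have h3 : (ConcreteCategory.hom (Scheme.ΓSpecIso R).inv) (σ s) = s := h1 s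
        have h4 : (ConcreteCategory.hom ((Spec R).presheaf.map (⊤ : (Spec R).Opens).leTop.op)) s = s := by
          have h5 : (⊤ : (Spec R).Opens).leTop.op = 𝟙 _ := Subsingleton.elim _ _
          rw [h5, (Spec R).presheaf.map_id]
          rfl
        rw [h3, h4]
      left_inv := fun _ => rfl
      right_inv := fun _ => rfl }
  haveI : Module.Projective R N := Module.Projective.of_equiv e₂
  exact ModuleCat.projective_of_categoryTheory_projective N

end Groth.Agent.H80.NH_S1
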