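import Mathlib
import Groth.Prelude

/-!
# (S2) for S14113 (helper42): a complex of quasi-coherent modules on `Spec R` is `tilde` of its
complex of global sections
-/

set_option autoImplicit false
universe u
open CategoryTheory CategoryTheory.Limits AlgebraicGeometry

namespace Groth.Agent.H80.NH_S2

theorem S2 (R : CommRingCat.{u}) [(moduleSpecΓFunctor (R := R)).Additive]
    (E : CochainComplex (Spec R).Modules ℤ) (hE : ∀ i : ℤ, (E.X i).IsQuasicoherent) :
    Nonempty (((tilde.functor R).mapHomologicalComplex (ComplexShape.up ℤ)).obj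
      (((moduleSpecΓFunctor (R := R)).mapHomologicalComplex (ComplexShape.up ℤ)).obj E) ≅ E) := by
  have hiso : ∀ i : ℤ, IsIso (Scheme.Modules.fromTildeΓ (E.X i)) := fun i =>
    @Scheme.Modules.isIso_fromTildeΓ_of_isQuasicoherent R (E.X i) (hE i)
  refine ⟨HomologicalComplex.Hom.isoOfComponents
    (fun i => @asIso _ _ _ _ (Scheme.Modules.fromTildeΓ (E.X i)) (hiso i)) ?_⟩
  intro i j _
  exact (Scheme.Modules.fromTildeΓNatTrans.naturality (E.d i j)).symm

end Groth.Agent.H80.NH_S2
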