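-- helper80: combinatorics of tuples `Fin d → X` up to permutation (counting functions,
-- representatives), used for the norm law `T^d(B) → Γ^d(B)`.
import Mathlib

set_option autoImplicit false
universe u

namespace Groth.Agent.H80.NLComb

open Finset

variable {d : ℕ} {X : Type*}

/-- the counting function of a tuple -/
noncomputable def count (q : Fin d → X) : X →₀ ℕ := ∑ k, Finsupp.single (q k) 1

theorem count_apply [DecidableEq X] (q : Fin d → X) (x : X) :
    count q x = (Finset.univ.filter (fun k => q k = x)).card := by
  classical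
  rw [count, Finsupp.finsetSum_apply, Finset.card_filter]
  refine Finset.sum_congr rfl (fun k _ => ?_)
  rw [Finsupp.single_apply]

theorem count_comp_perm (q : Fin d → X) (σ : Equiv.Perm (Fin d)) : count (q ∘ σ) = count q := by
  unfold count
  exact Equiv.sum_comp σ (fun k => Finsupp.single (q k) 1)

theorem mem_support_count (q : Fin d → X) (x : X) : x ∈ (count q).support ↔ ∃ k, q k = x := by
  classical
  rw [Finsupp.mem_support_iff, count_apply, Ne, Finset.card_eq_zero, ← Ne,
    ← Finset.nonempty_iff_ne_empty]
  constructor
  · rintro ⟨k, hk⟩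
    exact ⟨k, (Finset.mem_filter.1 hk).2⟩
  · rintro ⟨k, hk⟩
    exact ⟨k, Finset.mem_filter.2 ⟨Finset.mem_univ _, hk⟩⟩

theorem apply_mem_support_count (q : Fin d → X) (k : Fin d) : q k ∈ (count q).support :=
  (mem_support_count q (q k)).2 ⟨k, rfl⟩

theorem sum_count (q : Fin d → X) : ((count q).sum fun _ n => n) = d := by
  classical
  unfold count
  have h : ∀ (s : Finset (Fin d)),
      ((∑ k ∈ s, Finsupp.single (q k) 1 : X →₀ ℕ).sum fun _ n => n) = s.card := by
    intro s
    induction s using Finset.induction_on with
    | empty => simp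
    | insert a s ha ih =>
      rw [Finset.sum_insert ha, Finsupp.sum_add_index' (fun _ => rfl) (fun _ _ _ => rfl), ih,
        Finsupp.sum_single_index rfl, Finset.card_insert_of_notMem ha, add_comm]
  rw [h, Finset.card_univ, Fintype.card_fin]

/-- two tuples with the same counting function differ by a permutation -/
theorem exists_perm_of_count_eq (q q' : Fin d → X) (h : count q = count q') :
    ∃ σ : Equiv.Perm (Fin d), q' = q ∘ σ := by
  classical
  have hcard : ∀ x : X, Fintype.card {k // q' k = x} = Fintype.card {k // q k = x} := by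
    intro x
    have hx := DFunLike.congr_fun h x
    rw [count_apply, count_apply] at hx
    rw [Fintype.card_subtype, Fintype.card_subtype]
    convert hx.symm using 2
  let e : ∀ x : X, {k // q' k = x} ≃ {k // q k = x} := fun x => Fintype.equivOfCardEq (hcard x)
  let σ : Equiv.Perm (Fin d) :=
    (Equiv.sigmaFiberEquiv q').symm.trans ((Equiv.sigmaCongrRight e).trans (Equiv.sigmaFiberEquiv q))
  refine ⟨σ, funext (fun k => ?_)⟩
  have : q (σ k) = q' k := by
    show q ((Equiv.sigmaFiberEquiv q) ((Equiv.sigmaCongrRight e) ((Equiv.sigmaFiberEquiv q').symm k))) = q' k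
    exact ((e (q' k)) ⟨k, rfl⟩).2
  exact this.symm

theorem count_cons {n : ℕ} (x : X) (q : Fin n → X) :
    count (Fin.cons x q : Fin (n + 1) → X) = Finsupp.single x 1 + count q := by
  unfold count
  rw [Fin.sum_univ_succ]
  simp only [Fin.cons_zero, Fin.cons_succ]

/-- every finitely supported function of total mass `d` is a counting function -/
theorem exists_count_eq : ∀ (d : ℕ) (κ : X →₀ ℕ), (κ.sum fun _ n => n) = d →
    ∃ q : Fin d → X, count q = κ := by
  classical
  intro d
  induction d with
  | zero =>
    intro κ hκ
    refine ⟨Fin.elim0, ?_⟩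
    have h0 : κ = 0 := by
      ext x
      by_contra hx
      have hx' : x ∈ κ.support := Finsupp.mem_support_iff.2 hx
      have := (Finset.sum_eq_zero_iff.1 (show ∑ a ∈ κ.support, κ a = 0 from hκ)) x hx'
      exact hx this
    rw [h0]
    unfold count
    simp
  | succ n ih =>
    intro κ hκ
    have hne : κ.support.Nonempty := by
      by_contra hemp
      rw [Finset.not_nonempty_iff_eq_empty] at hemp
      have : (κ.sum fun _ n => n) = 0 := by
        unfold Finsupp.sum; rw [hemp]; simp
      omega
    obtain ⟨x, hx⟩ := hne
    have hx1 : Finsupp.single x 1 ≤ κ := by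
      rw [Finsupp.single_le_iff]
      have := Finsupp.mem_support_iff.1 hx
      omega
    have hκ' : κ = Finsupp.single x 1 + (κ - Finsupp.single x 1) := by
      rw [add_comm, tsub_add_cancel_of_le hx1]
    have hsum : ((κ - Finsupp.single x 1).sum fun _ n => n) = n := by
      have h1 := hκ
      rw [hκ', Finsupp.sum_add_index' (fun _ => rfl) (fun _ _ _ => rfl),
        Finsupp.sum_single_index rfl] at h1
      omega
    obtain ⟨q, hq⟩ := ih (κ - Finsupp.single x 1) hsum
    refine ⟨Fin.cons x q, ?_⟩
    rw [count_cons, hq, ← hκ']

theorem prod_comp_eq_count_prod {M : Type*} [CommMonoid M] (q : Fin d → X) (f : X → M) :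
    ∏ k, f (q k) = (count q).prod fun x n => f x ^ n := by
  classical
  unfold count
  have h : ∀ (s : Finset (Fin d)),
      ∏ k ∈ s, f (q k) = (∑ k ∈ s, Finsupp.single (q k) 1 : X →₀ ℕ).prod fun x n => f x ^ n := by
    intro s
    induction s using Finset.induction_on with
    | empty => simp
    | insert a s ha ih =>
      rw [Finset.prod_insert ha, Finset.sum_insert ha,
        Finsupp.prod_add_index' (fun _ => pow_zero _) (fun _ _ _ => pow_add _ _ _), ← ih]
      congr 1
      have := Finsupp.prod_single_index (a := q a) (b := 1) (h := fun x n => f x ^ n) (pow_zero _)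
      rw [this, pow_one]
  exact h Finset.univ

/-- a chosen representative of the class of the tuple `q₀` -/
noncomputable def rep (q₀ : Fin d → X) : Fin d → X :=
  Classical.choose (⟨q₀, rfl⟩ : ∃ q : Fin d → X, count q = count q₀)

theorem count_rep (q : Fin d → X) : count (rep q) = count q :=
  Classical.choose_spec (⟨q, rfl⟩ : ∃ q' : Fin d → X, count q' = count q)

theorem rep_congr {q q' : Fin d → X} (h : count q = count q') : rep q = rep q' := by
  unfold rep
  have key : ∀ (κ κ' : X →₀ ℕ) (_ : κ = κ') (h1 : ∃ r : Fin d → X, count r = κ)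
      (h2 : ∃ r : Fin d → X, count r = κ'), Classical.choose h1 = Classical.choose h2 := by
    intro κ κ' e h1 h2
    subst e
    rfl
  exact key _ _ h _ _

/-- a tuple is a representative if it is the chosen one in its class -/
def IsRep (q : Fin d → X) : Prop := rep q = q

theorem isRep_rep (q : Fin d → X) : IsRep (rep q) := by
  unfold IsRep
  exact rep_congr (count_rep q)

theorem IsRep.eq_of_count_eq {q q' : Fin d → X} (hq : IsRep q) (hq' : IsRep q')
    (h : count q = count q') : q = q' := by
  unfold IsRep at hq hq'
  rw [← hq, ← hq', rep_congr h]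

/-- in a sum over a full class of tuples, exactly one is a representative -/
theorem sum_class_isRep {M : Type*} [AddCommMonoid M] [DecidableEq X]
    [DecidablePred (IsRep (d := d) (X := X))] (T : Finset X) (q₀ : Fin d → X)
    (hq₀ : ∀ k, q₀ k ∈ T) (c : M) :
    ∑ q ∈ (Fintype.piFinset fun _ : Fin d => T).filter (fun q => count q = count q₀),
      (if IsRep q then c else 0) = c := by
  classical
  have hmem : rep q₀ ∈ (Fintype.piFinset fun _ : Fin d => T).filter
      (fun q => count q = count q₀) := by
    rw [Finset.mem_filter, Fintype.mem_piFinset]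
    refine ⟨fun k => ?_, count_rep q₀⟩
    have h1 := apply_mem_support_count (rep q₀) k
    rw [count_rep, mem_support_count] at h1
    obtain ⟨k', hk'⟩ := h1
    rw [← hk']; exact hq₀ k'
  rw [Finset.sum_eq_single_of_mem _ hmem]
  · rw [if_pos (isRep_rep q₀)]
  · intro q hq hne
    rw [if_neg]
    intro hrep
    apply hne
    have h2 : count q = count (rep q₀) := by
      rw [(Finset.mem_filter.1 hq).2, count_rep]
    exact hrep.eq_of_count_eq (isRep_rep q₀) h2

end Groth.Agent.H80.NLComb
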