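-- helper80: the monoid-algebra model `S[(Fin d → M)]` of a `d`-fold tensor power of `S[M]`,
-- with the action of the symmetric group, the norm and the diagonal law.
import Groth.Agent.H80.NLComb

set_option autoImplicit false
universe u

namespace Groth.Agent.H80.NLAlg

open Groth.Agent.H80.NLComb Finset

variable {d : ℕ}

section Defs

variable (d) (S : Type*) [CommRing S] (M : Type*) [CommMonoid M]

/-- the model ring: the monoid algebra of the monoid of `d`-tuples -/
abbrev RR : Type _ := MonoidAlgebra S (Fin d → M)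

variable {d}

/-- permute the entries of a tuple, as a monoid isomorphism -/
def permEquiv (σ : Equiv.Perm (Fin d)) : (Fin d → M) ≃* (Fin d → M) where
  toFun q := q ∘ σ.symm
  invFun q := q ∘ σ
  left_inv q := by funext k; simp
  right_inv q := by funext k; simp
  map_mul' _ _ := rfl

/-- the action of a permutation on the model ring -/
noncomputable def act (σ : Equiv.Perm (Fin d)) : RR d S M ≃ₐ[S] RR d S M :=
  MonoidAlgebra.domCongr S S (permEquiv M σ)

variable {S M}

@[simp] theorem act_single (σ : Equiv.Perm (Fin d)) (q : Fin d → M) (s : S) :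
    act S M σ (MonoidAlgebra.single q s) = MonoidAlgebra.single (q ∘ σ.symm) s := by
  unfold act
  rw [MonoidAlgebra.domCongr_single]
  rfl

theorem coeff_act (σ : Equiv.Perm (Fin d)) (y : RR d S M) (q : Fin d → M) :
    (act S M σ y).coeff q = y.coeff (q ∘ σ) := by
  unfold act
  rw [MonoidAlgebra.coeff_domCongr]
  rfl

theorem act_mul (ρ σ : Equiv.Perm (Fin d)) (y : RR d S M) :
    act S M ρ (act S M σ y) = act S M (ρ * σ) y := by
  apply MonoidAlgebra.coeff_injective
  ext q
  rw [coeff_act, coeff_act, coeff_act]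
  rfl

/-- the norm: the product of all conjugates -/
noncomputable def Nm (y : RR d S M) : RR d S M := ∏ σ : Equiv.Perm (Fin d), act S M σ y

/-- symmetric elements -/
def IsSym (y : RR d S M) : Prop := ∀ σ : Equiv.Perm (Fin d), act S M σ y = y

theorem Nm_isSym (y : RR d S M) : IsSym (Nm y) := by
  intro ρ
  unfold Nm
  rw [map_prod]
  simp only [act_mul]
  exact Equiv.prod_comp (Equiv.mulLeft ρ) (fun σ => act S M σ y)

theorem Nm_mul (y y' : RR d S M) : Nm (y * y') = Nm y * Nm y' := by
  unfold Nm
  simp only [map_mul]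
  exact Finset.prod_mul_distrib

theorem Nm_one : Nm (1 : RR d S M) = 1 := by
  unfold Nm
  simp only [map_one]
  exact Finset.prod_const_one

theorem Nm_smul (s : S) (y : RR d S M) : Nm (s • y) = s ^ d.factorial • Nm y := by
  unfold Nm
  simp only [map_smul]
  rw [Finset.prod_smul]
  congr 1
  rw [Finset.prod_const, Finset.card_univ, Fintype.card_perm, Fintype.card_fin]

theorem Nm_of_isSym {y : RR d S M} (hy : IsSym y) : Nm y = y ^ d.factorial := by
  unfold Nm
  rw [Finset.prod_congr rfl (fun σ _ => hy σ), Finset.prod_const, Finset.card_univ,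
    Fintype.card_perm, Fintype.card_fin]

theorem IsSym.mul {y y' : RR d S M} (hy : IsSym y) (hy' : IsSym y') : IsSym (y * y') := by
  intro σ
  rw [map_mul, hy σ, hy' σ]

theorem IsSym.add {y y' : RR d S M} (hy : IsSym y) (hy' : IsSym y') : IsSym (y + y') := by
  intro σ
  rw [map_add, hy σ, hy' σ]

theorem IsSym.sub {y y' : RR d S M} (hy : IsSym y) (hy' : IsSym y') : IsSym (y - y') := by
  intro σ
  rw [map_sub, hy σ, hy' σ]

theorem IsSym.smul (s : S) {y : RR d S M} (hy : IsSym y) : IsSym (s • y) := by
  intro σ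
  rw [map_smul, hy σ]

theorem isSym_zero : IsSym (0 : RR d S M) := fun σ => map_zero _

theorem isSym_one : IsSym (1 : RR d S M) := fun σ => map_one _

theorem isSym_sum {ι : Type*} (s : Finset ι) (f : ι → RR d S M) (h : ∀ i ∈ s, IsSym (f i)) :
    IsSym (∑ i ∈ s, f i) := by
  intro σ
  rw [map_sum]
  exact Finset.sum_congr rfl (fun i hi => h i hi σ)

theorem IsSym.pow {y : RR d S M} (hy : IsSym y) (n : ℕ) : IsSym (y ^ n) := by
  intro σ
  rw [map_pow, hy σ]

theorem IsSym.coeff_comp {y : RR d S M} (hy : IsSym y) (q : Fin d → M) (σ : Equiv.Perm (Fin d)) :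
    y.coeff (q ∘ σ) = y.coeff q := by
  rw [← coeff_act, hy σ]

theorem IsSym.coeff_eq_of_count_eq {y : RR d S M} (hy : IsSym y) {q q' : Fin d → M}
    (h : count q = count q') : y.coeff q = y.coeff q' := by
  obtain ⟨σ, rfl⟩ := exists_perm_of_count_eq q q' h
  exact (hy.coeff_comp q σ).symm

open Classical in
variable (S) in
/-- the sum of all tuples with a given counting function -/
noncomputable def Ocl (κ : M →₀ ℕ) : RR d S M :=
  ∑ q ∈ (Fintype.piFinset fun _ : Fin d => κ.support).filter (fun q => count q = κ),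
    MonoidAlgebra.single q 1

open Classical in
theorem coeff_Ocl (κ : M →₀ ℕ) (q : Fin d → M) :
    (Ocl (d := d) S κ).coeff q = if count q = κ then 1 else 0 := by
  unfold Ocl
  rw [MonoidAlgebra.coeff_sum, Finsupp.finsetSum_apply]
  simp only [MonoidAlgebra.coeff_single, Finsupp.single_apply]
  split_ifs with h
  · rw [Finset.sum_eq_single_of_mem q]
    · rw [if_pos rfl]
    · rw [Finset.mem_filter, Fintype.mem_piFinset]
      refine ⟨fun k => ?_, h⟩
      rw [← h]; exact apply_mem_support_count q k
    · intro q' _ hne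
      rw [if_neg hne]
  · refine Finset.sum_eq_zero (fun q' hq' => ?_)
    rw [if_neg]
    rintro rfl
    exact h (Finset.mem_filter.1 hq').2

theorem isSym_Ocl (κ : M →₀ ℕ) : IsSym (Ocl (d := d) S κ) := by
  classical
  intro σ
  apply MonoidAlgebra.coeff_injective
  ext q
  rw [coeff_act, coeff_Ocl, coeff_Ocl, count_comp_perm]

/-- a symmetric element is a combination of the class sums of the tuples in its support -/
theorem IsSym.mem_span {y : RR d S M} (hy : IsSym y) :
    y ∈ Submodule.span S {x : RR d S M | ∃ q ∈ y.coeff.support, x = Ocl S (count q)} := by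
  classical
  let c : (M →₀ ℕ) → S := fun κ =>
    if h : ∃ q ∈ y.coeff.support, count q = κ then y.coeff (Classical.choose h) else 0
  have hc : ∀ q ∈ y.coeff.support, c (count q) = y.coeff q := by
    intro q hq
    have h : ∃ q' ∈ y.coeff.support, count q' = count q := ⟨q, hq, rfl⟩
    show (if h : ∃ q' ∈ y.coeff.support, count q' = count q then
      y.coeff (Classical.choose h) else 0) = y.coeff q
    rw [dif_pos h]
    exact hy.coeff_eq_of_count_eq (Classical.choose_spec h).2
  have hy' : y = ∑ κ ∈ y.coeff.support.image count, c κ • Ocl S κ := by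
    apply MonoidAlgebra.coeff_injective
    ext q
    rw [MonoidAlgebra.coeff_sum, Finsupp.finsetSum_apply]
    simp only [MonoidAlgebra.coeff_smul, Finsupp.smul_apply, coeff_Ocl, smul_eq_mul, mul_ite,
      mul_one, mul_zero]
    rw [Finset.sum_ite_eq]
    split_ifs with h
    · obtain ⟨q', hq', hcount⟩ := Finset.mem_image.1 h
      rw [← hcount, hc q' hq']
      exact (hy.coeff_eq_of_count_eq hcount).symm
    · by_contra hne
      apply h
      exact Finset.mem_image.2 ⟨q, Finsupp.mem_support_iff.2 hne, rfl⟩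
  rw [hy']
  refine Submodule.sum_mem _ (fun κ hκ => Submodule.smul_mem _ _ (Submodule.subset_span ?_))
  obtain ⟨q, hq, rfl⟩ := Finset.mem_image.1 hκ
  rw [← hy']
  exact ⟨q, hq, rfl⟩

end Defs

section Diag

variable (S : Type*) [CommRing S] (M : Type*) [CommMonoid M]

/-- the `k`-th coordinate embedding -/
noncomputable def ι (k : Fin d) : MonoidAlgebra S M →ₐ[S] RR d S M :=
  MonoidAlgebra.mapDomainAlgHom S S (MonoidHom.mulSingle (fun _ : Fin d => M) k)

variable {S M}

theorem ι_single (k : Fin d) (b : M) (s : S) :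
    ι S M k (MonoidAlgebra.single b s) = MonoidAlgebra.single (Pi.mulSingle k b) s := by
  unfold ι
  rw [MonoidAlgebra.mapDomainAlgHom_apply, MonoidAlgebra.mapDomain_single]
  rfl

/-- the diagonal law `p ↦ p ⊗ ⋯ ⊗ p` -/
noncomputable def τ (p : MonoidAlgebra S M) : RR d S M := ∏ k : Fin d, ι S M k p

theorem τ_mul (p p' : MonoidAlgebra S M) : τ (d := d) (p * p') = τ p * τ p' := by
  unfold τ
  simp only [map_mul]
  exact Finset.prod_mul_distrib

theorem τ_one : τ (d := d) (1 : MonoidAlgebra S M) = 1 := by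
  unfold τ
  simp only [map_one]
  exact Finset.prod_const_one

theorem τ_eq_sum (p : MonoidAlgebra S M) :
    τ (d := d) p = ∑ q ∈ Fintype.piFinset (fun _ : Fin d => p.coeff.support),
      MonoidAlgebra.single q (∏ k, p.coeff (q k)) := by
  classical
  have hp : ∀ k : Fin d, ι S M k p =
      ∑ b ∈ p.coeff.support, MonoidAlgebra.single (Pi.mulSingle k b) (p.coeff b) := by
    intro k
    conv_lhs => rw [← MonoidAlgebra.sum_coeff_single p]
    rw [Finsupp.sum, map_sum]
    exact Finset.sum_congr rfl (fun b _ => ι_single k b _)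
  unfold τ
  rw [Finset.prod_congr rfl (fun k _ => hp k), Finset.prod_univ_sum]
  refine Finset.sum_congr rfl (fun q _ => ?_)
  rw [MonoidAlgebra.prod_single, Finset.univ_prod_mulSingle]

end Diag

section MapCoeff

variable {S S' : Type*} [CommRing S] [CommRing S'] {M : Type*} [CommMonoid M]

/-- change of coefficients in the model ring -/
noncomputable def mc (ψ : S →+* S') : RR d S M →+* RR d S' M :=
  MonoidAlgebra.mapRingHom (Fin d → M) ψ

@[simp] theorem mc_single (ψ : S →+* S') (q : Fin d → M) (s : S) :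
    mc ψ (MonoidAlgebra.single q s) = MonoidAlgebra.single q (ψ s) := by
  unfold mc
  rw [MonoidAlgebra.mapRingHom_single]

theorem coeff_mc (ψ : S →+* S') (y : RR d S M) (q : Fin d → M) :
    (mc ψ y).coeff q = ψ (y.coeff q) := by
  unfold mc
  rw [MonoidAlgebra.coeff_mapRingHom]

theorem mc_act (ψ : S →+* S') (σ : Equiv.Perm (Fin d)) (y : RR d S M) :
    mc ψ (act S M σ y) = act S' M σ (mc ψ y) := by
  apply MonoidAlgebra.coeff_injective
  ext q
  rw [coeff_mc, coeff_act, coeff_act, coeff_mc]

theorem mc_Nm (ψ : S →+* S') (y : RR d S M) : mc ψ (Nm y) = Nm (mc ψ y) := by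
  unfold Nm
  rw [map_prod]
  exact Finset.prod_congr rfl (fun σ _ => mc_act ψ σ y)

theorem mc_isSym (ψ : S →+* S') {y : RR d S M} (hy : IsSym y) : IsSym (mc ψ y) := by
  intro σ
  rw [← mc_act, hy σ]

theorem mc_Ocl (ψ : S →+* S') (κ : M →₀ ℕ) : mc ψ (Ocl (d := d) S κ) = Ocl S' κ := by
  classical
  apply MonoidAlgebra.coeff_injective
  ext q
  rw [coeff_mc, coeff_Ocl, coeff_Ocl]
  split_ifs <;> simp

theorem mc_smul (ψ : S →+* S') (s : S) (y : RR d S M) : mc ψ (s • y) = ψ s • mc ψ y := by
  apply MonoidAlgebra.coeff_injective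
  ext q
  rw [coeff_mc, MonoidAlgebra.coeff_smul, MonoidAlgebra.coeff_smul, Finsupp.smul_apply,
    Finsupp.smul_apply, coeff_mc, smul_eq_mul, smul_eq_mul, map_mul]

end MapCoeff

end Groth.Agent.H80.NLAlg
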