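-- helper80: coefficients of a polynomial law along a generic combination `Σ X_λ ⊗ e_λ`.
import Groth.Agent.H74.GammaSpan

set_option autoImplicit false
universe u

open scoped TensorProduct

namespace Groth.Agent.H80.NLCoef

open PolLaw Groth.Agent.H74.GammaSpan

variable {A : Type u} [CommRing A]

section CfBasics

variable {σ : Type*} {N : Type*} [AddCommGroup N] [Module A N]

theorem cf_monomial_tmul [DecidableEq σ] (ν μ : σ →₀ ℕ) (a : A) (c : N) :
    cf ν ((MvPolynomial.monomial μ a) ⊗ₜ[A] c) = if μ = ν then a • c else 0 := by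
  rw [cf_tmul, MvPolynomial.coeff_monomial]
  split_ifs <;> simp

theorem cf_sum_monomial_tmul [DecidableEq σ] {ι : Type*} (s : Finset ι) (e : ι → σ →₀ ℕ)
    (c : ι → N) (ν : σ →₀ ℕ) :
    cf ν (∑ i ∈ s, (MvPolynomial.monomial (e i) (1 : A)) ⊗ₜ[A] c i) =
      ∑ i ∈ s, if e i = ν then c i else 0 := by
  rw [map_sum]
  refine Finset.sum_congr rfl (fun i _ => ?_)
  rw [cf_monomial_tmul]
  split_ifs <;> simp

/-- an element all of whose coefficients vanish is zero -/
theorem eq_zero_of_cf_eq_zero (u : MvPolynomial σ A ⊗[A] N) (h : ∀ ν, cf ν u = 0) : u = 0 := by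
  obtain ⟨s, hs⟩ := exists_finset_expand u
  rw [hs s (Finset.Subset.refl s)]
  refine Finset.sum_eq_zero (fun ν _ => ?_)
  rw [h ν, TensorProduct.tmul_zero]

theorem eq_of_cf_eq (u v : MvPolynomial σ A ⊗[A] N) (h : ∀ ν, cf ν u = cf ν v) : u = v := by
  rw [← sub_eq_zero]
  apply eq_zero_of_cf_eq_zero
  intro ν
  rw [map_sub, h ν, sub_self]

/-- a uniform finite expansion for two elements -/
theorem exists_finset_expand₂ (u v : MvPolynomial σ A ⊗[A] N) :
    ∃ s : Finset (σ →₀ ℕ), (∀ t : Finset (σ →₀ ℕ), s ⊆ t →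
      u = ∑ ν ∈ t, (MvPolynomial.monomial ν (1 : A)) ⊗ₜ[A] cf ν u) ∧
      (∀ t : Finset (σ →₀ ℕ), s ⊆ t →
      v = ∑ ν ∈ t, (MvPolynomial.monomial ν (1 : A)) ⊗ₜ[A] cf ν v) := by
  classical
  obtain ⟨s, hs⟩ := exists_finset_expand u
  obtain ⟨s', hs'⟩ := exists_finset_expand v
  exact ⟨s ∪ s', fun t ht => hs t (Finset.union_subset_left ht),
    fun t ht => hs' t (Finset.union_subset_right ht)⟩

theorem cf_eq_zero_of_notMem {u : MvPolynomial σ A ⊗[A] N} {s : Finset (σ →₀ ℕ)}
    (hs : ∀ t : Finset (σ →₀ ℕ), s ⊆ t →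
      u = ∑ ν ∈ t, (MvPolynomial.monomial ν (1 : A)) ⊗ₜ[A] cf ν u)
    {μ : σ →₀ ℕ} (hμ : μ ∉ s) : cf μ u = 0 := by
  classical
  have h1 := hs s (Finset.Subset.refl s)
  have h2 := hs (insert μ s) (Finset.subset_insert μ s)
  rw [Finset.sum_insert hμ, ← h1] at h2
  have h3 : (MvPolynomial.monomial μ (1 : A)) ⊗ₜ[A] cf μ u = 0 := by
    have := h2
    rwa [right_eq_add] at this
  have h4 := congrArg (cf μ) h3
  rwa [cf_tmul, MvPolynomial.coeff_monomial, if_pos rfl, one_smul, map_zero] at h4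

theorem cf_lTensor' {σ : Type u} {N N' : Type u} [AddCommGroup N] [Module A N] [AddCommGroup N']
    [Module A N'] (L : N →ₗ[A] N') (ν : σ →₀ ℕ) (u : MvPolynomial σ A ⊗[A] N) :
    cf ν (L.lTensor (MvPolynomial σ A) u) = L (cf ν u) :=
  lid_rTensor_lTensor L (MvPolynomial.lcoeff A ν) u

/-- the coefficients of a specialisation along an algebra map that sends monomials to monomials
or zero -/
theorem cf_rTensor_of_monomial {σ' : Type*} [DecidableEq σ']
    (ψ : MvPolynomial σ A →ₐ[A] MvPolynomial σ' A)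
    (f : (σ →₀ ℕ) → Option (σ' →₀ ℕ))
    (hψ : ∀ μ, ψ (MvPolynomial.monomial μ 1) =
      match f μ with
      | some μ' => MvPolynomial.monomial μ' 1
      | none => 0)
    (u : MvPolynomial σ A ⊗[A] N) (ν' : σ' →₀ ℕ) (ν : σ →₀ ℕ)
    (hν : ∀ μ, f μ = some ν' ↔ μ = ν) :
    cf ν' (ψ.toLinearMap.rTensor N u) = cf ν u := by
  classical
  obtain ⟨s, hs⟩ := exists_finset_expand u
  have hu := hs (insert ν s) (Finset.subset_insert ν s)
  conv_lhs => rw [hu]
  rw [map_sum, map_sum]
  rw [Finset.sum_eq_single_of_mem ν (Finset.mem_insert_self ν s)]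
  · rw [LinearMap.rTensor_tmul, AlgHom.toLinearMap_apply, hψ ν]
    have : f ν = some ν' := (hν ν).2 rfl
    rw [this]
    show cf ν' ((MvPolynomial.monomial ν' (1 : A)) ⊗ₜ[A] cf ν u) = cf ν u
    rw [cf_monomial_tmul, if_pos rfl, one_smul]
  · intro μ _ hμ
    rw [LinearMap.rTensor_tmul, AlgHom.toLinearMap_apply, hψ μ]
    cases hf : f μ with
    | none => show cf ν' ((0 : MvPolynomial σ' A) ⊗ₜ[A] cf μ u) = 0; rw [TensorProduct.zero_tmul, map_zero]
    | some μ' =>
      show cf ν' ((MvPolynomial.monomial μ' (1 : A)) ⊗ₜ[A] cf μ u) = 0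
      rw [cf_monomial_tmul, if_neg]
      rintro rfl
      exact hμ ((hν μ).1 hf)

/-- the coefficients of a specialisation vanish where no monomial maps -/
theorem cf_rTensor_of_monomial_eq_zero {σ' : Type*} [DecidableEq σ']
    (ψ : MvPolynomial σ A →ₐ[A] MvPolynomial σ' A)
    (f : (σ →₀ ℕ) → Option (σ' →₀ ℕ))
    (hψ : ∀ μ, ψ (MvPolynomial.monomial μ 1) =
      match f μ with
      | some μ' => MvPolynomial.monomial μ' 1
      | none => 0)
    (u : MvPolynomial σ A ⊗[A] N) (ν' : σ' →₀ ℕ)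
    (hν : ∀ μ, f μ ≠ some ν') :
    cf ν' (ψ.toLinearMap.rTensor N u) = 0 := by
  classical
  obtain ⟨s, hs⟩ := exists_finset_expand u
  have hu := hs s (Finset.Subset.refl s)
  conv_lhs => rw [hu]
  rw [map_sum, map_sum]
  refine Finset.sum_eq_zero (fun μ _ => ?_)
  rw [LinearMap.rTensor_tmul, AlgHom.toLinearMap_apply, hψ μ]
  cases hf : f μ with
  | none => show cf ν' ((0 : MvPolynomial σ' A) ⊗ₜ[A] cf μ u) = 0; rw [TensorProduct.zero_tmul, map_zero]
  | some μ' =>
    show cf ν' ((MvPolynomial.monomial μ' (1 : A)) ⊗ₜ[A] cf μ u) = 0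
    rw [cf_monomial_tmul, if_neg]
    rintro rfl
    exact hν μ hf

end CfBasics

section Kill

variable {Λ : Type*}

open Classical in
/-- the endomorphism of the polynomial ring killing the variables outside `T` -/
noncomputable def kill (T : Finset Λ) : MvPolynomial Λ A →ₐ[A] MvPolynomial Λ A :=
  MvPolynomial.aeval (fun l => if l ∈ T then MvPolynomial.X l else 0)

open Classical in
theorem kill_monomial (T : Finset Λ) (μ : Λ →₀ ℕ) :
    kill (A := A) T (MvPolynomial.monomial μ 1) =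
      match (if μ.support ⊆ T then some μ else none : Option (Λ →₀ ℕ)) with
      | some μ' => MvPolynomial.monomial μ' 1
      | none => 0 := by
  unfold kill
  rw [MvPolynomial.aeval_monomial, map_one, one_mul]
  split_ifs with h
  · show (μ.prod fun i k => (if i ∈ T then MvPolynomial.X i else 0) ^ k) =
      MvPolynomial.monomial μ (1 : A)
    rw [MvPolynomial.monomial_eq, MvPolynomial.C_1, one_mul]
    refine Finsupp.prod_congr (fun i hi => ?_)
    rw [if_pos (h hi)]
  · show (μ.prod fun i k => (if i ∈ T then MvPolynomial.X i else 0) ^ k) = (0 : MvPolynomial Λ A)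
    rw [Finset.not_subset] at h
    obtain ⟨i, hi, hiT⟩ := h
    rw [Finsupp.prod]
    refine Finset.prod_eq_zero hi ?_
    rw [if_neg hiT, zero_pow (Finsupp.mem_support_iff.1 hi)]

variable {N : Type*} [AddCommGroup N] [Module A N]

open Classical in
theorem cf_kill (T : Finset Λ) (u : MvPolynomial Λ A ⊗[A] N) (ν : Λ →₀ ℕ) :
    cf ν ((kill T).toLinearMap.rTensor N u) = if ν.support ⊆ T then cf ν u else 0 := by
  split_ifs with h
  · refine cf_rTensor_of_monomial (kill T) _ (kill_monomial T) u ν ν (fun μ => ?_)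
    constructor
    · intro hμ
      split_ifs at hμ with h'
      · exact Option.some.inj hμ
    · rintro rfl
      rw [if_pos h]
  · refine cf_rTensor_of_monomial_eq_zero (kill T) _ (kill_monomial T) u ν (fun μ hμ => ?_)
    split_ifs at hμ with h'
    · have := Option.some.inj hμ
      subst this
      exact h h'

end Kill

section Gen

variable {Λ : Type u} {B : Type u} [AddCommGroup B] [Module A B]
  {C : Type u} [AddCommGroup C] [Module A C]

/-- the generic combination of the family `e` along the finite set `T` -/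
noncomputable def gen (e : Λ → B) (T : Finset Λ) : MvPolynomial Λ A ⊗[A] B :=
  ∑ l ∈ T, (MvPolynomial.X l : MvPolynomial Λ A) ⊗ₜ[A] e l

/-- the coefficients of a law along the generic combination -/
noncomputable def gcf (F : B →ₚₗ[A] C) (e : Λ → B) (T : Finset Λ) (κ : Λ →₀ ℕ) : C :=
  cf κ (F.toFun' (MvPolynomial Λ A) (gen e T))

open Classical in
theorem kill_gen (e : Λ → B) (T T' : Finset Λ) (h : T' ⊆ T) :
    (kill (A := A) T').toLinearMap.rTensor B (gen e T) = gen e T' := by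
  unfold gen
  rw [map_sum]
  have h1 : ∀ l ∈ T, (kill (A := A) T').toLinearMap.rTensor B
      ((MvPolynomial.X l : MvPolynomial Λ A) ⊗ₜ[A] e l) =
      if l ∈ T' then (MvPolynomial.X l : MvPolynomial Λ A) ⊗ₜ[A] e l else 0 := by
    intro l _
    rw [LinearMap.rTensor_tmul, AlgHom.toLinearMap_apply]
    unfold kill
    rw [MvPolynomial.aeval_X]
    split_ifs
    · rfl
    · rw [TensorProduct.zero_tmul]
  rw [Finset.sum_congr rfl h1, Finset.sum_ite_mem, Finset.inter_eq_right.2 h]

open Classical in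
theorem gcf_of_subset (F : B →ₚₗ[A] C) (e : Λ → B) (T T' : Finset Λ) (h : T' ⊆ T) (κ : Λ →₀ ℕ) :
    gcf F e T' κ = if κ.support ⊆ T' then gcf F e T κ else 0 := by
  unfold gcf
  rw [← kill_gen e T T' h]
  have := congr_fun (F.isCompat' (kill (A := A) T')) (gen e T)
  simp only [Function.comp_apply] at this
  rw [← this, cf_kill]

theorem gcf_eq_zero_of_not_subset (F : B →ₚₗ[A] C) (e : Λ → B) (T : Finset Λ) (κ : Λ →₀ ℕ)
    (h : ¬ κ.support ⊆ T) : gcf F e T κ = 0 := by
  classical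
  have := gcf_of_subset F e T T (Finset.Subset.refl T) κ
  rwa [if_neg h] at this

theorem gcf_eq_of_subset (F : B →ₚₗ[A] C) (e : Λ → B) (T T' : Finset Λ) (h : T' ⊆ T)
    (κ : Λ →₀ ℕ) (hκ : κ.support ⊆ T') : gcf F e T κ = gcf F e T' κ := by
  classical
  have := gcf_of_subset F e T T' h κ
  rw [if_pos hκ] at this
  exact this.symm

theorem gen_erase_of_eq_zero [DecidableEq Λ] (e : Λ → B) (T : Finset Λ) (l₀ : Λ) (h : e l₀ = 0) :
    gen (A := A) e T = gen e (T.erase l₀) := by
  unfold gen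
  by_cases hl : l₀ ∈ T
  · rw [← Finset.add_sum_erase T _ hl, h, TensorProduct.tmul_zero, zero_add]
  · rw [Finset.erase_eq_of_notMem hl]

/-- a coefficient involving a label whose value is zero vanishes -/
theorem gcf_eq_zero_of_value_eq_zero (F : B →ₚₗ[A] C) (e : Λ → B) (T : Finset Λ) (κ : Λ →₀ ℕ)
    (l₀ : Λ) (hl₀ : l₀ ∈ κ.support) (h : e l₀ = 0) : gcf F e T κ = 0 := by
  classical
  unfold gcf
  rw [gen_erase_of_eq_zero e T l₀ h]
  refine gcf_eq_zero_of_not_subset F e (T.erase l₀) κ (fun hsub => ?_)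
  exact (Finset.notMem_erase l₀ T) (hsub hl₀)

/-- the value of the law on an arbitrary combination, in terms of the generic coefficients -/
theorem toFun'_sum_tmul (F : B →ₚₗ[A] C) (e : Λ → B) (T : Finset Λ)
    (S : Type u) [CommRing S] [Algebra A S] (s : Λ → S) :
    ∃ K₀ : Finset (Λ →₀ ℕ), ∀ K : Finset (Λ →₀ ℕ), K₀ ⊆ K →
      F.toFun' S (∑ l ∈ T, s l ⊗ₜ[A] e l) =
        ∑ κ ∈ K, (κ.prod fun l n => s l ^ n) ⊗ₜ[A] gcf F e T κ := by
  obtain ⟨K₀, hK₀⟩ := exists_finset_expand (F.toFun' (MvPolynomial Λ A) (gen e T))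
  refine ⟨K₀, fun K hK => ?_⟩
  have h1 : (MvPolynomial.aeval s : MvPolynomial Λ A →ₐ[A] S).toLinearMap.rTensor B (gen e T) =
      ∑ l ∈ T, s l ⊗ₜ[A] e l := by
    unfold gen
    rw [map_sum]
    refine Finset.sum_congr rfl (fun l _ => ?_)
    rw [LinearMap.rTensor_tmul, AlgHom.toLinearMap_apply, MvPolynomial.aeval_X]
  have h2 := congr_fun (F.isCompat' (MvPolynomial.aeval s : MvPolynomial Λ A →ₐ[A] S)) (gen e T)
  simp only [Function.comp_apply] at h2
  rw [← h1, ← h2, hK₀ K hK, map_sum]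
  refine Finset.sum_congr rfl (fun κ _ => ?_)
  rw [LinearMap.rTensor_tmul, AlgHom.toLinearMap_apply, MvPolynomial.aeval_monomial, map_one,
    one_mul]
  rfl

end Gen

end Groth.Agent.H80.NLCoef
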