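-- helper80: the linear map from the monoid-algebra model of `T^d` to `Γ^d`, its compatibility
-- with the diagonal law, its multiplicativity on symmetric elements and its surjectivity.
import Groth.Agent.H80.NLAlg
import Groth.Agent.H80.NLCoef

set_option autoImplicit false
universe u

open scoped TensorProduct

namespace Groth.Agent.H80.NLLin

open PolLaw Groth.Agent.H74.GammaSpan Groth.Agent.H80.NLComb Groth.Agent.H80.NLAlg
  Groth.Agent.H80.NLCoef Finset

section Homog

variable {A : Type u} [CommRing A] {Λ : Type u} {B : Type u} [AddCommGroup B] [Module A B]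
  {C : Type u} [AddCommGroup C] [Module A C]

theorem mapDomain_some_none (κ : Λ →₀ ℕ) : (κ.mapDomain some) none = 0 := by
  apply Finsupp.mapDomain_notin_range
  rintro ⟨l, hl⟩
  exact Option.some_ne_none l hl

theorem mapDomain_some_some (κ : Λ →₀ ℕ) (l : Λ) : (κ.mapDomain some) (some l) = κ l :=
  Finsupp.mapDomain_apply (Option.some_injective _) κ l

theorem prod_X_some (κ : Λ →₀ ℕ) :
    (κ.prod fun l n => (MvPolynomial.X (some l) : MvPolynomial (Option Λ) A) ^ n) =
      MvPolynomial.monomial (κ.mapDomain some) (1 : A) := by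
  rw [MvPolynomial.monomial_eq, MvPolynomial.C_1, one_mul,
    Finsupp.prod_mapDomain_index_inj (Option.some_injective _)]

theorem prod_X_none_mul (κ : Λ →₀ ℕ) :
    (κ.prod fun l n => ((MvPolynomial.X none : MvPolynomial (Option Λ) A) *
      MvPolynomial.X (some l)) ^ n) =
      MvPolynomial.monomial (κ.mapDomain some + Finsupp.single none (κ.sum fun _ n => n))
        (1 : A) := by
  have h : ∀ (l : Λ) (n : ℕ), ((MvPolynomial.X none : MvPolynomial (Option Λ) A) *
      MvPolynomial.X (some l)) ^ n = MvPolynomial.X none ^ n * MvPolynomial.X (some l) ^ n :=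
    fun l n => mul_pow _ _ _
  simp only [h]
  rw [Finsupp.prod_mul, prod_X_some]
  have h2 : (κ.prod fun _ n => (MvPolynomial.X none : MvPolynomial (Option Λ) A) ^ n) =
      MvPolynomial.monomial (Finsupp.single none (κ.sum fun _ n => n)) (1 : A) := by
    rw [Finsupp.prod, Finset.prod_pow_eq_pow_sum, MvPolynomial.X_pow_eq_monomial]
    rfl
  rw [h2, MvPolynomial.monomial_mul, one_mul, add_comm]

/-- the generic coefficients of a homogeneous law vanish outside the degree -/
theorem gcf_eq_zero_of_sum_ne (F : B →ₚₗ[A] C) {d : ℕ} (hF : IsHomog F d) (e : Λ → B)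
    (T : Finset Λ) (κ₀ : Λ →₀ ℕ) (h : (κ₀.sum fun _ n => n) ≠ d) : gcf F e T κ₀ = 0 := by
  classical
  obtain ⟨K₁, hK₁⟩ := toFun'_sum_tmul F e T (MvPolynomial (Option Λ) A)
    (fun l => MvPolynomial.X none * MvPolynomial.X (some l))
  obtain ⟨K₂, hK₂⟩ := toFun'_sum_tmul F e T (MvPolynomial (Option Λ) A)
    (fun l => MvPolynomial.X (some l))
  have hs1 : K₁ ⊆ K₁ ∪ K₂ ∪ {κ₀} := fun x hx => by simp [hx]
  have hs2 : K₂ ⊆ K₁ ∪ K₂ ∪ {κ₀} := fun x hx => by simp [hx]
  have hs3 : κ₀ ∈ K₁ ∪ K₂ ∪ {κ₀} := by simp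
  have e1 := hK₁ (K₁ ∪ K₂ ∪ {κ₀}) hs1
  have e2 := hK₂ (K₁ ∪ K₂ ∪ {κ₀}) hs2
  beta_reduce at e1 e2
  have e3 : ∑ l ∈ T, ((MvPolynomial.X none : MvPolynomial (Option Λ) A) *
      MvPolynomial.X (some l)) ⊗ₜ[A] e l =
      (MvPolynomial.X none : MvPolynomial (Option Λ) A) •
        ∑ l ∈ T, (MvPolynomial.X (some l) : MvPolynomial (Option Λ) A) ⊗ₜ[A] e l := by
    rw [Finset.smul_sum]
    refine Finset.sum_congr rfl (fun l _ => ?_)
    rw [TensorProduct.smul_tmul', smul_eq_mul]
  have m3 : ∀ κ : Λ →₀ ℕ, (MvPolynomial.X none : MvPolynomial (Option Λ) A) ^ d •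
      ((κ.prod fun l n => (MvPolynomial.X (some l) : MvPolynomial (Option Λ) A) ^ n) ⊗ₜ[A]
        gcf F e T κ) =
      (MvPolynomial.monomial (κ.mapDomain some + Finsupp.single none d) (1 : A)) ⊗ₜ[A]
        gcf F e T κ := by
    intro κ
    rw [TensorProduct.smul_tmul', smul_eq_mul, prod_X_some, MvPolynomial.X_pow_eq_monomial,
      MvPolynomial.monomial_mul, one_mul, add_comm]
  rw [e3, hF (MvPolynomial (Option Λ) A) (MvPolynomial.X none), e2, Finset.smul_sum] at e1
  simp only [m3, prod_X_none_mul] at e1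
  have e4 := congrArg (cf (κ₀.mapDomain some + Finsupp.single none (κ₀.sum fun _ n => n))) e1
  rw [cf_sum_monomial_tmul, cf_sum_monomial_tmul] at e4
  rw [Finset.sum_eq_zero, Finset.sum_eq_single_of_mem κ₀ hs3, if_pos rfl] at e4
  · exact e4.symm
  · intro κ _ hne
    rw [if_neg]
    intro heq
    apply hne
    ext l
    have := DFunLike.congr_fun heq (some l)
    simpa [mapDomain_some_some] using this
  · intro κ _
    rw [if_neg]
    intro heq
    apply h
    have := DFunLike.congr_fun heq none
    simp only [Finsupp.add_apply, mapDomain_some_none, Finsupp.single_eq_same, zero_add] at this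
    exact this.symm

end Homog

section Push

variable {A : Type u} [CommRing A] {d : ℕ} {S : Type*} [CommRing S] [Algebra A S]
  {M : Type*} [CommMonoid M]

/-- apply a functional to all coefficients -/
noncomputable def pushF (ℓ : S →ₗ[A] A) : RR d S M →ₗ[A] RR d A M :=
  (MonoidAlgebra.coeffLinearEquiv A).symm.toLinearMap ∘ₗ (Finsupp.mapRange.linearMap ℓ) ∘ₗ
    (MonoidAlgebra.coeffLinearEquiv A).toLinearMap

theorem coeff_pushF (ℓ : S →ₗ[A] A) (y : RR d S M) (q : Fin d → M) :
    (pushF ℓ y).coeff q = ℓ (y.coeff q) := rfl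

theorem pushF_single (ℓ : S →ₗ[A] A) (q : Fin d → M) (s : S) :
    pushF ℓ (MonoidAlgebra.single q s) = MonoidAlgebra.single q (ℓ s) := by
  classical
  apply MonoidAlgebra.coeff_injective
  ext q'
  rw [coeff_pushF, MonoidAlgebra.coeff_single, MonoidAlgebra.coeff_single, Finsupp.single_apply,
    Finsupp.single_apply]
  split_ifs
  · rfl
  · exact map_zero ℓ

theorem pushF_act (ℓ : S →ₗ[A] A) (σ : Equiv.Perm (Fin d)) (y : RR d S M) :
    pushF ℓ (act S M σ y) = act A M σ (pushF ℓ y) := by
  apply MonoidAlgebra.coeff_injective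
  ext q
  rw [coeff_pushF, coeff_act, coeff_act, coeff_pushF]

theorem pushF_isSym (ℓ : S →ₗ[A] A) {y : RR d S M} (hy : IsSym y) : IsSym (pushF ℓ y) := by
  intro σ
  rw [← pushF_act, hy σ]

end Push

section Diag2

variable {d : ℕ} {S : Type*} [CommRing S] {M : Type*} [CommMonoid M]

theorem mulSingle_comp_symm (σ : Equiv.Perm (Fin d)) (k : Fin d) (b : M) :
    (Pi.mulSingle k b : Fin d → M) ∘ σ.symm = Pi.mulSingle (σ k) b := by
  classical
  funext j
  simp only [Function.comp_apply, Pi.mulSingle_apply]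
  by_cases h : j = σ k
  · rw [if_pos h, if_pos]
    rw [h, Equiv.symm_apply_apply]
  · rw [if_neg h, if_neg]
    intro h'
    apply h
    rw [← h', Equiv.apply_symm_apply]

theorem act_ι (σ : Equiv.Perm (Fin d)) (k : Fin d) (p : MonoidAlgebra S M) :
    act S M σ (ι S M k p) = ι S M (σ k) p := by
  induction p using MonoidAlgebra.induction_linear with
  | zero => simp
  | add x y hx hy => rw [map_add, map_add, hx, hy, map_add]
  | single b s => rw [ι_single, act_single, ι_single, mulSingle_comp_symm]

theorem τ_isSym (p : MonoidAlgebra S M) : IsSym (τ (d := d) p) := by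
  intro σ
  unfold τ
  rw [map_prod]
  simp only [act_ι]
  exact Equiv.prod_comp σ (fun k => ι S M k p)

theorem τ_eq_sum_of_subset (p : MonoidAlgebra S M) (T : Finset M) (hT : p.coeff.support ⊆ T) :
    τ (d := d) p = ∑ q ∈ Fintype.piFinset (fun _ : Fin d => T),
      MonoidAlgebra.single q (∏ k, p.coeff (q k)) := by
  classical
  rw [τ_eq_sum]
  refine Finset.sum_subset (Fintype.piFinset_subset _ _ (fun _ => hT)) (fun q _ hq => ?_)
  rw [Fintype.mem_piFinset] at hq
  push Not at hq
  obtain ⟨k, hk⟩ := hq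
  rw [Finset.prod_eq_zero (f := fun k => p.coeff (q k)) (Finset.mem_univ k)
    (Finsupp.notMem_support_iff.1 hk), MonoidAlgebra.single_zero]

end Diag2

section Lin

variable {A : Type u} [CommRing A] {B : Type u} [CommRing B] [Algebra A B]
  {C : Type u} [CommRing C] [Algebra A C] {d : ℕ} (γ : MulLaw A B C d)

/-- the coefficients of the universal law along the tautological family -/
noncomputable def gco (κ : B →₀ ℕ) : C := gcf γ.law (fun b : B => b) κ.support κ

theorem gcf_eq_gco (T : Finset B) (κ : B →₀ ℕ) (h : κ.support ⊆ T) :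
    gcf γ.law (fun b : B => b) T κ = gco γ κ :=
  gcf_eq_of_subset γ.law _ T κ.support h κ (Finset.Subset.refl _)

open Classical in
/-- the values of `Lin` on the basis of tuples -/
noncomputable def vv (S : Type u) [CommRing S] [Algebra A S] (q : Fin d → B) : S ⊗[A] C :=
  if IsRep q then (1 : S) ⊗ₜ[A] gco γ (count q) else 0

/-- the linear map from the model ring to `S ⊗ Γ^d`: a tuple goes to the corresponding
coefficient of the universal law if it is the representative of its class, and to zero if not -/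
noncomputable def Lin (S : Type u) [CommRing S] [Algebra A S] : RR d S B →ₗ[S] S ⊗[A] C :=
  (Finsupp.linearCombination S (vv γ S)) ∘ₗ (MonoidAlgebra.coeffLinearEquiv S).toLinearMap

open Classical in
theorem Lin_single (S : Type u) [CommRing S] [Algebra A S] (q : Fin d → B) (s : S) :
    Lin γ S (MonoidAlgebra.single q s) =
      if IsRep q then s ⊗ₜ[A] gco γ (count q) else 0 := by
  unfold Lin
  rw [LinearMap.comp_apply, LinearEquiv.coe_coe, MonoidAlgebra.coeffLinearEquiv_apply,
    MonoidAlgebra.coeff_single, Finsupp.linearCombination_single]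
  unfold vv
  split_ifs
  · rw [TensorProduct.smul_tmul', smul_eq_mul, mul_one]
  · rw [smul_zero]

/-- the ground version -/
noncomputable def LinC : RR d A B →ₗ[A] C :=
  (TensorProduct.lid A C).toLinearMap ∘ₗ Lin γ A

open Classical in
theorem LinC_single (q : Fin d → B) (a : A) :
    LinC γ (MonoidAlgebra.single q a) = if IsRep q then a • gco γ (count q) else 0 := by
  unfold LinC
  rw [LinearMap.comp_apply, Lin_single]
  split_ifs
  · rw [LinearEquiv.coe_coe, TensorProduct.lid_tmul]
  · rw [map_zero]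

theorem Lin_mc_algebraMap (S : Type u) [CommRing S] [Algebra A S] (y₀ : RR d A B) :
    Lin γ S (mc (algebraMap A S) y₀) = (1 : S) ⊗ₜ[A] LinC γ y₀ := by
  classical
  induction y₀ using MonoidAlgebra.induction_linear with
  | zero => simp
  | add x y hx hy => rw [map_add, map_add, hx, hy, map_add, TensorProduct.tmul_add]
  | single q a =>
    rw [mc_single, Lin_single, LinC_single]
    split_ifs
    · rw [Algebra.algebraMap_eq_smul_one, TensorProduct.smul_tmul]
    · rw [TensorProduct.tmul_zero]

theorem Lin_smul_mc (S : Type u) [CommRing S] [Algebra A S] (s : S) (y₀ : RR d A B) :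
    Lin γ S (s • mc (algebraMap A S) y₀) = s ⊗ₜ[A] LinC γ y₀ := by
  rw [map_smul, Lin_mc_algebraMap, TensorProduct.smul_tmul', smul_eq_mul, mul_one]

theorem Lin_mc {S S' : Type u} [CommRing S] [Algebra A S] [CommRing S'] [Algebra A S']
    (ψ : S →ₐ[A] S') (y : RR d S B) :
    Lin γ S' (mc (ψ : S →+* S') y) = ψ.toLinearMap.rTensor C (Lin γ S y) := by
  classical
  induction y using MonoidAlgebra.induction_linear with
  | zero => simp
  | add x y hx hy => rw [map_add, map_add, hx, hy, map_add, map_add]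
  | single q s =>
    rw [mc_single, Lin_single, Lin_single]
    split_ifs
    · rw [LinearMap.rTensor_tmul]; rfl
    · rw [map_zero]

theorem Lin_Ocl (S : Type u) [CommRing S] [Algebra A S] (κ : B →₀ ℕ)
    (hκ : (κ.sum fun _ n => n) = d) : Lin γ S (Ocl S κ) = (1 : S) ⊗ₜ[A] gco γ κ := by
  classical
  obtain ⟨q₀, hq₀⟩ := exists_count_eq d κ hκ
  subst hq₀
  unfold Ocl
  rw [map_sum]
  have h1 : ∀ q ∈ (Fintype.piFinset fun _ : Fin d => (count q₀).support).filter
      (fun q => count q = count q₀),
      Lin γ S (MonoidAlgebra.single q 1) =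
        if IsRep q then (1 : S) ⊗ₜ[A] gco γ (count q₀) else 0 := by
    intro q hq
    rw [Lin_single, (Finset.mem_filter.1 hq).2]
  rw [Finset.sum_congr rfl h1]
  convert sum_class_isRep (count q₀).support q₀ (fun k => apply_mem_support_count q₀ k)
    ((1 : S) ⊗ₜ[A] gco γ (count q₀)) using 2

theorem LinC_Ocl (κ : B →₀ ℕ) (hκ : (κ.sum fun _ n => n) = d) :
    LinC γ (Ocl A κ) = gco γ κ := by
  unfold LinC
  rw [LinearMap.comp_apply, Lin_Ocl γ A κ hκ, LinearEquiv.coe_coe, TensorProduct.lid_tmul,
    one_smul]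

theorem LinC_pushF (S : Type u) [CommRing S] [Algebra A S] (ℓ : S →ₗ[A] A) (y : RR d S B) :
    LinC γ (pushF ℓ y) = TensorProduct.lid A C (ℓ.rTensor C (Lin γ S y)) := by
  classical
  induction y using MonoidAlgebra.induction_linear with
  | zero => simp
  | add x y hx hy => rw [map_add, map_add, hx, hy, map_add, map_add, map_add]
  | single q s =>
    rw [pushF_single, LinC_single, Lin_single]
    split_ifs
    · rw [LinearMap.rTensor_tmul, TensorProduct.lid_tmul]
    · rw [map_zero, map_zero]

/-- the projection from the monoid algebra of `B` to `S ⊗ B` -/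
noncomputable def πS (S : Type u) [CommRing S] [Algebra A S] :
    MonoidAlgebra S B →ₐ[S] S ⊗[A] B :=
  MonoidAlgebra.lift S (S ⊗[A] B) B
    ((Algebra.TensorProduct.includeRight : B →ₐ[A] S ⊗[A] B) : B →* S ⊗[A] B)

theorem πS_single (S : Type u) [CommRing S] [Algebra A S] (b : B) (s : S) :
    πS (A := A) S (MonoidAlgebra.single b s) = s ⊗ₜ[A] b := by
  unfold πS
  rw [MonoidAlgebra.lift_single]
  show s • ((1 : S) ⊗ₜ[A] b) = s ⊗ₜ[A] b
  rw [TensorProduct.smul_tmul', smul_eq_mul, mul_one]

theorem πS_eq_sum (S : Type u) [CommRing S] [Algebra A S] (p : MonoidAlgebra S B)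
    (T : Finset B) (hT : p.coeff.support ⊆ T) :
    πS (A := A) S p = ∑ b ∈ T, p.coeff b ⊗ₜ[A] b := by
  conv_lhs => rw [← MonoidAlgebra.sum_coeff_single p]
  rw [Finsupp.sum, map_sum, Finset.sum_congr rfl (fun b _ => πS_single S b _)]
  exact Finset.sum_subset hT (fun b _ hb => by
    rw [Finsupp.notMem_support_iff.1 hb, TensorProduct.zero_tmul])

theorem πS_surjective (S : Type u) [CommRing S] [Algebra A S] :
    Function.Surjective (πS (A := A) (B := B) S) := by
  intro x
  induction x using TensorProduct.induction_on with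
  | zero => exact ⟨0, map_zero _⟩
  | tmul s b => exact ⟨MonoidAlgebra.single b s, πS_single S b s⟩
  | add x y hx hy =>
    obtain ⟨p, rfl⟩ := hx
    obtain ⟨p', rfl⟩ := hy
    exact ⟨p + p', map_add _ _ _⟩

/-- **Compatibility with the diagonal**: `Lin` carries the diagonal law of the monoid algebra to
the universal law. -/
theorem Lin_τ (S : Type u) [CommRing S] [Algebra A S] (p : MonoidAlgebra S B) :
    Lin γ S (τ (d := d) p) = γ.law.toFun' S (πS S p) := by
  classical
  obtain ⟨K₀, hK₀⟩ := toFun'_sum_tmul γ.law (fun b : B => b) p.coeff.support S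
    (fun b => p.coeff b)
  have hR := hK₀ (K₀ ∪ (Fintype.piFinset fun _ : Fin d => p.coeff.support).image count)
    Finset.subset_union_left
  beta_reduce at hR
  rw [πS_eq_sum S p _ (Finset.Subset.refl _), hR]
  have hvan : ∀ κ ∈ K₀ ∪ (Fintype.piFinset fun _ : Fin d => p.coeff.support).image count,
      κ ∉ (Fintype.piFinset fun _ : Fin d => p.coeff.support).image count →
      (κ.prod fun b n => p.coeff b ^ n) ⊗ₜ[A]
        gcf γ.law (fun b : B => b) p.coeff.support κ = 0 := by
    intro κ _ hκ
    by_cases hsub : κ.support ⊆ p.coeff.support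
    · by_cases hsum : (κ.sum fun _ n => n) = d
      · exfalso
        apply hκ
        obtain ⟨q, hq⟩ := exists_count_eq d κ hsum
        refine Finset.mem_image.2 ⟨q, Fintype.mem_piFinset.2 (fun k => hsub ?_), hq⟩
        rw [← hq]
        exact apply_mem_support_count q k
      · rw [gcf_eq_zero_of_sum_ne γ.law γ.homog _ _ κ hsum, TensorProduct.tmul_zero]
    · rw [gcf_eq_zero_of_not_subset γ.law _ _ κ hsub, TensorProduct.tmul_zero]
  rw [← Finset.sum_subset Finset.subset_union_right hvan]
  rw [τ_eq_sum, map_sum]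
  simp only [Lin_single]
  rw [← Finset.sum_fiberwise_of_maps_to (g := count)
    (t := (Fintype.piFinset fun _ : Fin d => p.coeff.support).image count)
    (fun q hq => Finset.mem_image_of_mem _ hq)]
  refine Finset.sum_congr rfl (fun κ hκ => ?_)
  obtain ⟨q₀, hq₀, rfl⟩ := Finset.mem_image.1 hκ
  have hsupp : (count q₀).support ⊆ p.coeff.support := by
    intro b hb
    obtain ⟨k, rfl⟩ := (mem_support_count q₀ b).1 hb
    exact Fintype.mem_piFinset.1 hq₀ k
  have h1 : ∀ q ∈ (Fintype.piFinset fun _ : Fin d => p.coeff.support).filter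
      (fun q => count q = count q₀),
      (if IsRep q then (∏ k, p.coeff (q k)) ⊗ₜ[A] gco γ (count q) else 0) =
      if IsRep q then ((count q₀).prod fun b n => p.coeff b ^ n) ⊗ₜ[A]
        gcf γ.law (fun b : B => b) p.coeff.support (count q₀) else 0 := by
    intro q hq
    have hc := (Finset.mem_filter.1 hq).2
    rw [prod_comp_eq_count_prod q (fun b => p.coeff b), hc, gcf_eq_gco γ _ (count q₀) hsupp]
  rw [Finset.sum_congr rfl h1]
  convert sum_class_isRep p.coeff.support q₀ (fun k => Fintype.mem_piFinset.1 hq₀ k)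
    (((count q₀).prod fun b n => p.coeff b ^ n) ⊗ₜ[A]
        gcf γ.law (fun b : B => b) p.coeff.support (count q₀)) using 2

theorem Lin_one (S : Type u) [CommRing S] [Algebra A S] : Lin γ S (1 : RR d S B) = 1 := by
  have h := Lin_τ γ S (1 : MonoidAlgebra S B)
  rw [τ_one] at h
  rw [h, map_one, (γ.mult S).1]

end Lin

end Groth.Agent.H80.NLLin
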