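-- helper80: multiplicativity of `Lin` on symmetric elements, and its surjectivity.
import Groth.Agent.H80.NLLin

set_option autoImplicit false
universe u

open scoped TensorProduct

namespace Groth.Agent.H80.NLMul

open PolLaw Groth.Agent.H74.GammaSpan Groth.Agent.H80.NLComb Groth.Agent.H80.NLAlg
  Groth.Agent.H80.NLCoef Groth.Agent.H80.NLLin Finset

section Gen

variable {d : ℕ} {S : Type*} [CommRing S] {M : Type*} [CommMonoid M]

theorem τ_sum_single (T : Finset M) (c : M → S) :
    τ (d := d) (∑ b ∈ T, MonoidAlgebra.single b (c b)) =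
      ∑ q ∈ Fintype.piFinset (fun _ : Fin d => T), MonoidAlgebra.single q (∏ k, c (q k)) := by
  classical
  have hp : ∀ k : Fin d, ι S M k (∑ b ∈ T, MonoidAlgebra.single b (c b)) =
      ∑ b ∈ T, MonoidAlgebra.single (Pi.mulSingle k b) (c b) := by
    intro k
    rw [map_sum]
    exact Finset.sum_congr rfl (fun b _ => ι_single k b _)
  unfold τ
  rw [Finset.prod_congr rfl (fun k _ => hp k), Finset.prod_univ_sum]
  refine Finset.sum_congr rfl (fun q _ => ?_)
  rw [MonoidAlgebra.prod_single, Finset.univ_prod_mulSingle]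

end Gen

section PolyLemmas

variable {A : Type u} [CommRing A] {B : Type u} {d : ℕ}

theorem prod_X_eq_monomial (q : Fin d → B) :
    ∏ k, (MvPolynomial.X (q k) : MvPolynomial B A) = MvPolynomial.monomial (count q) 1 := by
  rw [prod_comp_eq_count_prod q (fun b => (MvPolynomial.X b : MvPolynomial B A)),
    MvPolynomial.monomial_eq, MvPolynomial.C_1, one_mul]

end PolyLemmas

section Mult

variable {A : Type u} [CommRing A] {B : Type u} [CommRing B] [Algebra A B]
  {C : Type u} [CommRing C] [Algebra A C] {d : ℕ} (γ : MulLaw A B C d)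

theorem πS_sum_single (S : Type u) [CommRing S] [Algebra A S] (T : Finset B) (c : B → S) :
    πS (A := A) S (∑ b ∈ T, MonoidAlgebra.single b (c b)) = ∑ b ∈ T, c b ⊗ₜ[A] b := by
  rw [map_sum]
  exact Finset.sum_congr rfl (fun b _ => πS_single S b _)

variable (A B) in
/-- the polynomial ring on the elements of `B` -/
abbrev SB : Type u := MvPolynomial B A

variable (A B) in
/-- two copies of the variables -/
abbrev WB : Type u := SB A B ⊗[A] SB A B

variable (A B) in
/-- the left copy -/
noncomputable abbrev il : SB A B →ₐ[A] WB A B := Algebra.TensorProduct.includeLeft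

variable (A B) in
/-- the right copy -/
noncomputable abbrev ir : SB A B →ₐ[A] WB A B := Algebra.TensorProduct.includeRight

theorem Lin_τ_gen (S' : Type u) [CommRing S'] [Algebra A S'] (j : SB A B →ₐ[A] S')
    (T : Finset B) :
    γ.law.toFun' S' (πS S' (∑ b ∈ T, MonoidAlgebra.single b (j (MvPolynomial.X b)))) =
      j.toLinearMap.rTensor C (γ.law.toFun' (SB A B) (gen (fun b : B => b) T)) := by
  have e1 := congr_fun (γ.law.isCompat' j) (gen (fun b : B => b) T)
  simp only [Function.comp_apply] at e1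
  rw [e1, πS_sum_single]
  congr 1
  unfold gen
  rw [map_sum]
  refine Finset.sum_congr rfl (fun b _ => ?_)
  rw [LinearMap.rTensor_tmul]
  rfl

theorem τ_gen (S' : Type u) [CommRing S'] [Algebra A S'] (j : SB A B →ₐ[A] S')
    (T : Finset B) :
    τ (d := d) (∑ b ∈ T, MonoidAlgebra.single b (j (MvPolynomial.X b))) =
      ∑ q ∈ Fintype.piFinset (fun _ : Fin d => T),
        MonoidAlgebra.single q (j (MvPolynomial.monomial (count q) 1)) := by
  rw [τ_sum_single]
  refine Finset.sum_congr rfl (fun q _ => ?_)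
  rw [← prod_X_eq_monomial, map_prod]

/-- the functional extracting a pair of coefficients -/
noncomputable def ℓℓ (κ κ' : B →₀ ℕ) : WB A B →ₗ[A] A :=
  (TensorProduct.lid A A).toLinearMap ∘ₗ
    TensorProduct.map (MvPolynomial.lcoeff A κ) (MvPolynomial.lcoeff A κ')

open Classical in
theorem ℓℓ_apply (κ κ' : B →₀ ℕ) (ν ν' : B →₀ ℕ) :
    ℓℓ (A := A) κ κ' (il A B (MvPolynomial.monomial ν 1) * ir A B (MvPolynomial.monomial ν' 1)) =
      (if ν = κ then 1 else 0) * (if ν' = κ' then 1 else 0) := by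
  unfold ℓℓ
  rw [Algebra.TensorProduct.includeLeft_apply, Algebra.TensorProduct.includeRight_apply,
    Algebra.TensorProduct.tmul_mul_tmul, mul_one, one_mul, LinearMap.comp_apply,
    TensorProduct.map_tmul, LinearEquiv.coe_coe, TensorProduct.lid_tmul, smul_eq_mul,
    MvPolynomial.lcoeff_apply, MvPolynomial.lcoeff_apply, MvPolynomial.coeff_monomial,
    MvPolynomial.coeff_monomial]

open Classical in
theorem pushF_τ_mul (κ κ' : B →₀ ℕ) :
    pushF (ℓℓ (A := A) κ κ')
      (τ (d := d) (∑ b ∈ κ.support, MonoidAlgebra.single b (il A B (MvPolynomial.X b))) *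
        τ (∑ b ∈ κ'.support, MonoidAlgebra.single b (ir A B (MvPolynomial.X b)))) =
      Ocl A κ * Ocl A κ' := by
  rw [τ_gen, τ_gen, Finset.sum_mul_sum, map_sum]
  unfold Ocl
  rw [Finset.sum_mul_sum, Finset.sum_filter]
  refine Finset.sum_congr rfl (fun q _ => ?_)
  rw [map_sum, Finset.sum_filter]
  by_cases h : count q = κ
  · rw [if_pos h]
    refine Finset.sum_congr rfl (fun q' _ => ?_)
    rw [MonoidAlgebra.single_mul_single, pushF_single, ℓℓ_apply, if_pos h, one_mul,
      MonoidAlgebra.single_mul_single, one_mul]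
    by_cases h' : count q' = κ'
    · rw [if_pos h', if_pos h']
    · rw [if_neg h', if_neg h', MonoidAlgebra.single_zero]
  · rw [if_neg h]
    refine Finset.sum_eq_zero (fun q' _ => ?_)
    rw [MonoidAlgebra.single_mul_single, pushF_single, ℓℓ_apply, if_neg h, zero_mul,
      MonoidAlgebra.single_zero]

/-- multiplicativity on the class sums, over the ground ring -/
theorem LinC_Ocl_mul (κ κ' : B →₀ ℕ) :
    LinC γ (Ocl A κ * Ocl A κ') = gco γ κ * gco γ κ' := by
  have hE : Lin γ (WB A B)
      (τ (d := d) (∑ b ∈ κ.support, MonoidAlgebra.single b (il A B (MvPolynomial.X b))) *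
        τ (∑ b ∈ κ'.support, MonoidAlgebra.single b (ir A B (MvPolynomial.X b)))) =
      (il A B).toLinearMap.rTensor C
          (γ.law.toFun' (SB A B) (gen (fun b : B => b) κ.support)) *
        (ir A B).toLinearMap.rTensor C
          (γ.law.toFun' (SB A B) (gen (fun b : B => b) κ'.support)) := by
    rw [← τ_mul, Lin_τ, map_mul, (γ.mult (WB A B)).2, Lin_τ_gen, Lin_τ_gen]
  rw [← pushF_τ_mul, LinC_pushF, hE]
  exact lid_rTensor_mul (MvPolynomial.lcoeff A κ) (MvPolynomial.lcoeff A κ') _ _

/-- **Multiplicativity** of `Lin` on symmetric elements. -/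
theorem Lin_mul_of_isSym (S : Type u) [CommRing S] [Algebra A S] {y y' : RR d S B}
    (hy : IsSym y) (hy' : IsSym y') : Lin γ S (y * y') = Lin γ S y * Lin γ S y' := by
  have hgen : ∀ κ κ' : B →₀ ℕ, (κ.sum fun _ n => n) = d → (κ'.sum fun _ n => n) = d →
      Lin γ S (Ocl S κ * Ocl S κ') = Lin γ S (Ocl S κ) * Lin γ S (Ocl S κ') := by
    intro κ κ' hκ hκ'
    rw [Lin_Ocl γ S κ hκ, Lin_Ocl γ S κ' hκ', ← mc_Ocl (algebraMap A S) κ,
      ← mc_Ocl (algebraMap A S) κ', ← map_mul, Lin_mc_algebraMap, LinC_Ocl_mul,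
      Algebra.TensorProduct.tmul_mul_tmul, one_mul]
  have h1 : ∀ κ : B →₀ ℕ, (κ.sum fun _ n => n) = d →
      Lin γ S (Ocl S κ * y') = Lin γ S (Ocl S κ) * Lin γ S y' := by
    intro κ hκ
    refine Submodule.span_induction (p := fun z _ => Lin γ S (Ocl S κ * z) =
      Lin γ S (Ocl S κ) * Lin γ S z) ?_ ?_ ?_ ?_ hy'.mem_span
    · rintro _ ⟨q, _, rfl⟩
      exact hgen κ (count q) hκ (sum_count q)
    · rw [mul_zero, map_zero, mul_zero]
    · intro z z' _ _ hz hz'
      rw [mul_add, map_add, hz, hz', map_add, mul_add]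
    · intro s z _ hz
      rw [mul_smul_comm, map_smul, hz, map_smul, mul_smul_comm]
  refine Submodule.span_induction (p := fun z _ => Lin γ S (z * y') =
    Lin γ S z * Lin γ S y') ?_ ?_ ?_ ?_ hy.mem_span
  · rintro _ ⟨q, _, rfl⟩
    exact h1 (count q) (sum_count q)
  · rw [zero_mul, map_zero, zero_mul]
  · intro z z' _ _ hz hz'
    rw [add_mul, map_add, hz, hz', map_add, add_mul]
  · intro s z _ hz
    rw [smul_mul_assoc, map_smul, hz, map_smul, smul_mul_assoc]

theorem Lin_pow_of_isSym (S : Type u) [CommRing S] [Algebra A S] {y : RR d S B}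
    (hy : IsSym y) (n : ℕ) : Lin γ S (y ^ n) = Lin γ S y ^ n := by
  induction n with
  | zero => rw [pow_zero, pow_zero, Lin_one]
  | succ n ih => rw [pow_succ, pow_succ, Lin_mul_of_isSym γ S (hy.pow n) hy, ih]

end Mult

section Surj

variable {A : Type u} [CommRing A] {B : Type u} [CommRing B] [Algebra A B]
  {C : Type u} [CommRing C] [Algebra A C] {d : ℕ} (γ : MulLaw A B C d)

variable (A B d) in
/-- the submodule of symmetric elements of the ground model ring -/
def symSub : Submodule A (RR d A B) where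
  carrier := {y | IsSym y}
  add_mem' hy hy' := hy.add hy'
  zero_mem' := isSym_zero
  smul_mem' a _ hy := hy.smul a

/-- **Surjectivity**: every element of `Γ^d` is the image of a symmetric element. -/
theorem exists_isSym_LinC_eq (hγ : IsGammaD γ) (c : C) :
    ∃ y : RR d A B, IsSym y ∧ LinC γ y = c := by
  have hN : Submodule.map (LinC γ) (symSub A B d) = ⊤ := by
    apply eq_top_of_cf_mem γ hγ
    intro n x ν
    obtain ⟨p, rfl⟩ := πS_surjective (A := A) (B := B) (MvPolynomial (Fin n) A) x
    have h1 : γ.law.toFun' (MvPolynomial (Fin n) A) (πS (MvPolynomial (Fin n) A) p) =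
        Lin γ (MvPolynomial (Fin n) A) (τ p) := (Lin_τ γ _ p).symm
    rw [h1]
    refine ⟨pushF (MvPolynomial.lcoeff A ν) (τ p), pushF_isSym _ (τ_isSym p), ?_⟩
    rw [LinC_pushF]
    rfl
  have hc : c ∈ Submodule.map (LinC γ) (symSub A B d) := by
    rw [hN]; exact Submodule.mem_top
  obtain ⟨y, hy, rfl⟩ := hc
  exact ⟨y, hy, rfl⟩

theorem exists_isSym_Lin_eq (hγ : IsGammaD γ) (S : Type u) [CommRing S] [Algebra A S]
    (x : S ⊗[A] C) : ∃ y : RR d S B, IsSym y ∧ Lin γ S y = x := by
  induction x using TensorProduct.induction_on with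
  | zero => exact ⟨0, isSym_zero, map_zero _⟩
  | tmul s c =>
    obtain ⟨y₀, hy₀, rfl⟩ := exists_isSym_LinC_eq γ hγ c
    exact ⟨s • mc (algebraMap A S) y₀, (mc_isSym _ hy₀).smul s, Lin_smul_mc γ S s y₀⟩
  | add x x' hx hx' =>
    obtain ⟨y, hy, rfl⟩ := hx
    obtain ⟨y', hy', rfl⟩ := hx'
    exact ⟨y + y', hy.add hy', map_add _ _ _⟩

end Surj

end Groth.Agent.H80.NLMul
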