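-- helper80: the comparison map from the model ring to the tensor power, the diagonal law of the
-- tensor power in the model, and substitution of lifts.
import Groth.Agent.H80.NLMul
import Groth.Agent.H74.SymNormC

set_option autoImplicit false
universe u

open scoped TensorProduct

namespace Groth.Agent.H80.NLTheta

open PolLaw Groth.Agent.H74.GammaSpan Groth.Agent.H80.NLComb Groth.Agent.H80.NLAlg
  Groth.Agent.H80.NLCoef Groth.Agent.H80.NLLin Groth.Agent.H80.NLMul Finset

section Theta

variable {A : Type u} [CommRing A] {B : Type u} [CommRing B] [Algebra A B] {d : ℕ}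

variable (A B d) in
/-- the pure tensor of a tuple, as a monoid map -/
noncomputable def tpm : (Fin d → B) →* (⨂[A] _ : Fin d, B) where
  toFun q := PiTensorProduct.tprod A q
  map_one' := (PiTensorProduct.one_def (R := A) (A := fun _ : Fin d => B)).symm
  map_mul' q q' := (PiTensorProduct.tprod_mul_tprod (R := A) q q').symm

theorem tpm_apply (q : Fin d → B) : tpm A B d q = PiTensorProduct.tprod A q := rfl

variable (A B d) in
/-- the comparison map over the ground ring -/
noncomputable def θA : RR d A B →ₐ[A] (⨂[A] _ : Fin d, B) :=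
  MonoidAlgebra.lift A (⨂[A] _ : Fin d, B) (Fin d → B) (tpm A B d)

theorem θA_single (q : Fin d → B) (a : A) :
    θA A B d (MonoidAlgebra.single q a) = a • PiTensorProduct.tprod A q := by
  unfold θA
  rw [MonoidAlgebra.lift_single]
  rfl

variable (A B d) in
/-- the comparison map over a test ring -/
noncomputable def θ (S : Type u) [CommRing S] [Algebra A S] :
    RR d S B →ₐ[S] S ⊗[A] (⨂[A] _ : Fin d, B) :=
  MonoidAlgebra.lift S (S ⊗[A] (⨂[A] _ : Fin d, B)) (Fin d → B)
    (((Algebra.TensorProduct.includeRight :
      (⨂[A] _ : Fin d, B) →ₐ[A] S ⊗[A] (⨂[A] _ : Fin d, B)) :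
        (⨂[A] _ : Fin d, B) →* S ⊗[A] (⨂[A] _ : Fin d, B)).comp (tpm A B d))

theorem θ_single (S : Type u) [CommRing S] [Algebra A S] (q : Fin d → B) (s : S) :
    θ A B d S (MonoidAlgebra.single q s) = s ⊗ₜ[A] PiTensorProduct.tprod A q := by
  unfold θ
  rw [MonoidAlgebra.lift_single]
  show s • ((1 : S) ⊗ₜ[A] PiTensorProduct.tprod A q) = _
  rw [TensorProduct.smul_tmul', smul_eq_mul, mul_one]

theorem θ_smul_mc (S : Type u) [CommRing S] [Algebra A S] (s : S) (y₀ : RR d A B) :
    θ A B d S (s • mc (algebraMap A S) y₀) = s ⊗ₜ[A] θA A B d y₀ := by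
  induction y₀ using MonoidAlgebra.induction_linear with
  | zero => simp
  | add x y hx hy => rw [map_add, smul_add, map_add, hx, hy, map_add, TensorProduct.tmul_add]
  | single q a =>
    rw [mc_single, map_smul, θ_single, θA_single, TensorProduct.smul_tmul', smul_eq_mul,
      Algebra.algebraMap_eq_smul_one, mul_smul_comm, mul_one, TensorProduct.smul_tmul]

theorem θ_mc (S : Type u) [CommRing S] [Algebra A S] (y₀ : RR d A B) :
    θ A B d S (mc (algebraMap A S) y₀) = (1 : S) ⊗ₜ[A] θA A B d y₀ := by
  have := θ_smul_mc S (1 : S) y₀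
  rwa [one_smul] at this

theorem θA_act (σ : Equiv.Perm (Fin d)) (y : RR d A B) :
    θA A B d (act A B σ y) = SymTen.perm A B d σ (θA A B d y) := by
  induction y using MonoidAlgebra.induction_linear with
  | zero => simp
  | add x y hx hy => rw [map_add, map_add, hx, hy, map_add, map_add]
  | single q a =>
    rw [act_single, θA_single, θA_single, map_smul, SymTen.perm_tprod]
    rfl

theorem θA_mem_TS {y : RR d A B} (hy : IsSym y) : θA A B d y ∈ SymTen.TS A B d := by
  intro σ
  rw [← SymTen.perm_apply, ← θA_act, hy σ]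

theorem θA_surjective : Function.Surjective (θA A B d) := by
  intro t
  induction t using PiTensorProduct.induction_on with
  | smul_tprod r q => exact ⟨MonoidAlgebra.single q r, θA_single q r⟩
  | add x y hx hy =>
    obtain ⟨x', rfl⟩ := hx
    obtain ⟨y', rfl⟩ := hy
    exact ⟨x' + y', map_add _ _ _⟩

/-- functionals commute with the comparison maps -/
theorem lid_rTensor_θ (S : Type u) [CommRing S] [Algebra A S] (ℓ : S →ₗ[A] A) (y : RR d S B) :
    TensorProduct.lid A _ (ℓ.rTensor (⨂[A] _ : Fin d, B) (θ A B d S y)) =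
      θA A B d (pushF ℓ y) := by
  induction y using MonoidAlgebra.induction_linear with
  | zero => simp
  | add x y hx hy => rw [map_add, map_add, map_add, hx, hy, map_add, map_add]
  | single q s =>
    rw [θ_single, pushF_single, θA_single, LinearMap.rTensor_tmul, TensorProduct.lid_tmul]

theorem cf_θ {Λ : Type u} (ν : Λ →₀ ℕ) (y : RR d (MvPolynomial Λ A) B) :
    cf ν (θ A B d (MvPolynomial Λ A) y) = θA A B d (pushF (MvPolynomial.lcoeff A ν) y) :=
  lid_rTensor_θ (MvPolynomial Λ A) (MvPolynomial.lcoeff A ν) y

theorem θ_ι (S : Type u) [CommRing S] [Algebra A S] (k : Fin d) (p : MonoidAlgebra S B) :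
    θ A B d S (ι S B k p) =
      Algebra.TensorProduct.map (AlgHom.id S S)
        (PiTensorProduct.singleAlgHom (R := A) (A := fun _ : Fin d => B) k) (πS S p) := by
  induction p using MonoidAlgebra.induction_linear with
  | zero => simp
  | add x y hx hy => rw [map_add, map_add, hx, hy, map_add, map_add]
  | single b s =>
    rw [ι_single, θ_single, πS_single, Algebra.TensorProduct.map_tmul, AlgHom.id_apply,
      PiTensorProduct.singleAlgHom_apply]
    rfl

/-- the diagonal law of the tensor power, computed in the model ring -/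
theorem tpow_πS (S : Type u) [CommRing S] [Algebra A S] (p : MonoidAlgebra S B) :
    (SymTen.tpowLaw A B d).law.toFun' S (πS S p) = θ A B d S (τ p) := by
  rw [Groth.Agent.H74.SymNormP.tpowLaw_toFun']
  unfold τ
  rw [map_prod]
  exact Finset.prod_congr rfl (fun k _ => (θ_ι S k p).symm)

open Classical in
theorem pushF_τ_gen (κ : B →₀ ℕ) :
    pushF (MvPolynomial.lcoeff A κ)
      (τ (d := d) (∑ b ∈ κ.support, MonoidAlgebra.single b (MvPolynomial.X b : SB A B))) =
      Ocl A κ := by
  rw [τ_sum_single, map_sum]
  unfold Ocl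
  rw [Finset.sum_filter]
  refine Finset.sum_congr rfl (fun q _ => ?_)
  rw [pushF_single, prod_X_eq_monomial, MvPolynomial.lcoeff_apply, MvPolynomial.coeff_monomial]
  split_ifs
  · rfl
  · rw [MonoidAlgebra.single_zero]

end Theta

section Subst

variable {A : Type u} [CommRing A] {B : Type u} [CommRing B] [Algebra A B]
  {C : Type u} [CommRing C] [Algebra A C] {d : ℕ} (γ : MulLaw A B C d)

variable (A B) in
/-- the projection from the monoid algebra of `B` to `B` -/
noncomputable def πA : MonoidAlgebra A B →ₐ[A] B := MonoidAlgebra.lift A B B (MonoidHom.id B)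

theorem πA_single (b : B) (a : A) : πA A B (MonoidAlgebra.single b a) = a • b := by
  unfold πA
  rw [MonoidAlgebra.lift_single]
  rfl

variable (A B) in
/-- change of coefficients for the monoid algebra of `B` -/
noncomputable def mcP (S : Type u) [CommRing S] [Algebra A S] :
    MonoidAlgebra A B →+* MonoidAlgebra S B :=
  MonoidAlgebra.mapRingHom B (algebraMap A S)

theorem mcP_single (S : Type u) [CommRing S] [Algebra A S] (b : B) (a : A) :
    mcP A B S (MonoidAlgebra.single b a) = MonoidAlgebra.single b (algebraMap A S a) := by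
  unfold mcP
  rw [MonoidAlgebra.mapRingHom_single]

theorem πS_smul_mcP (S : Type u) [CommRing S] [Algebra A S] (s : S) (i : MonoidAlgebra A B) :
    πS S (s • mcP A B S i) = s ⊗ₜ[A] πA A B i := by
  induction i using MonoidAlgebra.induction_linear with
  | zero => simp
  | add x y hx hy => rw [map_add, smul_add, map_add, hx, hy, map_add, TensorProduct.tmul_add]
  | single b a =>
    rw [mcP_single, map_smul, πS_single, πA_single, TensorProduct.smul_tmul', smul_eq_mul,
      Algebra.algebraMap_eq_smul_one, mul_smul_comm, mul_one, TensorProduct.smul_tmul]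

theorem ι_mcP (S : Type u) [CommRing S] [Algebra A S] (k : Fin d) (i : MonoidAlgebra A B) :
    ι S B k (mcP A B S i) = mc (algebraMap A S) (ι A B k i) := by
  induction i using MonoidAlgebra.induction_linear with
  | zero => simp
  | add x y hx hy => rw [map_add, map_add, hx, hy, map_add, map_add]
  | single b a => rw [mcP_single, ι_single, ι_single, mc_single]

theorem pushF_smul_mc (S : Type u) [CommRing S] [Algebra A S] (ℓ : S →ₗ[A] A) (s : S)
    (y₀ : RR d A B) : pushF ℓ (s • mc (algebraMap A S) y₀) = ℓ s • y₀ := by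
  apply MonoidAlgebra.coeff_injective
  ext q
  rw [coeff_pushF, MonoidAlgebra.coeff_smul, MonoidAlgebra.coeff_smul, Finsupp.smul_apply,
    Finsupp.smul_apply, coeff_mc, smul_eq_mul, smul_eq_mul, mul_comm s,
    ← Algebra.smul_def, map_smul, smul_eq_mul, mul_comm]

open Classical in
/-- **Substituted class sums**: the image under `LinC` of the class sum of a family of lifts is
the corresponding coefficient of the law along the family of their values. -/
theorem LinC_O {Λ : Type u} (v : Λ → MonoidAlgebra A B) (ν : Λ →₀ ℕ) :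
    LinC γ (∑ c ∈ (Fintype.piFinset fun _ : Fin d => ν.support).filter (fun c => count c = ν),
      ∏ k, ι A B k (v (c k))) = gcf γ.law (fun l => πA A B (v l)) ν.support ν := by
  set S₁ : Type u := MvPolynomial Λ A with hS₁
  set p : MonoidAlgebra S₁ B := ∑ l ∈ ν.support, (MvPolynomial.X l : S₁) • mcP A B S₁ (v l)
    with hp
  have h1 : πS S₁ p = gen (fun l => πA A B (v l)) ν.support := by
    rw [hp, map_sum]
    unfold gen
    exact Finset.sum_congr rfl (fun l _ => πS_smul_mcP S₁ _ _)
  have h2 : τ (d := d) p = ∑ c ∈ Fintype.piFinset fun _ : Fin d => ν.support,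
      (∏ k, (MvPolynomial.X (c k) : S₁)) • mc (algebraMap A S₁) (∏ k, ι A B k (v (c k))) := by
    unfold τ
    have hk : ∀ k : Fin d, ι S₁ B k p =
        ∑ l ∈ ν.support, (MvPolynomial.X l : S₁) • mc (algebraMap A S₁) (ι A B k (v l)) := by
      intro k
      rw [hp, map_sum]
      refine Finset.sum_congr rfl (fun l _ => ?_)
      rw [map_smul, ι_mcP]
    rw [Finset.prod_congr rfl (fun k _ => hk k), Finset.prod_univ_sum]
    refine Finset.sum_congr rfl (fun c _ => ?_)
    rw [Finset.prod_smul, map_prod]
  have h3 : pushF (MvPolynomial.lcoeff A ν) (τ (d := d) p) =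
      ∑ c ∈ (Fintype.piFinset fun _ : Fin d => ν.support).filter (fun c => count c = ν),
        ∏ k, ι A B k (v (c k)) := by
    rw [h2, map_sum, Finset.sum_filter]
    refine Finset.sum_congr rfl (fun c _ => ?_)
    rw [pushF_smul_mc, prod_X_eq_monomial, MvPolynomial.lcoeff_apply,
      MvPolynomial.coeff_monomial]
    split_ifs
    · rw [one_smul]
    · rw [zero_smul]
  rw [← h3, LinC_pushF, Lin_τ, h1]
  rfl

/-- substitution of lifts into the tuples -/
noncomputable def Sub (v : B → MonoidAlgebra A B) : RR d A B →ₗ[A] RR d A B :=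
  (Finsupp.linearCombination A (fun q : Fin d → B => ∏ k, ι A B k (v (q k)))) ∘ₗ
    (MonoidAlgebra.coeffLinearEquiv A).toLinearMap

theorem Sub_single (v : B → MonoidAlgebra A B) (q : Fin d → B) (a : A) :
    Sub v (MonoidAlgebra.single q a) = a • ∏ k, ι A B k (v (q k)) := by
  unfold Sub
  rw [LinearMap.comp_apply, LinearEquiv.coe_coe, MonoidAlgebra.coeffLinearEquiv_apply,
    MonoidAlgebra.coeff_single, Finsupp.linearCombination_single]

open Classical in
theorem Sub_Ocl (v : B → MonoidAlgebra A B) (κ : B →₀ ℕ) :
    Sub (d := d) v (Ocl A κ) =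
      ∑ q ∈ (Fintype.piFinset fun _ : Fin d => κ.support).filter (fun q => count q = κ),
        ∏ k, ι A B k (v (q k)) := by
  unfold Ocl
  rw [map_sum]
  refine Finset.sum_congr rfl (fun q _ => ?_)
  rw [Sub_single, one_smul]

/-- substituting lifts does not change the image of a symmetric element -/
theorem LinC_Sub_of_isSym (v : B → MonoidAlgebra A B) (hv : ∀ b, πA A B (v b) = b)
    {y : RR d A B} (hy : IsSym y) : LinC γ (Sub v y) = LinC γ y := by
  classical
  refine Submodule.span_induction (p := fun z _ => LinC γ (Sub v z) = LinC γ z) ?_ ?_ ?_ ?_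
    hy.mem_span
  · rintro _ ⟨q, _, rfl⟩
    rw [Sub_Ocl, LinC_O, LinC_Ocl γ (count q) (sum_count q)]
    have : (fun l => πA A B (v l)) = fun b : B => b := funext hv
    rw [this]
    rfl
  · rw [map_zero, map_zero]
  · intro z z' _ _ hz hz'
    rw [map_add, map_add, hz, hz', map_add]
  · intro a z _ hz
    rw [map_smul, map_smul, hz, map_smul]

theorem LinC_mul_of_isSym {y y' : RR d A B} (hy : IsSym y) (hy' : IsSym y') :
    LinC γ (y * y') = LinC γ y * LinC γ y' := by
  unfold LinC
  rw [LinearMap.comp_apply, LinearMap.comp_apply, LinearMap.comp_apply,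
    Lin_mul_of_isSym γ A hy hy']
  exact map_mul (Algebra.TensorProduct.lid A C) _ _

theorem LinC_one : LinC γ (1 : RR d A B) = 1 := by
  unfold LinC
  rw [LinearMap.comp_apply, Lin_one]
  exact map_one (Algebra.TensorProduct.lid A C)

end Subst

end Groth.Agent.H80.NLTheta
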