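-- helper80: symmetric tensors are images of symmetric elements of the model ring, and `LinC`
-- descends to symmetric tensors (flat case).
import Groth.Agent.H80.NLTheta
import Groth.Agent.H80.FlatTSFree

set_option autoImplicit false
universe u

open scoped TensorProduct

namespace Groth.Agent.H80.NLSurj

open PolLaw Groth.Agent.H74.GammaSpan Groth.Agent.H80.NLComb Groth.Agent.H80.NLAlg
  Groth.Agent.H80.NLCoef Groth.Agent.H80.NLLin Groth.Agent.H80.NLMul Groth.Agent.H80.NLTheta
  Groth.Agent.H80.FlatTen Groth.Agent.H80.FlatTS Finset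

section Phi

variable {A : Type u} [CommRing A] {B : Type u} [CommRing B] [Algebra A B] {d : ℕ}

theorem single_eq_smul {M : Type*} [Monoid M] (q : M) (a : A) :
    (MonoidAlgebra.single q a : MonoidAlgebra A M) = a • MonoidAlgebra.single q 1 := by
  rw [MonoidAlgebra.smul_single, smul_eq_mul, mul_one]

/-- expansion of a linear map along the tuples -/
theorem map_eq_sum {N : Type*} [AddCommGroup N] [Module A N] (L : RR d A B →ₗ[A] N)
    (y : RR d A B) :
    L y = ∑ q ∈ y.coeff.support, y.coeff q • L (MonoidAlgebra.single q 1) := by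
  conv_lhs => rw [← MonoidAlgebra.sum_coeff_single y]
  rw [Finsupp.sum, map_sum]
  refine Finset.sum_congr rfl (fun q _ => ?_)
  rw [single_eq_smul, map_smul]

variable (A B d) in
/-- the identification of the tensor power of the monoid algebra with the model ring -/
noncomputable def Φ : (⨂[A] _ : Fin d, MonoidAlgebra A B) →ₗ[A] RR d A B :=
  PiTensorProduct.lift ((MultilinearMap.mkPiAlgebra A (Fin d) (RR d A B)).compLinearMap
    (fun k => (ι A B k).toLinearMap))

theorem Φ_tprod (w : Fin d → MonoidAlgebra A B) :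
    Φ A B d (PiTensorProduct.tprod A w) = ∏ k, ι A B k (w k) := by
  unfold Φ
  rw [PiTensorProduct.lift.tprod]
  rfl

theorem θA_ι (k : Fin d) (i : MonoidAlgebra A B) :
    θA A B d (ι A B k i) =
      PiTensorProduct.singleAlgHom (R := A) (A := fun _ : Fin d => B) k (πA A B i) := by
  induction i using MonoidAlgebra.induction_linear with
  | zero => rw [map_zero, map_zero, map_zero, map_zero]
  | add x y hx hy => rw [map_add, map_add, hx, hy, map_add, map_add]
  | single b a =>
    rw [ι_single, θA_single, πA_single, map_smul, PiTensorProduct.singleAlgHom_apply]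
    rfl

theorem prod_singleAlgHom (q : Fin d → B) :
    ∏ k, PiTensorProduct.singleAlgHom (R := A) (A := fun _ : Fin d => B) k (q k) =
      PiTensorProduct.tprod A q := by
  classical
  simp only [PiTensorProduct.singleAlgHom_apply, MonoidHom.mulSingle_apply]
  rw [← PiTensorProduct.tprod_prod]
  exact congrArg _ (Finset.univ_prod_mulSingle q)

theorem θA_Φ (s : ⨂[A] _ : Fin d, MonoidAlgebra A B) :
    θA A B d (Φ A B d s) = PiTensorProduct.map (fun _ : Fin d => (πA A B).toLinearMap) s := by
  induction s using PiTensorProduct.induction_on with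
  | smul_tprod r w =>
    rw [map_smul, map_smul, map_smul, Φ_tprod, map_prod, PiTensorProduct.map_tprod]
    simp only [θA_ι]
    rw [prod_singleAlgHom]
    rfl
  | add x y hx hy => rw [map_add, map_add, hx, hy, map_add]

theorem Φ_reindex (σ : Equiv.Perm (Fin d)) (s : ⨂[A] _ : Fin d, MonoidAlgebra A B) :
    Φ A B d (PiTensorProduct.reindex A (fun _ : Fin d => MonoidAlgebra A B) σ s) =
      act A B σ (Φ A B d s) := by
  induction s using PiTensorProduct.induction_on with
  | smul_tprod r w =>
    rw [map_smul, map_smul, map_smul, map_smul, PiTensorProduct.reindex_tprod, Φ_tprod, Φ_tprod,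
      map_prod]
    simp only [act_ι]
    congr 1
    exact (Equiv.prod_comp σ (fun k => ι A B k (w (σ.symm k)))).symm.trans
      (Finset.prod_congr rfl (fun k _ => by rw [Equiv.symm_apply_apply]))
  | add x y hx hy => rw [map_add, map_add, hx, hy, map_add, map_add]

theorem Φ_isSym {s : ⨂[A] _ : Fin d, MonoidAlgebra A B} (hs : IsInv s) : IsSym (Φ A B d s) := by
  intro σ
  rw [← Φ_reindex, hs σ]

theorem πA_surjective : Function.Surjective (πA A B) := by
  intro b
  exact ⟨MonoidAlgebra.single b 1, by rw [πA_single, one_smul]⟩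

/-- **Surjectivity (flat case)**: every symmetric tensor is the image of a symmetric element. -/
theorem exists_isSym_of_flat [Module.Flat A B] (t : ⨂[A] _ : Fin d, B)
    (ht : t ∈ SymTen.TS A B d) : ∃ y : RR d A B, IsSym y ∧ θA A B d y = t := by
  obtain ⟨s, hs, hst⟩ := exists_inv_preimage (πA A B).toLinearMap πA_surjective t ht
  exact ⟨Φ A B d s, Φ_isSym hs, by rw [θA_Φ, hst]⟩

end Phi

section KFlat

variable {A : Type u} [CommRing A] {B : Type u} [CommRing B] [Algebra A B]
  {C : Type u} [CommRing C] [Algebra A C] {d : ℕ} (γ : MulLaw A B C d)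

theorem θA_eq_sum (y : RR d A B) :
    θA A B d y = ∑ q ∈ y.coeff.support, y.coeff q • PiTensorProduct.tprod A q := by
  rw [← AlgHom.toLinearMap_apply, map_eq_sum (θA A B d).toLinearMap y]
  refine Finset.sum_congr rfl (fun q _ => ?_)
  rw [AlgHom.toLinearMap_apply, θA_single, one_smul]

theorem Sub_eq_sum (v : B → MonoidAlgebra A B) (y : RR d A B) :
    Sub v y = ∑ q ∈ y.coeff.support, y.coeff q • ∏ k, ι A B k (v (q k)) := by
  rw [map_eq_sum (Sub v) y]
  refine Finset.sum_congr rfl (fun q _ => ?_)
  rw [Sub_single, one_smul]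

/-- **Descent (flat case)**: a symmetric element dying in the tensor power dies under `LinC`. -/
theorem LinC_eq_zero_of_flat [Module.Flat A B] {y : RR d A B} (hy : IsSym y)
    (h0 : θA A B d y = 0) : LinC γ y = 0 := by
  classical
  set T' : Finset B := insert 0 (y.coeff.support.biUnion (fun q => Finset.univ.image q)) with hT'
  have hmem : ∀ q ∈ y.coeff.support, ∀ i, q i ∈ T' := by
    intro q hq i
    exact Finset.mem_insert_of_mem
      (Finset.mem_biUnion.2 ⟨q, hq, Finset.mem_image_of_mem _ (Finset.mem_univ i)⟩)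
  let e : T' ≃ Fin T'.card := T'.equivFin
  let pos : B → Fin T'.card := fun b =>
    if h : b ∈ T' then e ⟨b, h⟩ else e ⟨0, Finset.mem_insert_self _ _⟩
  let vl : Fin T'.card → B := fun j => (e.symm j : B)
  have hvl : ∀ b ∈ T', vl (pos b) = b := by
    intro b hb
    show ((e.symm (if h : b ∈ T' then e ⟨b, h⟩ else e ⟨0, Finset.mem_insert_self _ _⟩) : T') : B)
      = b
    rw [dif_pos hb, Equiv.symm_apply_apply]
  let g : (Fin T'.card → A) →ₗ[A] B := Fintype.linearCombination A vl
  have hg : ∀ j, g (Pi.single j 1) = vl j := by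
    intro j
    rw [Fintype.linearCombination_apply_single, one_smul]
  let t₀ : ⨂[A] _ : Fin d, (Fin T'.card → A) := ∑ q ∈ y.coeff.support,
    y.coeff q • PiTensorProduct.tprod A (fun i => (Pi.single (pos (q i)) (1 : A) : Fin T'.card → A))
  have ht₀ : PiTensorProduct.map (fun _ : Fin d => g) t₀ = 0 := by
    rw [← h0, θA_eq_sum, map_sum]
    refine Finset.sum_congr rfl (fun q hq => ?_)
    rw [map_smul, PiTensorProduct.map_tprod]
    congr 2
    funext i
    rw [hg, hvl _ (hmem q hq i)]
  obtain ⟨k', h, g', hgh, hh⟩ := multi_slot g t₀ ht₀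
  let ℓ : (Fin k' → A) →ₗ[A] MonoidAlgebra A B :=
    Fintype.linearCombination A (fun l => MonoidAlgebra.single (g' (Pi.single l 1)) (1 : A))
  have hℓ : (πA A B).toLinearMap ∘ₗ ℓ = g' := by
    refine LinearMap.pi_ext (fun l x => ?_)
    have : (Pi.single l x : Fin k' → A) = x • Pi.single l (1 : A) := by
      rw [← Pi.single_smul, smul_eq_mul, mul_one]
    rw [LinearMap.comp_apply, this, map_smul, map_smul, map_smul,
      Fintype.linearCombination_apply_single, one_smul, AlgHom.toLinearMap_apply, πA_single,
      one_smul]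
  let v : B → MonoidAlgebra A B := fun b =>
    if b ∈ T' then ℓ (h (Pi.single (pos b) 1)) else MonoidAlgebra.single b 1
  have hv : ∀ b, πA A B (v b) = b := by
    intro b
    show πA A B (if b ∈ T' then ℓ (h (Pi.single (pos b) 1)) else MonoidAlgebra.single b 1) = b
    split_ifs with hb
    · have := LinearMap.congr_fun hℓ (h (Pi.single (pos b) 1))
      rw [LinearMap.comp_apply, AlgHom.toLinearMap_apply] at this
      rw [this, ← LinearMap.comp_apply, hgh, hg, hvl b hb]
    · rw [πA_single, one_smul]
  have hsub : Sub v y = 0 := by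
    have h1 : Sub v y = Φ A B d (PiTensorProduct.map (fun _ : Fin d => ℓ ∘ₗ h) t₀) := by
      rw [Sub_eq_sum, map_sum, map_sum]
      refine Finset.sum_congr rfl (fun q hq => ?_)
      rw [map_smul, map_smul, PiTensorProduct.map_tprod, Φ_tprod]
      congr 1
      refine Finset.prod_congr rfl (fun i _ => ?_)
      show ι A B i (if q i ∈ T' then ℓ (h (Pi.single (pos (q i)) 1))
        else MonoidAlgebra.single (q i) 1) = _
      rw [if_pos (hmem q hq i)]
      rfl
    rw [h1, ← Groth.Agent.H80.FlatTS.map_map, hh, map_zero, map_zero]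
  rw [← LinC_Sub_of_isSym γ v hv hy, hsub, map_zero]

end KFlat

end Groth.Agent.H80.NLSurj
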