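-- helper80: the case where the factorial is invertible: kernel of the comparison map,
-- symmetrisation, surjectivity and descent.
import Groth.Agent.H80.NLSurj

set_option autoImplicit false
universe u

open scoped TensorProduct

namespace Groth.Agent.H80.NLFact

open PolLaw Groth.Agent.H74.GammaSpan Groth.Agent.H80.NLComb Groth.Agent.H80.NLAlg
  Groth.Agent.H80.NLCoef Groth.Agent.H80.NLLin Groth.Agent.H80.NLMul Groth.Agent.H80.NLTheta
  Groth.Agent.H80.NLSurj Finset

section Kernel

variable {A : Type u} [CommRing A] {B : Type u} [CommRing B] [Algebra A B] {d : ℕ}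

variable (A B d) in
/-- the ideal generated by the slotwise images of the kernel of the projection -/
noncomputable def JJ : Ideal (RR d A B) :=
  Ideal.span {x | ∃ (k : Fin d) (i : MonoidAlgebra A B), πA A B i = 0 ∧ x = ι A B k i}

theorem ι_mem_JJ (k : Fin d) (i : MonoidAlgebra A B) (hi : πA A B i = 0) :
    ι A B k i ∈ JJ A B d :=
  Ideal.subset_span ⟨k, i, hi, rfl⟩

theorem single_update [inst : DecidableEq (Fin d)] (m : Fin d → B) (i : Fin d) (x : B) :
    (MonoidAlgebra.single (Function.update m i x) (1 : A) : RR d A B) =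
      MonoidAlgebra.single (Function.update m i 1) 1 * ι A B i (MonoidAlgebra.single x 1) := by
  obtain rfl : inst = instDecidableEqFin d := Subsingleton.elim _ _
  rw [ι_single, MonoidAlgebra.single_mul_single, one_mul]
  congr 1
  funext j
  by_cases h : j = i
  · subst h
    simp
  · rw [Pi.mul_apply, Function.update_of_ne h, Function.update_of_ne h, Pi.mulSingle_apply,
      if_neg h, mul_one]

variable (A B d) in
/-- the multilinear map sending a tuple to its class modulo the ideal -/
noncomputable def mJ : MultilinearMap A (fun _ : Fin d => B) (RR d A B ⧸ JJ A B d) where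
  toFun q := Ideal.Quotient.mkₐ A (JJ A B d) (MonoidAlgebra.single q 1)
  map_update_add' := by
    intro _ m i x y
    rw [← map_add]
    refine (Ideal.Quotient.mk_eq_mk_iff_sub_mem _ _).2 ?_
    have h : (MonoidAlgebra.single (Function.update m i (x + y)) (1 : A) : RR d A B) -
        (MonoidAlgebra.single (Function.update m i x) 1 +
          MonoidAlgebra.single (Function.update m i y) 1) =
        MonoidAlgebra.single (Function.update m i 1) 1 *
          ι A B i (MonoidAlgebra.single (x + y) 1 - MonoidAlgebra.single x 1 -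
            MonoidAlgebra.single y 1) := by
      have e1 := single_update (A := A) m i (x + y)
      have e2 := single_update (A := A) m i x
      have e3 := single_update (A := A) m i y
      convert congrArg₂ (· - ·) e1 (congrArg₂ (· + ·) e2 e3) using 1
      · rw [map_sub, map_sub]; ring
    rw [h]
    refine Ideal.mul_mem_left _ _ (ι_mem_JJ i _ ?_)
    rw [map_sub, map_sub, πA_single, πA_single, πA_single, one_smul, one_smul, one_smul]
    abel
  map_update_smul' := by
    intro _ m i c x
    rw [← map_smul]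
    refine (Ideal.Quotient.mk_eq_mk_iff_sub_mem _ _).2 ?_
    have h : (MonoidAlgebra.single (Function.update m i (c • x)) (1 : A) : RR d A B) -
        c • MonoidAlgebra.single (Function.update m i x) 1 =
        MonoidAlgebra.single (Function.update m i 1) 1 *
          ι A B i (MonoidAlgebra.single (c • x) 1 - c • MonoidAlgebra.single x 1) := by
      rw [single_update (A := A) m i (c • x), single_update (A := A) m i x, map_sub, map_smul,
        mul_sub, mul_smul_comm]
    rw [h]
    refine Ideal.mul_mem_left _ _ (ι_mem_JJ i _ ?_)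
    rw [map_sub, map_smul, πA_single, πA_single, one_smul, one_smul, sub_self]

variable (A B d) in
/-- the induced map from the tensor power to the quotient -/
noncomputable def LJ : (⨂[A] _ : Fin d, B) →ₗ[A] (RR d A B ⧸ JJ A B d) :=
  PiTensorProduct.lift (mJ A B d)

theorem LJ_θA (w : RR d A B) : LJ A B d (θA A B d w) = Ideal.Quotient.mkₐ A (JJ A B d) w := by
  induction w using MonoidAlgebra.induction_linear with
  | zero => rw [map_zero, map_zero, map_zero]
  | add x y hx hy => rw [map_add, map_add, hx, hy, map_add]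
  | single q a =>
    rw [θA_single, map_smul, single_eq_smul q a, map_smul]
    unfold LJ
    rw [PiTensorProduct.lift.tprod]
    rfl

/-- **Kernel of the comparison map.** -/
theorem mem_JJ_of_θA_eq_zero {w : RR d A B} (h : θA A B d w = 0) : w ∈ JJ A B d := by
  have := LJ_θA w
  rw [h, map_zero] at this
  exact Ideal.Quotient.eq_zero_iff_mem.1 this.symm

end Kernel

section Sym

variable {A : Type u} [CommRing A] {B : Type u} [CommRing B] [Algebra A B]
  {C : Type u} [CommRing C] [Algebra A C] {d : ℕ} (γ : MulLaw A B C d)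

variable (A B d) in
/-- the sum of all conjugates -/
noncomputable def Sym : RR d A B →ₗ[A] RR d A B :=
  ∑ σ : Equiv.Perm (Fin d), (act A B σ).toLinearMap

theorem Sym_apply (y : RR d A B) : Sym A B d y = ∑ σ : Equiv.Perm (Fin d), act A B σ y := by
  unfold Sym
  rw [LinearMap.sum_apply]
  rfl

theorem Sym_isSym (y : RR d A B) : IsSym (Sym A B d y) := by
  intro ρ
  rw [Sym_apply, map_sum]
  simp only [act_mul]
  exact Equiv.sum_comp (Equiv.mulLeft ρ) (fun σ => act A B σ y)

theorem Sym_of_isSym {y : RR d A B} (hy : IsSym y) :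
    Sym A B d y = ((d.factorial : ℕ) : A) • y := by
  rw [Sym_apply, Finset.sum_congr rfl (fun σ _ => hy σ), Finset.sum_const, Finset.card_univ,
    Fintype.card_perm, Fintype.card_fin, Nat.cast_smul_eq_nsmul]

theorem θA_Sym (y : RR d A B) :
    θA A B d (Sym A B d y) = ∑ σ : Equiv.Perm (Fin d), SymTen.perm A B d σ (θA A B d y) := by
  rw [Sym_apply, map_sum]
  exact Finset.sum_congr rfl (fun σ _ => θA_act σ y)

theorem sum_perm_of_mem_TS {t : ⨂[A] _ : Fin d, B} (ht : t ∈ SymTen.TS A B d) :
    ∑ σ : Equiv.Perm (Fin d), SymTen.perm A B d σ t = ((d.factorial : ℕ) : A) • t := by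
  rw [Finset.sum_congr rfl (fun σ _ => (SymTen.perm_apply A B d σ t).trans (ht σ)),
    Finset.sum_const, Finset.card_univ, Fintype.card_perm, Fintype.card_fin,
    Nat.cast_smul_eq_nsmul]

theorem single_eq_prod (q : Fin d → B) :
    (MonoidAlgebra.single q (1 : A) : RR d A B) =
      ∏ k, ι A B k (MonoidAlgebra.single (q k) 1) := by
  classical
  simp only [ι_single]
  rw [MonoidAlgebra.prod_single, Finset.univ_prod_mulSingle, Finset.prod_const_one]

theorem single_mul_ι (q : Fin d → B) (k : Fin d) (i : MonoidAlgebra A B) :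
    (MonoidAlgebra.single q (1 : A) : RR d A B) * ι A B k i =
      ∏ k', ι A B k' (MonoidAlgebra.single (q k') 1 *
        (Pi.mulSingle k i : Fin d → MonoidAlgebra A B) k') := by
  classical
  simp only [map_mul]
  rw [Finset.prod_mul_distrib, ← single_eq_prod]
  congr 1
  rw [Finset.prod_eq_single k]
  · rw [Pi.mulSingle_eq_same]
  · intro k' _ hk'
    rw [Pi.mulSingle_eq_of_ne hk', map_one]
  · intro h
    exact absurd (Finset.mem_univ k) h

theorem Sym_prod (w : Fin d → MonoidAlgebra A B) :
    Sym A B d (∏ k, ι A B k (w k)) =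
      ∑ σ : Equiv.Perm (Fin d), ∏ k, ι A B k (w (σ.symm k)) := by
  rw [Sym_apply]
  refine Finset.sum_congr rfl (fun σ _ => ?_)
  rw [map_prod]
  simp only [act_ι]
  exact ((Equiv.prod_comp σ (fun k => ι A B k (w (σ.symm k)))).symm.trans
      (Finset.prod_congr rfl (fun k _ => by rw [Equiv.symm_apply_apply]))).symm

open Classical in
theorem mem_class {Λ : Type*} (T : Finset Λ) (ν : Λ →₀ ℕ) (c : Fin d → Λ) :
    c ∈ (Fintype.piFinset fun _ : Fin d => T).filter (fun c => count c = ν) ↔
      (∀ k, c k ∈ T) ∧ count c = ν := by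
  rw [Finset.mem_filter, Fintype.mem_piFinset]

open Classical in
theorem LinC_Sym_prod_eq_zero (w : Fin d → MonoidAlgebra A B) (k₀ : Fin d)
    (h0 : πA A B (w k₀) = 0) : LinC γ (Sym A B d (∏ k, ι A B k (w k))) = 0 := by
  rw [Sym_prod]
  set up : Fin d → ULift.{u} (Fin d) := fun k => ULift.up k with hup
  set ν : ULift.{u} (Fin d) →₀ ℕ := count up with hν
  set v : ULift.{u} (Fin d) → MonoidAlgebra A B := fun l => w l.down with hv
  have hO := LinC_O γ v ν
  have hzero : gcf γ.law (fun l => πA A B (v l)) ν.support ν = 0 :=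
    gcf_eq_zero_of_value_eq_zero γ.law _ ν.support ν (up k₀) (apply_mem_support_count up k₀) h0
  rw [hzero] at hO
  rw [← hO]
  congr 1
  refine Finset.sum_bij (fun σ _ => fun k => up (σ.symm k)) ?_ ?_ ?_ ?_
  · intro σ _
    exact (mem_class _ _ _).2 ⟨fun k => apply_mem_support_count up _, count_comp_perm up σ.symm⟩
  · intro σ _ σ' _ h
    have h1 : σ.symm = σ'.symm :=
      Equiv.ext (fun k => ULift.up_injective (congr_fun h k))
    rw [← Equiv.symm_symm σ, h1, Equiv.symm_symm]
  · intro c hc
    have hc' := (mem_class _ _ _).1 hc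
    obtain ⟨σ', hσ'⟩ := exists_perm_of_count_eq up c hc'.2.symm
    refine ⟨σ'.symm, Finset.mem_univ _, ?_⟩
    rw [hσ']
    rfl
  · intro σ _
    rfl

theorem LinC_Sym_mul_ι (r : RR d A B) (k : Fin d) (i : MonoidAlgebra A B)
    (hi : πA A B i = 0) : LinC γ (Sym A B d (r * ι A B k i)) = 0 := by
  induction r using MonoidAlgebra.induction_linear with
  | zero => rw [zero_mul, map_zero, map_zero]
  | add x y hx hy => rw [add_mul, map_add, map_add, hx, hy, add_zero]
  | single q a =>
    rw [single_eq_smul q a, smul_mul_assoc, map_smul, map_smul, single_mul_ι,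
      LinC_Sym_prod_eq_zero γ _ k ?_, smul_zero]
    rw [Pi.mulSingle_eq_same, map_mul, hi, mul_zero]

theorem LinC_Sym_of_mem_JJ {w : RR d A B} (hw : w ∈ JJ A B d) :
    ∀ r : RR d A B, LinC γ (Sym A B d (r * w)) = 0 := by
  unfold JJ at hw
  refine Submodule.span_induction
    (p := fun w _ => ∀ r : RR d A B, LinC γ (Sym A B d (r * w)) = 0) ?_ ?_ ?_ ?_ hw
  · rintro _ ⟨k, i, hi, rfl⟩ r
    exact LinC_Sym_mul_ι γ r k i hi
  · intro r
    rw [mul_zero, map_zero, map_zero]
  · intro x y _ _ hx hy r
    rw [mul_add, map_add, map_add, hx r, hy r, add_zero]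
  · intro a x _ hx r
    rw [smul_eq_mul, ← mul_assoc]
    exact hx (r * a)

/-- **Descent (invertible factorial)**. -/
theorem LinC_eq_zero_of_isUnit (hu : IsUnit ((d.factorial : ℕ) : A)) {y : RR d A B}
    (hy : IsSym y) (h0 : θA A B d y = 0) : LinC γ y = 0 := by
  have h1 := LinC_Sym_of_mem_JJ γ (mem_JJ_of_θA_eq_zero h0) 1
  rw [one_mul, Sym_of_isSym hy, map_smul] at h1
  obtain ⟨u, hu'⟩ := hu.exists_left_inv
  have := congrArg (fun z => u • z) h1
  simp only [smul_zero, smul_smul, hu', one_smul] at this
  exact this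

/-- **Surjectivity (invertible factorial)**. -/
theorem exists_isSym_of_isUnit (hu : IsUnit ((d.factorial : ℕ) : A)) (t : ⨂[A] _ : Fin d, B)
    (ht : t ∈ SymTen.TS A B d) : ∃ y : RR d A B, IsSym y ∧ θA A B d y = t := by
  obtain ⟨y, rfl⟩ := θA_surjective t
  obtain ⟨u, hu'⟩ := hu.exists_left_inv
  refine ⟨u • Sym A B d y, (Sym_isSym y).smul u, ?_⟩
  rw [map_smul, θA_Sym, sum_perm_of_mem_TS ht, smul_smul, hu', one_smul]

end Sym

end Groth.Agent.H80.NLFact
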