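-- helper80: symmetric tensors as the algebra of divided powers: assembly.
import Groth.Agent.H80.NLFact

set_option autoImplicit false
universe u

open scoped TensorProduct

namespace Groth.Agent.H80.NLGamma

open PolLaw Groth.Agent.H74.GammaSpan Groth.Agent.H80.NLComb Groth.Agent.H80.NLAlg
  Groth.Agent.H80.NLCoef Groth.Agent.H80.NLLin Groth.Agent.H80.NLMul Groth.Agent.H80.NLTheta
  Groth.Agent.H80.NLSurj Finset

section Span

variable {A : Type u} [CommRing A] {B : Type u} [CommRing B] [Algebra A B] {d : ℕ}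

theorem cf_θ_fin {n : ℕ} (ν : Fin n →₀ ℕ) (y : RR d (MvPolynomial (Fin n) A) B) :
    cf ν (θ A B d (MvPolynomial (Fin n) A) y) =
      θA A B d (pushF (MvPolynomial.lcoeff A ν) y) :=
  lid_rTensor_θ (MvPolynomial (Fin n) A) (MvPolynomial.lcoeff A ν) y

/-- the coefficients of the diagonal law are symmetric tensors -/
theorem coefSpan_le_TS :
    coefSpan (SymTen.tpowLaw A B d).law ≤ Subalgebra.toSubmodule (SymTen.TS A B d) := by
  refine Submodule.span_le.2 ?_
  rintro _ ⟨S, _, _, ℓ, x, rfl⟩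
  refine coef_mem_of_cf_mem (SymTen.tpowLaw A B d).law (Subalgebra.toSubmodule (SymTen.TS A B d))
    ?_ S ℓ x
  intro n x ν
  obtain ⟨p, rfl⟩ := πS_surjective (A := A) (B := B) (MvPolynomial (Fin n) A) x
  rw [tpow_πS, cf_θ_fin]
  exact θA_mem_TS (pushF_isSym _ (τ_isSym p))

/-- the class sums are coefficients of the diagonal law -/
theorem θA_Ocl_mem_coefSpan (κ : B →₀ ℕ) :
    θA A B d (Ocl A κ) ∈ coefSpan (SymTen.tpowLaw A B d).law := by
  rw [← pushF_τ_gen, ← cf_θ, ← tpow_πS]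
  exact coef_mem_coefSpan (SymTen.tpowLaw A B d).law (SB A B) (MvPolynomial.lcoeff A κ) _

theorem θA_mem_coefSpan_of_isSym {y : RR d A B} (hy : IsSym y) :
    θA A B d y ∈ coefSpan (SymTen.tpowLaw A B d).law := by
  refine Submodule.span_induction
    (p := fun z _ => θA A B d z ∈ coefSpan (SymTen.tpowLaw A B d).law) ?_ ?_ ?_ ?_ hy.mem_span
  · rintro _ ⟨q, _, rfl⟩
    exact θA_Ocl_mem_coefSpan _
  · rw [map_zero]; exact Submodule.zero_mem _
  · intro z z' _ _ hz hz'
    rw [map_add]; exact Submodule.add_mem _ hz hz'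
  · intro a z _ hz
    rw [map_smul]; exact Submodule.smul_mem _ a hz

end Span

section Law

variable {A : Type u} [CommRing A] {B : Type u} [CommRing B] [Algebra A B] {d : ℕ}

theorem coefAlg_le_TS :
    coefAlg (SymTen.tpowLaw A B d).law (SymTen.tpowLaw A B d).mult ≤ SymTen.TS A B d :=
  fun c hc => coefSpan_le_TS ((mem_coefAlg _ _ c).1 hc)

variable (A B d) in
/-- the diagonal law with values in the symmetric tensors -/
theorem exists_tau : ∃ τ' : MulLaw A B (SymTen.TS A B d) d,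
    postcomp (SymTen.TS A B d).val.toLinearMap τ'.law = (SymTen.tpowLaw A B d).law := by
  obtain ⟨F₀, hF₀⟩ := exists_law (SymTen.tpowLaw A B d)
  refine ⟨(mulLaw₀ _ F₀ hF₀).postcomp (Subalgebra.inclusion coefAlg_le_TS), ?_⟩
  show postcomp _ (postcomp (Subalgebra.inclusion coefAlg_le_TS).toLinearMap F₀) = _
  rw [← postcomp_comp]
  have : (SymTen.TS A B d).val.toLinearMap ∘ₗ
      (Subalgebra.inclusion (coefAlg_le_TS (A := A) (B := B) (d := d))).toLinearMap =
      (coefAlg (SymTen.tpowLaw A B d).law (SymTen.tpowLaw A B d).mult).val.toLinearMap :=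
    LinearMap.ext (fun c => rfl)
  rw [this]
  exact postcomp_F₀ _ F₀ hF₀

theorem tau_spec (τ' : MulLaw A B (SymTen.TS A B d) d)
    (hτ : postcomp (SymTen.TS A B d).val.toLinearMap τ'.law = (SymTen.tpowLaw A B d).law)
    (S : Type u) [CommSemiring S] [Algebra A S] (x : S ⊗[A] B) :
    (SymTen.TS A B d).val.toLinearMap.lTensor S (τ'.law.toFun' S x) =
      (SymTen.tpowLaw A B d).law.toFun' S x := by
  rw [← hτ]
  rfl

end Law

section Main

variable {A : Type u} [CommRing A] {B : Type u} [CommRing B] [Algebra A B] {d : ℕ}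
  (HSj : ∀ t ∈ SymTen.TS A B d, ∃ y : RR d A B, IsSym y ∧ θA A B d y = t)
  (HK : ∀ (C' : Type u) [CommRing C'] [Algebra A C'] (F : MulLaw A B C' d) (y : RR d A B),
    IsSym y → θA A B d y = 0 → LinC F y = 0)
  {C' : Type u} [CommRing C'] [Algebra A C'] (F : MulLaw A B C' d)

include HSj in
theorem TS_le_coefSpan :
    Subalgebra.toSubmodule (SymTen.TS A B d) ≤ coefSpan (SymTen.tpowLaw A B d).law := by
  intro t ht
  obtain ⟨y, hy, rfl⟩ := HSj t ht
  exact θA_mem_coefSpan_of_isSym hy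

/-- a chosen symmetric lift -/
noncomputable def lft (t : SymTen.TS A B d) : RR d A B := Classical.choose (HSj t.1 t.2)

theorem lft_isSym (t : SymTen.TS A B d) : IsSym (lft HSj t) :=
  (Classical.choose_spec (HSj t.1 t.2)).1

theorem θA_lft (t : SymTen.TS A B d) : θA A B d (lft HSj t) = t.1 :=
  (Classical.choose_spec (HSj t.1 t.2)).2

include HK in
theorem LinC_eq_of_θA_eq {y y' : RR d A B} (hy : IsSym y) (hy' : IsSym y')
    (h : θA A B d y = θA A B d y') : LinC F y = LinC F y' := by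
  have := HK C' F (y - y') (hy.sub hy') (by rw [map_sub, h, sub_self])
  rwa [map_sub, sub_eq_zero] at this

/-- the induced linear map out of the symmetric tensors -/
noncomputable def fLin : SymTen.TS A B d →ₗ[A] C' where
  toFun t := LinC F (lft HSj t)
  map_add' t t' := by
    rw [← map_add]
    exact LinC_eq_of_θA_eq HK F (lft_isSym HSj _) ((lft_isSym HSj t).add (lft_isSym HSj t'))
      (by rw [map_add, θA_lft, θA_lft, θA_lft]; rfl)
  map_smul' a t := by
    rw [RingHom.id_apply, ← map_smul]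
    exact LinC_eq_of_θA_eq HK F (lft_isSym HSj _) ((lft_isSym HSj t).smul a)
      (by rw [map_smul, θA_lft, θA_lft]; rfl)

theorem fLin_apply {y : RR d A B} (hy : IsSym y) (t : SymTen.TS A B d)
    (h : θA A B d y = t.1) : fLin HSj HK F t = LinC F y :=
  LinC_eq_of_θA_eq HK F (lft_isSym HSj t) hy (by rw [θA_lft, h])

/-- the induced algebra map out of the symmetric tensors -/
noncomputable def fAlg : SymTen.TS A B d →ₐ[A] C' :=
  AlgHom.ofLinearMap (fLin HSj HK F)
    (by
      rw [fLin_apply HSj HK F isSym_one 1 (by rw [map_one]; rfl)]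
      exact LinC_one F)
    (by
      intro t t'
      rw [fLin_apply HSj HK F ((lft_isSym HSj t).mul (lft_isSym HSj t')) (t * t')
        (by rw [map_mul, θA_lft, θA_lft]; rfl), LinC_mul_of_isSym F (lft_isSym HSj t)
        (lft_isSym HSj t')]
      rfl)

theorem fAlg_apply {y : RR d A B} (hy : IsSym y) (t : SymTen.TS A B d)
    (h : θA A B d y = t.1) : fAlg HSj HK F t = LinC F y :=
  fLin_apply HSj HK F hy t h

/-- the class sums as symmetric tensors -/
noncomputable def oo (κ : B →₀ ℕ) : SymTen.TS A B d :=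
  ⟨θA A B d (Ocl A κ), θA_mem_TS (isSym_Ocl κ)⟩

theorem fAlg_oo (κ : B →₀ ℕ) (hκ : (κ.sum fun _ n => n) = d) :
    fAlg HSj HK F (oo κ) = gco F κ := by
  rw [fAlg_apply HSj HK F (isSym_Ocl κ) (oo κ) rfl, LinC_Ocl F κ hκ]

theorem exists_lift_of_isSym (n : ℕ) {y : RR d (MvPolynomial (Fin n) A) B} (hy : IsSym y) :
    ∃ w : MvPolynomial (Fin n) A ⊗[A] SymTen.TS A B d,
      (SymTen.TS A B d).val.toLinearMap.lTensor _ w = θ A B d _ y ∧
      (fAlg HSj HK F).toLinearMap.lTensor _ w = Lin F _ y := by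
  refine Submodule.span_induction
    (p := fun z _ => ∃ w : MvPolynomial (Fin n) A ⊗[A] SymTen.TS A B d,
      (SymTen.TS A B d).val.toLinearMap.lTensor _ w = θ A B d _ z ∧
      (fAlg HSj HK F).toLinearMap.lTensor _ w = Lin F _ z) ?_ ?_ ?_ ?_ hy.mem_span
  · rintro _ ⟨q, _, rfl⟩
    refine ⟨(1 : MvPolynomial (Fin n) A) ⊗ₜ[A] oo (count q), ?_, ?_⟩
    · rw [LinearMap.lTensor_tmul, ← mc_Ocl (algebraMap A (MvPolynomial (Fin n) A)), θ_mc]
      rfl
    · rw [LinearMap.lTensor_tmul, AlgHom.toLinearMap_apply, fAlg_oo HSj HK F _ (sum_count q),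
        Lin_Ocl F _ _ (sum_count q)]
  · exact ⟨0, by rw [map_zero, map_zero], by rw [map_zero, map_zero]⟩
  · rintro z z' _ _ ⟨w, h1, h2⟩ ⟨w', h1', h2'⟩
    exact ⟨w + w', by rw [map_add, map_add, h1, h1'], by rw [map_add, map_add, h2, h2']⟩
  · rintro s z _ ⟨w, h1, h2⟩
    exact ⟨s • w, by rw [Groth.Agent.H74.SymNormP.lTensor_smul', map_smul, h1],
      by rw [Groth.Agent.H74.SymNormP.lTensor_smul', map_smul, h2]⟩

theorem law_ext_poly {M N : Type u} [AddCommGroup M] [Module A M] [AddCommGroup N] [Module A N]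
    (G G' : M →ₚₗ[A] N)
    (h : ∀ (n : ℕ) (x : MvPolynomial (Fin n) A ⊗[A] M),
      G.toFun' (MvPolynomial (Fin n) A) x = G'.toFun' (MvPolynomial (Fin n) A) x) : G = G' := by
  apply (Groth.Agent.S13174.result (A := A) (M := M) (N := N)).1
  exact Subtype.ext (funext (fun n => funext (fun x => h n x)))

theorem postcomp_fAlg (τ' : MulLaw A B (SymTen.TS A B d) d)
    (hτ : postcomp (SymTen.TS A B d).val.toLinearMap τ'.law = (SymTen.tpowLaw A B d).law) :
    postcomp (fAlg HSj HK F).toLinearMap τ'.law = F.law := by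
  apply law_ext_poly
  intro n x
  show (fAlg HSj HK F).toLinearMap.lTensor _ (τ'.law.toFun' (MvPolynomial (Fin n) A) x) =
    F.law.toFun' (MvPolynomial (Fin n) A) x
  obtain ⟨p, rfl⟩ := πS_surjective (A := A) (B := B) (MvPolynomial (Fin n) A) x
  obtain ⟨w, hw1, hw2⟩ := exists_lift_of_isSym HSj HK F n (τ_isSym (d := d) p)
  have hw : w = τ'.law.toFun' (MvPolynomial (Fin n) A) (πS _ p) := by
    apply lTensor_val_injective (SymTen.TS A B d) n
    rw [hw1, tau_spec τ' hτ, tpow_πS]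
  rw [← hw, hw2, Lin_τ]

include HSj in
theorem coefSpan_tau_eq_top (τ' : MulLaw A B (SymTen.TS A B d) d)
    (hτ : postcomp (SymTen.TS A B d).val.toLinearMap τ'.law = (SymTen.tpowLaw A B d).law) :
    coefSpan τ'.law = ⊤ := by
  rw [eq_top_iff]
  intro t _
  have ht : t.1 ∈ coefSpan (SymTen.tpowLaw A B d).law := TS_le_coefSpan HSj t.2
  have hsub : coefSpan (SymTen.tpowLaw A B d).law ≤
      Submodule.map (SymTen.TS A B d).val.toLinearMap (coefSpan τ'.law) := by
    refine Submodule.span_le.2 ?_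
    rintro _ ⟨S, _, _, ℓ, x, rfl⟩
    refine ⟨coef τ'.law S ℓ x, coef_mem_coefSpan τ'.law S ℓ x, ?_⟩
    rw [← hτ]
    exact (coef_postcomp τ'.law _ S ℓ x).symm
  obtain ⟨t', ht', htt'⟩ := hsub ht
  have : t' = t := Subtype.ext htt'
  rwa [← this]

theorem fAlg_unique (τ' : MulLaw A B (SymTen.TS A B d) d)
    (hτ : postcomp (SymTen.TS A B d).val.toLinearMap τ'.law = (SymTen.tpowLaw A B d).law)
    (f' : SymTen.TS A B d →ₐ[A] C') (hf' : postcomp f'.toLinearMap τ'.law = F.law) :
    f' = fAlg HSj HK F := by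
  have hf := postcomp_fAlg HSj HK F τ' hτ
  have hle : coefSpan τ'.law ≤
      LinearMap.eqLocus f'.toLinearMap (fAlg HSj HK F).toLinearMap := by
    refine Submodule.span_le.2 ?_
    rintro _ ⟨S, _, _, ℓ, x, rfl⟩
    show f'.toLinearMap (coef τ'.law S ℓ x) = (fAlg HSj HK F).toLinearMap (coef τ'.law S ℓ x)
    rw [← coef_postcomp, ← coef_postcomp, hf', hf]
  rw [coefSpan_tau_eq_top HSj τ' hτ] at hle
  exact AlgHom.ext (fun t => hle Submodule.mem_top)

end Main

section Final

variable {A : Type u} [CommRing A] {B : Type u} [CommRing B] [Algebra A B] {d : ℕ}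

/-- **Symmetric tensors as divided powers**, from surjectivity and descent. -/
theorem main
    (HSj : ∀ t ∈ SymTen.TS A B d, ∃ y : RR d A B, IsSym y ∧ θA A B d y = t)
    (HK : ∀ (C' : Type u) [CommRing C'] [Algebra A C'] (F : MulLaw A B C' d) (y : RR d A B),
      IsSym y → θA A B d y = 0 → LinC F y = 0) :
    ∃ τ' : MulLaw A B (SymTen.TS A B d) d,
      (∀ (S : Type u) [CommSemiring S] [Algebra A S] (n : ℕ) (s : Fin n → S) (b : Fin n → B),
        (SymTen.TS A B d).val.toLinearMap.lTensor S (τ'.law.toFun' S (∑ j, s j ⊗ₜ[A] b j)) =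
          ∑ c : Fin d → Fin n, (∏ i, s (c i)) ⊗ₜ[A] PiTensorProduct.tprod A (fun i => b (c i))) ∧
      IsGammaD τ' := by
  obtain ⟨τ', hτ⟩ := exists_tau A B d
  refine ⟨τ', ?_, ?_⟩
  · intro S _ _ n s b
    rw [tau_spec τ' hτ, Groth.Agent.H74.SymNormC.tpowLaw_sum_fin]
  · intro C' _ _ F
    exact ⟨fAlg HSj HK F, postcomp_fAlg HSj HK F τ' hτ,
      fun f' hf' => fAlg_unique HSj HK F τ' hτ f' hf'⟩

/-- the flat case and the case of an invertible factorial -/
theorem main' (h : Module.Flat A B ∨ IsUnit ((d.factorial : ℕ) : A)) :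
    ∃ τ' : MulLaw A B (SymTen.TS A B d) d,
      (∀ (S : Type u) [CommSemiring S] [Algebra A S] (n : ℕ) (s : Fin n → S) (b : Fin n → B),
        (SymTen.TS A B d).val.toLinearMap.lTensor S (τ'.law.toFun' S (∑ j, s j ⊗ₜ[A] b j)) =
          ∑ c : Fin d → Fin n, (∏ i, s (c i)) ⊗ₜ[A] PiTensorProduct.tprod A (fun i => b (c i))) ∧
      IsGammaD τ' := by
  rcases h with h | h
  · exact main (fun t ht => exists_isSym_of_flat t ht)
      (fun C' _ _ F y hy h0 => LinC_eq_zero_of_flat F hy h0)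
  · exact main (fun t ht => Groth.Agent.H80.NLFact.exists_isSym_of_isUnit h t ht)
      (fun C' _ _ F y hy h0 => Groth.Agent.H80.NLFact.LinC_eq_zero_of_isUnit F h hy h0)

end Final

end Groth.Agent.H80.NLGamma
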