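import Mathlib
import Groth.Prelude.Def_QCohCat
import Groth.Prelude.Def_Coh
import Groth.Agent.H22.QCohLimits
import Groth.Agent.H8.IsoCover
import Groth.Agent.H8.CohAffine
import Groth.Agent.H8.SectionsExact

/-!
# (N1b) for S11129 (helper22): a coherent module on a noetherian scheme is a noetherian object of QCoh
-/

set_option autoImplicit false
set_option linter.style.haveILetI false
universe u
open CategoryTheory CategoryTheory.Limits AlgebraicGeometry TopologicalSpace Opposite

namespace Groth.Agent.H80.NoethObj_N1b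

/-- (N1a) a monomorphism of `QCoh Y` is a monomorphism of modules. -/
theorem mono_hom_of_mono {Y : Scheme.{u}} {A B : QCohCat.QCoh Y} (f : A ⟶ B) [Mono f] :
    Mono f.hom := by
  haveI : A.obj.IsQuasicoherent := A.property
  haveI : B.obj.IsQuasicoherent := B.property
  have hK : (kernel f.hom).IsQuasicoherent :=
    Groth.Agent.H22.QCohLimits.isQuasicoherent_kernel f.hom
  let K : QCohCat.QCoh Y := ⟨kernel f.hom, hK⟩
  let k : K ⟶ A := ObjectProperty.homMk (kernel.ι f.hom)
  let k' : K ⟶ A := ObjectProperty.homMk (0 : kernel f.hom ⟶ A.obj)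
  have hk : k ≫ f = k' ≫ f := by
    apply ObjectProperty.hom_ext
    change kernel.ι f.hom ≫ f.hom = 0 ≫ f.hom
    rw [kernel.condition, zero_comp]
  have h1 : k = k' := (cancel_mono f).1 hk
  have h2 : kernel.ι f.hom = 0 := congrArg (fun t => t.hom) h1
  exact Preadditive.mono_of_kernel_zero h2

theorem noeth_of_coh (Y : Scheme.{u}) [IsNoetherian Y] (M : QCohCat.QCoh Y)
    (h : Coh.IsCoh M.obj) : IsNoetherianObject M := by
  rw [isNoetherianObject_iff_monotone_chain_condition]
  intro f
  haveI : M.obj.IsQuasicoherent := M.property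
  haveI : SheafOfModules.IsFiniteType (R := Y.ringCatSheaf) M.obj := h.2
  -- arrows are monos of modules
  have hmono : ∀ k, Mono (f k).arrow.hom := fun k => mono_hom_of_mono (f k).arrow
  -- finite affine cover
  obtain ⟨s, hsfin, hs⟩ :=
    (isCompact_iff_finite_and_eq_biUnion_affineOpens (U := (⊤ : Y.Opens))).1
      (by simpa using (isCompact_univ : IsCompact (Set.univ : Set Y)))
  -- factorisation for k ≤ k'
  have hfac : ∀ {k k' : ℕ} (hkk : k ≤ k'),
      (Subobject.ofLE (f k) (f k') (f.monotone hkk)).hom ≫ (f k').arrow.hom = (f k).arrow.hom := by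
    intro k k' hkk
    have := Subobject.ofLE_arrow (f.monotone hkk)
    exact congrArg (fun t => t.hom) this
  -- chains of submodules
  let S : (V : Y.affineOpens) → ℕ → Submodule Γ(Y, V.1) Γ(M.obj, V.1) := fun V k =>
    LinearMap.range (Groth.Agent.H8.appₗ (f k).arrow.hom V.1)
  have hSmono : ∀ V : Y.affineOpens, Monotone (S V) := by
    intro V k k' hkk y hy
    obtain ⟨x, rfl⟩ := hy
    refine ⟨(Subobject.ofLE (f k) (f k') (f.monotone hkk)).hom.app V.1 x, ?_⟩
    change (f k').arrow.hom.app V.1 ((Subobject.ofLE (f k) (f k') (f.monotone hkk)).hom.app V.1 x)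
      = (f k).arrow.hom.app V.1 x
    rw [← hfac hkk]
    rfl
  have hstab : ∀ V : Y.affineOpens, ∃ n, ∀ m, n ≤ m → S V n = S V m := by
    intro V
    haveI : IsNoetherianRing Γ(Y, V.1) := IsLocallyNoetherian.component_noetherian V
    haveI : Module.Finite Γ(Y, V.1) Γ(M.obj, V.1) :=
      Groth.Agent.H8.finite_sections_of_isAffineOpen M.obj V.2
    haveI : IsNoetherian Γ(Y, V.1) Γ(M.obj, V.1) := isNoetherian_of_isNoetherianRing_of_finite _ _
    exact (monotone_stabilizes_iff_noetherian.2 inferInstance) ⟨S V, hSmono V⟩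
  choose N hN using hstab
  refine ⟨hsfin.toFinset.sup N, ?_⟩
  intro m hm
  have hle : f (hsfin.toFinset.sup N) ≤ f m := f.monotone hm
  set n := hsfin.toFinset.sup N with hn
  -- equality of the submodules on the cover
  have hSeq : ∀ V ∈ s, S V n = S V m := by
    intro V hV
    have h1 : N V ≤ n := Finset.le_sup (f := N) (hsfin.mem_toFinset.2 hV)
    rw [← hN V n h1, ← hN V m (h1.trans hm)]
  -- the inclusion is an isomorphism
  set ι := Subobject.ofLE (f n) (f m) hle with hι
  haveI := hmono n
  haveI := hmono m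
  haveI : Mono ι.hom := mono_of_mono_fac (hfac hm)
  haveI : ((f n : QCohCat.QCoh Y)).obj.IsQuasicoherent := (f n : QCohCat.QCoh Y).property
  haveI : ((f m : QCohCat.QCoh Y)).obj.IsQuasicoherent := (f m : QCohCat.QCoh Y).property
  have hcov : IsOpenCover (fun V : s => (V.1 : Y.Opens)) := by
    rw [TopologicalSpace.IsOpenCover]
    rw [hs, iSup_subtype]
  haveI : IsIso ι.hom := by
    refine Groth.Agent.H8.isIso_of_bijective_affine_cover ι.hom (fun V : s => (V.1 : Y.Opens)) hcov
      (fun V => V.1.2) (fun V => ⟨Groth.Agent.H8.app_injective_of_mono ι.hom _, ?_⟩)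
    intro y
    have hy : (f m).arrow.hom.app V.1.1 y ∈ S V.1 m := ⟨y, rfl⟩
    rw [← hSeq V.1 V.2] at hy
    obtain ⟨x, hx⟩ := hy
    refine ⟨x, ?_⟩
    apply Groth.Agent.H8.app_injective_of_mono (f m).arrow.hom V.1.1
    change (f m).arrow.hom.app V.1.1 (ι.hom.app V.1.1 x) = _
    have hx' : (f n).arrow.hom.app V.1.1 x = (f m).arrow.hom.app V.1.1 y := hx
    rw [← hx', ← hfac hm]
    rfl
  haveI : IsIso ι := by
    have : IsIso ((QCohCat.isQCoh Y).ι.map ι) := by
      change IsIso ι.hom
      infer_instance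
    exact isIso_of_fully_faithful (QCohCat.isQCoh Y).ι ι
  refine le_antisymm hle ?_
  refine Subobject.le_of_comm (inv ι) ?_
  rw [IsIso.inv_comp_eq, hι, Subobject.ofLE_arrow]

end Groth.Agent.H80.NoethObj_N1b
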