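import Mathlib

/-!
# Helpers for norms after base change (H80)

* McCoy's theorem for square matrices: injective `mulVec` implies the determinant is a
  non-zero-divisor.
* Integrality of the determinant of an integral matrix over a domain.
-/

set_option autoImplicit false

open scoped TensorProduct

namespace Groth.Agent.H80.NormBC

open Matrix

section McCoy

/-- McCoy's theorem over a Noetherian ring. -/
theorem det_mem_nonZeroDivisors_of_injective_noeth {S : Type*} [CommRing S] [IsNoetherianRing S]
    {n : Type*} [Fintype n] [DecidableEq n]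
    (W : Matrix n n S) (hW : Function.Injective W.mulVec) : W.det ∈ nonZeroDivisors S := by
  classical
  by_contra hdet
  have h1 : W.det ∈ ⋃ p ∈ associatedPrimes S S, (p : Set S) := by
    rw [biUnion_associatedPrimes_eq_compl_nonZeroDivisors]
    exact hdet
  simp only [Set.mem_iUnion] at h1
  obtain ⟨p, hp, hmem⟩ := h1
  obtain ⟨hprime, x, hx⟩ := (isAssociatedPrime_iff).mp hp
  have hpx : ∀ a : S, a ∈ p ↔ a * x = 0 := by
    intro a
    rw [hx, Submodule.mem_colon_singleton]
    simp
  haveI := hprime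
  let W' : Matrix n n (S ⧸ p) := (Ideal.Quotient.mk p).mapMatrix W
  have hdet' : W'.det = 0 := by
    rw [← RingHom.map_det]
    exact Ideal.Quotient.eq_zero_iff_mem.mpr hmem
  obtain ⟨v', hv', hWv'⟩ := (Matrix.exists_mulVec_eq_zero_iff (M := W')).mpr hdet'
  choose v hv using fun i => Ideal.Quotient.mk_surjective (v' i)
  have hWv : ∀ i, (W.mulVec v) i ∈ p := by
    intro i
    rw [← Ideal.Quotient.eq_zero_iff_mem]
    have h2 := congrFun hWv' i
    have h3 : (Ideal.Quotient.mk p) ((W.mulVec v) i) = (W'.mulVec v') i := by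
      simp only [Matrix.mulVec, dotProduct, map_sum, map_mul, W', RingHom.mapMatrix_apply,
        Matrix.map_apply, hv]
    rw [h3, h2]; rfl
  have h4 : W.mulVec (x • v) = W.mulVec 0 := by
    rw [Matrix.mulVec_smul, Matrix.mulVec_zero]
    ext i
    have := (hpx _).mp (hWv i)
    simp only [Pi.smul_apply, smul_eq_mul, Pi.zero_apply]
    rw [mul_comm]; exact this
  have h5 := hW h4
  apply hv'
  ext i
  have h6 : x * v i = 0 := by
    have := congrFun h5 i
    simpa using this
  have h7 : v i ∈ p := (hpx _).mpr (by rw [mul_comm]; exact h6)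
  rw [← hv i]
  exact Ideal.Quotient.eq_zero_iff_mem.mpr h7

/-- McCoy's theorem: a square matrix over a commutative ring with injective `mulVec` has
determinant a non-zero-divisor. -/
theorem det_mem_nonZeroDivisors_of_injective {S : Type*} [CommRing S]
    {n : Type*} [Fintype n] [DecidableEq n]
    (W : Matrix n n S) (hW : Function.Injective W.mulVec) : W.det ∈ nonZeroDivisors S := by
  classical
  rw [mem_nonZeroDivisors_iff_right]
  intro y hy
  set s : Set S := Set.range (fun ij : n × n => W ij.1 ij.2) ∪ {y} with hs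
  have hsfin : s.Finite := (Set.finite_range _).union (Set.finite_singleton _)
  let S₀ := Algebra.adjoin ℤ s
  haveI : Algebra.FiniteType ℤ S₀ :=
    (Subalgebra.fg_iff_finiteType _).mp ⟨hsfin.toFinset, by simp [S₀]⟩
  haveI : IsNoetherianRing S₀ := Algebra.FiniteType.isNoetherianRing ℤ S₀
  let W₀ : Matrix n n S₀ := fun i j => ⟨W i j, Algebra.subset_adjoin (Or.inl ⟨(i, j), rfl⟩)⟩
  let y₀ : S₀ := ⟨y, Algebra.subset_adjoin (Or.inr rfl)⟩
  have hmv : ∀ v : n → S₀, ∀ i, ((W₀.mulVec v i : S₀) : S) = W.mulVec (fun j => (v j : S)) i := by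
    intro v i
    simp only [Matrix.mulVec, dotProduct, W₀]
    push_cast
    rfl
  have hW₀ : Function.Injective W₀.mulVec := by
    intro v w hvw
    have h1 : W.mulVec (fun j => (v j : S)) = W.mulVec (fun j => (w j : S)) := by
      ext i
      rw [← hmv, ← hmv, hvw]
    have h2 := hW h1
    ext i
    exact congrFun h2 i
  have h0 := det_mem_nonZeroDivisors_of_injective_noeth W₀ hW₀
  have hdet : ((W₀.det : S₀) : S) = W.det := by
    have h3 := RingHom.map_det (S₀.val : S₀ →+* S) W₀
    rw [show ((W₀.det : S₀) : S) = (S₀.val : S₀ →+* S) W₀.det from rfl, h3]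
    congr 1
  have h8 : y₀ * W₀.det = 0 := by
    apply Subtype.ext
    push_cast
    rw [hdet]
    exact hy
  have h9 := (mem_nonZeroDivisors_iff_right.mp h0) y₀ h8
  exact congrArg Subtype.val h9

end McCoy

section DetInt

/-- If a square matrix over a domain `D` is integral over `D₀` (as an element of the matrix
algebra), then its determinant is integral over `D₀`. -/
theorem isIntegral_det_of_isIntegral {D₀ D : Type*} [CommRing D₀] [CommRing D] [IsDomain D]
    [Algebra D₀ D] {n : Type*} [Fintype n] [DecidableEq n] (M : Matrix n n D)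
    (hM : IsIntegral D₀ M) : IsIntegral D₀ M.det := by
  classical
  obtain ⟨f, hfm, hf⟩ := hM
  let Ω := AlgebraicClosure (FractionRing D)
  let φ : D →+* Ω := (algebraMap (FractionRing D) Ω).comp (algebraMap D (FractionRing D))
  have hφ : Function.Injective φ :=
    (algebraMap (FractionRing D) Ω).injective.comp (IsFractionRing.injective D (FractionRing D))
  let ψ : D₀ →+* Ω := φ.comp (algebraMap D₀ D)
  let M' : Matrix n n Ω := φ.mapMatrix M
  let f' : Polynomial Ω := f.map ψ
  have hf'm : f'.Monic := hfm.map ψ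
  have hcomp : (φ.mapMatrix).comp (algebraMap D₀ (Matrix n n D)) =
      (algebraMap Ω (Matrix n n Ω)).comp ψ := by
    ext a i j
    simp only [RingHom.comp_apply, RingHom.mapMatrix_apply, Matrix.map_apply,
      Matrix.algebraMap_matrix_apply, ψ]
    split_ifs <;> simp [Algebra.algebraMap_self_apply]
  have haeval : Polynomial.aeval M' f' = 0 := by
    have h1 := Polynomial.hom_eval₂ f (algebraMap D₀ (Matrix n n D)) (φ.mapMatrix) M
    rw [hf, map_zero, hcomp] at h1
    rw [Polynomial.aeval_def, Polynomial.eval₂_map]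
    exact h1.symm
  have hsplit : M'.charpoly.Splits := IsAlgClosed.splits _
  have hroots : ∀ μ ∈ M'.charpoly.roots, f'.eval μ = 0 := by
    intro μ hμ
    have hroot : M'.charpoly.IsRoot μ := (Polynomial.mem_roots'.mp hμ).2
    rw [← Matrix.charpoly_toLin', ← Module.End.hasEigenvalue_iff_isRoot_charpoly] at hroot
    obtain ⟨v, hv⟩ := hroot.exists_hasEigenvector
    have h2 := Module.End.aeval_apply_of_hasEigenvector hv (p := f')
    have h3 : Polynomial.aeval (Matrix.toLin' M') f' = 0 := by
      have := Polynomial.aeval_algHom_apply (Matrix.toLinAlgEquiv' (R := Ω) (n := n)).toAlgHom M' f'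
      rw [haeval, map_zero] at this
      exact this
    rw [h3, LinearMap.zero_apply] at h2
    exact (smul_eq_zero.mp h2.symm).resolve_right hv.2
  letI : Algebra D₀ Ω := ψ.toAlgebra
  have hint : ∀ μ ∈ M'.charpoly.roots, IsIntegral D₀ μ := by
    intro μ hμ
    refine ⟨f, hfm, ?_⟩
    have := hroots μ hμ
    rwa [Polynomial.eval_map] at this
  have hdet : IsIntegral D₀ M'.det := by
    rw [Matrix.det_eq_prod_roots_charpoly_of_splits hsplit]
    exact IsIntegral.multiset_prod hint
  have hdet' : M'.det = φ M.det := (RingHom.map_det φ M).symm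
  rw [hdet'] at hdet
  let φa : D →ₐ[D₀] Ω := { φ with commutes' := fun _ => rfl }
  exact (isIntegral_algHom_iff φa hφ).mp hdet

end DetInt

section TensorBasis

variable (k K L R : Type*) [CommRing k] [CommRing K] [CommRing L] [CommRing R]
  [Algebra k K] [Algebra K L] [Algebra k L] [IsScalarTower k K L] [Algebra k R]

/-- `L ⊗ R` as an algebra over `K ⊗ R`. -/
@[reducible] noncomputable def algKL : Algebra (K ⊗[k] R) (L ⊗[k] R) :=
  (Algebra.TensorProduct.map (IsScalarTower.toAlgHom k K L) (AlgHom.id k R)).toRingHom.toAlgebra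

attribute [local instance] algKL

variable {k K L R}

theorem algKL_smul_def (x : K ⊗[k] R) (y : L ⊗[k] R) :
    x • y = (Algebra.TensorProduct.map (IsScalarTower.toAlgHom k K L) (AlgHom.id k R)) x * y := by
  rw [Algebra.smul_def]; rfl

theorem algKL_tmul_smul_tmul (c : K) (r : R) (l : L) (r' : R) :
    (c ⊗ₜ[k] r : K ⊗[k] R) • (l ⊗ₜ[k] r' : L ⊗[k] R) = (c • l) ⊗ₜ[k] (r * r') := by
  rw [algKL_smul_def, Algebra.TensorProduct.map_tmul, Algebra.TensorProduct.tmul_mul_tmul]
  simp [Algebra.smul_def]

variable {ι : Type*} [Fintype ι] [DecidableEq ι] (e : Module.Basis ι K L)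

/-- the `i`-th coordinate, as a `k`-linear map -/
noncomputable def coordK (i : ι) : L →ₗ[k] K := (e.coord i).restrictScalars k

/-- multiplication of the `i`-th basis vector by scalars, as a `k`-linear map -/
noncomputable def mulE (i : ι) : K →ₗ[k] L :=
  (LinearMap.toSpanSingleton K L (e i)).restrictScalars k

@[simp] theorem coordK_apply (i : ι) (l : L) : coordK (k := k) e i l = e.coord i l := rfl

@[simp] theorem mulE_apply (i : ι) (c : K) : mulE (k := k) e i c = c • e i := rfl

theorem coordK_comp_mulE (i j : ι) :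
    (coordK (k := k) e j) ∘ₗ (mulE (k := k) e i) = if i = j then LinearMap.id else 0 := by
  ext c
  simp only [LinearMap.comp_apply, mulE_apply, coordK_apply, map_smul, Module.Basis.coord_apply,
    Module.Basis.repr_self, smul_eq_mul]
  split_ifs with h
  · subst h; simp
  · simp [Finsupp.single_eq_of_ne' h]

theorem sum_mulE_comp_coordK :
    ∑ i, (mulE (k := k) e i) ∘ₗ (coordK (k := k) e i) = LinearMap.id := by
  ext l
  simp only [LinearMap.coe_sum, Finset.sum_apply, LinearMap.comp_apply, coordK_apply,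
    mulE_apply, Module.Basis.coord_apply, LinearMap.id_apply]
  exact e.sum_repr l

theorem smul_tmul_one_eq (x : K ⊗[k] R) (i : ι) :
    x • ((e i) ⊗ₜ[k] (1 : R) : L ⊗[k] R) = (mulE (k := k) e i).rTensor R x := by
  induction x using TensorProduct.induction_on with
  | zero => simp
  | tmul c r =>
    rw [algKL_tmul_smul_tmul, LinearMap.rTensor_tmul, mul_one, mulE_apply]
  | add x y hx hy => rw [add_smul, hx, hy, map_add]

/-- the `K ⊗ R`-linear map `(K ⊗ R)^ι → L ⊗ R` attached to the family `e i ⊗ 1` -/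
noncomputable def Xi : (ι → K ⊗[k] R) →ₗ[K ⊗[k] R] L ⊗[k] R :=
  Fintype.linearCombination (K ⊗[k] R) (fun i => ((e i) ⊗ₜ[k] (1 : R) : L ⊗[k] R))

/-- coordinates of an element of `L ⊗ R` -/
noncomputable def Theta (y : L ⊗[k] R) : ι → K ⊗[k] R :=
  fun i => (coordK (k := k) e i).rTensor R y

theorem Xi_apply (v : ι → K ⊗[k] R) :
    Xi e v = ∑ i, (mulE (k := k) e i).rTensor R (v i) := by
  rw [Xi, Fintype.linearCombination_apply]
  exact Finset.sum_congr rfl fun i _ => smul_tmul_one_eq e (v i) i

theorem Theta_Xi (v : ι → K ⊗[k] R) : Theta e (Xi e v) = v := by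
  funext j
  rw [Theta, Xi_apply, map_sum]
  have : ∀ i, (coordK (k := k) e j).rTensor R ((mulE (k := k) e i).rTensor R (v i)) =
      if i = j then v i else 0 := by
    intro i
    rw [← LinearMap.comp_apply, ← LinearMap.rTensor_comp, coordK_comp_mulE]
    split_ifs <;> simp
  simp [this]

theorem Xi_Theta (y : L ⊗[k] R) : Xi e (Theta e y) = y := by
  rw [Xi_apply]
  have : ∀ i, (mulE (k := k) e i).rTensor R (Theta e y i) =
      ((mulE (k := k) e i) ∘ₗ (coordK (k := k) e i)).rTensor R y := by
    intro i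
    rw [LinearMap.rTensor_comp, LinearMap.comp_apply]; rfl
  simp_rw [this]
  have h2 : ∑ i, ((mulE (k := k) e i) ∘ₗ (coordK (k := k) e i)).rTensor R y =
      (∑ i, (mulE (k := k) e i) ∘ₗ (coordK (k := k) e i)).rTensor R y := by
    have h3 : ∀ f : L →ₗ[k] L, f.rTensor R = LinearMap.rTensorHom R f := fun f => rfl
    simp_rw [h3]
    rw [map_sum, LinearMap.sum_apply]
  rw [h2, sum_mulE_comp_coordK, LinearMap.rTensor_id, LinearMap.id_apply]

theorem Xi_bijective : Function.Bijective (Xi (k := k) (R := R) e) :=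
  Function.bijective_iff_has_inverse.mpr ⟨Theta e, Theta_Xi e, Xi_Theta e⟩

/-- The basis `e i ⊗ 1` of `L ⊗ R` over `K ⊗ R`. -/
noncomputable def tensorBasis : Module.Basis ι (K ⊗[k] R) (L ⊗[k] R) :=
  Module.Basis.ofEquivFun (LinearEquiv.ofBijective (Xi (k := k) (R := R) e) (Xi_bijective e)).symm

theorem tensorBasis_repr (y : L ⊗[k] R) (i : ι) :
    (tensorBasis (k := k) (R := R) e).repr y i = (coordK (k := k) e i).rTensor R y := by
  rw [tensorBasis, Module.Basis.ofEquivFun_repr_apply]
  have h : (LinearEquiv.ofBijective (Xi (k := k) (R := R) e) (Xi_bijective e)).symm y =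
      Theta e y := by
    rw [LinearEquiv.symm_apply_eq]
    exact (Xi_Theta e y).symm
  rw [h]; rfl

theorem tensorBasis_apply (i : ι) :
    tensorBasis (k := k) (R := R) e i = ((e i) ⊗ₜ[k] (1 : R) : L ⊗[k] R) := by
  rw [tensorBasis, Module.Basis.coe_ofEquivFun]
  simp only [LinearEquiv.symm_symm, LinearEquiv.ofBijective_apply]
  rw [Xi, Fintype.linearCombination_apply]
  simp [Pi.single_apply]

theorem leftMulMatrix_tensorBasis_tmul (l : L) (r : R) (i j : ι) :
    Algebra.leftMulMatrix (tensorBasis (k := k) (R := R) e) (l ⊗ₜ[k] r) i j =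
      (Algebra.leftMulMatrix e l i j) ⊗ₜ[k] r := by
  rw [Algebra.leftMulMatrix_eq_repr_mul, Algebra.leftMulMatrix_eq_repr_mul, tensorBasis_repr,
    tensorBasis_apply, Algebra.TensorProduct.tmul_mul_tmul, LinearMap.rTensor_tmul, mul_one]
  rfl

end TensorBasis

section NormMem

variable {k A K L R : Type*} [CommRing k] [CommRing A] [IsDomain A] [IsIntegrallyClosed A]
  [Field K] [CommRing L] [CommRing R]
  [Algebra k A] [Algebra A K] [IsFractionRing A K] [Algebra k K] [IsScalarTower k A K]
  [Algebra K L] [Algebra A L] [IsScalarTower A K L] [Algebra k L] [IsScalarTower k K L]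
  [Algebra k R]

attribute [local instance] algKL
attribute [local instance] MvPolynomial.algebraMvPolynomial

open scoped IsMulCommutative in
theorem norm_sum_tmul_mem_range {ι : Type*} [Fintype ι] [DecidableEq ι] (e : Module.Basis ι K L)
    (s : Finset (L × R)) (hs : ∀ t ∈ s, IsIntegral A t.1) :
    Algebra.norm (K ⊗[k] R) (∑ t ∈ s, (t.1 ⊗ₜ[k] t.2 : L ⊗[k] R)) ∈
      Set.range (Algebra.TensorProduct.map (IsScalarTower.toAlgHom k A K) (AlgHom.id k R)) := by
  classical
  let PK := MvPolynomial s K
  let PA := MvPolynomial s A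
  let T := Matrix ι ι PK
  let ρ : L →+* T := ((MvPolynomial.C : K →+* PK).mapMatrix).comp
    (Algebra.leftMulMatrix e : L →ₐ[K] Matrix ι ι K).toRingHom
  have hρ_apply : ∀ (l : L) (i j : ι), ρ l i j = MvPolynomial.C (Algebra.leftMulMatrix e l i j) :=
    fun l i j => rfl
  have hρA : ρ.comp (algebraMap A L) =
      (algebraMap PA T).comp (MvPolynomial.C : A →+* PA) := by
    refine RingHom.ext fun a => Matrix.ext fun i j => ?_
    simp only [RingHom.comp_apply, hρ_apply]
    rw [IsScalarTower.algebraMap_apply A K L, AlgHom.commutes, Matrix.algebraMap_matrix_apply]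
    show _ = (algebraMap PA (Matrix ι ι PK)) (MvPolynomial.C a) i j
    rw [Matrix.algebraMap_matrix_apply]
    have h0 : algebraMap PA PK (MvPolynomial.C a) = MvPolynomial.C (algebraMap A K a) :=
      MvPolynomial.map_C _ _
    rw [h0]
    split_ifs <;> simp
  let m : s → T := fun t => ρ t.1.1
  have hm_int : ∀ t : s, IsIntegral PA (m t) := by
    intro t
    obtain ⟨f, hfm, hf⟩ := hs t.1 t.2
    refine ⟨f.map (MvPolynomial.C : A →+* PA), hfm.map _, ?_⟩
    rw [Polynomial.eval₂_map, ← hρA]
    have := Polynomial.hom_eval₂ f (algebraMap A L) ρ t.1.1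
    rw [hf, map_zero] at this
    exact this.symm
  have hcomm : ∀ a ∈ Set.range m, ∀ b ∈ Set.range m, a * b = b * a := by
    rintro _ ⟨t, rfl⟩ _ ⟨t', rfl⟩
    simp only [m]
    rw [← map_mul, ← map_mul, mul_comm]
  let Mpoly : T := ∑ t : s, (MvPolynomial.X t : PK) • m t
  have hsmul : ∀ t : s, (MvPolynomial.X t : PK) • m t =
      algebraMap PA T (MvPolynomial.X t) * m t := by
    intro t
    refine Matrix.ext fun i j => ?_
    rw [Matrix.smul_apply, Matrix.algebraMap_eq_diagonal, Matrix.diagonal_mul]
    have h0 : algebraMap PA PK (MvPolynomial.X t) = MvPolynomial.X t := MvPolynomial.map_X _ _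
    simp only [Pi.algebraMap_apply, h0, smul_eq_mul]
  have hMint : IsIntegral PA Mpoly := by
    let 𝒮 := Algebra.adjoin PA (Set.range m)
    have : IsMulCommutative 𝒮 := Algebra.isMulCommutative_adjoin PA hcomm
    let mt : s → 𝒮 := fun t => ⟨m t, Algebra.subset_adjoin ⟨t, rfl⟩⟩
    have h1 : ∀ t, IsIntegral PA (mt t) := fun t =>
      (isIntegral_algHom_iff 𝒮.val Subtype.val_injective).mp (hm_int t)
    have h2 : IsIntegral PA (∑ t : s, algebraMap PA 𝒮 (MvPolynomial.X t) * mt t) :=
      IsIntegral.sum (R := PA) (A := 𝒮) _ fun t _ =>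
        (isIntegral_algebraMap (R := PA) (A := 𝒮)).mul (h1 t)
    have h3 := h2.map 𝒮.val
    have h4 : 𝒮.val (∑ t : s, algebraMap PA 𝒮 (MvPolynomial.X t) * mt t) = Mpoly := by
      rw [map_sum]
      refine Finset.sum_congr rfl fun t _ => ?_
      rw [map_mul, AlgHom.commutes, hsmul]
      rfl
    rwa [h4] at h3
  have hGint : IsIntegral PA Mpoly.det := isIntegral_det_of_isIntegral Mpoly hMint
  have hcoeff : ∀ n, IsIntegral A (Mpoly.det.coeff n) :=
    MvPolynomial.isIntegral_iff_isIntegral_coeff.mp hGint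
  have hrange : Mpoly.det ∈ Set.range (MvPolynomial.map (algebraMap A K) : PA → PK) := by
    rw [MvPolynomial.mem_range_map_iff_coeffs_subset]
    intro c hc
    rw [Finset.mem_coe, MvPolynomial.mem_coeffs_iff] at hc
    obtain ⟨n, -, rfl⟩ := hc
    exact (IsIntegrallyClosed.isIntegral_iff (K := K)).mp (hcoeff n)
  obtain ⟨GA, hGA⟩ := hrange
  let ev : PK →+* K ⊗[k] R := MvPolynomial.eval₂Hom
    (Algebra.TensorProduct.includeLeftRingHom : K →+* K ⊗[k] R)
    (fun t : s => (1 : K) ⊗ₜ[k] t.1.2)
  let evA : PA →+* A ⊗[k] R := MvPolynomial.eval₂Hom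
    (Algebra.TensorProduct.includeLeftRingHom : A →+* A ⊗[k] R)
    (fun t : s => (1 : A) ⊗ₜ[k] t.1.2)
  have hev : ev.comp (MvPolynomial.map (algebraMap A K)) =
      (Algebra.TensorProduct.map (IsScalarTower.toAlgHom k A K) (AlgHom.id k R)).toRingHom.comp
        evA := by
    apply MvPolynomial.ringHom_ext
    · intro a
      simp [ev, evA]
      rw [MvPolynomial.map_C, MvPolynomial.eval₂Hom_C]
      rfl
    · intro t
      simp [ev, evA]
      rw [MvPolynomial.map_X, MvPolynomial.eval₂Hom_X']
  have hD1 : ev.mapMatrix Mpoly =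
      Algebra.leftMulMatrix (tensorBasis (k := k) (R := R) e)
        (∑ t ∈ s, (t.1 ⊗ₜ[k] t.2 : L ⊗[k] R)) := by
    ext i j
    rw [map_sum, Matrix.sum_apply, ← Finset.sum_coe_sort s]
    simp only [RingHom.mapMatrix_apply, Matrix.map_apply, Mpoly, Matrix.sum_apply,
      Matrix.smul_apply, map_sum, smul_eq_mul, map_mul]
    refine Finset.sum_congr rfl fun t _ => ?_
    rw [leftMulMatrix_tensorBasis_tmul]
    simp only [m, ev]
    have h5 : ((MvPolynomial.X t : PK) • ρ t.1.1) i j =
        MvPolynomial.X t * MvPolynomial.C (Algebra.leftMulMatrix e t.1.1 i j) := by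
      rw [← hρ_apply]; rfl
    rw [h5, map_mul, MvPolynomial.eval₂Hom_X', MvPolynomial.eval₂Hom_C]
    show ((1 : K) ⊗ₜ[k] t.1.2) * ((Algebra.leftMulMatrix e t.1.1 i j) ⊗ₜ[k] (1 : R)) = _
    rw [Algebra.TensorProduct.tmul_mul_tmul, one_mul, mul_one]
  rw [Algebra.norm_eq_matrix_det (tensorBasis (k := k) (R := R) e), ← hD1, ← RingHom.map_det,
    ← hGA]
  refine ⟨evA GA, ?_⟩
  have := congrArg (fun φ => φ GA) hev
  simp only [RingHom.comp_apply] at this
  exact this.symm

end NormMem

section RegNorm

variable {S S' : Type*} [CommRing S] [CommRing S'] [Algebra S S'] {ι : Type*} [Fintype ι]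
  [DecidableEq ι] (bS : Module.Basis ι S S')

include bS in
/-- In a finite free algebra, the norm of a non-zero-divisor is a non-zero-divisor. -/
theorem norm_mem_nonZeroDivisors_of_mem (x : S') (hx : x ∈ nonZeroDivisors S') :
    Algebra.norm S x ∈ nonZeroDivisors S := by
  rw [Algebra.norm_eq_matrix_det bS]
  apply det_mem_nonZeroDivisors_of_injective
  intro v w hvw
  have hv : ⇑(bS.repr (bS.equivFun.symm v)) = v := by
    rw [← Module.Basis.equivFun_apply]; exact bS.equivFun.apply_symm_apply v
  have hw : ⇑(bS.repr (bS.equivFun.symm w)) = w := by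
    rw [← Module.Basis.equivFun_apply]; exact bS.equivFun.apply_symm_apply w
  rw [← hv, ← hw, Algebra.leftMulMatrix_mulVec_repr, Algebra.leftMulMatrix_mulVec_repr] at hvw
  have h1 : x * bS.equivFun.symm v = x * bS.equivFun.symm w :=
    bS.repr.injective (DFunLike.coe_injective hvw)
  have h2 : bS.equivFun.symm v = bS.equivFun.symm w :=
    (isRegular_iff_mem_nonZeroDivisors.mpr hx).left h1
  exact bS.equivFun.symm.injective h2

include bS in
/-- In a finite free algebra, an element whose norm is a non-zero-divisor is a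
non-zero-divisor. -/
theorem mem_nonZeroDivisors_of_norm_mem (x : S') (hx : Algebra.norm S x ∈ nonZeroDivisors S) :
    x ∈ nonZeroDivisors S' := by
  rw [Algebra.norm_eq_matrix_det bS] at hx
  have hinj := Matrix.mulVec_injective_of_det_mem_nonZeroDivisors hx
  rw [mem_nonZeroDivisors_iff_right]
  intro y hy
  have h1 : (Algebra.leftMulMatrix bS x).mulVec ⇑(bS.repr y) =
      (Algebra.leftMulMatrix bS x).mulVec ⇑(bS.repr 0) := by
    rw [Algebra.leftMulMatrix_mulVec_repr, Algebra.leftMulMatrix_mulVec_repr, mul_comm, hy,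
      mul_zero]
  have h2 := hinj h1
  have h3 := bS.repr.injective (DFunLike.coe_injective h2)
  exact h3

end RegNorm

section IntClosure

variable {k A K L R : Type*} [Field k] [CommRing A] [IsDomain A] [Algebra k A]
  [Field K] [Algebra A K] [IsFractionRing A K]
  [Field L] [Algebra K L] [FiniteDimensional K L] [Algebra A L] [IsScalarTower A K L]
  [Algebra k L] [IsScalarTower k A L]
  [CommRing R] [Algebra k R]

variable (k A L R) in
/-- the map `B ⊗ R → L ⊗ R`, `B` the integral closure of `A` in `L` -/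
noncomputable abbrev iotaL : (integralClosure A L) ⊗[k] R →ₐ[k] L ⊗[k] R :=
  Algebra.TensorProduct.map ((integralClosure A L).val.restrictScalars k) (AlgHom.id k R)

omit [IsDomain A] [FiniteDimensional K L] in
theorem iotaL_injective : Function.Injective (iotaL k A L R) := by
  have h : ⇑(iotaL k A L R) =
      ⇑(LinearMap.rTensor R ((integralClosure A L).val.restrictScalars k).toLinearMap) := by
    funext x
    induction x using TensorProduct.induction_on with
    | zero => simp
    | tmul b r => simp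
    | add x y hx hy => rw [map_add, map_add, hx, hy]
  rw [h]
  exact Module.Flat.rTensor_preserves_injective_linearMap _ Subtype.val_injective

include K in
theorem algebraMap_ne_zero' {a : A} (ha : a ≠ 0) : algebraMap A L a ≠ 0 := by
  rw [IsScalarTower.algebraMap_apply A K L]
  intro h
  have h1 := (algebraMap K L).injective (h.trans (map_zero _).symm)
  exact ha ((IsFractionRing.injective A K) (h1.trans (map_zero _).symm))

include K in
/-- Clearing denominators: any element of `L ⊗ R` has a multiple by some `a ⊗ 1`, `a ≠ 0` in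
`A`, lying in the image of `B ⊗ R`. -/
theorem exists_mul_mem_range (w : L ⊗[k] R) :
    ∃ a : A, a ≠ 0 ∧
      ((algebraMap A L a) ⊗ₜ[k] (1 : R) : L ⊗[k] R) * w ∈ Set.range (iotaL k A L R) := by
  induction w using TensorProduct.induction_on with
  | zero => exact ⟨1, one_ne_zero, 0, by simp⟩
  | tmul l r =>
    haveI : Algebra.IsAlgebraic K L := Algebra.IsAlgebraic.of_finite K L
    have halg : IsAlgebraic A l :=
      (IsFractionRing.isAlgebraic_iff A K L).mpr (Algebra.IsAlgebraic.isAlgebraic l)
    obtain ⟨a, ha, hint⟩ := halg.exists_integral_multiple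
    refine ⟨a, ha, ((⟨a • l, hint⟩ : integralClosure A L) ⊗ₜ[k] r), ?_⟩
    rw [Algebra.TensorProduct.map_tmul, Algebra.TensorProduct.tmul_mul_tmul, one_mul]
    simp [Algebra.smul_def]
  | add x y hx hy =>
    obtain ⟨a, ha, x', hx'⟩ := hx
    obtain ⟨b, hb, y', hy'⟩ := hy
    refine ⟨a * b, mul_ne_zero ha hb,
      ((algebraMap A (integralClosure A L) b) ⊗ₜ[k] (1 : R)) * x' +
        ((algebraMap A (integralClosure A L) a) ⊗ₜ[k] (1 : R)) * y', ?_⟩
    rw [map_add, map_mul, map_mul, hx', hy', Algebra.TensorProduct.map_tmul,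
      Algebra.TensorProduct.map_tmul]
    have h1 : ((algebraMap A L (a * b)) ⊗ₜ[k] (1 : R) : L ⊗[k] R) =
        ((algebraMap A L a) ⊗ₜ[k] (1 : R)) * ((algebraMap A L b) ⊗ₜ[k] (1 : R)) := by
      rw [Algebra.TensorProduct.tmul_mul_tmul, map_mul, mul_one]
    have h2 : ∀ c : A, ((integralClosure A L).val.restrictScalars k)
        (algebraMap A (integralClosure A L) c) = algebraMap A L c := fun c => rfl
    rw [h1, h2, h2, map_one]
    ring

include K in
/-- A non-zero-divisor of `B ⊗ R` stays a non-zero-divisor in `L ⊗ R`. -/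
theorem iotaL_mem_nonZeroDivisors (b : (integralClosure A L) ⊗[k] R)
    (hb : b ∈ nonZeroDivisors ((integralClosure A L) ⊗[k] R)) :
    iotaL k A L R b ∈ nonZeroDivisors (L ⊗[k] R) := by
  rw [mem_nonZeroDivisors_iff_right]
  intro w hw
  obtain ⟨a, ha, w', hw'⟩ := exists_mul_mem_range (K := K) (k := k) (A := A) w
  have h1 : iotaL k A L R (w' * b) = 0 := by rw [map_mul, hw', mul_assoc, hw, mul_zero]
  have h2 : w' * b = 0 := iotaL_injective (by rw [h1, map_zero])
  have h3 : w' = 0 := (mem_nonZeroDivisors_iff_right.mp hb) w' h2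
  rw [h3, map_zero] at hw'
  have ha' : algebraMap A L a ≠ 0 := algebraMap_ne_zero' (K := K) ha
  have h4 : (((algebraMap A L a)⁻¹) ⊗ₜ[k] (1 : R) : L ⊗[k] R) *
      (((algebraMap A L a) ⊗ₜ[k] (1 : R)) * w) = w := by
    rw [← mul_assoc, Algebra.TensorProduct.tmul_mul_tmul, inv_mul_cancel₀ ha', one_mul,
      ← Algebra.TensorProduct.one_def, one_mul]
  rw [← h4, ← hw', mul_zero]

omit [IsDomain A] [FiniteDimensional K L] in
/-- An element of `B ⊗ R` which becomes a non-zero-divisor in `L ⊗ R` is a non-zero-divisor. -/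
theorem mem_nonZeroDivisors_of_iotaL (b : (integralClosure A L) ⊗[k] R)
    (hb : iotaL k A L R b ∈ nonZeroDivisors (L ⊗[k] R)) :
    b ∈ nonZeroDivisors ((integralClosure A L) ⊗[k] R) := by
  rw [mem_nonZeroDivisors_iff_right]
  intro w hw
  have h1 : iotaL k A L R w * iotaL k A L R b = 0 := by rw [← map_mul, hw, map_zero]
  have h2 := (mem_nonZeroDivisors_iff_right.mp hb) _ h1
  exact iotaL_injective (h2.trans (map_zero _).symm)

end IntClosure

end Groth.Agent.H80.NormBC
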