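import Mathlib
import Groth.Prelude.Def_CohB1

/-!
# (PSI) for S2448 (helper18): a graded surjection from the polynomial ring onto a graded algebra
generated by finitely many elements of degree one
-/

set_option autoImplicit false
universe u
open CategoryTheory CategoryTheory.Limits AlgebraicGeometry Opposite

namespace Groth.Agent.H80.PGE_PSI

theorem exists_gradedHom_of_gens {A S : Type u} [CommRing A] [CommRing S] [Algebra A S]
    (𝒜 : ℕ → Submodule A S) [GradedAlgebra 𝒜] (r : ℕ) (g : Fin (r + 1) → S)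
    (hg1 : ∀ i, g i ∈ 𝒜 1) (hgen : Algebra.adjoin A (Set.range g) = ⊤) :
    ∃ ψ : CohB1.polyGrading r A →+*ᵍ 𝒜, Function.Surjective ψ := by
  have key : ∀ (i : ℕ) (x : MvPolynomial (Fin (r + 1)) A), x ∈ CohB1.polyGrading r A i →
      MvPolynomial.aeval g x ∈ 𝒜 i := by
    intro i x hx
    have hx' : x.IsHomogeneous i := (MvPolynomial.mem_homogeneousSubmodule _ _).1 hx
    rw [x.as_sum, map_sum]
    refine Submodule.sum_mem _ fun m hm => ?_
    have hm' : MvPolynomial.coeff m x ≠ 0 := MvPolynomial.mem_support_iff.1 hm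
    have hdeg : Finsupp.weight (1 : Fin (r + 1) → ℕ) m = i := hx' hm'
    rw [MvPolynomial.aeval_monomial, ← Algebra.smul_def]
    refine Submodule.smul_mem _ _ ?_
    have hsum : ∑ j ∈ m.support, m j = i := by
      rw [← hdeg, Finsupp.weight_apply, Finsupp.sum]
      simp
    rw [← hsum, Finsupp.prod]
    refine SetLike.prod_mem_graded (A := 𝒜) (fun j => m j) (fun j => g j ^ m j) ?_
    intro j _
    have := SetLike.pow_mem_graded (A := 𝒜) (m j) (hg1 j)
    simpa using this
  refine ⟨{ toRingHom := (MvPolynomial.aeval g : MvPolynomial (Fin (r + 1)) A →ₐ[A] S).toRingHom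
            map_mem := fun {i x} hx => key i x hx }, ?_⟩
  intro s
  have hs : s ∈ Algebra.adjoin A (Set.range g) := by rw [hgen]; trivial
  rw [Algebra.adjoin_range_eq_range_aeval] at hs
  obtain ⟨p, hp⟩ := hs
  exact ⟨p, hp⟩

end Groth.Agent.H80.PGE_PSI
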