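import Mathlib

set_option autoImplicit false
universe u

namespace Groth.Agent.H80.PrimHopf

open TensorProduct Coalgebra

section Sep
variable {k : Type*} [Field k] {A : Type*} [AddCommGroup A] [Module k A] [FiniteDimensional k A]

/-- functionals `φ ⊗ ψ` separate the points of `A ⊗ A` -/
lemma tensor_eq_zero_of_forall (t : A ⊗[k] A)
    (h : ∀ φ ψ : A →ₗ[k] k, LinearMap.mul' k k (TensorProduct.map φ ψ t) = 0) : t = 0 := by
  classical
  let b := Module.finBasis k A
  have key : ∀ (i j : Fin (Module.finrank k A)) (s : A ⊗[k] A),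
      (b.tensorProduct b).repr s (i, j) =
        LinearMap.mul' k k (TensorProduct.map (b.coord i) (b.coord j) s) := by
    intro i j s
    induction s using TensorProduct.induction_on with
    | zero => simp
    | tmul m n =>
      rw [Module.Basis.tensorProduct_repr_tmul_apply, TensorProduct.map_tmul,
        LinearMap.mul'_apply, smul_eq_mul, mul_comm]
      rfl
    | add x y hx hy => rw [map_add, Finsupp.add_apply, hx, hy, map_add, map_add]
  have h0 : (b.tensorProduct b).repr t = 0 := by
    ext ⟨i, j⟩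
    rw [key, h]
    rfl
  exact (LinearEquiv.map_eq_zero_iff _).mp h0

end Sep

section Hopf
variable (k : Type u) [Field k] {A : Type u} [CommRing A] [HopfAlgebra k A]

/-- primitive elements -/
def IsPrim (x : A) : Prop :=
  Coalgebra.comul (R := k) x = x ⊗ₜ[k] (1 : A) + (1 : A) ⊗ₜ[k] x

variable {k}

lemma IsPrim.antipode {x : A} (hx : IsPrim k x) (hε : Coalgebra.counit (R := k) x = 0) :
    HopfAlgebra.antipode k x = -x := by
  have h := HopfAlgebra.mul_antipode_rTensor_comul_apply (R := k) x
  rw [hx, map_add, LinearMap.rTensor_tmul, LinearMap.rTensor_tmul, map_add,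
    LinearMap.mul'_apply, LinearMap.mul'_apply, HopfAlgebra.antipode_one, mul_one, one_mul, hε,
    map_zero] at h
  exact eq_neg_of_add_eq_zero_left h

lemma IsPrim.pow_char {x : A} (hx : IsPrim k x) (p : ℕ) [Fact p.Prime] [CharP k p] :
    IsPrim k (x ^ p) := by
  have hnt : Nontrivial (A ⊗[k] A) := by
    let f : A ⊗[k] A →ₐ[k] k := Algebra.TensorProduct.lift (Bialgebra.counitAlgHom k A)
      (Bialgebra.counitAlgHom k A) (fun _ _ => Commute.all _ _)
    exact (f : A ⊗[k] A →+* k).domain_nontrivial
  have hchar : CharP (A ⊗[k] A) p :=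
    charP_of_injective_algebraMap (algebraMap k (A ⊗[k] A)).injective p
  unfold IsPrim at hx ⊢
  have h1 : Coalgebra.comul (R := k) (x ^ p) = (Coalgebra.comul (R := k) x) ^ p :=
    map_pow (Bialgebra.comulAlgHom k A) x p
  rw [h1, hx, add_pow_char, Algebra.TensorProduct.tmul_pow, Algebra.TensorProduct.tmul_pow,
    one_pow]

lemma IsPrim.pow_char_pow {x : A} (hx : IsPrim k x) (p : ℕ) [Fact p.Prime] [CharP k p] (m : ℕ) :
    IsPrim k (x ^ p ^ m) := by
  induction m with
  | zero => simpa using hx
  | succ m ih =>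
    rw [pow_succ, pow_mul]
    exact ih.pow_char p

/-- the ideal generated by a primitive element is a Hopf ideal -/
lemma IsPrim.isHopfIdeal_span {x : A} (hx : IsPrim k x) (hε : Coalgebra.counit (R := k) x = 0) :
    (Ideal.span ({x} : Set A)).IsHopfIdeal k := by
  refine @Ideal.IsHopfIdeal.mk k A _ _ _ (Ideal.span ({x} : Set A)) ⟨?_, ?_⟩ ?_
  · intro z hz
    obtain ⟨a, rfl⟩ := Ideal.mem_span_singleton'.mp hz
    have h1 : Coalgebra.counit (R := k) (a * x) =
        Bialgebra.counitAlgHom k A a * Bialgebra.counitAlgHom k A x :=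
      map_mul (Bialgebra.counitAlgHom k A) a x
    rw [h1]
    have h2 : Bialgebra.counitAlgHom k A x = 0 := hε
    rw [h2, mul_zero]
  · intro z hz
    obtain ⟨a, rfl⟩ := Ideal.mem_span_singleton'.mp hz
    have h1 : Coalgebra.comul (R := k) (a * x) =
        Bialgebra.comulAlgHom k A a * Bialgebra.comulAlgHom k A x :=
      map_mul (Bialgebra.comulAlgHom k A) a x
    have h2 : Bialgebra.comulAlgHom k A x = x ⊗ₜ[k] (1 : A) + (1 : A) ⊗ₜ[k] x := hx
    have h3 : (Algebra.TensorProduct.map (Ideal.Quotient.mkₐ k (Ideal.span ({x} : Set A)))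
        (Ideal.Quotient.mkₐ k (Ideal.span ({x} : Set A))))
        (Bialgebra.comulAlgHom k A a * Bialgebra.comulAlgHom k A x) = 0 := by
      rw [map_mul, h2, map_add, Algebra.TensorProduct.map_tmul, Algebra.TensorProduct.map_tmul]
      have h4 : Ideal.Quotient.mkₐ k (Ideal.span ({x} : Set A)) x = 0 :=
        Ideal.Quotient.eq_zero_iff_mem.mpr (Ideal.mem_span_singleton_self x)
      rw [h4, TensorProduct.zero_tmul, TensorProduct.tmul_zero, add_zero, mul_zero]
    rw [h1]
    exact h3
  · intro z hz
    obtain ⟨a, rfl⟩ := Ideal.mem_span_singleton'.mp hz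
    have h1 : HopfAlgebra.antipode k (a * x) =
        HopfAlgebra.antipodeAlgHom k A a * HopfAlgebra.antipodeAlgHom k A x :=
      map_mul (HopfAlgebra.antipodeAlgHom k A) a x
    have h2 : HopfAlgebra.antipodeAlgHom k A x = -x := hx.antipode hε
    rw [h1, h2, mul_neg]
    exact neg_mem (Ideal.mem_span_singleton'.mpr ⟨_, rfl⟩)

end Hopf

section Nilp
variable {k : Type u} [Field k] {A : Type u} [CommRing A] [HopfAlgebra k A]

/-- powers of a nilpotent element below the nilpotency order are independent -/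
lemma linearIndependent_pow_of_nilpotent {y : A} {n : ℕ} (hn : y ^ n = 0)
    (hn' : y ^ (n - 1) ≠ 0) :
    LinearIndependent k (fun i : Fin n => y ^ (i : ℕ)) := by
  rw [Fintype.linearIndependent_iff]
  intro c hc
  have key : ∀ m : ℕ, ∀ i : Fin n, (i : ℕ) = m → c i = 0 := by
    intro m
    induction m using Nat.strong_induction_on with
    | _ m ih =>
      intro i him
      have hi := i.2
      have h1 : y ^ (n - 1 - m) * ∑ j, c j • y ^ (j : ℕ) = 0 := by rw [hc, mul_zero]
      rw [Finset.mul_sum, Finset.sum_eq_single i] at h1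
      · rw [mul_smul_comm, ← pow_add, him, Nat.sub_add_cancel (by omega : m ≤ n - 1)] at h1
        exact (smul_eq_zero.mp h1).resolve_right hn'
      · intro j _ hji
        rw [mul_smul_comm, ← pow_add]
        have hne : (j : ℕ) ≠ (i : ℕ) := fun h => hji (Fin.ext h)
        rcases lt_or_gt_of_ne hne with hlt | hgt
        · rw [ih j (by omega) j rfl, zero_smul]
        · have h2 : y ^ (n - 1 - m + (j : ℕ)) = 0 :=
            pow_eq_zero_of_le (by omega) hn
          rw [h2, smul_zero]
      · intro h; exact absurd (Finset.mem_univ _) h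
  exact fun i => key i i rfl

lemma IsPrim.linearIndependent_pow {y : A} (hy : IsPrim k y) (hy0 : y ≠ 0) (p : ℕ)
    [Fact p.Prime] [CharP k p] (hyp : y ^ p = 0) :
    LinearIndependent k (fun i : Fin p => y ^ (i : ℕ)) := by
  classical
  have hp : p.Prime := Fact.out
  have hnt : Nontrivial A := ⟨⟨y, 0, hy0⟩⟩
  have hex : ∃ n, y ^ n = 0 := ⟨p, hyp⟩
  set n := Nat.find hex with hndef
  have hn : y ^ n = 0 := Nat.find_spec hex
  have hnp : n ≤ p := Nat.find_min' hex hyp
  have hn2 : 2 ≤ n := by
    by_contra hlt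
    push Not at hlt
    have h01 : n = 0 ∨ n = 1 := by omega
    rcases h01 with h0 | h1
    · rw [h0, pow_zero] at hn; exact one_ne_zero hn
    · rw [h1, pow_one] at hn; exact hy0 hn
  have hn' : y ^ (n - 1) ≠ 0 := fun h => Nat.find_min hex (by omega : n - 1 < n) h
  have hli := linearIndependent_pow_of_nilpotent (k := k) hn hn'
  suffices hnp' : n = p by
    have hli' := hli
    rw [hnp'] at hli'
    exact hli'
  by_contra hne
  have hlt : n < p := lt_of_le_of_ne hnp hne
  -- dual functionals
  obtain ⟨g, hg⟩ := LinearMap.exists_leftInverse_of_injective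
    (Finsupp.linearCombination k (fun i : Fin n => y ^ (i : ℕ))) (linearIndependent_iff_ker.mp hli)
  have hgy : ∀ i : Fin n, g (y ^ (i : ℕ)) = Finsupp.single i 1 := by
    intro i
    have h1 := LinearMap.congr_fun hg (Finsupp.single i 1)
    rw [LinearMap.comp_apply, Finsupp.linearCombination_single, one_smul] at h1
    exact h1
  let i1 : Fin n := ⟨1, by omega⟩
  let i2 : Fin n := ⟨n - 1, by omega⟩
  let φ : A →ₗ[k] k := (Finsupp.lapply i1) ∘ₗ g
  let ψ : A →ₗ[k] k := (Finsupp.lapply i2) ∘ₗ g
  have hφ : ∀ m, m ≤ n → φ (y ^ m) = if m = 1 then 1 else 0 := by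
    intro m hm
    rcases Nat.lt_or_ge m n with hlt' | hge
    · have := hgy ⟨m, hlt'⟩
      simp only [] at this
      show (g (y ^ m)) i1 = _
      rw [this, Finsupp.single_apply]
      simp only [Fin.ext_iff, i1]
    · have hmn : m = n := le_antisymm hm hge
      rw [hmn, hn, map_zero, if_neg (by omega)]
  have hψ : ∀ m, m ≤ n → ψ (y ^ m) = if m = n - 1 then 1 else 0 := by
    intro m hm
    rcases Nat.lt_or_ge m n with hlt' | hge
    · have := hgy ⟨m, hlt'⟩
      simp only [] at this
      show (g (y ^ m)) i2 = _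
      rw [this, Finsupp.single_apply]
      simp only [Fin.ext_iff, i2]
    · have hmn : m = n := le_antisymm hm hge
      rw [hmn, hn, map_zero, if_neg (by omega)]
  have hφ1 : φ y = 1 := by
    have := hφ 1 (by omega)
    rwa [pow_one, if_pos rfl] at this
  have h1 : Coalgebra.comul (R := k) (y ^ n) = (Coalgebra.comul (R := k) y) ^ n :=
    map_pow (Bialgebra.comulAlgHom k A) y n
  have hy' : Coalgebra.comul (R := k) y = y ⊗ₜ[k] (1 : A) + (1 : A) ⊗ₜ[k] y := hy
  rw [hn, map_zero, hy', add_pow] at h1
  have h2 := congrArg (fun t => LinearMap.mul' k k (TensorProduct.map φ ψ t)) h1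
  simp only [map_zero, map_sum] at h2
  rw [Finset.sum_eq_single 1] at h2
  · rw [Algebra.TensorProduct.tmul_pow, Algebra.TensorProduct.tmul_pow, one_pow, one_pow,
      Algebra.TensorProduct.tmul_mul_tmul, mul_one, one_mul, pow_one, mul_comm, ← nsmul_eq_mul,
      map_nsmul, map_nsmul, TensorProduct.map_tmul, LinearMap.mul'_apply, hφ1,
      hψ (n - 1) (by omega), if_pos rfl, mul_one, Nat.choose_one_right,
      nsmul_eq_mul, mul_one] at h2
    have h3 : (p : ℕ) ∣ n := (CharP.cast_eq_zero_iff k p n).mp h2.symm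
    exact absurd (Nat.le_of_dvd (by omega) h3) (by omega)
  · intro m hm hm1
    rw [Finset.mem_range] at hm
    rw [Algebra.TensorProduct.tmul_pow, Algebra.TensorProduct.tmul_pow, one_pow, one_pow,
      Algebra.TensorProduct.tmul_mul_tmul, mul_one, one_mul, mul_comm, ← nsmul_eq_mul,
      map_nsmul, map_nsmul, TensorProduct.map_tmul, LinearMap.mul'_apply, hφ m (by omega),
      hψ (n - m) (by omega)]
    rcases Nat.eq_zero_or_pos m with h0 | hpos
    · rw [if_neg (by omega), zero_mul, smul_zero]
    · rw [if_neg hm1, zero_mul, smul_zero]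
  · intro h
    exact absurd (Finset.mem_range.mpr (by omega)) h

lemma span_pow_eq_top {y : A} (p : ℕ) (hyp : y ^ p = 0)
    (hker : RingHom.ker (Bialgebra.counitAlgHom k A) = Ideal.span ({y} : Set A)) :
    Submodule.span k (Set.range fun i : Fin p => y ^ (i : ℕ)) = ⊤ := by
  have key : ∀ j, j ≤ p → ∀ a : A,
      y ^ (p - j) * a ∈ Submodule.span k (Set.range fun i : Fin p => y ^ (i : ℕ)) := by
    intro j
    induction j with
    | zero =>
      intro _ a
      rw [Nat.sub_zero, hyp, zero_mul]
      exact zero_mem _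
    | succ j ih =>
      intro hj a
      have h1 : a - algebraMap k A (Bialgebra.counitAlgHom k A a) ∈
          RingHom.ker (Bialgebra.counitAlgHom k A) := by
        rw [RingHom.mem_ker, map_sub, AlgHom.commutes]; simp
      rw [hker] at h1
      obtain ⟨b, hb⟩ := Ideal.mem_span_singleton'.mp h1
      have h2 : y ^ (p - (j + 1)) * a = (Bialgebra.counitAlgHom k A a) • y ^ (p - (j + 1)) +
          y ^ (p - j) * b := by
        have h3 : a = algebraMap k A (Bialgebra.counitAlgHom k A a) + b * y := by
          rw [hb]; ring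
        have h4 : p - j = p - (j + 1) + 1 := by omega
        conv_lhs => rw [h3]
        rw [h4, pow_succ, Algebra.smul_def]
        ring
      rw [h2]
      refine add_mem (Submodule.smul_mem _ _ (Submodule.subset_span ⟨⟨p - (j + 1), by omega⟩, rfl⟩))
        (ih (by omega) b)
  rw [eq_top_iff]
  intro a _
  have := key p le_rfl a
  rwa [Nat.sub_self, pow_zero, one_mul] at this

end Nilp

section Dual
variable {k : Type u} [Field k] {A : Type u} [CommRing A] [HopfAlgebra k A]
  [Coalgebra.IsCocomm k A] [FiniteDimensional k A]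

/-- augmentation of the dual algebra: evaluation at `1` -/
noncomputable def aug : WithConv (A →ₗ[k] k) →+* k where
  toFun φ := φ.ofConv 1
  map_one' := by
    show (1 : WithConv (A →ₗ[k] k)) (1 : A) = 1
    rw [LinearMap.convOne_apply, Bialgebra.counit_one]; simp
  map_mul' φ ψ := by
    show (φ * ψ) (1 : A) = φ.ofConv 1 * ψ.ofConv 1
    rw [LinearMap.convMul_apply, Bialgebra.comul_one, Algebra.TensorProduct.one_def,
      TensorProduct.map_tmul, LinearMap.mul'_apply]
  map_zero' := rfl
  map_add' _ _ := rfl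

lemma aug_apply (φ : WithConv (A →ₗ[k] k)) : aug φ = φ.ofConv 1 := rfl

lemma aug_algebraMap (c : k) : aug (algebraMap k (WithConv (A →ₗ[k] k)) c) = c := by
  show (algebraMap k (WithConv (A →ₗ[k] k)) c) (1 : A) = c
  rw [LinearMap.convAlgebraMap_apply, Bialgebra.counit_one]; simp

theorem exists_prim_of_isLocalRing_dual (hdual : IsLocalRing (WithConv (A →ₗ[k] k)))
    (hA : 1 < Module.finrank k A) :
    ∃ x : A, x ≠ 0 ∧ Coalgebra.counit (R := k) x = 0 ∧ IsPrim k x := by
  classical
  let e : WithConv (A →ₗ[k] k) ≃ₗ[k] (A →ₗ[k] k) := WithConv.linearEquiv k (A →ₗ[k] k)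
  have hfinD : Module.Finite k (WithConv (A →ₗ[k] k)) := Module.Finite.equiv e.symm
  have hnoeth : IsNoetherianRing (WithConv (A →ₗ[k] k)) :=
    IsNoetherianRing.of_finite k (WithConv (A →ₗ[k] k))
  have haug_surj : Function.Surjective (aug (k := k) (A := A)) :=
    fun c => ⟨algebraMap k _ c, aug_algebraMap c⟩
  set I : Ideal (WithConv (A →ₗ[k] k)) := RingHom.ker (aug (k := k) (A := A)) with hI
  have hImax : I.IsMaximal := RingHom.ker_isMaximal_of_surjective _ haug_surj
  have hIeq : I = IsLocalRing.maximalIdeal (WithConv (A →ₗ[k] k)) :=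
    IsLocalRing.eq_maximalIdeal hImax
  have hIne : I ≠ ⊥ := by
    intro hbot
    have hlt : Submodule.span k ({1} : Set A) < ⊤ := by
      rw [lt_top_iff_ne_top]
      intro htop
      have h1 : Module.finrank k (Submodule.span k ({1} : Set A)) ≤ 1 :=
        (finrank_span_le_card ({1} : Set A)).trans (by simp)
      rw [htop, finrank_top] at h1
      omega
    obtain ⟨f, hf0, hf⟩ := Submodule.exists_le_ker_of_lt_top _ hlt
    have h1 : WithConv.toConv f ∈ I := by
      rw [RingHom.mem_ker]
      show f 1 = 0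
      exact hf (Submodule.subset_span rfl)
    rw [hbot, Ideal.mem_bot] at h1
    exact hf0 (congrArg WithConv.ofConv h1)
  set W : Submodule k (WithConv (A →ₗ[k] k)) :=
    Submodule.span k {(1 : WithConv (A →ₗ[k] k))} ⊔ (I ^ 2).restrictScalars k with hW
  have hWlt : W < ⊤ := by
    rw [lt_top_iff_ne_top]
    intro htop
    apply hIne
    have hle : I ≤ I • I := by
      intro φ hφ
      have hφW : φ ∈ W := by rw [htop]; trivial
      obtain ⟨u, hu, η, hη, rfl⟩ := Submodule.mem_sup.mp hφW
      obtain ⟨c, rfl⟩ := Submodule.mem_span_singleton.mp hu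
      have hη' : η ∈ I ^ 2 := hη
      have hηI : η ∈ I := Ideal.pow_le_self two_ne_zero hη'
      have h1 : aug (c • (1 : WithConv (A →ₗ[k] k)) + η) = 0 := (RingHom.mem_ker).mp hφ
      rw [map_add, (RingHom.mem_ker).mp hηI, add_zero, Algebra.smul_def, mul_one,
        aug_algebraMap] at h1
      rw [h1, zero_smul, zero_add]
      rw [pow_two] at hη'
      exact hη'
    exact Submodule.eq_bot_of_le_smul_of_le_jacobson_bot I I (IsNoetherian.noetherian I) hle
      (by rw [hIeq, IsLocalRing.jacobson_eq_maximalIdeal ⊥ bot_ne_top])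
  obtain ⟨ξ, hξ0, hξ⟩ := Submodule.exists_le_ker_of_lt_top W hWlt
  let x : A := (Module.evalEquiv k A).symm (ξ ∘ₗ e.symm.toLinearMap)
  have hx : ∀ f : A →ₗ[k] k, f x = ξ (WithConv.toConv f) := by
    intro f
    show f ((Module.evalEquiv k A).symm (ξ ∘ₗ e.symm.toLinearMap)) = _
    rw [Module.apply_evalEquiv_symm_apply]; rfl
  have hxD : ∀ φ : WithConv (A →ₗ[k] k), φ.ofConv x = ξ φ := fun φ => hx φ.ofConv
  have hξ1 : ξ (1 : WithConv (A →ₗ[k] k)) = 0 :=
    hξ (Submodule.mem_sup_left (Submodule.mem_span_singleton_self 1))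
  refine ⟨x, ?_, ?_, ?_⟩
  · intro hx0
    apply hξ0
    ext φ
    rw [← hxD, hx0, map_zero]; rfl
  · have h1 := hxD 1
    rw [hξ1] at h1
    have h3 : (1 : WithConv (A →ₗ[k] k)).ofConv x = Coalgebra.counit (R := k) x := by
      show (1 : WithConv (A →ₗ[k] k)) x = _
      rw [LinearMap.convOne_apply]; rfl
    rw [← h3, h1]
  · unfold IsPrim
    rw [← sub_eq_zero]
    apply tensor_eq_zero_of_forall
    intro φ ψ
    rw [map_sub, map_sub, map_add, map_add, TensorProduct.map_tmul, TensorProduct.map_tmul,
      LinearMap.mul'_apply, LinearMap.mul'_apply]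
    have h1 : LinearMap.mul' k k (TensorProduct.map φ ψ (Coalgebra.comul (R := k) x)) =
        ξ (WithConv.toConv φ * WithConv.toConv ψ) := by
      rw [← hxD]; rfl
    rw [h1]
    have hmem : ∀ f : A →ₗ[k] k,
        WithConv.toConv f - (f 1) • (1 : WithConv (A →ₗ[k] k)) ∈ I := by
      intro f
      rw [RingHom.mem_ker, map_sub, Algebra.smul_def, mul_one, aug_algebraMap]
      show f 1 - f 1 = 0
      exact sub_self _
    have hprod : (WithConv.toConv φ - (φ 1) • (1 : WithConv (A →ₗ[k] k))) *
        (WithConv.toConv ψ - (ψ 1) • (1 : WithConv (A →ₗ[k] k))) ∈ W := by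
      refine Submodule.mem_sup_right ?_
      show _ ∈ I ^ 2
      rw [pow_two]
      exact Ideal.mul_mem_mul (hmem φ) (hmem ψ)
    have h2 := hξ hprod
    rw [LinearMap.mem_ker] at h2
    have h3 : (WithConv.toConv φ - (φ 1) • (1 : WithConv (A →ₗ[k] k))) *
        (WithConv.toConv ψ - (ψ 1) • (1 : WithConv (A →ₗ[k] k))) =
        WithConv.toConv φ * WithConv.toConv ψ - (ψ 1) • WithConv.toConv φ -
          (φ 1) • WithConv.toConv ψ + (φ 1 * ψ 1) • (1 : WithConv (A →ₗ[k] k)) := by
      simp only [sub_mul, mul_sub, smul_mul_assoc, mul_smul_comm, one_mul, mul_one]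
      module
    rw [h3, map_add, map_sub, map_sub, map_smul, map_smul, map_smul, hξ1, ← hx φ, ← hx ψ,
      smul_zero, add_zero, smul_eq_mul, smul_eq_mul] at h2
    linear_combination h2

end Dual

end Groth.Agent.H80.PrimHopf
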