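import Groth.Agent.H80.QuadLocal

set_option autoImplicit false
set_option linter.unusedSectionVars false

universe u

namespace Groth.Agent.H80.QuadEven

open Matrix Groth.Agent.H80.QuadMat Groth.Agent.H80.QuadPlane Groth.Agent.H80.QuadZar
  Groth.Agent.H80.QuadLocal

/-- The Zariski-local reduction: near a prime with plane data, a regular plane splits off. -/
theorem zar_reduce {A : Type u} [CommRing A] {ι : Type} [Fintype ι] [DecidableEq ι]
    (W : Matrix ι ι A) (p : Ideal A) [p.IsPrime] (v w : ι → A) (i k : ι) (hik : i ≠ k)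
    (hD : dsc W v w ∉ p) (hq : qf W v ∉ p) (hμ : v i * w k - v k * w i ∉ p) :
    ∃ s : A, s ∉ p ∧ ∃ (α β γ : Localization.Away s)
      (W' : Matrix {l : ι // l ≠ i ∧ l ≠ k} {l : ι // l ≠ i ∧ l ≠ k} (Localization.Away s)),
      IsUnit α ∧ IsUnit (β ^ 2 - 4 * α * γ) ∧
      Cong (W.map (algebraMap A (Localization.Away s))) (Matrix.fromBlocks (plane α β γ) 0 0 W') := by
  obtain ⟨s, hs⟩ : ∃ s : A, s = dsc W v w * qf W v * (v i * w k - v k * w i) := ⟨_, rfl⟩
  refine ⟨s, ?_, ?_⟩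
  · intro h
    rw [hs] at h
    rcases (Ideal.IsPrime.mul_mem_iff_mem_or_mem ‹p.IsPrime›).mp h with h1 | h1
    · rcases (Ideal.IsPrime.mul_mem_iff_mem_or_mem ‹p.IsPrime›).mp h1 with h2 | h2
      · exact hD h2
      · exact hq h2
    · exact hμ h1
  set φ := algebraMap A (Localization.Away s) with hφ
  have hsu0 : IsUnit (φ s) := IsLocalization.Away.algebraMap_isUnit s
  have hsu : IsUnit (φ (dsc W v w) * φ (qf W v) * φ (v i * w k - v k * w i)) := by
    rw [← map_mul, ← map_mul, ← hs]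
    exact hsu0
  have hu3 : IsUnit (φ (v i * w k - v k * w i)) := isUnit_of_mul_isUnit_right hsu
  have hu12 := isUnit_of_mul_isUnit_left hsu
  have hu1 : IsUnit (φ (dsc W v w)) := isUnit_of_mul_isUnit_left hu12
  have hu2 : IsUnit (φ (qf W v)) := isUnit_of_mul_isUnit_right hu12
  set e := splitEquiv i k hik with he
  set W₁ := (W.map φ).submatrix e.symm e.symm with hW₁
  set v₁ : Fin 2 ⊕ {l : ι // l ≠ i ∧ l ≠ k} → Localization.Away s := (φ ∘ v) ∘ e.symm with hv₁
  set w₁ : Fin 2 ⊕ {l : ι // l ≠ i ∧ l ≠ k} → Localization.Away s := (φ ∘ w) ∘ e.symm with hw₁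
  have hμ' : IsUnit (v₁ (Sum.inl 0) * w₁ (Sum.inl 1) - v₁ (Sum.inl 1) * w₁ (Sum.inl 0)) := by
    have : v₁ (Sum.inl 0) * w₁ (Sum.inl 1) - v₁ (Sum.inl 1) * w₁ (Sum.inl 0) =
        φ (v i * w k - v k * w i) := by
      rw [map_sub, map_mul, map_mul]
      rfl
    rw [this]
    exact hu3
  have hdsc : dsc W₁ v₁ w₁ = φ (dsc W v w) := by
    rw [hW₁, hv₁, hw₁, dsc_reindex, dsc_map]
  have hqf : qf W₁ v₁ = φ (qf W v) := by
    rw [hW₁, hv₁, qf_reindex, qf_map]
  obtain ⟨W', hW'⟩ := zar_step W₁ v₁ w₁ hμ' (hdsc ▸ hu1)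
  refine ⟨qf W₁ v₁, bf W₁ v₁ w₁, qf W₁ w₁, W', hqf ▸ hu2, ?_, (Cong.reindex (W.map φ) e).trans hW'⟩
  have : bf W₁ v₁ w₁ ^ 2 - 4 * qf W₁ v₁ * qf W₁ w₁ = dsc W₁ v₁ w₁ := rfl
  rw [this, hdsc]
  exact hu1

/-- `Fin 2 ≃ Unit ⊕ Unit`. -/
def finTwoSum : Fin 2 ≃ Unit ⊕ Unit where
  toFun := ![Sum.inl (), Sum.inr ()]
  invFun := Sum.elim (fun _ => 0) (fun _ => 1)
  left_inv a := by fin_cases a <;> rfl
  right_inv := by rintro (a | a) <;> rfl

theorem hyp_cong_splitMat (R : Type*) [CommRing R] : Cong (hyp R) (splitMat Unit R) := by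
  have h := Cong.reindex (hyp R) finTwoSum
  have h2 : (hyp R).submatrix finTwoSum.symm finTwoSum.symm = splitMat Unit R := by
    unfold splitMat hyp
    ext (i | i) (j | j) <;> simp [finTwoSum]
  rwa [h2] at h

theorem fromBlocks_map_zero {R S : Type*} [CommRing R] [CommRing S] (φ : R →+* S)
    {τ κ : Type*} (X : Matrix τ τ R) (Y : Matrix κ κ R) :
    (Matrix.fromBlocks X 0 0 Y).map φ = Matrix.fromBlocks (X.map φ) 0 0 (Y.map φ) := by
  rw [Matrix.fromBlocks_map]
  simp

/-- Étale-local splitting at a prime, by induction on the rank. -/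
theorem local_split : ∀ (n : ℕ) (A : Type u) [CommRing A] (ι : Type) [Fintype ι] [DecidableEq ι]
    (_ : Fintype.card ι = 2 * n) (W : Matrix ι ι A) (_ : IsUnit (pol W).det)
    (p : Ideal A) [p.IsPrime],
    ∃ (B : Type u) (_ : CommRing B) (φ : A →+* B), φ.Etale ∧
      (∃ q : Ideal B, q.IsPrime ∧ q.comap φ = p) ∧
      ∃ (J : Type) (_ : Fintype J) (_ : DecidableEq J), Fintype.card J = n ∧
        Cong (W.map φ) (splitMat J B) := by
  intro n
  induction n with
  | zero =>
    intro A _ ι _ _ hcard W _ p hp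
    have hempty : IsEmpty ι := Fintype.card_eq_zero_iff.mp (by simpa using hcard)
    refine ⟨A, inferInstance, RingHom.id A, RingHom.Etale.of_bijective Function.bijective_id,
      ⟨p, hp, Ideal.comap_id p⟩, Empty, inferInstance, inferInstance, by simp, ?_⟩
    refine ⟨0, 0, Subsingleton.elim _ _, Subsingleton.elim _ _, ?_⟩
    refine ⟨fun i => ?_, Subsingleton.elim _ _⟩
    rcases i with i | i <;> exact i.elim
  | succ n ih =>
    intro A _ ι _ _ hcard W hreg p hp
    have hcard1 : 1 < Fintype.card ι := by omega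
    have hdet : (pol W).det ∉ p := fun h => hp.ne_top (Ideal.eq_top_of_isUnit_mem _ h hreg)
    obtain ⟨v, w, i, k, hik, hD, hq, hμ⟩ := exists_plane_data W p hdet hcard1
    obtain ⟨s, hs, α, β, γ, W', hα, hD', hC1⟩ := zar_reduce W p v w i k hik hD hq hμ
    -- first stage: localization
    set φ₁ : A →+* Localization.Away s := algebraMap A (Localization.Away s) with hφ₁
    have hφ₁e : φ₁.Etale := by
      rw [hφ₁, RingHom.etale_algebraMap]
      exact Algebra.Etale.of_isLocalizationAway s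
    have hdisj : Disjoint (Submonoid.powers s : Set A) ↑p :=
      (Ideal.disjoint_powers_iff_notMem_of_isPrime s).mpr hs
    have hp₁ : (Ideal.map φ₁ p).IsPrime :=
      IsLocalization.isPrime_of_isPrime_disjoint (Submonoid.powers s) (Localization.Away s) p hp hdisj
    have hp₁c : (Ideal.map φ₁ p).comap φ₁ = p :=
      IsLocalization.under_map_of_isPrime_disjoint (Submonoid.powers s) (Localization.Away s) hp hdisj
    -- second stage: quadratic étale extension
    obtain ⟨A₂, _, φ₂, hφ₂e, hlift, hC2⟩ := exists_etale_cong_hyp α β γ hα hD'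
    obtain ⟨p₂, hp₂, hp₂c⟩ := hlift _ hp₁
    -- the complement is regular
    have hreg₁ : IsUnit (pol (W.map φ₁)).det := by
      rw [pol_map, ← RingHom.mapMatrix_apply, ← RingHom.map_det]
      exact hreg.map φ₁
    have hregW' : IsUnit (pol W').det :=
      isUnit_pol_right_of_fromBlocks (hC1.isUnit_pol hreg₁)
    have hregW'₂ : IsUnit (pol (W'.map φ₂)).det := by
      rw [pol_map, ← RingHom.mapMatrix_apply, ← RingHom.map_det]
      exact hregW'.map φ₂
    have hcardκ : Fintype.card {l : ι // l ≠ i ∧ l ≠ k} = 2 * n := by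
      have := card_compl_two i k hik
      omega
    obtain ⟨A₃, _, φ₃, hφ₃e, ⟨p₃, hp₃, hp₃c⟩, J, _, _, hJ, hC3⟩ :=
      @ih A₂ _ {l : ι // l ≠ i ∧ l ≠ k} _ _ hcardκ (W'.map φ₂) hregW'₂ p₂ hp₂
    refine ⟨A₃, inferInstance, φ₃.comp (φ₂.comp φ₁), ?_, ⟨p₃, hp₃, ?_⟩, Unit ⊕ J, inferInstance,
      inferInstance, ?_, ?_⟩
    · exact RingHom.Etale.stableUnderComposition _ _
        (RingHom.Etale.stableUnderComposition _ _ hφ₁e hφ₂e) hφ₃e
    · rw [← Ideal.comap_comap, ← Ideal.comap_comap, hp₃c, hp₂c, hp₁c]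
    · rw [Fintype.card_sum, hJ]
      simp [add_comm]
    · have e1 : W.map (φ₃.comp (φ₂.comp φ₁)) = ((W.map φ₁).map φ₂).map φ₃ := by
        ext a b
        simp
      rw [e1]
      have c1 := (hC1.map φ₂).map φ₃
      rw [fromBlocks_map_zero, fromBlocks_map_zero] at c1
      have c2 : Cong (((plane α β γ).map φ₂).map φ₃) (splitMat Unit A₃) := by
        have := hC2.map φ₃
        rw [hyp_map] at this
        exact this.trans (hyp_cong_splitMat A₃)
      exact c1.trans ((Cong.fromBlocks c2 hC3).trans (splitMat_sum Unit J))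

end Groth.Agent.H80.QuadEven
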