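import Groth.Agent.H80.QuadZar

set_option autoImplicit false
set_option linter.unusedSectionVars false

universe u

namespace Groth.Agent.H80.QuadLocal

open Matrix Groth.Agent.H80.QuadMat Groth.Agent.H80.QuadPlane Groth.Agent.H80.QuadZar

section Domain

variable {D : Type*} [CommRing D] [IsDomain D] {ι : Type*} [Fintype ι] [DecidableEq ι]

/-- Over a domain, a form whose polar matrix is non-zero-determinant (rank at least two suffices) has a
regular plane. -/
theorem exists_dsc_ne_zero_of_pol_ne (W : Matrix ι ι D)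
    (hP : ∀ x : ι → D, x ᵥ* pol W = 0 → x = 0) (hcard : 1 < Fintype.card ι) :
    ∃ v w : ι → D, dsc W v w ≠ 0 := by
  by_contra hcon
  push Not at hcon
  obtain ⟨a₀⟩ : Nonempty ι := Fintype.card_pos_iff.mp (by omega)
  obtain ⟨b₀, hb₀⟩ := Fintype.exists_ne_of_one_lt_card hcard a₀
  have hzero : pol W = 0 := by
    by_cases h2 : (2 : D) = 0
    · ext i k
      have h1 := hcon (Pi.single i 1) (Pi.single k 1)
      unfold dsc at h1
      rw [bf_single] at h1
      have h4 : (4 : D) = 0 := by
        have : (4 : D) = 2 * 2 := by norm_num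
        rw [this, h2, mul_zero]
      rw [h4, zero_mul, zero_mul, sub_zero] at h1
      simpa using pow_eq_zero_iff (two_ne_zero) |>.mp h1
    · have hstar : ∀ a b c : ι, pol W a b * pol W a c = pol W a a * pol W b c := by
        intro a b c
        have h1 := dsc_polar W (Pi.single a 1) (Pi.single b 1) (Pi.single c 1)
        rw [hcon, hcon, hcon, bf_single, bf_single, bf_single, bf_single] at h1
        have h3 : (2 : D) * (pol W a b * pol W a c - pol W a a * pol W b c) = 0 := by
          rw [← h1]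
          ring
        rcases mul_eq_zero.mp h3 with h | h
        · exact absurd h h2
        · exact sub_eq_zero.mp h
      have hx : ∀ a b : ι, a ≠ b → pol W a b = 0 ∧ pol W a a = 0 := by
        intro a b hab
        have hx0 : (pol W a b • Pi.single a 1 - pol W a a • Pi.single b 1 : ι → D) = 0 := by
          apply hP
          funext c
          simp only [Matrix.sub_vecMul, Matrix.smul_vecMul, Matrix.single_one_vecMul, Pi.sub_apply,
            Pi.smul_apply, smul_eq_mul, Pi.zero_apply, Matrix.row_apply]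
          have := hstar a b c
          linear_combination this
        have ha := congrFun hx0 a
        have hb := congrFun hx0 b
        simp only [Pi.sub_apply, Pi.smul_apply, Pi.single_eq_same, smul_eq_mul, mul_one,
          Pi.single_eq_of_ne hab, mul_zero, sub_zero, Pi.zero_apply] at ha
        simp only [Pi.sub_apply, Pi.smul_apply, Pi.single_eq_same, smul_eq_mul, mul_one,
          Pi.single_eq_of_ne hab.symm, mul_zero, zero_sub, Pi.zero_apply, neg_eq_zero] at hb
        exact ⟨ha, hb⟩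
      ext i k
      by_cases hik : i = k
      · subst hik
        obtain ⟨b, hb⟩ := Fintype.exists_ne_of_one_lt_card hcard i
        exact (hx i b hb.symm).2
      · exact (hx i k hik).1
  have := hP (Pi.single a₀ 1) (by rw [hzero]; simp)
  have h1 := congrFun this a₀
  simp at h1

theorem exists_qf_ne_zero (W : Matrix ι ι D) (v w : ι → D) (h : dsc W v w ≠ 0) :
    ∃ v' w' : ι → D, dsc W v' w' ≠ 0 ∧ qf W v' ≠ 0 := by
  by_cases h1 : qf W v = 0
  · by_cases h2 : qf W w = 0
    · refine ⟨v + w, w, by rwa [dsc_add_left], ?_⟩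
      rw [qf_add, h1, h2, zero_add, zero_add]
      intro h3
      apply h
      unfold dsc
      rw [h3, h1]
      ring
    · exact ⟨w, v, by rwa [dsc_comm], h2⟩
  · exact ⟨v, w, h, h1⟩

theorem exists_minor_ne_zero (W : Matrix ι ι D) (v w : ι → D) (h : dsc W v w ≠ 0) :
    ∃ i k : ι, i ≠ k ∧ v i * w k - v k * w i ≠ 0 := by
  have hv : v ≠ 0 := by
    rintro rfl
    exact h (dsc_zero_left W w)
  obtain ⟨i, hi⟩ : ∃ i, v i ≠ 0 := by
    by_contra hcon
    push Not at hcon
    exact hv (funext hcon)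
  by_contra hcon
  push Not at hcon
  have hall : ∀ k, v i * w k = v k * w i := by
    intro k
    by_cases hik : i = k
    · subst hik
      ring
    · exact sub_eq_zero.mp (hcon i k hik)
  have hvec : v i • w = w i • v := by
    funext k
    simp only [Pi.smul_apply, smul_eq_mul]
    rw [hall k]
    ring
  have h1 : v i ^ 2 * dsc W v w = 0 := by
    rw [← dsc_smul_right, hvec, dsc_smul_right, dsc_self, mul_zero]
  rcases mul_eq_zero.mp h1 with h2 | h2
  · exact hi (pow_eq_zero_iff (two_ne_zero) |>.mp h2)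
  · exact h h2

end Domain

section Prime

variable {A : Type*} [CommRing A] {ι : Type*} [Fintype ι] [DecidableEq ι]

/-- At a prime where the polar determinant does not vanish (rank at least two), there are vectors
`v, w` and indices `i ≠ k` with discriminant, `Q v` and the `(i,k)`-minor of `[v w]` all outside `p`. -/
theorem exists_plane_data (W : Matrix ι ι A) (p : Ideal A) [p.IsPrime]
    (hdet : (pol W).det ∉ p) (hcard : 1 < Fintype.card ι) :
    ∃ (v w : ι → A) (i k : ι), i ≠ k ∧ dsc W v w ∉ p ∧ qf W v ∉ p ∧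
      v i * w k - v k * w i ∉ p := by
  set mk := Ideal.Quotient.mk p with hmk
  have hdet' : (pol (W.map mk)).det ≠ 0 := by
    rw [pol_map, ← RingHom.mapMatrix_apply, ← RingHom.map_det]
    rwa [Ne, Ideal.Quotient.eq_zero_iff_mem]
  have hP : ∀ x : ι → A ⧸ p, x ᵥ* pol (W.map mk) = 0 → x = 0 :=
    fun x hx => Matrix.eq_zero_of_vecMul_eq_zero hdet' hx
  obtain ⟨v₀, w₀, h0⟩ := exists_dsc_ne_zero_of_pol_ne (W.map mk) hP hcard
  obtain ⟨v₁, w₁, h1, hq⟩ := exists_qf_ne_zero (W.map mk) v₀ w₀ h0
  obtain ⟨i, k, hik, hμ⟩ := exists_minor_ne_zero (W.map mk) v₁ w₁ h1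
  have hsurj : ∀ x : ι → A ⧸ p, ∃ y : ι → A, mk ∘ y = x := by
    intro x
    choose y hy using fun j => Ideal.Quotient.mk_surjective (x j)
    exact ⟨y, funext hy⟩
  obtain ⟨v, rfl⟩ := hsurj v₁
  obtain ⟨w, rfl⟩ := hsurj w₁
  refine ⟨v, w, i, k, hik, ?_, ?_, ?_⟩
  · rw [dsc_map] at h1
    rwa [Ne, Ideal.Quotient.eq_zero_iff_mem] at h1
  · rw [qf_map] at hq
    rwa [Ne, Ideal.Quotient.eq_zero_iff_mem] at hq
  · simp only [Function.comp] at hμ
    rw [← map_mul, ← map_mul, ← map_sub] at hμ
    rwa [Ne, Ideal.Quotient.eq_zero_iff_mem] at hμ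

end Prime

section Reindex

variable {R : Type*} [CommRing R] {ι κ : Type*} [Fintype ι] [DecidableEq ι] [Fintype κ]
  [DecidableEq κ]

theorem qf_reindex (W : Matrix ι ι R) (e : ι ≃ κ) (x : ι → R) :
    qf (W.submatrix e.symm e.symm) (x ∘ e.symm) = qf W x := by
  unfold qf
  simp only [dotProduct, mulVec, Matrix.submatrix_apply, Function.comp]
  rw [← Equiv.sum_comp e.symm]
  refine Finset.sum_congr rfl fun a _ => ?_
  congr 1
  rw [← Equiv.sum_comp e.symm]

theorem bf_reindex (W : Matrix ι ι R) (e : ι ≃ κ) (x y : ι → R) :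
    bf (W.submatrix e.symm e.symm) (x ∘ e.symm) (y ∘ e.symm) = bf W x y := by
  rw [bf_eq_qf, bf_eq_qf, ← qf_reindex W e x, ← qf_reindex W e y, ← qf_reindex W e (x + y)]
  rfl

theorem dsc_reindex (W : Matrix ι ι R) (e : ι ≃ κ) (x y : ι → R) :
    dsc (W.submatrix e.symm e.symm) (x ∘ e.symm) (y ∘ e.symm) = dsc W x y := by
  unfold dsc
  rw [bf_reindex, qf_reindex, qf_reindex]

/-- `ι ≃ Fin 2 ⊕ (ι without i₀, k₀)`. -/
def splitEquiv (i₀ k₀ : ι) (h : i₀ ≠ k₀) : ι ≃ Fin 2 ⊕ {l : ι // l ≠ i₀ ∧ l ≠ k₀} where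
  toFun l := if h1 : l = i₀ then Sum.inl 0 else if h2 : l = k₀ then Sum.inl 1 else
    Sum.inr ⟨l, h1, h2⟩
  invFun := Sum.elim ![i₀, k₀] Subtype.val
  left_inv l := by
    by_cases h1 : l = i₀
    · simp [h1]
    · by_cases h2 : l = k₀
      · simp [h2, h.symm]
      · simp [h1, h2]
  right_inv := by
    rintro (a | ⟨l, h1, h2⟩)
    · fin_cases a
      · simp
      · simp [h.symm]
    · simp [h1, h2]

theorem splitEquiv_symm_zero (i₀ k₀ : ι) (h : i₀ ≠ k₀) :
    (splitEquiv i₀ k₀ h).symm (Sum.inl 0) = i₀ := rfl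

theorem splitEquiv_symm_one (i₀ k₀ : ι) (h : i₀ ≠ k₀) :
    (splitEquiv i₀ k₀ h).symm (Sum.inl 1) = k₀ := rfl

theorem card_compl_two (i₀ k₀ : ι) (h : i₀ ≠ k₀) :
    Fintype.card {l : ι // l ≠ i₀ ∧ l ≠ k₀} + 2 = Fintype.card ι := by
  have := Fintype.card_congr (splitEquiv i₀ k₀ h)
  rw [Fintype.card_sum, Fintype.card_fin] at this
  omega

end Reindex

end Groth.Agent.H80.QuadLocal
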