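import Groth.Agent.H80.QuadEven
import Groth.Agent.H80.HalfDiscNondeg

set_option autoImplicit false
set_option linter.unusedSectionVars false

universe u

namespace Groth.Agent.H80.QuadOdd

open Matrix Polynomial Groth.Agent.H80.QuadMat Groth.Agent.H80.QuadPlane Groth.Agent.H80.QuadZar
  Groth.Agent.H80.QuadLocal Groth.Agent.H80.QuadEven Groth.Agent.H84
  Groth.Agent.H80.HalfDiscNondeg

section Hd

variable {R : Type*} [CommRing R]

/-- The half-discriminant of the quadratic form `x ↦ xᵀ W x`. -/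
noncomputable def hdM {n : ℕ} (W : Matrix (Fin n) (Fin n) R) : R := hdEval (coeffOfMat W)

theorem hdM_map {S : Type*} [CommRing S] (φ : R →+* S) {n : ℕ} (W : Matrix (Fin n) (Fin n) R) :
    hdM (W.map φ) = φ (hdM W) := by
  unfold hdM
  rw [← hdEval_map, ← coeffOfMat_map]
  rfl

theorem coeffOfMat_sameQ {n : ℕ} {W W' : Matrix (Fin n) (Fin n) R} (h : SameQ W W') :
    coeffOfMat W = coeffOfMat W' := by
  ext p
  induction p using Sym2.ind with | _ i j =>
  rw [coeffOfMat_mk, coeffOfMat_mk]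
  split_ifs with hij
  · subst hij
    have := h.diag i
    simpa [sub_eq_zero] using this
  · have := congrFun (congrFun h.pol_eq i) j
    simpa [pol] using this

theorem hdM_sameQ {n : ℕ} {W W' : Matrix (Fin n) (Fin n) R} (h : SameQ W W') : hdM W = hdM W' := by
  unfold hdM
  rw [coeffOfMat_sameQ h]

theorem hdM_conj {n : ℕ} (hn : Odd n) (W G : Matrix (Fin n) (Fin n) R) :
    hdM (Gᵀ * W * G) = G.det ^ 2 * hdM W := hdEval_conj hn W G

theorem two_mul_hdM {n : ℕ} (hn : Odd n) (W : Matrix (Fin n) (Fin n) R) :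
    2 * hdM W = (pol W).det := two_mul_hdEval_coeffOfMat hn W

theorem isUnit_hdM_of_cong {n : ℕ} (hn : Odd n) {W W₂ : Matrix (Fin n) (Fin n) R} (h : Cong W W₂)
    (hu : IsUnit (hdM W)) : IsUnit (hdM W₂) := by
  obtain ⟨g, g', a, b, s⟩ := h
  rw [← hdM_sameQ s, hdM_conj hn]
  exact ((Matrix.isUnit_det_of_right_inverse a).pow 2).mul hu

theorem polarMatOf_coeffOfMat {n : ℕ} (W : Matrix (Fin n) (Fin n) R) :
    polarMatOf (coeffOfMat W) = pol W := by
  ext i j
  simp only [polarMatOf, Matrix.of_apply, coeffOfMat_mk, pol, Matrix.add_apply,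
    Matrix.transpose_apply]
  split_ifs with h
  · subst h
    ring
  · rfl

theorem hdM_one (W : Matrix (Fin 1) (Fin 1) R) : hdM W = W 0 0 := by
  unfold hdM
  have h := hdEval_split (m := 0) (coeffOfMat W) 0
    (fun j hj => absurd (Subsingleton.elim (α := Fin 1) j 0) hj)
  have hemp : IsEmpty (Fin (2 * 0)) := (inferInstance : IsEmpty (Fin 0))
  rw [h, coeffOfMat_mk, if_pos rfl, Matrix.det_isEmpty, mul_one]

/-- The block formula: the half-discriminant of (binary form) ⊥ (odd form). -/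
theorem hdM_block (k : ℕ) (X : Matrix (Fin 2) (Fin 2) R)
    (Y : Matrix (Fin (2 * k + 1)) (Fin (2 * k + 1)) R)
    (e : Fin 2 ⊕ Fin (2 * k + 1) ≃ Fin (2 * (k + 1) + 1)) :
    hdM ((Matrix.fromBlocks X 0 0 Y).submatrix e.symm e.symm) = (pol X).det * hdM Y := by
  let S := MvPolynomial ((Fin 2 × Fin 2) ⊕ (Fin (2 * k + 1) × Fin (2 * k + 1))) ℤ
  let X₀ : Matrix (Fin 2) (Fin 2) S := Matrix.of fun i j => MvPolynomial.X (Sum.inl (i, j))
  let Y₀ : Matrix (Fin (2 * k + 1)) (Fin (2 * k + 1)) S :=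
    Matrix.of fun i j => MvPolynomial.X (Sum.inr (i, j))
  let φ : S →+* R := MvPolynomial.eval₂Hom (Int.castRingHom R)
    (Sum.elim (fun p => X p.1 p.2) (fun p => Y p.1 p.2))
  have hX : X₀.map φ = X := by
    ext i j
    simp only [Matrix.map_apply, X₀, Matrix.of_apply]
    exact MvPolynomial.eval₂Hom_X' _ _ _
  have hY : Y₀.map φ = Y := by
    ext i j
    simp only [Matrix.map_apply, Y₀, Matrix.of_apply]
    exact MvPolynomial.eval₂Hom_X' _ _ _
  have key : hdM ((Matrix.fromBlocks X₀ 0 0 Y₀).submatrix e.symm e.symm) =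
      (pol X₀).det * hdM Y₀ := by
    have h2 : (2 : S) ≠ 0 := two_ne_zero
    apply mul_left_cancel₀ h2
    rw [two_mul_hdM ⟨k + 1, rfl⟩]
    have hp : pol ((Matrix.fromBlocks X₀ 0 0 Y₀).submatrix e.symm e.symm) =
        (pol (Matrix.fromBlocks X₀ 0 0 Y₀)).submatrix e.symm e.symm := by
      ext i j
      simp [pol]
    rw [hp, Matrix.det_submatrix_equiv_self, pol_fromBlocks, Matrix.det_fromBlocks_zero₂₁,
      ← two_mul_hdM ⟨k, rfl⟩ Y₀]
    ring
  have h4 := congrArg φ key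
  rw [← hdM_map, map_mul, ← hdM_map, hY, RingHom.map_det, RingHom.mapMatrix_apply, ← pol_map, hX]
    at h4
  rw [← h4]
  congr 1
  ext i j
  simp only [Matrix.map_apply, Matrix.submatrix_apply]
  rcases e.symm i with a | a <;> rcases e.symm j with b | b
  · simp [← hX]
  · simp
  · simp
  · simp [← hY]

end Hd

section DomainOdd

variable {D : Type*} [CommRing D] [IsDomain D]

theorem exists_dsc_ne_zero_odd (k : ℕ)
    (W : Matrix (Fin (2 * (k + 1) + 1)) (Fin (2 * (k + 1) + 1)) D) (h : hdM W ≠ 0) :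
    ∃ v w : Fin (2 * (k + 1) + 1) → D, dsc W v w ≠ 0 := by
  have hcard : 1 < Fintype.card (Fin (2 * (k + 1) + 1)) := by
    rw [Fintype.card_fin]
    omega
  by_cases hdet : (pol W).det = 0
  · have h2 : (2 : D) = 0 := by
      have h3 := two_mul_hdM ⟨k + 1, rfl⟩ W
      rw [hdet] at h3
      rcases mul_eq_zero.mp h3 with h4 | h4
      · exact h4
      · exact absurd h4 h
    by_contra hcon
    push Not at hcon
    have hzero : pol W = 0 := by
      ext i j
      have h1 := hcon (Pi.single i 1) (Pi.single j 1)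
      unfold dsc at h1
      rw [bf_single] at h1
      have h4 : (4 : D) = 0 := by
        have : (4 : D) = 2 * 2 := by norm_num
        rw [this, h2, mul_zero]
      rw [h4, zero_mul, zero_mul, sub_zero] at h1
      simpa using pow_eq_zero_iff (two_ne_zero) |>.mp h1
    apply h
    unfold hdM
    rw [hdEval_split (m := k + 1) (coeffOfMat W) 0 (fun j hj => ?_)]
    · rw [polarMatOf_coeffOfMat, hzero]
      have : ((0 : Matrix (Fin (2 * (k + 1) + 1)) (Fin (2 * (k + 1) + 1)) D).submatrix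
          (Fin.succAbove 0) (Fin.succAbove 0)) = 0 := by
        ext a b
        simp
      have hne : Nonempty (Fin (2 * (k + 1))) := ⟨⟨0, by omega⟩⟩
      rw [this, Matrix.det_zero, mul_zero]
    · rw [coeffOfMat_mk, if_neg (Ne.symm hj)]
      have := congrFun (congrFun hzero 0) j
      simpa [pol] using this
  · exact exists_dsc_ne_zero_of_pol_ne W
      (fun x hx => Matrix.eq_zero_of_vecMul_eq_zero hdet hx) hcard

end DomainOdd

section PrimeOdd

variable {A : Type*} [CommRing A]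

/-- Lifting plane data from the residue domain. -/
theorem exists_plane_data_of {ι : Type*} [Fintype ι] [DecidableEq ι] (W : Matrix ι ι A)
    (p : Ideal A) [p.IsPrime]
    (h0 : ∃ v₀ w₀ : ι → A ⧸ p, dsc (W.map (Ideal.Quotient.mk p)) v₀ w₀ ≠ 0) :
    ∃ (v w : ι → A) (i k : ι), i ≠ k ∧ dsc W v w ∉ p ∧ qf W v ∉ p ∧
      v i * w k - v k * w i ∉ p := by
  set mk := Ideal.Quotient.mk p with hmk
  obtain ⟨v₀, w₀, h0⟩ := h0
  obtain ⟨v₁, w₁, h1, hq⟩ := exists_qf_ne_zero (W.map mk) v₀ w₀ h0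
  obtain ⟨i, k, hik, hμ⟩ := exists_minor_ne_zero (W.map mk) v₁ w₁ h1
  have hsurj : ∀ x : ι → A ⧸ p, ∃ y : ι → A, mk ∘ y = x := by
    intro x
    choose y hy using fun j => Ideal.Quotient.mk_surjective (x j)
    exact ⟨y, funext hy⟩
  obtain ⟨v, rfl⟩ := hsurj v₁
  obtain ⟨w, rfl⟩ := hsurj w₁
  refine ⟨v, w, i, k, hik, ?_, ?_, ?_⟩
  · rw [dsc_map] at h1
    rwa [Ne, Ideal.Quotient.eq_zero_iff_mem] at h1
  · rw [qf_map] at hq
    rwa [Ne, Ideal.Quotient.eq_zero_iff_mem] at hq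
  · simp only [Function.comp] at hμ
    rw [← map_mul, ← map_mul, ← map_sub] at hμ
    rwa [Ne, Ideal.Quotient.eq_zero_iff_mem] at hμ

theorem exists_plane_data_odd (k : ℕ)
    (W : Matrix (Fin (2 * (k + 1) + 1)) (Fin (2 * (k + 1) + 1)) A) (p : Ideal A) [p.IsPrime]
    (h : hdM W ∉ p) :
    ∃ (v w : Fin (2 * (k + 1) + 1) → A) (i k' : Fin (2 * (k + 1) + 1)), i ≠ k' ∧ dsc W v w ∉ p ∧
      qf W v ∉ p ∧ v i * w k' - v k' * w i ∉ p := by
  apply exists_plane_data_of W p
  apply exists_dsc_ne_zero_odd k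
  rw [hdM_map]
  rwa [Ne, Ideal.Quotient.eq_zero_iff_mem]

end PrimeOdd

end Groth.Agent.H80.QuadOdd
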