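import Groth.Agent.H80.QuadOdd

set_option autoImplicit false
set_option linter.unusedSectionVars false

universe u

namespace Groth.Agent.H80.QuadOdd2

open Matrix Polynomial Groth.Agent.H80.QuadMat Groth.Agent.H80.QuadPlane Groth.Agent.H80.QuadZar
  Groth.Agent.H80.QuadLocal Groth.Agent.H80.QuadEven Groth.Agent.H80.QuadOdd

/-- Flat and finitely presented ring homomorphisms. -/
def Fppf {A B : Type*} [CommRing A] [CommRing B] (φ : A →+* B) : Prop :=
  φ.Flat ∧ φ.FinitePresentation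

theorem Fppf.comp {A B C : Type*} [CommRing A] [CommRing B] [CommRing C] {f : A →+* B}
    {g : B →+* C} (hf : Fppf f) (hg : Fppf g) : Fppf (g.comp f) :=
  ⟨hf.1.comp hg.1, hg.2.comp hf.2⟩

theorem Fppf.of_etale {A B : Type*} [CommRing A] [CommRing B] {φ : A →+* B} (h : φ.Etale) :
    Fppf φ := by
  letI := φ.toAlgebra
  have he : Algebra.Etale A B := h
  exact ⟨(inferInstance : Module.Flat A B), (inferInstance : Algebra.FinitePresentation A B)⟩

section NormalForm

variable (J : Type*) [Fintype J] [DecidableEq J]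

/-- The split form of odd rank: `∑ⱼ x_{inl j} x_{inr j} + x_*²`. -/
def oddSplit (R : Type*) [CommRing R] : Matrix ((J ⊕ J) ⊕ Unit) ((J ⊕ J) ⊕ Unit) R :=
  Matrix.fromBlocks (splitMat J R) 0 0 1

theorem oddSplit_map {R S : Type*} [CommRing R] [CommRing S] (φ : R →+* S) :
    (oddSplit J R).map φ = oddSplit J S := by
  unfold oddSplit
  rw [fromBlocks_map_zero, splitMat_map, Matrix.map_one _ (map_zero φ) (map_one φ)]

theorem qf_oddSplit {R : Type*} [CommRing R] (x : (J ⊕ J) ⊕ Unit → R) :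
    qf (oddSplit J R) x =
      ∑ j, x (Sum.inl (Sum.inl j)) * x (Sum.inl (Sum.inr j)) + x (Sum.inr ()) ^ 2 := by
  unfold qf oddSplit splitMat
  simp [dotProduct, mulVec, Fintype.sum_sum_type, Matrix.one_apply, pow_two]

theorem hyp_oddSplit (R : Type*) [CommRing R] :
    Cong (Matrix.fromBlocks (hyp R) 0 0 (oddSplit J R)) (oddSplit (Unit ⊕ J) R) := by
  have h1 := Cong.reindex (Matrix.fromBlocks (hyp R) 0 0 (oddSplit J R))
    (Equiv.sumAssoc (Fin 2) (J ⊕ J) Unit).symm
  have h2 : (Matrix.fromBlocks (hyp R) 0 0 (oddSplit J R)).submatrix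
      (Equiv.sumAssoc (Fin 2) (J ⊕ J) Unit).symm.symm (Equiv.sumAssoc (Fin 2) (J ⊕ J) Unit).symm.symm =
      Matrix.fromBlocks (Matrix.fromBlocks (hyp R) 0 0 (splitMat J R)) 0 0 1 := by
    unfold oddSplit
    ext ((a | b) | u) ((a' | b') | u') <;> simp
  rw [h2] at h1
  have c : Cong (Matrix.fromBlocks (hyp R) 0 0 (splitMat J R)) (splitMat (Unit ⊕ J) R) :=
    (Cong.fromBlocks (hyp_cong_splitMat R) (Cong.refl _)).trans (splitMat_sum Unit J)
  exact h1.trans (Cong.fromBlocks c (Cong.refl (1 : Matrix Unit Unit R)))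

end NormalForm

/-- `Fin 1 ≃ (Empty ⊕ Empty) ⊕ Unit`. -/
def finOneEquiv : Fin 1 ≃ (Empty ⊕ Empty) ⊕ Unit where
  toFun _ := Sum.inr ()
  invFun _ := 0
  left_inv a := Subsingleton.elim _ _
  right_inv := by
    rintro ((a | a) | u)
    · exact a.elim
    · exact a.elim
    · rfl

theorem one_cong_oddSplit (R : Type*) [CommRing R] :
    Cong (1 : Matrix (Fin 1) (Fin 1) R) (oddSplit Empty R) := by
  have h := Cong.reindex (1 : Matrix (Fin 1) (Fin 1) R) finOneEquiv
  have h2 : (1 : Matrix (Fin 1) (Fin 1) R).submatrix finOneEquiv.symm finOneEquiv.symm =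
      oddSplit Empty R := by
    unfold oddSplit
    ext ((a | a) | u) ((b | b) | u')
    all_goals first | exact a.elim | exact b.elim | simp
  rwa [h2] at h

theorem cong_one_of_sq {R : Type*} [CommRing R] (W : Matrix (Fin 1) (Fin 1) R) (s si : R)
    (h1 : s * si = 1) (h2 : W 0 0 = s ^ 2) : Cong W (1 : Matrix (Fin 1) (Fin 1) R) := by
  refine ⟨Matrix.of fun _ _ => si, Matrix.of fun _ _ => s, ?_, ?_, ?_⟩
  · ext i j
    rw [Subsingleton.elim i 0, Subsingleton.elim j 0]
    simp [Matrix.mul_apply, mul_comm, h1]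
  · ext i j
    rw [Subsingleton.elim i 0, Subsingleton.elim j 0]
    simp [Matrix.mul_apply, h1]
  · have : (Matrix.of fun _ _ => si : Matrix (Fin 1) (Fin 1) R)ᵀ * W * (Matrix.of fun _ _ => si) = 1 := by
      ext i j
      rw [Subsingleton.elim i 0, Subsingleton.elim j 0]
      simp only [Matrix.mul_apply, Fin.sum_univ_one, Matrix.transpose_apply, Matrix.of_apply,
        Matrix.one_apply_eq, Fin.isValue]
      rw [h2]
      have : si * s ^ 2 * si = (s * si) ^ 2 := by ring
      rw [this, h1, one_pow]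
    rw [this]
    exact SameQ.refl _

/-- Adjoining a square root of a unit: finite free, flat, finitely presented, primes lift. -/
theorem exists_fppf_sqrt {R : Type u} [CommRing R] (c : R) (hc : IsUnit c) :
    ∃ (R' : Type u) (_ : CommRing R') (φ : R →+* R'), Fppf φ ∧
      (∀ q : Ideal R, q.IsPrime → ∃ q' : Ideal R', q'.IsPrime ∧ q'.comap φ = q) ∧
      ∃ s si : R', s * si = 1 ∧ φ c = s ^ 2 := by
  obtain ⟨cu, rfl⟩ := hc
  set f : R[X] := X ^ 2 - C (cu : R) with hf
  have hmonic : f.Monic := Polynomial.monic_X_pow_sub_C _ (by norm_num)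
  have hfree : Module.Free R (AdjoinRoot f) :=
    Module.Free.of_basis (AdjoinRoot.powerBasis' hmonic).basis
  have hfp : Algebra.FinitePresentation R (AdjoinRoot f) :=
    Algebra.FinitePresentation.quotient (Submodule.fg_span_singleton f)
  refine ⟨AdjoinRoot f, inferInstance, algebraMap R (AdjoinRoot f), ?_, ?_, ?_⟩
  · exact ⟨RingHom.flat_algebraMap_iff.mpr inferInstance,
      RingHom.finitePresentation_algebraMap.mpr hfp⟩
  · intro q hq
    have hnt : Nontrivial R := ⟨⟨0, 1, fun h => hq.ne_top (by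
      rw [Ideal.eq_top_iff_one, ← h]; exact q.zero_mem)⟩⟩
    have hnt' : Nontrivial (AdjoinRoot f) := by
      have hnd : f.natDegree = 2 := Polynomial.natDegree_X_pow_sub_C
      have hdim : 0 < (AdjoinRoot.powerBasis' hmonic).dim := by
        rw [AdjoinRoot.powerBasis'_dim, hnd]
        norm_num
      have hne := (AdjoinRoot.powerBasis' hmonic).basis.ne_zero ⟨0, hdim⟩
      exact nontrivial_of_ne _ _ hne
    obtain ⟨q', hq'⟩ := PrimeSpectrum.comap_surjective_of_faithfullyFlat (A := R)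
      (B := AdjoinRoot f) ⟨q, hq⟩
    exact ⟨q'.asIdeal, q'.isPrime, congrArg PrimeSpectrum.asIdeal hq'⟩
  · have hroot : (AdjoinRoot.root f) ^ 2 - algebraMap R (AdjoinRoot f) cu = 0 := by
      have := AdjoinRoot.eval₂_root f
      rw [hf] at this
      simpa [Polynomial.eval₂_sub, Polynomial.eval₂_pow] using this
    have hs2 : algebraMap R (AdjoinRoot f) cu = (AdjoinRoot.root f) ^ 2 := (sub_eq_zero.mp hroot).symm
    refine ⟨AdjoinRoot.root f, AdjoinRoot.root f * algebraMap R (AdjoinRoot f) ↑cu⁻¹, ?_, hs2⟩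
    calc AdjoinRoot.root f * (AdjoinRoot.root f * algebraMap R (AdjoinRoot f) ↑cu⁻¹)
        = (AdjoinRoot.root f) ^ 2 * algebraMap R (AdjoinRoot f) ↑cu⁻¹ := by ring
      _ = 1 := by rw [← hs2, ← map_mul, Units.mul_inv, map_one]


/-- `Fin 2 ⊕ Fin (2k+1) ≃ Fin (2(k+1)+1)`. -/
def blockEquiv (k : ℕ) : Fin 2 ⊕ Fin (2 * k + 1) ≃ Fin (2 * (k + 1) + 1) :=
  finSumFinEquiv.trans (finCongr (by ring))

/-- Fppf-local splitting of a semiregular odd-rank form at a prime, by induction on the rank. -/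
theorem local_split_odd : ∀ (k : ℕ) (A : Type u) [CommRing A]
    (W : Matrix (Fin (2 * k + 1)) (Fin (2 * k + 1)) A) (_ : IsUnit (hdM W))
    (p : Ideal A) [p.IsPrime],
    ∃ (B : Type u) (_ : CommRing B) (φ : A →+* B), Fppf φ ∧
      (∃ q : Ideal B, q.IsPrime ∧ q.comap φ = p) ∧
      ∃ (J : Type) (_ : Fintype J) (_ : DecidableEq J), Fintype.card J = k ∧
        Cong (W.map φ) (oddSplit J B) := by
  intro k
  induction k with
  | zero =>
    intro A _ W hW p hp
    have hc : IsUnit (W 0 0) := by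
      have := hdM_one W
      rwa [this] at hW
    obtain ⟨B, _, φ, hφ, hlift, s, si, hs1, hs2⟩ := exists_fppf_sqrt (W 0 0) hc
    obtain ⟨q, hq, hqc⟩ := hlift p hp
    refine ⟨B, inferInstance, φ, hφ, ⟨q, hq, hqc⟩, Empty, inferInstance, inferInstance, by simp, ?_⟩
    have h1 : Cong (W.map φ) (1 : Matrix (Fin 1) (Fin 1) B) :=
      cong_one_of_sq (W.map φ) s si hs1 (by simpa using hs2)
    exact h1.trans (one_cong_oddSplit B)
  | succ k ih =>
    intro A _ W hW p hp
    have hnp : hdM W ∉ p := fun h => hp.ne_top (Ideal.eq_top_of_isUnit_mem _ h hW)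
    obtain ⟨v, w, i, k', hik, hD, hq, hμ⟩ := exists_plane_data_odd k W p hnp
    obtain ⟨s, hs, α, β, γ, W', hα, hD', hC1⟩ := zar_reduce W p v w i k' hik hD hq hμ
    set φ₁ : A →+* Localization.Away s := algebraMap A (Localization.Away s) with hφ₁
    have hφ₁e : φ₁.Etale := by
      rw [hφ₁, RingHom.etale_algebraMap]
      exact Algebra.Etale.of_isLocalizationAway s
    have hdisj : Disjoint (Submonoid.powers s : Set A) ↑p :=
      (Ideal.disjoint_powers_iff_notMem_of_isPrime s).mpr hs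
    have hp₁ : (Ideal.map φ₁ p).IsPrime :=
      IsLocalization.isPrime_of_isPrime_disjoint (Submonoid.powers s) (Localization.Away s) p hp
        hdisj
    have hp₁c : (Ideal.map φ₁ p).comap φ₁ = p :=
      IsLocalization.under_map_of_isPrime_disjoint (Submonoid.powers s) (Localization.Away s) hp
        hdisj
    obtain ⟨A₂, _, φ₂, hφ₂e, hlift, hC2⟩ := exists_etale_cong_hyp α β γ hα hD'
    obtain ⟨p₂, hp₂, hp₂c⟩ := hlift _ hp₁
    -- transport the complement to `Fin (2k+1)`
    have hcardκ : Fintype.card {l : Fin (2 * (k + 1) + 1) // l ≠ i ∧ l ≠ k'} = 2 * k + 1 := by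
      have := card_compl_two i k' hik
      rw [Fintype.card_fin] at this
      omega
    set e' := Fintype.equivFinOfCardEq hcardκ with he'
    set W'' := W'.submatrix e'.symm e'.symm with hW''
    have hC1' : Cong (W.map φ₁) (Matrix.fromBlocks (plane α β γ) 0 0 W'') :=
      hC1.trans (Cong.fromBlocks (Cong.refl _) (Cong.reindex W' e'))
    have hC1'' := hC1'.trans (Cong.reindex _ (blockEquiv k))
    have hu1 : IsUnit (hdM (W.map φ₁)) := by
      rw [hdM_map]
      exact hW.map φ₁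
    have hu2 := isUnit_hdM_of_cong ⟨k + 1, rfl⟩ hC1'' hu1
    rw [hdM_block] at hu2
    have hregW'' : IsUnit (hdM W'') := isUnit_of_mul_isUnit_right hu2
    have hregW''₂ : IsUnit (hdM (W''.map φ₂)) := by
      rw [hdM_map]
      exact hregW''.map φ₂
    obtain ⟨A₃, _, φ₃, hφ₃e, ⟨p₃, hp₃, hp₃c⟩, J, _, _, hJ, hC3⟩ :=
      @ih A₂ _ (W''.map φ₂) hregW''₂ p₂ hp₂
    refine ⟨A₃, inferInstance, φ₃.comp (φ₂.comp φ₁), ?_, ⟨p₃, hp₃, ?_⟩, Unit ⊕ J, inferInstance,
      inferInstance, ?_, ?_⟩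
    · exact ((Fppf.of_etale hφ₁e).comp (Fppf.of_etale hφ₂e)).comp hφ₃e
    · rw [← Ideal.comap_comap, ← Ideal.comap_comap, hp₃c, hp₂c, hp₁c]
    · rw [Fintype.card_sum, hJ]
      simp [add_comm]
    · have e1 : W.map (φ₃.comp (φ₂.comp φ₁)) = ((W.map φ₁).map φ₂).map φ₃ := by
        ext a b
        simp
      rw [e1]
      have c1 := (hC1'.map φ₂).map φ₃
      rw [fromBlocks_map_zero, fromBlocks_map_zero] at c1
      have c2 : Cong (((plane α β γ).map φ₂).map φ₃) (hyp A₃) := by
        have := hC2.map φ₃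
        rwa [hyp_map] at this
      exact c1.trans ((Cong.fromBlocks c2 hC3).trans (hyp_oddSplit J A₃))

end Groth.Agent.H80.QuadOdd2
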