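import Groth.Agent.H80.QuadMat

set_option autoImplicit false
set_option linter.unusedSectionVars false

universe u

namespace Groth.Agent.H80.QuadPlane

open Matrix Polynomial Groth.Agent.H80.QuadMat

variable {R : Type u} [CommRing R]

/-- The binary form `α x² + β x y + γ y²`. -/
def plane (α β γ : R) : Matrix (Fin 2) (Fin 2) R := !![α, β; 0, γ]

/-- The hyperbolic plane `x y`. -/
def hyp (R : Type*) [CommRing R] : Matrix (Fin 2) (Fin 2) R := !![0, 1; 0, 0]

theorem plane_map {S : Type*} [CommRing S] (φ : R →+* S) (α β γ : R) :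
    (plane α β γ).map φ = plane (φ α) (φ β) (φ γ) := by
  ext i j
  fin_cases i <;> fin_cases j <;> simp [plane]

theorem hyp_map {S : Type*} [CommRing S] (φ : R →+* S) : (hyp R).map φ = hyp S := by
  ext i j
  fin_cases i <;> fin_cases j <;> simp [hyp]

theorem pol_plane_det (α β γ : R) : (pol (plane α β γ)).det = 4 * α * γ - β ^ 2 := by
  unfold pol plane
  rw [Matrix.det_fin_two]
  simp
  ring

theorem plane_cong_hyp_of_root (α β γ t δi : R) (hroot : α * t ^ 2 + β * t + γ = 0)
    (hδ : (2 * α * t + β) * δi = 1) : Cong (plane α β γ) (hyp R) := by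
  refine ⟨!![t, δi - α * δi ^ 2 * t; 1, -(α * δi ^ 2)],
    !![α * δi, 1 - α * δi * t; 2 * α * t + β, -((2 * α * t + β) * t)], ?_, ?_, ?_⟩
  · ext i j
    fin_cases i <;> fin_cases j
    · simp [Matrix.mul_apply, Fin.sum_univ_two]
      linear_combination (1 - α * δi * t) * hδ
    · simp [Matrix.mul_apply, Fin.sum_univ_two]
      linear_combination (α * δi * t ^ 2 - t) * hδ
    · simp [Matrix.mul_apply, Fin.sum_univ_two]
      linear_combination (-(α * δi)) * hδ
    · simp [Matrix.mul_apply, Fin.sum_univ_two]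
      linear_combination (α * δi * t) * hδ
  · ext i j
    fin_cases i <;> fin_cases j
    · simp [Matrix.mul_apply, Fin.sum_univ_two]
    · simp [Matrix.mul_apply, Fin.sum_univ_two]
      ring
    · simp [Matrix.mul_apply, Fin.sum_univ_two]
    · simp [Matrix.mul_apply, Fin.sum_univ_two]
      linear_combination hδ
  · apply sameQ_of_diag_of_pol
    · intro i
      fin_cases i
      · simp [Matrix.mul_apply, Fin.sum_univ_two, plane, hyp]
        linear_combination hroot
      · simp [Matrix.mul_apply, Fin.sum_univ_two, plane, hyp]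
        linear_combination (-(α * δi ^ 2)) * hδ + α ^ 2 * δi ^ 4 * hroot
    · ext i j
      fin_cases i <;> fin_cases j
      · simp [pol, Matrix.mul_apply, Fin.sum_univ_two, plane, hyp]
        linear_combination 2 * hroot
      · simp [pol, Matrix.mul_apply, Fin.sum_univ_two, plane, hyp]
        linear_combination hδ - 2 * α * δi ^ 2 * hroot
      · simp [pol, Matrix.mul_apply, Fin.sum_univ_two, plane, hyp]
        linear_combination hδ - 2 * α * δi ^ 2 * hroot
      · simp [pol, Matrix.mul_apply, Fin.sum_univ_two, plane, hyp]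
        linear_combination 2 * (-(α * δi ^ 2)) * hδ + 2 * α ^ 2 * δi ^ 4 * hroot


/-- The standard étale pair `X² + bX + c`, `g = 1`, for unit discriminant. -/
noncomputable def quadPair (b c e : R) (he : e * (b ^ 2 - 4 * c) = 1) : StandardEtalePair R where
  f := X ^ 2 + (C b * X + C c)
  monic_f := Polynomial.monic_X_pow_add (lt_of_le_of_lt (Polynomial.degree_linear_le) (by norm_num))
  g := 1
  cond := by
    refine ⟨C e * (2 * X + C b), -(4 * C e), 0, ?_⟩
    have hder : derivative (X ^ 2 + (C b * X + C c) : R[X]) = 2 * X + C b := by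
      simp
      ring
    rw [hder, pow_zero]
    have h1 : (C e : R[X]) * (C b ^ 2 - 4 * C c) = 1 := by
      have := congrArg (C : R → R[X]) he
      rw [map_mul, map_sub, map_pow, map_mul, map_one, map_ofNat] at this
      exact this
    linear_combination h1

theorem quadPair_free (b c e : R) (he : e * (b ^ 2 - 4 * c) = 1) :
    Module.Free R (quadPair b c e he).Ring := by
  set P := quadPair b c e he with hP
  have e1 : P.Ring ≃ₐ[R] Localization.Away (AdjoinRoot.mk P.f P.g) := P.equivAwayAdjoinRoot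
  have hle : Submonoid.powers (AdjoinRoot.mk P.f P.g) ≤ IsUnit.submonoid (AdjoinRoot P.f) := by
    rintro x ⟨n, rfl⟩
    have : P.g = 1 := rfl
    simp only [this, map_one, one_pow]
    exact isUnit_one
  have e2 : AdjoinRoot P.f ≃ₐ[AdjoinRoot P.f] Localization.Away (AdjoinRoot.mk P.f P.g) :=
    IsLocalization.atUnits _ (Submonoid.powers (AdjoinRoot.mk P.f P.g)) hle
  have e3 : AdjoinRoot P.f ≃ₗ[R] P.Ring :=
    ((e2.restrictScalars R).toLinearEquiv).trans e1.symm.toLinearEquiv
  have : Module.Free R (AdjoinRoot P.f) :=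
    Module.Free.of_basis (AdjoinRoot.powerBasis' P.monic_f).basis
  exact Module.Free.of_equiv e3

theorem quadPair_nontrivial [Nontrivial R] (b c e : R) (he : e * (b ^ 2 - 4 * c) = 1) :
    Nontrivial (quadPair b c e he).Ring := by
  set P := quadPair b c e he with hP
  have e1 : P.Ring ≃ₐ[R] Localization.Away (AdjoinRoot.mk P.f P.g) := P.equivAwayAdjoinRoot
  have hle : Submonoid.powers (AdjoinRoot.mk P.f P.g) ≤ IsUnit.submonoid (AdjoinRoot P.f) := by
    rintro x ⟨n, rfl⟩
    have : P.g = 1 := rfl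
    simp only [this, map_one, one_pow]
    exact isUnit_one
  have e2 : AdjoinRoot P.f ≃ₐ[AdjoinRoot P.f] Localization.Away (AdjoinRoot.mk P.f P.g) :=
    IsLocalization.atUnits _ (Submonoid.powers (AdjoinRoot.mk P.f P.g)) hle
  have hnt : Nontrivial (AdjoinRoot P.f) := by
    have hnd : P.f.natDegree = 2 := by
      have h2 : P.f = X ^ 2 + (C b * X + C c) := rfl
      rw [h2, Polynomial.natDegree_add_eq_left_of_degree_lt, Polynomial.natDegree_X_pow]
      rw [Polynomial.degree_X_pow]
      exact lt_of_le_of_lt (Polynomial.degree_linear_le) (by norm_num)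
    have hdim : 0 < (AdjoinRoot.powerBasis' P.monic_f).dim := by
      rw [AdjoinRoot.powerBasis'_dim, hnd]
      norm_num
    have hne := (AdjoinRoot.powerBasis' P.monic_f).basis.ne_zero ⟨0, hdim⟩
    exact nontrivial_of_ne _ _ hne
  exact (e1.toEquiv.trans e2.symm.toEquiv).nontrivial

/-- A binary form with unit leading coefficient and unit discriminant becomes hyperbolic over a
standard étale (finite free of rank two) extension, over which every prime lifts. -/
theorem exists_etale_cong_hyp (α β γ : R) (hα : IsUnit α) (hD : IsUnit (β ^ 2 - 4 * α * γ)) :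
    ∃ (R' : Type u) (_ : CommRing R') (φ : R →+* R'), φ.Etale ∧
      (∀ q : Ideal R, q.IsPrime → ∃ q' : Ideal R', q'.IsPrime ∧ q'.comap φ = q) ∧
      Cong ((plane α β γ).map φ) (hyp R') := by
  obtain ⟨a, rfl⟩ := hα
  obtain ⟨d, hd⟩ := hD
  obtain ⟨b, hb⟩ : ∃ b : R, b = ↑a⁻¹ * β := ⟨_, rfl⟩
  obtain ⟨c, hc⟩ : ∃ c : R, c = ↑a⁻¹ * γ := ⟨_, rfl⟩
  have hab : (a : R) * b = β := by rw [hb, ← mul_assoc, Units.mul_inv, one_mul]
  have hac : (a : R) * c = γ := by rw [hc, ← mul_assoc, Units.mul_inv, one_mul]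
  have he : ((a : R) ^ 2 * ↑d⁻¹) * (b ^ 2 - 4 * c) = 1 := by
    have h1 : (a : R) ^ 2 * (b ^ 2 - 4 * c) = (d : R) := by
      rw [hd, ← hab, ← hac]
      ring
    calc ((a : R) ^ 2 * ↑d⁻¹) * (b ^ 2 - 4 * c) = ↑d⁻¹ * ((a : R) ^ 2 * (b ^ 2 - 4 * c)) := by ring
      _ = 1 := by rw [h1, Units.inv_mul]
  set P := quadPair b c ((a : R) ^ 2 * ↑d⁻¹) he with hP
  refine ⟨P.Ring, inferInstance, algebraMap R P.Ring, ?_, ?_, ?_⟩
  · rw [RingHom.etale_algebraMap]
    infer_instance
  · intro q hq
    have hnt : Nontrivial R := ⟨⟨0, 1, fun h => hq.ne_top (by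
      rw [Ideal.eq_top_iff_one, ← h]; exact q.zero_mem)⟩⟩
    have := quadPair_free b c _ he
    have := quadPair_nontrivial b c _ he
    obtain ⟨q', hq'⟩ := PrimeSpectrum.comap_surjective_of_faithfullyFlat (A := R) (B := P.Ring) ⟨q, hq⟩
    exact ⟨q'.asIdeal, q'.isPrime, congrArg PrimeSpectrum.asIdeal hq'⟩
  · rw [plane_map]
    have hroot0 : aeval P.X P.f = 0 := P.hasMap_X.1
    have hf : P.f = X ^ 2 + (C b * X + C c) := rfl
    rw [hf] at hroot0
    simp only [map_add, map_mul, map_pow, aeval_X, aeval_C] at hroot0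
    set t : P.Ring := P.X with ht
    set φ := algebraMap R P.Ring with hφ
    have hroot : φ ↑a * t ^ 2 + φ β * t + φ γ = 0 := by
      rw [← hab, ← hac]
      simp only [map_mul]
      linear_combination φ ↑a * hroot0
    have hδ2 : (2 * φ ↑a * t + φ β) ^ 2 = φ ↑d := by
      rw [hd, map_sub, map_pow, map_mul, map_mul, map_ofNat]
      linear_combination 4 * φ ↑a * hroot
    refine plane_cong_hyp_of_root _ _ _ t ((2 * φ ↑a * t + φ β) * φ ↑d⁻¹) hroot ?_
    calc (2 * φ ↑a * t + φ β) * ((2 * φ ↑a * t + φ β) * φ ↑d⁻¹)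
        = (2 * φ ↑a * t + φ β) ^ 2 * φ ↑d⁻¹ := by ring
      _ = 1 := by rw [hδ2, ← map_mul, Units.mul_inv, map_one]

end Groth.Agent.H80.QuadPlane
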