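import Groth.Agent.H80.QuadPlane

set_option autoImplicit false
set_option linter.unusedSectionVars false

universe u

namespace Groth.Agent.H80.QuadZar

open Matrix Groth.Agent.H80.QuadMat Groth.Agent.H80.QuadPlane

variable {R : Type*} [CommRing R]

section General

variable {ι κ τ : Type*} [Fintype ι] [DecidableEq ι] [Fintype κ] [DecidableEq κ]
  [Fintype τ] [DecidableEq τ]

theorem bf_eq_qf (W : Matrix ι ι R) (x y : ι → R) :
    bf W x y = qf W (x + y) - qf W x - qf W y := by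
  rw [qf_add]
  ring

theorem bf_conj (W : Matrix ι ι R) (g : Matrix ι κ R) (x y : κ → R) :
    bf (gᵀ * W * g) x y = bf W (g *ᵥ x) (g *ᵥ y) := by
  rw [bf_eq_qf, bf_eq_qf, qf_conj, qf_conj, qf_conj, Matrix.mulVec_add]

/-- Orthogonal splitting: if the `τ`-block of the polar matrix is invertible, the form is congruent to
the orthogonal sum of its `τ`-block and a form on the complement. -/
theorem orth_split (W : Matrix (τ ⊕ κ) (τ ⊕ κ) R) (hu : IsUnit (pol W).toBlocks₁₁.det) :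
    ∃ W' : Matrix κ κ R, Cong W (Matrix.fromBlocks W.toBlocks₁₁ 0 0 W') := by
  set P₁₁ := (pol W).toBlocks₁₁ with hP₁₁
  set P₁₂ := (pol W).toBlocks₁₂ with hP₁₂
  set N : Matrix τ κ R := -(P₁₁⁻¹ * P₁₂) with hN
  set g₁ : Matrix (τ ⊕ κ) (τ ⊕ κ) R := Matrix.fromBlocks 1 N 0 1 with hg₁
  set W₂ := g₁ᵀ * W * g₁ with hW₂
  refine ⟨W₂.toBlocks₂₂, g₁, Matrix.fromBlocks 1 (-N) 0 1, ?_, ?_, ?_⟩
  · rw [hg₁, Matrix.fromBlocks_multiply]
    simp [Matrix.fromBlocks_one]
  · rw [hg₁, Matrix.fromBlocks_multiply]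
    simp [Matrix.fromBlocks_one]
  · have hpol : pol W₂ = g₁ᵀ * pol W * g₁ := pol_conj W g₁
    have hPW : pol W = Matrix.fromBlocks P₁₁ P₁₂ (pol W).toBlocks₂₁ (pol W).toBlocks₂₂ :=
      (Matrix.fromBlocks_toBlocks (pol W)).symm
    have h12 : (pol W₂).toBlocks₁₂ = 0 := by
      rw [hpol, hPW, hg₁, Matrix.fromBlocks_transpose, Matrix.fromBlocks_multiply,
        Matrix.fromBlocks_multiply, Matrix.toBlocks_fromBlocks₁₂]
      simp only [Matrix.transpose_one, Matrix.one_mul, Matrix.transpose_zero, Matrix.zero_mul,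
        add_zero, Matrix.mul_one]
      rw [hN, Matrix.mul_neg, ← Matrix.mul_assoc, Matrix.mul_nonsing_inv _ hu, Matrix.one_mul,
        neg_add_cancel]
    have h21 : (pol W₂).toBlocks₂₁ = 0 := by
      have hsym := pol_transpose W₂
      have h3 : (pol W₂).toBlocks₂₁ = ((pol W₂).toBlocks₁₂)ᵀ := by
        ext i j
        have := congrFun (congrFun hsym (Sum.inr i)) (Sum.inl j)
        simpa [Matrix.toBlocks₂₁, Matrix.toBlocks₁₂] using this.symm
      rw [h3, h12, Matrix.transpose_zero]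
    have h11 : W₂.toBlocks₁₁ = W.toBlocks₁₁ := by
      have hWW : W = Matrix.fromBlocks W.toBlocks₁₁ W.toBlocks₁₂ W.toBlocks₂₁ W.toBlocks₂₂ :=
        (Matrix.fromBlocks_toBlocks W).symm
      rw [hW₂, hg₁]
      conv_lhs => rw [hWW]
      rw [Matrix.fromBlocks_transpose, Matrix.fromBlocks_multiply, Matrix.fromBlocks_multiply,
        Matrix.toBlocks_fromBlocks₁₁]
      simp
    apply sameQ_of_diag_of_pol
    · rintro (a | l)
      · have := congrFun (congrFun h11 a) a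
        simpa [Matrix.toBlocks₁₁] using this
      · rfl
    · rw [pol_fromBlocks]
      have hP2 : pol W₂ = Matrix.fromBlocks (pol W₂).toBlocks₁₁ (pol W₂).toBlocks₁₂
          (pol W₂).toBlocks₂₁ (pol W₂).toBlocks₂₂ := (Matrix.fromBlocks_toBlocks (pol W₂)).symm
      rw [hP2, h12, h21, Matrix.fromBlocks_inj]
      refine ⟨?_, rfl, rfl, ?_⟩
      · rw [← h11]
        ext i j
        simp [pol, Matrix.toBlocks₁₁]
      · ext i j
        simp [pol, Matrix.toBlocks₂₂]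

end General

section Zar

variable {κ : Type*} [Fintype κ] [DecidableEq κ]

/-- The change of basis sending the first two basis vectors to `v, w`. -/
def twoColMat (v w : Fin 2 ⊕ κ → R) : Matrix (Fin 2 ⊕ κ) (Fin 2 ⊕ κ) R :=
  Matrix.fromBlocks (Matrix.of fun i c => ![v (Sum.inl i), w (Sum.inl i)] c) 0
    (Matrix.of fun l c => ![v (Sum.inr l), w (Sum.inr l)] c) 1

theorem twoColMat_mulVec_zero (v w : Fin 2 ⊕ κ → R) :
    twoColMat v w *ᵥ Pi.single (Sum.inl 0) 1 = v := by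
  rw [Matrix.mulVec_single_one]
  funext i
  rcases i with i | l
  · simp [twoColMat]
  · simp [twoColMat]

theorem twoColMat_mulVec_one (v w : Fin 2 ⊕ κ → R) :
    twoColMat v w *ᵥ Pi.single (Sum.inl 1) 1 = w := by
  rw [Matrix.mulVec_single_one]
  funext i
  rcases i with i | l
  · simp [twoColMat]
  · simp [twoColMat]

theorem twoColMat_inv (v w : Fin 2 ⊕ κ → R)
    (hμ : IsUnit (v (Sum.inl 0) * w (Sum.inl 1) - v (Sum.inl 1) * w (Sum.inl 0))) :
    ∃ G' : Matrix (Fin 2 ⊕ κ) (Fin 2 ⊕ κ) R, twoColMat v w * G' = 1 ∧ G' * twoColMat v w = 1 := by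
  obtain ⟨G₁₁, hG₁₁⟩ : ∃ G : Matrix (Fin 2) (Fin 2) R,
      G = Matrix.of fun i c => ![v (Sum.inl i), w (Sum.inl i)] c := ⟨_, rfl⟩
  obtain ⟨G₂₁, hG₂₁⟩ : ∃ G : Matrix κ (Fin 2) R,
      G = Matrix.of fun l c => ![v (Sum.inr l), w (Sum.inr l)] c := ⟨_, rfl⟩
  have hG : twoColMat v w = Matrix.fromBlocks G₁₁ 0 G₂₁ 1 := by
    rw [hG₁₁, hG₂₁]
    rfl
  have hdet : IsUnit G₁₁.det := by
    rw [Matrix.det_fin_two, hG₁₁]
    simpa [mul_comm] using hμ
  refine ⟨Matrix.fromBlocks G₁₁⁻¹ 0 (-(G₂₁ * G₁₁⁻¹)) 1, ?_, ?_⟩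
  · rw [hG, Matrix.fromBlocks_multiply]
    simp [Matrix.mul_nonsing_inv _ hdet, Matrix.fromBlocks_one]
  · rw [hG, Matrix.fromBlocks_multiply]
    simp [Matrix.nonsing_inv_mul _ hdet, Matrix.fromBlocks_one, Matrix.mul_assoc]

/-- The Zariski-local step: a regular plane spanned by `v, w` (part of a basis) splits off. -/
theorem zar_step (W : Matrix (Fin 2 ⊕ κ) (Fin 2 ⊕ κ) R) (v w : Fin 2 ⊕ κ → R)
    (hμ : IsUnit (v (Sum.inl 0) * w (Sum.inl 1) - v (Sum.inl 1) * w (Sum.inl 0)))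
    (hD : IsUnit (dsc W v w)) :
    ∃ W' : Matrix κ κ R,
      Cong W (Matrix.fromBlocks (plane (qf W v) (bf W v w) (qf W w)) 0 0 W') := by
  obtain ⟨G', hGG', hG'G⟩ := twoColMat_inv v w hμ
  set G := twoColMat v w with hG
  set W₁ := Gᵀ * W * G with hW₁
  have hc1 : Cong W W₁ := ⟨G, G', hGG', hG'G, SameQ.refl _⟩
  have e00 : W₁ (Sum.inl 0) (Sum.inl 0) = qf W v := by
    have h1 := qf_single W₁ (Sum.inl 0)
    rw [← h1, hW₁, qf_conj, hG, twoColMat_mulVec_zero]
  have e11 : W₁ (Sum.inl 1) (Sum.inl 1) = qf W w := by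
    have h1 := qf_single W₁ (Sum.inl 1)
    rw [← h1, hW₁, qf_conj, hG, twoColMat_mulVec_one]
  have e01 : pol W₁ (Sum.inl 0) (Sum.inl 1) = bf W v w := by
    have h1 := bf_single W₁ (Sum.inl 0) (Sum.inl 1)
    rw [← h1, hW₁, bf_conj, hG, twoColMat_mulVec_zero, twoColMat_mulVec_one]
  have e10 : pol W₁ (Sum.inl 1) (Sum.inl 0) = bf W v w := by
    have h1 := bf_single W₁ (Sum.inl 1) (Sum.inl 0)
    rw [← h1, hW₁, bf_conj, hG, twoColMat_mulVec_zero, twoColMat_mulVec_one, bf_comm]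
  have p00 : pol W₁ (Sum.inl 0) (Sum.inl 0) = 2 * qf W v := by
    rw [← e00]
    simp [pol, two_mul]
  have p11 : pol W₁ (Sum.inl 1) (Sum.inl 1) = 2 * qf W w := by
    rw [← e11]
    simp [pol, two_mul]
  have hu : IsUnit (pol W₁).toBlocks₁₁.det := by
    rw [Matrix.det_fin_two]
    simp only [Matrix.toBlocks₁₁, Matrix.of_apply]
    rw [p00, p11, e01, e10]
    have : 2 * qf W v * (2 * qf W w) - bf W v w * bf W v w = -(dsc W v w) := by
      unfold dsc
      ring
    rw [this]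
    exact hD.neg
  obtain ⟨W', hW'⟩ := orth_split W₁ hu
  refine ⟨W', hc1.trans (hW'.trans (Cong.fromBlocks (Cong.of_sameQ ?_) (Cong.refl W')))⟩
  apply sameQ_of_diag_of_pol
  · intro i
    fin_cases i
    · simpa [Matrix.toBlocks₁₁, plane] using e00
    · simpa [Matrix.toBlocks₁₁, plane] using e11
  · ext i j
    have hpb : ∀ a b, pol W₁.toBlocks₁₁ a b = pol W₁ (Sum.inl a) (Sum.inl b) := by
      intro a b
      simp [pol, Matrix.toBlocks₁₁]
    rw [hpb]
    fin_cases i <;> fin_cases j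
    · simp only [Fin.zero_eta, Fin.isValue]
      rw [p00]
      simp [pol, plane, two_mul]
    · simp only [Fin.zero_eta, Fin.mk_one, Fin.isValue]
      rw [e01]
      simp [pol, plane]
    · simp only [Fin.zero_eta, Fin.mk_one, Fin.isValue]
      rw [e10]
      simp [pol, plane]
    · simp only [Fin.mk_one, Fin.isValue]
      rw [p11]
      simp [pol, plane, two_mul]

end Zar

end Groth.Agent.H80.QuadZar
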