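import Mathlib

/-!
# Regular endomorphisms and cyclic vectors

* `exists_injective_of_not_coprime`: for a product of quotients `Π R ⧸ I i` with a nonzero
  module map between two different factors there is an `(n+1)`-dimensional space of
  `R`-equivariant endomorphisms.
* `exists_cyclic_of_finrank_centralizer_le`: an endomorphism of a finite-dimensional vector
  space whose commutant has dimension at most `dim V` has a cyclic vector.
* matrix versions, lifting cyclic vectors over local rings (Nakayama), and the consequence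
  that every matrix commuting with a matrix admitting a cyclic vector is a polynomial in it.
-/

set_option autoImplicit false

universe u v

namespace Groth.Agent.H80.RegCyc

open Polynomial

section PiQuot

variable {K : Type*} [Field K] {R : Type*} [CommRing R] [Algebra K R]
  {ι : Type*} [Fintype ι] [DecidableEq ι] (I : ι → Ideal R)

/-- Case B: a nonzero map between two distinct factors gives an extra dimension of
equivariant endomorphisms. -/
theorem exists_injective_of_not_coprime (i j : ι) (hij : i ≠ j) (c : R)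
    (hc : ∀ a ∈ I i, c * a ∈ I j) (hcn : c ∉ I j) :
    ∃ Ψ : ((Π k, R ⧸ I k) × K) →ₗ[K] ((Π k, R ⧸ I k) →ₗ[K] (Π k, R ⧸ I k)),
      Function.Injective Ψ ∧ ∀ z (r : R) (m : Π k, R ⧸ I k), Ψ z (r • m) = r • Ψ z m := by
  classical
  let φ : (R ⧸ I i) →ₗ[R] (R ⧸ I j) :=
    Submodule.mapQ (I i) (I j) (LinearMap.mulLeft R c) (fun a ha => by
      rw [Submodule.mem_comap]; exact hc a ha)
  have hφ : ∀ a : R, φ (Ideal.Quotient.mk (I i) a) = Ideal.Quotient.mk (I j) (c * a) :=
    fun a => rfl
  let h : (Π k, R ⧸ I k) →ₗ[R] (Π k, R ⧸ I k) :=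
    (LinearMap.single R (fun k => R ⧸ I k) j) ∘ₗ φ ∘ₗ (LinearMap.proj i)
  have hh : ∀ m : Π k, R ⧸ I k, h m = Pi.single j (φ (m i)) := fun m => rfl
  let Ψ : ((Π k, R ⧸ I k) × K) →ₗ[K] ((Π k, R ⧸ I k) →ₗ[K] (Π k, R ⧸ I k)) :=
    (LinearMap.mul K (Π k, R ⧸ I k)).coprod
      (LinearMap.toSpanSingleton K _ (h.restrictScalars K))
  have hΨ : ∀ (a : Π k, R ⧸ I k) (t : K) (m : Π k, R ⧸ I k),
      Ψ (a, t) m = a * m + t • h m := by
    intro a t m
    simp only [Ψ, LinearMap.coprod_apply, LinearMap.add_apply, LinearMap.mul_apply',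
      LinearMap.toSpanSingleton_apply, LinearMap.smul_apply, LinearMap.coe_restrictScalars]
  refine ⟨Ψ, ?_, ?_⟩
  · rw [← LinearMap.ker_eq_bot, LinearMap.ker_eq_bot']
    rintro ⟨a, t⟩ hz
    have h1 := LinearMap.congr_fun hz (Pi.single i 1)
    rw [hΨ, hh, LinearMap.zero_apply] at h1
    have hi := congrFun h1 i
    have hj := congrFun h1 j
    simp only [Pi.add_apply, Pi.mul_apply, Pi.smul_apply, Pi.single_eq_same, Pi.zero_apply,
      Pi.single_eq_of_ne hij, Pi.single_eq_of_ne (Ne.symm hij), mul_one, mul_zero, smul_zero,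
      add_zero, zero_add] at hi hj
    have hφ1 : φ 1 ≠ 0 := by
      have : φ 1 = Ideal.Quotient.mk (I j) c := by
        have := hφ 1
        rwa [mul_one, map_one] at this
      rw [this, Ne, Ideal.Quotient.eq_zero_iff_mem]
      exact hcn
    have ht : t = 0 := by
      rcases smul_eq_zero.mp hj with h0 | h0
      · exact h0
      · exact absurd h0 hφ1
    have ha : a = 0 := by
      have h2 := LinearMap.congr_fun hz 1
      rw [hΨ, ht, zero_smul, add_zero, mul_one, LinearMap.zero_apply] at h2
      exact h2
    rw [ha, ht]; rfl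
  · rintro ⟨a, t⟩ r m
    rw [hΨ, hΨ, map_smul, mul_smul_comm, smul_add, smul_comm t r]

end PiQuot

section Field

variable {K : Type u} [Field K] {V : Type v} [AddCommGroup V] [Module K V] [FiniteDimensional K V]

theorem exists_cyclic_of_finrank_centralizer_le (f : Module.End K V)
    (hf : Module.finrank K (Subalgebra.centralizer K ({f} : Set (Module.End K V))) ≤
      Module.finrank K V) :
    ∃ v : V, ∀ u : V, ∃ r : K[X], aeval f r v = u := by
  classical
  have hM : Module.IsTorsion K[X] (Module.AEval' f) :=
    Module.AEval.isTorsion_of_finiteDimensional K V f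
  obtain ⟨ι, _, p, hp, e, ⟨L⟩⟩ := Module.equiv_directSum_of_isTorsion hM
  let I : ι → Ideal K[X] := fun i => Ideal.span {p i ^ e i}
  let L' : Module.AEval' f ≃ₗ[K[X]] (Π i, K[X] ⧸ I i) :=
    L.trans (DirectSum.linearEquivFunOnFintype K[X] ι (fun i => K[X] ⧸ I i))
  let E : V ≃ₗ[K] (Π i, K[X] ⧸ I i) := (Module.AEval'.of f).trans (L'.restrictScalars K)
  have hE : ∀ (r : K[X]) (v : V), E (aeval f r v) = r • E v := by
    intro r v
    show L' (Module.AEval'.of f (aeval f r v)) = r • L' (Module.AEval'.of f v)
    rw [← map_smul]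
    rfl
  have hEsymm : ∀ (r : K[X]) (m : Π i, K[X] ⧸ I i), E.symm (r • m) = aeval f r (E.symm m) := by
    intro r m
    apply E.injective
    rw [hE, E.apply_symm_apply, E.apply_symm_apply]
  by_cases hcop : Pairwise (Function.onFun IsCoprime I)
  · refine ⟨E.symm 1, fun u => ?_⟩
    obtain ⟨r, hr⟩ := Ideal.pi_quotient_surjective hcop (E u)
    refine ⟨r, ?_⟩
    apply E.injective
    rw [hE, E.apply_symm_apply]
    funext i
    rw [← hr i, Pi.smul_apply, Pi.one_apply]
    exact (Algebra.algebraMap_eq_smul_one (A := K[X] ⧸ I i) r).symm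
  · exfalso
    rw [Pairwise] at hcop
    push_neg at hcop
    obtain ⟨i, j, hij, hnc⟩ := hcop
    have hnc' : ¬ IsCoprime (p i ^ e i) (p j ^ e j) := by
      intro h
      exact hnc ((Ideal.isCoprime_span_singleton_iff _ _).mpr h)
    have hei : e i ≠ 0 := by
      intro h0
      apply hnc'
      rw [h0, pow_zero]
      exact isCoprime_one_left
    have hej : e j ≠ 0 := by
      intro h0
      apply hnc'
      rw [h0, pow_zero]
      exact isCoprime_one_right
    have hpp : ¬ IsCoprime (p i) (p j) := fun h => hnc' (h.pow)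
    have hdvd : p i ∣ p j := (hp i).dvd_iff_not_isCoprime.mpr hpp
    have hassoc : Associated (p i) (p j) := (hp i).associated_of_dvd (hp j) hdvd
    have hIj : I j = Ideal.span {p i ^ e j} :=
      (Ideal.span_singleton_eq_span_singleton.mpr (hassoc.pow_pow (n := e j))).symm
    obtain ⟨Ψ, hΨinj, hΨeq⟩ := exists_injective_of_not_coprime (K := K) I i j hij
      (p i ^ (e j - e i))
      (by
        intro a ha
        rw [Ideal.mem_span_singleton] at ha
        obtain ⟨b, rfl⟩ := ha
        rw [hIj, Ideal.mem_span_singleton]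
        obtain ⟨d, hd⟩ : ∃ d, e i + (e j - e i) = e j + d :=
          ⟨e i + (e j - e i) - e j, by omega⟩
        refine ⟨p i ^ d * b, ?_⟩
        calc p i ^ (e j - e i) * (p i ^ e i * b)
            = p i ^ (e i + (e j - e i)) * b := by rw [pow_add]; ring
          _ = p i ^ e j * (p i ^ d * b) := by
            rw [hd, pow_add]; ring)
      (by
        rw [hIj, Ideal.mem_span_singleton, pow_dvd_pow_iff (hp i).ne_zero (hp i).not_isUnit]
        omega)
    -- conjugate back to `V`
    let Θ : ((Π k, K[X] ⧸ I k) × K) →ₗ[K] Module.End K V :=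
      (E.symm.conj : Module.End K (Π k, K[X] ⧸ I k) ≃ₗ[K] Module.End K V).toLinearMap ∘ₗ Ψ
    have hΘ : ∀ z v, Θ z v = E.symm (Ψ z (E v)) := by
      intro z v
      simp only [Θ, LinearMap.coe_comp, LinearEquiv.coe_coe, Function.comp_apply,
        LinearEquiv.conj_apply, LinearEquiv.symm_symm]
    have hΘinj : Function.Injective Θ :=
      (E.symm.conj : Module.End K (Π k, K[X] ⧸ I k) ≃ₗ[K] Module.End K V).injective.comp hΨinj
    have hΘmem : ∀ z, Θ z ∈ Subalgebra.centralizer K ({f} : Set (Module.End K V)) := by
      intro z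
      rw [Subalgebra.mem_centralizer_iff]
      intro g hg
      rw [Set.mem_singleton_iff] at hg
      subst hg
      ext v
      rw [Module.End.mul_apply, Module.End.mul_apply, hΘ, hΘ]
      have h1 : E (g v) = (X : K[X]) • E v := by
        have := hE X v
        rwa [aeval_X] at this
      rw [h1, hΨeq, hEsymm, aeval_X]
    let Θ' : ((Π k, K[X] ⧸ I k) × K) →ₗ[K]
        (Subalgebra.centralizer K ({f} : Set (Module.End K V))) :=
      LinearMap.codRestrict (Subalgebra.toSubmodule (Subalgebra.centralizer K {f})) Θ hΘmem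
    have hΘ'inj : Function.Injective Θ' := by
      intro z z' hzz
      apply hΘinj
      exact congrArg Subtype.val hzz
    have : FiniteDimensional K (Π k, K[X] ⧸ I k) := E.finiteDimensional
    have hle := LinearMap.finrank_le_finrank_of_injective hΘ'inj
    rw [Module.finrank_prod, Module.finrank_self, ← E.finrank_eq] at hle
    omega

end Field

section MatrixGeneral

variable {B : Type*} [CommRing B] {n : ℕ}

theorem aeval_toLin' (g : Matrix (Fin n) (Fin n) B) (r : B[X]) (v : Fin n → B) :
    aeval (Matrix.toLin' g) r v = (aeval g r).mulVec v := by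
  have h1 := Polynomial.aeval_algHom_apply
    (Matrix.toLinAlgEquiv' (R := B) (n := Fin n)).toAlgHom g r
  have h2 : (Matrix.toLinAlgEquiv' (R := B) (n := Fin n)).toAlgHom g = Matrix.toLin' g := rfl
  rw [h2] at h1
  rw [h1]
  rfl

theorem commute_aeval {S : Type*} [Ring S] [Algebra B S] {x g : S} (h : Commute x g)
    (r : B[X]) : Commute x (aeval g r) := by
  induction r using Polynomial.induction_on' with
  | add p q hp hq => rw [map_add]; exact hp.add_right hq
  | monomial k a =>
    rw [aeval_monomial]
    exact (Algebra.commute_algebraMap_right a x).mul_right (h.pow_right k)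

theorem eq_aeval_of_commute_of_cyclic (g x : Matrix (Fin n) (Fin n) B) (v : Fin n → B)
    (hv : ∀ u : Fin n → B, ∃ r : B[X], (aeval g r).mulVec v = u) (hx : x * g = g * x) :
    ∃ a : B[X], x = aeval g a := by
  obtain ⟨a, ha⟩ := hv (x.mulVec v)
  refine ⟨a, ?_⟩
  apply Matrix.toLin'.injective
  apply LinearMap.ext
  intro u
  obtain ⟨r, rfl⟩ := hv u
  rw [Matrix.toLin'_apply, Matrix.toLin'_apply]
  have hc : x * aeval g r = aeval g r * x := (commute_aeval (show Commute x g from hx) r).eq
  calc x.mulVec ((aeval g r).mulVec v) = (x * aeval g r).mulVec v := Matrix.mulVec_mulVec _ _ _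
    _ = (aeval g r * x).mulVec v := by rw [hc]
    _ = (aeval g r).mulVec (x.mulVec v) := (Matrix.mulVec_mulVec _ _ _).symm
    _ = (aeval g r).mulVec ((aeval g a).mulVec v) := by rw [ha]
    _ = (aeval g r * aeval g a).mulVec v := Matrix.mulVec_mulVec _ _ _
    _ = (aeval g a * aeval g r).mulVec v := by rw [← map_mul, ← map_mul, mul_comm]
    _ = (aeval g a).mulVec ((aeval g r).mulVec v) := (Matrix.mulVec_mulVec _ _ _).symm

theorem comm_of_cyclic (g x y : Matrix (Fin n) (Fin n) B) (v : Fin n → B)
    (hv : ∀ u : Fin n → B, ∃ r : B[X], (aeval g r).mulVec v = u) (hx : x * g = g * x)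
    (hy : y * g = g * y) : x * y = y * x := by
  obtain ⟨a, rfl⟩ := eq_aeval_of_commute_of_cyclic g x v hv hx
  obtain ⟨b, rfl⟩ := eq_aeval_of_commute_of_cyclic g y v hv hy
  rw [← map_mul, ← map_mul, mul_comm]

theorem comm_of_cyclic' (g x y : Matrix (Fin n) (Fin n) B) (v : Fin n → B)
    (hv : ∀ u : Fin n → B, ∃ r : B[X], (aeval g r).mulVec v = u) (hx : x * g = g * x)
    (hy : y * g = g * y) : y * x = x * y := (comm_of_cyclic g x y v hv hx hy).symm

theorem map_aeval_matrix {C : Type*} [CommRing C] (φ : B →+* C)
    (g : Matrix (Fin n) (Fin n) B) (r : B[X]) :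
    (aeval g r).map φ = aeval (g.map φ) (r.map φ) := by
  have h := Polynomial.map_aeval_eq_aeval_map (φ := φ) (ψ := φ.mapMatrix (m := Fin n))
    (S := Matrix (Fin n) (Fin n) B) (U := Matrix (Fin n) (Fin n) C) (by
      ext b i j
      simp only [RingHom.coe_comp, Function.comp_apply, Matrix.algebraMap_matrix_apply,
        RingHom.mapMatrix_apply, Matrix.map_apply, Algebra.algebraMap_self, RingHom.id_apply]
      split_ifs <;> simp) r g
  exact h

end MatrixGeneral

section MatrixField

variable {K : Type u} [Field K] {n : ℕ}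

theorem exists_cyclic_matrix (g : Matrix (Fin n) (Fin n) K)
    (hg : Module.finrank K
      (Subalgebra.centralizer K ({g} : Set (Matrix (Fin n) (Fin n) K))) ≤ n) :
    ∃ v : Fin n → K, ∀ u : Fin n → K, ∃ r : K[X], (aeval g r).mulVec v = u := by
  let f : Module.End K (Fin n → K) := Matrix.toLin' g
  have hfin : Module.finrank K (Fin n → K) = n := by simp
  have hle : Module.finrank K
      (Subalgebra.centralizer K ({f} : Set (Module.End K (Fin n → K)))) ≤
      Module.finrank K (Fin n → K) := by
    rw [hfin]
    refine le_trans ?_ hg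
    let T : (Subalgebra.centralizer K ({f} : Set (Module.End K (Fin n → K)))) →ₗ[K]
        (Subalgebra.centralizer K ({g} : Set (Matrix (Fin n) (Fin n) K))) :=
      LinearMap.codRestrict (Subalgebra.toSubmodule (Subalgebra.centralizer K {g}))
        ((LinearMap.toMatrix' :
            ((Fin n → K) →ₗ[K] (Fin n → K)) ≃ₗ[K] Matrix (Fin n) (Fin n) K).toLinearMap ∘ₗ
          (Subalgebra.toSubmodule (Subalgebra.centralizer K {f})).subtype)
        (by
          rintro ⟨ψ, hψ⟩
          rw [Subalgebra.mem_centralizer_iff] at hψ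
          rw [Subalgebra.mem_toSubmodule, Subalgebra.mem_centralizer_iff]
          intro g' hg'
          rw [Set.mem_singleton_iff] at hg'
          subst hg'
          have h1 := hψ f rfl
          have hgf : LinearMap.toMatrix' f = g' := LinearMap.toMatrix'_toLin' g'
          show g' * LinearMap.toMatrix' ψ = LinearMap.toMatrix' ψ * g'
          rw [← hgf, ← LinearMap.toMatrix'_mul, ← LinearMap.toMatrix'_mul, h1])
    refine LinearMap.finrank_le_finrank_of_injective (f := T) ?_
    intro a b hab
    have := congrArg Subtype.val hab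
    simp only [T, LinearMap.codRestrict_apply, LinearMap.coe_comp, LinearEquiv.coe_coe,
      Submodule.coe_subtype, Function.comp_apply] at this
    exact Subtype.ext (LinearMap.toMatrix'.injective this)
  obtain ⟨v, hv⟩ := exists_cyclic_of_finrank_centralizer_le f hle
  refine ⟨v, fun u => ?_⟩
  obtain ⟨r, hr⟩ := hv u
  exact ⟨r, by rw [← aeval_toLin']; exact hr⟩

end MatrixField

section Local

variable {B : Type u} [CommRing B] [IsLocalRing B] {n : ℕ}

open IsLocalRing in
theorem exists_cyclic_of_residue (g : Matrix (Fin n) (Fin n) B)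
    (vbar : Fin n → ResidueField B)
    (hvbar : ∀ ubar : Fin n → ResidueField B, ∃ rbar : (ResidueField B)[X],
      (aeval (g.map (residue B)) rbar).mulVec vbar = ubar) :
    ∃ v : Fin n → B, ∀ u : Fin n → B, ∃ r : B[X], (aeval g r).mulVec v = u := by
  have hsurj := IsLocalRing.residue_surjective (R := B)
  choose v hv using fun i => hsurj (vbar i)
  refine ⟨v, ?_⟩
  let Φ : B[X] →ₗ[B] (Fin n → B) :=
    (LinearMap.applyₗ v) ∘ₗ (Matrix.toLin' :
      Matrix (Fin n) (Fin n) B ≃ₗ[B] ((Fin n → B) →ₗ[B] (Fin n → B))).toLinearMap ∘ₗ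
      (aeval g).toLinearMap
  have hΦ : ∀ r, Φ r = (aeval g r).mulVec v := fun r => rfl
  have hN : (⊤ : Submodule B (Fin n → B)) ≤ LinearMap.range Φ := by
    apply Submodule.le_of_le_smul_of_le_jacobson_bot (I := maximalIdeal B)
      Module.Finite.fg_top (IsLocalRing.maximalIdeal_le_jacobson ⊥)
    intro u _
    obtain ⟨rbar, hrbar⟩ := hvbar (fun i => residue B (u i))
    obtain ⟨r, rfl⟩ := Polynomial.map_surjective (residue B) hsurj rbar
    have hd : ∀ i, u i - ((aeval g r).mulVec v) i ∈ maximalIdeal B := by
      intro i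
      rw [← Ideal.Quotient.eq_zero_iff_mem]
      show residue B (u i - ((aeval g r).mulVec v) i) = 0
      rw [map_sub, RingHom.map_mulVec, map_aeval_matrix, sub_eq_zero]
      have hvv : (residue B) ∘ v = vbar := funext hv
      rw [hvv, hrbar]
    rw [Submodule.mem_sup]
    refine ⟨(aeval g r).mulVec v, ⟨r, hΦ r⟩, u - (aeval g r).mulVec v, ?_, by abel⟩
    have hsum : u - (aeval g r).mulVec v =
        ∑ i, Pi.single i ((u - (aeval g r).mulVec v) i) :=
      (Finset.univ_sum_single _).symm
    rw [hsum]
    refine Submodule.sum_mem _ (fun i _ => ?_)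
    have hs : (Pi.single i ((u - (aeval g r).mulVec v) i) : Fin n → B) =
        ((u - (aeval g r).mulVec v) i) • (Pi.single i (1 : B) : Fin n → B) := by
      rw [← Pi.single_smul', smul_eq_mul, mul_one]
    rw [hs]
    exact Submodule.smul_mem_smul (hd i) Submodule.mem_top
  intro u
  obtain ⟨r, hr⟩ := hN (Submodule.mem_top (x := u))
  exact ⟨r, by rw [← hΦ]; exact hr⟩

end Local

section Global

variable (A : Type u) [CommRing A] (n : ℕ) (g : Matrix (Fin n) (Fin n) A)

theorem exists_cyclic_localization
    (hreg : ∀ (K : Type u) [Field K] (φ : A →+* K),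
      Module.finrank K (Subalgebra.centralizer K ({g.map φ} : Set (Matrix (Fin n) (Fin n) K))) = n)
    (B : Type u) [CommRing B] [Algebra A B] (J : Ideal B) [J.IsMaximal] :
    ∃ v : Fin n → Localization.AtPrime J, ∀ u, ∃ r : (Localization.AtPrime J)[X],
      (aeval ((g.map (algebraMap A B)).map (algebraMap B (Localization.AtPrime J))) r).mulVec v
        = u := by
  let φ : A →+* IsLocalRing.ResidueField (Localization.AtPrime J) :=
    (IsLocalRing.residue (Localization.AtPrime J)).comp
      ((algebraMap B (Localization.AtPrime J)).comp (algebraMap A B))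
  have h := hreg (IsLocalRing.ResidueField (Localization.AtPrime J)) φ
  obtain ⟨vbar, hvbar⟩ := exists_cyclic_matrix (g.map φ) h.le
  apply exists_cyclic_of_residue _ vbar
  have hmap : ((g.map (algebraMap A B)).map (algebraMap B (Localization.AtPrime J))).map
      (IsLocalRing.residue (Localization.AtPrime J)) = g.map φ := by
    ext i j
    simp only [Matrix.map_apply, φ, RingHom.coe_comp, Function.comp_apply]
  rw [hmap]
  exact hvbar

/-- Matrices commuting with a fiberwise regular matrix commute with each other. -/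
theorem comm_of_fiberwise_regular
    (hreg : ∀ (K : Type u) [Field K] (φ : A →+* K),
      Module.finrank K (Subalgebra.centralizer K ({g.map φ} : Set (Matrix (Fin n) (Fin n) K))) = n)
    (B : Type u) [CommRing B] [Algebra A B] (x y : Matrix (Fin n) (Fin n) B)
    (hxg : x * g.map (algebraMap A B) = g.map (algebraMap A B) * x)
    (hyg : y * g.map (algebraMap A B) = g.map (algebraMap A B) * y) :
    x * y = y * x := by
  rw [← sub_eq_zero]
  ext i j
  apply eq_zero_of_localization
  intro J hJ
  obtain ⟨v, hv⟩ := exists_cyclic_localization A n g hreg B J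
  have hx' : (algebraMap B (Localization.AtPrime J)).mapMatrix x *
      (g.map (algebraMap A B)).map (algebraMap B (Localization.AtPrime J)) =
      (g.map (algebraMap A B)).map (algebraMap B (Localization.AtPrime J)) *
        (algebraMap B (Localization.AtPrime J)).mapMatrix x := by
    have := congrArg (algebraMap B (Localization.AtPrime J)).mapMatrix hxg
    rwa [map_mul, map_mul] at this
  have hy' : (algebraMap B (Localization.AtPrime J)).mapMatrix y *
      (g.map (algebraMap A B)).map (algebraMap B (Localization.AtPrime J)) =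
      (g.map (algebraMap A B)).map (algebraMap B (Localization.AtPrime J)) *
        (algebraMap B (Localization.AtPrime J)).mapMatrix y := by
    have := congrArg (algebraMap B (Localization.AtPrime J)).mapMatrix hyg
    rwa [map_mul, map_mul] at this
  have hc := comm_of_cyclic _ _ _ v hv hx' hy'
  have h0 : (algebraMap B (Localization.AtPrime J)).mapMatrix (x * y - y * x) = 0 := by
    rw [map_sub, map_mul, map_mul, hc, sub_self]
  have := congrFun (congrFun h0 i) j
  simpa using this

end Global

end Groth.Agent.H80.RegCyc
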