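import Groth.Agent.H80.RegCyc

/-!
# The commutant of a fiberwise regular matrix is a polynomial ring

For a fiberwise regular `g ∈ M_n(A)` and every `A`-algebra `B`, the map
`B^n → M_n(B)`, `c ↦ Σ c_k g^k` is a bijection onto the commutant of `g`.  Consequently the
coordinate ring of the commutant scheme is a polynomial ring in `n` variables, hence flat.
-/

set_option autoImplicit false

universe u

namespace Groth.Agent.H80.RegCyc

open Polynomial

section Krylov

variable {B : Type*} [CommRing B] {n : ℕ}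

/-- The Krylov matrix with columns `g^k v`. -/
def kry (g : Matrix (Fin n) (Fin n) B) (v : Fin n → B) : Matrix (Fin n) (Fin n) B :=
  Matrix.of fun i k => ((g ^ (k : ℕ)).mulVec v) i

/-- `Σ c_k g^k`. -/
def polyMat (g : Matrix (Fin n) (Fin n) B) (c : Fin n → B) : Matrix (Fin n) (Fin n) B :=
  ∑ k : Fin n, c k • g ^ (k : ℕ)

theorem polyMat_mulVec (g : Matrix (Fin n) (Fin n) B) (c v : Fin n → B) :
    (polyMat g c).mulVec v = (kry g v).mulVec c := by
  ext i
  simp only [polyMat, kry, Matrix.mulVec, dotProduct, Matrix.of_apply, Matrix.sum_apply,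
    Matrix.smul_apply, smul_eq_mul, Finset.sum_mul]
  rw [Finset.sum_comm]
  exact Finset.sum_congr rfl fun k _ => Finset.sum_congr rfl fun j _ => by ring

theorem polyMat_commute (g : Matrix (Fin n) (Fin n) B) (c : Fin n → B) :
    polyMat g c * g = g * polyMat g c := by
  simp only [polyMat, Finset.sum_mul, Finset.mul_sum]
  refine Finset.sum_congr rfl fun k _ => ?_
  rw [smul_mul_assoc, mul_smul_comm, (Commute.pow_self g (k : ℕ)).eq]

theorem polyMat_add (g : Matrix (Fin n) (Fin n) B) (c c' : Fin n → B) :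
    polyMat g (c + c') = polyMat g c + polyMat g c' := by
  simp only [polyMat, Pi.add_apply, add_smul, Finset.sum_add_distrib]

theorem polyMat_sub (g : Matrix (Fin n) (Fin n) B) (c c' : Fin n → B) :
    polyMat g (c - c') = polyMat g c - polyMat g c' := by
  simp only [polyMat, Pi.sub_apply, sub_smul, Finset.sum_sub_distrib]

theorem polyMat_smul (g : Matrix (Fin n) (Fin n) B) (b : B) (c : Fin n → B) :
    polyMat g (b • c) = b • polyMat g c := by
  simp only [polyMat, Pi.smul_apply, smul_eq_mul, mul_smul, Finset.smul_sum]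

theorem polyMat_zero (g : Matrix (Fin n) (Fin n) B) : polyMat g 0 = 0 := by
  simp only [polyMat, Pi.zero_apply, zero_smul, Finset.sum_const_zero]

theorem map_pow_matrix {B' : Type*} [CommRing B'] (f : B →+* B')
    (g : Matrix (Fin n) (Fin n) B) (k : ℕ) : (g ^ k).map f = (g.map f) ^ k :=
  map_pow f.mapMatrix g k

theorem polyMat_map {B' : Type*} [CommRing B'] (f : B →+* B')
    (g : Matrix (Fin n) (Fin n) B) (c : Fin n → B) :
    (polyMat g c).map f = polyMat (g.map f) (fun k => f (c k)) := by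
  ext i j
  simp only [polyMat, Matrix.map_apply, Matrix.sum_apply, Matrix.smul_apply, smul_eq_mul,
    map_sum, map_mul]
  refine Finset.sum_congr rfl fun k _ => ?_
  rw [← map_pow_matrix]
  rfl

theorem kry_map {B' : Type*} [CommRing B'] (f : B →+* B')
    (g : Matrix (Fin n) (Fin n) B) (v : Fin n → B) :
    (kry g v).map f = kry (g.map f) (fun i => f (v i)) := by
  ext i k
  simp only [kry, Matrix.map_apply, Matrix.of_apply]
  rw [RingHom.map_mulVec, map_pow_matrix]
  rfl

theorem isUnit_det_kry_of_cyclic (g : Matrix (Fin n) (Fin n) B) (v : Fin n → B)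
    (hv : ∀ u : Fin n → B, ∃ r : B[X], (aeval g r).mulVec v = u) :
    IsUnit (kry g v).det := by
  rw [← Matrix.isUnit_iff_isUnit_det, ← Matrix.mulVec_surjective_iff_isUnit]
  intro u
  rcases Nat.eq_zero_or_pos n with hn | hn
  · subst hn
    exact ⟨fun i => i.elim0, funext fun i => i.elim0⟩
  rcases subsingleton_or_nontrivial B with hB | hB
  · exact ⟨0, Subsingleton.elim _ _⟩
  obtain ⟨r, hr⟩ := hv u
  have hχ : g.charpoly.Monic := Matrix.charpoly_monic g
  have h1 : g.charpoly.natDegree = n := by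
    rw [Matrix.charpoly_natDegree_eq_dim]; simp
  have hne : g.charpoly ≠ 1 := by
    intro h
    rw [h, natDegree_one] at h1
    omega
  have hdeg : (r %ₘ g.charpoly).natDegree < n := by
    have := Polynomial.natDegree_modByMonic_lt r hχ hne
    omega
  have hr' : aeval g r = aeval g (r %ₘ g.charpoly) := by
    have := Polynomial.modByMonic_add_div r g.charpoly
    conv_lhs => rw [← this]
    rw [map_add, map_mul, Matrix.aeval_self_charpoly, zero_mul, add_zero]
  refine ⟨fun k => (r %ₘ g.charpoly).coeff k, ?_⟩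
  rw [← polyMat_mulVec, ← hr, hr', Polynomial.aeval_eq_sum_range' hdeg]
  congr 1
  rw [polyMat, Fin.sum_univ_eq_sum_range (fun k => (r %ₘ g.charpoly).coeff k • g ^ k) n]

theorem polyMat_injective_of_span (g : Matrix (Fin n) (Fin n) B)
    (hD : Ideal.span (Set.range fun v : Fin n → B => (kry g v).det) = ⊤)
    (c : Fin n → B) (hc : polyMat g c = 0) : c = 0 := by
  have h1 : ∀ v : Fin n → B, (kry g v).det • c = 0 := by
    intro v
    have h0 : (kry g v).mulVec c = 0 := by rw [← polyMat_mulVec, hc, Matrix.zero_mulVec]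
    have h2 : ((kry g v).adjugate * kry g v).mulVec c = 0 := by
      rw [← Matrix.mulVec_mulVec, h0, Matrix.mulVec_zero]
    rw [Matrix.adjugate_mul] at h2
    rw [← h2]
    ext i
    simp [Matrix.mulVec, dotProduct, Matrix.smul_apply, Matrix.one_apply, Finset.mul_sum]
  funext k
  have hall : ∀ d ∈ Ideal.span (Set.range fun v : Fin n → B => (kry g v).det),
      d * c k = 0 := by
    intro d hd
    induction hd using Submodule.span_induction with
    | mem x hx =>
      obtain ⟨v, rfl⟩ := hx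
      exact congrFun (h1 v) k
    | zero => simp
    | add x y _ _ hx hy => rw [add_mul, hx, hy, add_zero]
    | smul a x _ hx => rw [smul_eq_mul, mul_assoc, hx, mul_zero]
  have := hall 1 (hD ▸ Submodule.mem_top)
  simpa using this

theorem exists_polyMat_of_commute (g : Matrix (Fin n) (Fin n) B)
    (hD : Ideal.span (Set.range fun v : Fin n → B => (kry g v).det) = ⊤)
    (x : Matrix (Fin n) (Fin n) B) (hx : x * g = g * x) : ∃ c, x = polyMat g c := by
  let 𝔞 : Ideal B :=
    { carrier := {b | ∃ c, b • x = polyMat g c}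
      add_mem' := by
        rintro b b' ⟨c, hc⟩ ⟨c', hc'⟩
        exact ⟨c + c', by rw [add_smul, hc, hc', polyMat_add]⟩
      zero_mem' := ⟨0, by rw [zero_smul, polyMat_zero]⟩
      smul_mem' := by
        rintro a b ⟨c, hc⟩
        exact ⟨a • c, by rw [smul_eq_mul, mul_smul, hc, polyMat_smul]⟩ }
  have hsq : ∀ v : Fin n → B, (kry g v).det ^ 2 ∈ 𝔞 := by
    intro v
    obtain ⟨d, hd⟩ : ∃ d, d = (kry g v).det := ⟨_, rfl⟩
    obtain ⟨c, hcdef⟩ : ∃ c, c = (kry g v).adjugate.mulVec (x.mulVec v) := ⟨_, rfl⟩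
    obtain ⟨y, hydef⟩ : ∃ y, y = d • x - polyMat g c := ⟨_, rfl⟩
    have hy : y * g = g * y := by
      rw [hydef, sub_mul, mul_sub, smul_mul_assoc, mul_smul_comm, hx, polyMat_commute]
    have hyv : y.mulVec v = 0 := by
      rw [hydef, Matrix.sub_mulVec, polyMat_mulVec, hcdef, Matrix.mulVec_mulVec,
        Matrix.mul_adjugate, ← hd]
      ext i
      simp [Matrix.mulVec, dotProduct, Matrix.smul_apply, Matrix.one_apply, Finset.mul_sum,
        mul_assoc]
    have hyk : y * kry g v = 0 := by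
      ext i k
      have hcomm : y * g ^ (k : ℕ) = g ^ (k : ℕ) * y :=
        ((show Commute y g from hy).pow_right k).eq
      have h3 : (y * kry g v) i k = ((y * g ^ (k : ℕ)).mulVec v) i := by
        rw [← Matrix.mulVec_mulVec]; rfl
      rw [h3, hcomm, ← Matrix.mulVec_mulVec, hyv, Matrix.mulVec_zero]; rfl
    have hdy : d • y = 0 := by
      have h4 : y * (kry g v * (kry g v).adjugate) = 0 := by
        rw [← mul_assoc, hyk, zero_mul]
      rw [Matrix.mul_adjugate, ← hd, mul_smul_comm, mul_one] at h4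
      exact h4
    refine ⟨d • c, ?_⟩
    rw [← hd, polyMat_smul, pow_two, mul_smul]
    rw [hydef, smul_sub, sub_eq_zero] at hdy
    exact hdy
  have htop : 𝔞 = ⊤ := by
    rw [eq_top_iff, ← Ideal.span_pow_eq_top _ hD 2, Ideal.span_le]
    rintro _ ⟨_, ⟨v, rfl⟩, rfl⟩
    exact hsq v
  obtain ⟨c, hc⟩ : (1 : B) ∈ 𝔞 := htop ▸ Submodule.mem_top
  exact ⟨c, by rw [← hc, one_smul]⟩

end Krylov

section Span

variable (A : Type u) [CommRing A] (n : ℕ) (g : Matrix (Fin n) (Fin n) A)

theorem span_det_kry_eq_top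
    (hreg : ∀ (K : Type u) [Field K] (φ : A →+* K),
      Module.finrank K (Subalgebra.centralizer K ({g.map φ} : Set (Matrix (Fin n) (Fin n) K))) = n)
    (B : Type u) [CommRing B] [Algebra A B] :
    Ideal.span (Set.range fun v : Fin n → B => (kry (g.map (algebraMap A B)) v).det) = ⊤ := by
  by_contra hne
  obtain ⟨J, hJ, hle⟩ := Ideal.exists_le_maximal _ hne
  letI := Ideal.Quotient.field J
  let φ : A →+* B ⧸ J := (Ideal.Quotient.mk J).comp (algebraMap A B)
  obtain ⟨vbar, hvbar⟩ := exists_cyclic_matrix (g.map φ) (hreg (B ⧸ J) φ).le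
  choose v hv using fun i => Ideal.Quotient.mk_surjective (vbar i)
  have hunit := isUnit_det_kry_of_cyclic (g.map φ) vbar hvbar
  have hmem : (kry (g.map (algebraMap A B)) v).det ∈ J := hle (Ideal.subset_span ⟨v, rfl⟩)
  have h0 : Ideal.Quotient.mk J (kry (g.map (algebraMap A B)) v).det = 0 :=
    Ideal.Quotient.eq_zero_iff_mem.mpr hmem
  rw [RingHom.map_det, RingHom.mapMatrix_apply, kry_map] at h0
  have hvv : (fun i => Ideal.Quotient.mk J (v i)) = vbar := funext hv
  have hgg : (g.map (algebraMap A B)).map (Ideal.Quotient.mk J) = g.map φ := by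
    ext i j
    simp only [Matrix.map_apply, φ, RingHom.coe_comp, Function.comp_apply]
  rw [hvv, hgg] at h0
  rw [h0] at hunit
  exact not_isUnit_zero hunit

end Span

section Flat

variable (A : Type u) [CommRing A] (n : ℕ) (g : Matrix (Fin n) (Fin n) A)

theorem flat_commutant_quotient
    (hreg : ∀ (K : Type u) [Field K] (φ : A →+* K),
      Module.finrank K (Subalgebra.centralizer K ({g.map φ} : Set (Matrix (Fin n) (Fin n) K))) = n) :
    Module.Flat A (MvPolynomial (Fin n × Fin n) A ⧸
      Ideal.span (Set.range fun ij : Fin n × Fin n =>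
        (Matrix.mvPolynomialX (Fin n) (Fin n) A * g.map MvPolynomial.C -
          g.map MvPolynomial.C * Matrix.mvPolynomialX (Fin n) (Fin n) A :
            Matrix (Fin n) (Fin n) (MvPolynomial (Fin n × Fin n) A)) ij.1 ij.2)) := by
  obtain ⟨Xm, hXm⟩ : ∃ Xm : Matrix (Fin n) (Fin n) (MvPolynomial (Fin n × Fin n) A),
      Xm = Matrix.mvPolynomialX (Fin n) (Fin n) A := ⟨_, rfl⟩
  obtain ⟨gR, hgR⟩ : ∃ gR : Matrix (Fin n) (Fin n) (MvPolynomial (Fin n × Fin n) A),
      gR = g.map MvPolynomial.C := ⟨_, rfl⟩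
  rw [← hXm, ← hgR]
  obtain ⟨I, hI⟩ : ∃ I : Ideal (MvPolynomial (Fin n × Fin n) A),
      I = Ideal.span (Set.range fun ij : Fin n × Fin n => (Xm * gR - gR * Xm) ij.1 ij.2) :=
    ⟨_, rfl⟩
  rw [← hI]
  -- the matrix `N = Σ X_k g^k` over the polynomial ring in `n` variables
  let gP : Matrix (Fin n) (Fin n) (MvPolynomial (Fin n) A) :=
    g.map (algebraMap A (MvPolynomial (Fin n) A))
  let N : Matrix (Fin n) (Fin n) (MvPolynomial (Fin n) A) :=
    polyMat gP (fun k => MvPolynomial.X k)
  let ψ : MvPolynomial (Fin n × Fin n) A →ₐ[A] MvPolynomial (Fin n) A :=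
    MvPolynomial.aeval (fun ij : Fin n × Fin n => N ij.1 ij.2)
  have hψX : ψ.mapMatrix Xm = N := by
    rw [hXm]; exact Matrix.mvPolynomialX_mapMatrix_aeval A N
  have hψg : ψ.mapMatrix gR = gP := by
    rw [hgR]
    ext i j
    simp only [AlgHom.mapMatrix_apply, Matrix.map_apply, gP, ψ, MvPolynomial.aeval_C]
  have hψI : ∀ a ∈ I, ψ a = 0 := by
    have hle : I ≤ RingHom.ker ψ.toRingHom := by
      rw [hI, Ideal.span_le]
      rintro _ ⟨ij, rfl⟩
      rw [SetLike.mem_coe, RingHom.mem_ker]
      have h0 : ψ.mapMatrix (Xm * gR - gR * Xm) = 0 := by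
        rw [map_sub, map_mul, map_mul, hψX, hψg, polyMat_commute, sub_self]
      exact congrFun (congrFun h0 ij.1) ij.2
    intro a ha
    exact hle ha
  let ψbar : (MvPolynomial (Fin n × Fin n) A ⧸ I) →ₐ[A] MvPolynomial (Fin n) A :=
    Ideal.Quotient.liftₐ I ψ hψI
  have hψbar : ∀ a, ψbar (Ideal.Quotient.mk I a) = ψ a := fun a => rfl
  -- the universal commuting matrix
  let mkQ : MvPolynomial (Fin n × Fin n) A →ₐ[A] (MvPolynomial (Fin n × Fin n) A ⧸ I) :=
    Ideal.Quotient.mkₐ A I
  let Xbar : Matrix (Fin n) (Fin n) (MvPolynomial (Fin n × Fin n) A ⧸ I) := mkQ.mapMatrix Xm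
  let gQ : Matrix (Fin n) (Fin n) (MvPolynomial (Fin n × Fin n) A ⧸ I) :=
    g.map (algebraMap A (MvPolynomial (Fin n × Fin n) A ⧸ I))
  have hmkg : mkQ.mapMatrix gR = gQ := by
    rw [hgR]
    ext i j
    rfl
  have hXbar : Xbar * gQ = gQ * Xbar := by
    rw [← sub_eq_zero, ← hmkg, ← map_mul, ← map_mul, ← map_sub]
    ext i j
    show Ideal.Quotient.mk I ((Xm * gR - gR * Xm) i j) = 0
    rw [Ideal.Quotient.eq_zero_iff_mem, hI]
    exact Ideal.subset_span ⟨(i, j), rfl⟩
  have hDQ := span_det_kry_eq_top A n g hreg (MvPolynomial (Fin n × Fin n) A ⧸ I)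
  obtain ⟨c, hc⟩ := exists_polyMat_of_commute gQ hDQ Xbar hXbar
  let θ : MvPolynomial (Fin n) A →ₐ[A] (MvPolynomial (Fin n × Fin n) A ⧸ I) :=
    MvPolynomial.aeval c
  have hθX : ∀ k, θ (MvPolynomial.X k) = c k := fun k => MvPolynomial.aeval_X c k
  have hθg : gP.map θ.toRingHom = gQ := by
    ext i j
    simp only [Matrix.map_apply, gP, gQ, AlgHom.toRingHom_eq_coe, RingHom.coe_coe, AlgHom.commutes]
  have hθN : ∀ i j, θ (N i j) = Xbar i j := by
    intro i j
    have h1 := polyMat_map θ.toRingHom gP (fun k => MvPolynomial.X k)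
    rw [hθg] at h1
    have h2 := congrFun (congrFun h1 i) j
    simp only [Matrix.map_apply, AlgHom.toRingHom_eq_coe, RingHom.coe_coe, hθX] at h2
    rw [hc]
    exact h2
  have hcomp1 : θ.comp ψbar = AlgHom.id A _ := by
    apply Ideal.Quotient.algHom_ext
    apply MvPolynomial.algHom_ext
    rintro ⟨i, j⟩
    show θ (ψbar (Ideal.Quotient.mk I (MvPolynomial.X (i, j)))) =
      Ideal.Quotient.mk I (MvPolynomial.X (i, j))
    rw [hψbar]
    have h1 : ψ (MvPolynomial.X (i, j)) = N i j := MvPolynomial.aeval_X _ _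
    rw [h1, hθN]
    show mkQ (Xm i j) = _
    rw [hXm]
    rfl
  have hψbarg : gQ.map ψbar.toRingHom = gP := by
    ext i j
    simp only [Matrix.map_apply, gP, gQ, AlgHom.toRingHom_eq_coe, RingHom.coe_coe, AlgHom.commutes]
  have hψbarX : Xbar.map ψbar.toRingHom = N := by
    rw [← hψX]
    ext i j
    rfl
  have hcomp2 : ψbar.comp θ = AlgHom.id A _ := by
    apply MvPolynomial.algHom_ext
    intro k
    show ψbar (θ (MvPolynomial.X k)) = MvPolynomial.X k
    rw [hθX]
    have hDP := span_det_kry_eq_top A n g hreg (MvPolynomial (Fin n) A)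
    have h0 : polyMat gP ((fun k => ψbar (c k)) - fun k => MvPolynomial.X k) = 0 := by
      rw [polyMat_sub]
      have h1 := polyMat_map ψbar.toRingHom gQ c
      rw [hψbarg, ← hc, hψbarX] at h1
      simp only [AlgHom.toRingHom_eq_coe, RingHom.coe_coe] at h1
      rw [← h1, sub_self]
    have h2 := polyMat_injective_of_span gP hDP _ h0
    exact sub_eq_zero.mp (congrFun h2 k)
  let e : (MvPolynomial (Fin n × Fin n) A ⧸ I) ≃ₐ[A] MvPolynomial (Fin n) A :=
    AlgEquiv.ofAlgHom ψbar θ hcomp2 hcomp1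
  exact Module.Flat.of_linearEquiv e.toLinearEquiv

end Flat

end Groth.Agent.H80.RegCyc
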