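import Mathlib

set_option autoImplicit false
universe u

namespace Groth.Agent.H80.SkolemNoether

open Matrix TensorProduct

section Inner
variable {R : Type u} [CommRing R] {ι : Type} [Fintype ι] [DecidableEq ι]
  (φ : Matrix ι ι R ≃ₐ[R] Matrix ι ι R) (i0 : ι)

/-- images of matrix units -/
noncomputable def F (i j : ι) : Matrix ι ι R := φ (Matrix.single i j 1)

lemma F_mul_same (i j l : ι) : F φ i j * F φ j l = F φ i l := by
  unfold F; rw [← map_mul, Matrix.single_mul_single_same, mul_one]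

lemma F_mul_ne (i j k l : ι) (h : j ≠ k) : F φ i j * F φ k l = 0 := by
  unfold F; rw [← map_mul, Matrix.single_mul_single_of_ne _ _ _ _ h, map_zero]

lemma F_sum : ∑ i, F φ i i = 1 := by
  unfold F; rw [← map_sum, Matrix.sum_single_one, map_one]

lemma F_sandwich (B : Matrix ι ι R) :
    F φ i0 i0 * B * F φ i0 i0 = ((φ.symm B) i0 i0) • F φ i0 i0 := by
  have h : B = φ (φ.symm B) := (φ.apply_symm_apply B).symm
  conv_lhs => rw [h]
  unfold F
  rw [← map_mul, ← map_mul, Matrix.single_mul_mul_single, ← map_smul, Matrix.smul_single]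
  simp

lemma phi_mul_F (A : Matrix ι ι R) (j : ι) :
    φ A * F φ j i0 = ∑ i, A i j • F φ i i0 := by
  unfold F
  rw [← map_mul]
  have : A * Matrix.single j i0 (1 : R) = ∑ i, A i j • Matrix.single i i0 (1 : R) := by
    ext a b
    by_cases h : i0 = b
    · subst h
      simp [Matrix.sum_apply, Matrix.single_apply]
    · rw [Matrix.mul_single_apply_of_ne _ _ _ _ _ (Ne.symm h)]
      simp [Matrix.sum_apply, Matrix.single_apply, h]
  rw [this, map_sum]
  simp only [map_smul]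

/-- the idempotent-range characterization -/
lemma mem_range_idem {E : Matrix ι ι R} (hE : E * E = E) (v : ι → R) :
    v ∈ LinearMap.range (Matrix.mulVecLin E) ↔ E *ᵥ v = v := by
  constructor
  · rintro ⟨u, rfl⟩
    rw [Matrix.mulVecLin_apply, Matrix.mulVec_mulVec, hE]
  · intro h
    exact ⟨v, by rw [Matrix.mulVecLin_apply, h]⟩

/-- the rank one module attached to φ -/
noncomputable def Nmod : Submodule R (ι → R) := LinearMap.range (Matrix.mulVecLin (F φ i0 i0))

noncomputable def Nmod' : Submodule R (ι → R) := LinearMap.range (Matrix.mulVecLin (F φ i0 i0)ᵀ)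

lemma F00_idem : F φ i0 i0 * F φ i0 i0 = F φ i0 i0 := F_mul_same φ i0 i0 i0

lemma F00T_idem : (F φ i0 i0)ᵀ * (F φ i0 i0)ᵀ = (F φ i0 i0)ᵀ := by
  rw [← Matrix.transpose_mul, F00_idem]

lemma mem_Nmod (v : ι → R) : v ∈ Nmod φ i0 ↔ F φ i0 i0 *ᵥ v = v :=
  mem_range_idem (F00_idem φ i0) v

lemma mem_Nmod' (w : ι → R) : w ∈ Nmod' φ i0 ↔ (F φ i0 i0)ᵀ *ᵥ w = w :=
  mem_range_idem (F00T_idem φ i0) w

/-- coefficient functional -/
noncomputable def cL : Matrix ι ι R →ₗ[R] R :=
  (Matrix.entryLinearMap R R i0 i0) ∘ₗ φ.symm.toLinearMap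

lemma cL_apply (B : Matrix ι ι R) : cL φ i0 B = (φ.symm B) i0 i0 := rfl

lemma cL_F00 : cL φ i0 (F φ i0 i0) = 1 := by
  rw [cL_apply]; unfold F; rw [φ.symm_apply_apply]; simp

/-- the pairing -/
noncomputable def pairing : (Nmod φ i0) ⊗[R] (Nmod' φ i0) →ₗ[R] R :=
  TensorProduct.lift
    (((vecMulVecBilin R R).compl₁₂ (Nmod φ i0).subtype (Nmod' φ i0).subtype).compr₂
      (cL φ i0))

lemma pairing_tmul (v : Nmod φ i0) (w : Nmod' φ i0) :
    pairing φ i0 (v ⊗ₜ w) = cL φ i0 (Matrix.vecMulVec (v : ι → R) (w : ι → R)) := rfl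

noncomputable def bN (j : ι) : Nmod φ i0 :=
  ⟨F φ i0 i0 *ᵥ Pi.single j 1, ⟨_, rfl⟩⟩

noncomputable def bN' (j : ι) : Nmod' φ i0 :=
  ⟨(F φ i0 i0)ᵀ *ᵥ Pi.single j 1, ⟨_, rfl⟩⟩

noncomputable def t0 : (Nmod φ i0) ⊗[R] (Nmod' φ i0) := ∑ j, bN φ i0 j ⊗ₜ bN' φ i0 j

lemma sum_vecMulVec_b :
    ∑ j, Matrix.vecMulVec (bN φ i0 j : ι → R) (bN' φ i0 j : ι → R) = F φ i0 i0 := by
  conv_rhs => rw [← F00_idem φ i0]
  ext a b
  rw [Matrix.sum_apply, Matrix.mul_apply]
  refine Finset.sum_congr rfl fun j _ => ?_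
  simp only [bN, bN', Matrix.vecMulVec_apply, Matrix.mulVec_single_one, Matrix.col_apply,
    Matrix.transpose_apply]

lemma pairing_t0 : pairing φ i0 (t0 φ i0) = 1 := by
  unfold t0
  rw [map_sum]
  simp only [pairing_tmul]
  rw [← map_sum, sum_vecMulVec_b, cL_F00]

lemma vecMulVec_eq (v : Nmod φ i0) (w : Nmod' φ i0) :
    Matrix.vecMulVec (v : ι → R) (w : ι → R) =
      cL φ i0 (Matrix.vecMulVec (v : ι → R) (w : ι → R)) • F φ i0 i0 := by
  have hv := (mem_Nmod φ i0 _).mp v.2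
  have hw := (mem_Nmod' φ i0 _).mp w.2
  rw [cL_apply, ← F_sandwich, Matrix.mul_vecMulVec, Matrix.vecMulVec_mul, hv,
    ← Matrix.mulVec_transpose, hw]

lemma smul_bN (v : Nmod φ i0) (w : Nmod' φ i0) (j : ι) :
    cL φ i0 (Matrix.vecMulVec (v : ι → R) (w : ι → R)) • bN φ i0 j = (w : ι → R) j • v := by
  apply Subtype.ext
  rw [Submodule.coe_smul, Submodule.coe_smul]
  show _ • (F φ i0 i0 *ᵥ Pi.single j 1) = _
  rw [← Matrix.smul_mulVec, ← vecMulVec_eq]
  ext a
  simp [Matrix.vecMulVec_apply, mul_comm]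

lemma sum_smul_bN' (w : Nmod' φ i0) : ∑ j, (w : ι → R) j • bN' φ i0 j = w := by
  apply Subtype.ext
  rw [Submodule.coe_sum]
  simp only [Submodule.coe_smul, bN']
  have hw := (mem_Nmod' φ i0 _).mp w.2
  conv_rhs => rw [← hw]
  simp only [← Matrix.mulVec_smul]
  rw [← Matrix.mulVec_sum]
  congr 1
  ext a
  simp [Finset.sum_apply, Pi.single_apply]

noncomputable def tensorEquiv : (Nmod φ i0) ⊗[R] (Nmod' φ i0) ≃ₗ[R] R :=
  LinearEquiv.ofLinearMap (pairing φ i0) (LinearMap.toSpanSingleton R _ (t0 φ i0))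
    (by
      apply LinearMap.ext_ring
      simp [pairing_t0])
    (by
      apply TensorProduct.ext'
      intro v w
      simp only [LinearMap.comp_apply, LinearMap.toSpanSingleton_apply, LinearMap.id_apply,
        pairing_tmul]
      unfold t0
      rw [Finset.smul_sum]
      simp only [TensorProduct.smul_tmul', smul_bN, TensorProduct.smul_tmul]
      rw [← TensorProduct.tmul_sum, sum_smul_bN'])

instance : Module.Invertible R (Nmod φ i0) := Module.Invertible.left (tensorEquiv φ i0)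

/-- `N^ι → R^ι` -/
noncomputable def Gmap : (ι → Nmod φ i0) →ₗ[R] (ι → R) :=
  ∑ i, (Matrix.mulVecLin (F φ i i0)) ∘ₗ (Nmod φ i0).subtype ∘ₗ LinearMap.proj i

lemma Gmap_apply (v : ι → Nmod φ i0) :
    Gmap φ i0 v = ∑ i, F φ i i0 *ᵥ (v i : ι → R) := by
  unfold Gmap
  rw [LinearMap.sum_apply]
  rfl

lemma F0i_mem (i : ι) (u : ι → R) : Matrix.mulVecLin (F φ i0 i) u ∈ Nmod φ i0 := by
  rw [mem_Nmod, Matrix.mulVecLin_apply, Matrix.mulVec_mulVec, F_mul_same]

noncomputable def Hmap : (ι → R) →ₗ[R] (ι → Nmod φ i0) :=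
  LinearMap.pi fun i => (Matrix.mulVecLin (F φ i0 i)).codRestrict (Nmod φ i0) (F0i_mem φ i0 i)

lemma Hmap_apply (u : ι → R) (i : ι) : ((Hmap φ i0 u) i : ι → R) = F φ i0 i *ᵥ u := rfl

lemma G_H (u : ι → R) : Gmap φ i0 (Hmap φ i0 u) = u := by
  rw [Gmap_apply]
  simp only [Hmap_apply, Matrix.mulVec_mulVec, F_mul_same]
  rw [← Matrix.sum_mulVec, F_sum, Matrix.one_mulVec]

lemma H_G (v : ι → Nmod φ i0) : Hmap φ i0 (Gmap φ i0 v) = v := by
  funext i
  apply Subtype.ext
  rw [Hmap_apply, Gmap_apply, Matrix.mulVec_sum]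
  simp only [Matrix.mulVec_mulVec]
  rw [Finset.sum_eq_single i]
  · rw [F_mul_same]
    exact (mem_Nmod φ i0 _).mp (v i).2
  · intro j _ hj
    rw [F_mul_ne φ i0 i j i0 (Ne.symm hj), Matrix.zero_mulVec]
  · intro h; exact absurd (Finset.mem_univ i) h

noncomputable def GHequiv : (ι → Nmod φ i0) ≃ₗ[R] (ι → R) :=
  LinearEquiv.ofLinearMap (Gmap φ i0) (Hmap φ i0)
    (LinearMap.ext fun u => G_H φ i0 u) (LinearMap.ext fun v => H_G φ i0 v)

lemma GHequiv_apply (v : ι → Nmod φ i0) : GHequiv φ i0 v = Gmap φ i0 v := rfl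

/-- intertwining property of `Gmap` -/
lemma phi_mulVec_G (A : Matrix ι ι R) (v : ι → Nmod φ i0) :
    φ A *ᵥ Gmap φ i0 v = Gmap φ i0 (fun i => ∑ j, A i j • v j) := by
  rw [Gmap_apply, Gmap_apply, Matrix.mulVec_sum]
  simp only [Matrix.mulVec_mulVec, phi_mul_F, Matrix.sum_mulVec, Matrix.smul_mulVec,
    Submodule.coe_sum, Submodule.coe_smul, Matrix.mulVec_sum, Matrix.mulVec_smul]
  rw [Finset.sum_comm]

/-- conclusion: if the module is free the automorphism is inner -/
theorem inner_of_free (h : Module.Free R (Nmod φ i0)) :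
    ∃ P : GL ι R, ∀ A : Matrix ι ι R, φ A = P.1 * A * (P⁻¹).1 := by
  obtain ⟨ε⟩ := Module.Invertible.free_iff_linearEquiv.mp h
  let L : (ι → R) ≃ₗ[R] (ι → R) :=
    (LinearEquiv.piCongrRight fun _ : ι => ε.symm) ≪≫ₗ GHequiv φ i0
  have hL : ∀ u, L u = Gmap φ i0 (fun j => ε.symm (u j)) := fun u => rfl
  have hPQ : LinearMap.toMatrix' L.toLinearMap * LinearMap.toMatrix' L.symm.toLinearMap = 1 := by
    rw [← LinearMap.toMatrix'_comp]
    have : L.toLinearMap ∘ₗ L.symm.toLinearMap = LinearMap.id := by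
      ext1 u; simp
    rw [this, LinearMap.toMatrix'_id]
  have hQP : LinearMap.toMatrix' L.symm.toLinearMap * LinearMap.toMatrix' L.toLinearMap = 1 := by
    rw [← LinearMap.toMatrix'_comp]
    have : L.symm.toLinearMap ∘ₗ L.toLinearMap = LinearMap.id := by
      ext1 u; simp
    rw [this, LinearMap.toMatrix'_id]
  refine ⟨⟨LinearMap.toMatrix' L.toLinearMap, LinearMap.toMatrix' L.symm.toLinearMap, hPQ, hQP⟩,
    fun A => ?_⟩
  show φ A = LinearMap.toMatrix' L.toLinearMap * A * LinearMap.toMatrix' L.symm.toLinearMap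
  have key : φ A * LinearMap.toMatrix' L.toLinearMap = LinearMap.toMatrix' L.toLinearMap * A := by
    apply Matrix.toLin'.injective
    apply LinearMap.ext
    intro u
    rw [Matrix.toLin'_mul_apply, Matrix.toLin'_mul_apply, Matrix.toLin'_toMatrix',
      Matrix.toLin'_apply, Matrix.toLin'_apply]
    show φ A *ᵥ L u = L (A *ᵥ u)
    rw [hL, hL, phi_mulVec_G]
    congr 1
    funext i
    simp only [Matrix.mulVec, dotProduct, map_sum, ← smul_eq_mul, map_smul]
  calc φ A = φ A * (LinearMap.toMatrix' L.toLinearMap * LinearMap.toMatrix' L.symm.toLinearMap) := by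
        rw [hPQ, mul_one]
    _ = _ := by rw [← mul_assoc, key]

end Inner

section Outer
variable {R : Type u} [CommRing R] {ι : Type} [Fintype ι] [DecidableEq ι]
  (N : Type u) [AddCommGroup N] [Module R N] [Module.Invertible R N]

/-- scalars as endomorphisms of an invertible module -/
noncomputable def eN : R ≃ₐ[R] Module.End R N :=
  AlgEquiv.ofBijective (Algebra.ofId R (Module.End R N)) (by
    have h := Module.Invertible.toModuleEnd_bijective R N
    have e : (Algebra.ofId R (Module.End R N) : R → Module.End R N) =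
        (Module.toModuleEnd R (S := R) N : R → Module.End R N) := by
      funext r
      apply LinearMap.ext
      intro x
      simp [Algebra.ofId_apply, Module.algebraMap_end_apply]
    rw [e]; exact h)

lemma eN_apply (r : R) (x : N) : eN N r x = r • x := by
  simp [eN, Algebra.ofId_apply, Module.algebraMap_end_apply]

/-- the automorphism of the matrix algebra attached to `θ` -/
noncomputable def phiθ (θ : (ι → N) ≃ₗ[R] (ι → R)) : Matrix ι ι R ≃ₐ[R] Matrix ι ι R :=
  (eN N).mapMatrix.trans ((endVecAlgEquivMatrixEnd ι R R N).symm.trans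
    ((θ.conjAlgEquiv R).trans LinearMap.toMatrixAlgEquiv'))

lemma phiθ_mulVec (θ : (ι → N) ≃ₗ[R] (ι → R)) (A : Matrix ι ι R) (v : ι → N) :
    phiθ N θ A *ᵥ θ v = θ (fun i => ∑ j, A i j • v j) := by
  have h1 : phiθ N θ A = LinearMap.toMatrix'
      (θ.conjAlgEquiv R ((endVecAlgEquivMatrixEnd ι R R N).symm ((eN N).mapMatrix A))) := rfl
  rw [h1, LinearMap.toMatrix'_mulVec, LinearEquiv.conjAlgEquiv_apply]
  simp only [LinearMap.comp_apply, LinearEquiv.coe_coe, LinearEquiv.symm_apply_apply]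
  congr 1

theorem free_of_inner (θ : (ι → N) ≃ₗ[R] (ι → R)) (i0 : ι)
    (hinner : ∀ φ : Matrix ι ι R ≃ₐ[R] Matrix ι ι R,
        ∃ P : GL ι R, ∀ A : Matrix ι ι R, φ A = P.1 * A * (P⁻¹).1) :
    Module.Free R N := by
  obtain ⟨P, hP⟩ := hinner (phiθ N θ)
  rw [Module.Invertible.free_iff_linearEquiv]
  let f : N →ₗ[R] R :=
    (LinearMap.proj i0) ∘ₗ (Matrix.mulVecLin (P⁻¹).1) ∘ₗ θ.toLinearMap ∘ₗ (LinearMap.single R (fun _ : ι => N) i0)
  have hf : ∀ x, f x = ((P⁻¹).1 *ᵥ θ (Pi.single i0 x)) i0 := fun x => rfl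
  have hsurj : Function.Surjective f := by
    intro r
    set v : ι → N := θ.symm (P.1 *ᵥ Pi.single i0 r) with hv
    refine ⟨v i0, ?_⟩
    rw [hf]
    have h1 : (fun i => ∑ j, (Matrix.single i0 i0 (1 : R)) i j • v j) = Pi.single i0 (v i0) := by
      funext i
      by_cases hi : i = i0
      · subst hi
        simp [Matrix.single_apply]
      · rw [Pi.single_apply, if_neg hi]
        refine Finset.sum_eq_zero fun j _ => ?_
        rw [Matrix.single_apply_of_row_ne (Ne.symm hi), zero_smul]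
    have h2 := phiθ_mulVec N θ (Matrix.single i0 i0 (1 : R)) v
    rw [h1, hP] at h2
    rw [← h2, hv, LinearEquiv.apply_symm_apply]
    simp only [Matrix.mulVec_mulVec]
    have h3 : (P⁻¹).1 * (P.1 * Matrix.single i0 i0 (1 : R) * (P⁻¹).1 * P.1) =
        Matrix.single i0 i0 (1 : R) := by
      have e1 : (P⁻¹).1 * P.1 = 1 := by
        rw [← Units.val_mul, inv_mul_cancel, Units.val_one]
      calc (P⁻¹).1 * (P.1 * Matrix.single i0 i0 (1 : R) * (P⁻¹).1 * P.1)
          = ((P⁻¹).1 * P.1) * Matrix.single i0 i0 (1 : R) * ((P⁻¹).1 * P.1) := by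
            simp only [mul_assoc]
        _ = _ := by rw [e1, one_mul, mul_one]
    rw [h3]
    simp [Matrix.single_mulVec]
  exact ⟨LinearEquiv.ofBijective f (Module.Invertible.bijective_of_surjective hsurj)⟩

end Outer

end Groth.Agent.H80.SkolemNoether
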