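import Mathlib

/-!
# Cokernel of `ad x` for the subregular nilpotent of `sl_{n+1}`

Explicit computation valid over any commutative ring: for the nilpotent matrix `xm` with Jordan
blocks of sizes `n` and `1`, the quotient of `sl_{n+1}` by the image of `ad xm` is isomorphic to
`(Fin n → O) × O × O`.
-/

namespace Groth.Agent.H80.Subreg

universe u
variable {O : Type u} [CommRing O] {n : ℕ}

/-- extension by zero of a matrix to a function on `ℕ × ℕ` -/
def ext (B : Matrix (Fin (n+1)) (Fin (n+1)) O) (i j : ℕ) : O :=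
  if h : i < n+1 ∧ j < n+1 then B ⟨i, h.1⟩ ⟨j, h.2⟩ else 0

lemma ext_val (B : Matrix (Fin (n+1)) (Fin (n+1)) O) (i j : Fin (n+1)) :
    ext B i j = B i j := by
  simp [ext, i.2, j.2]

lemma ext_add (B B' : Matrix (Fin (n+1)) (Fin (n+1)) O) (i j : ℕ) :
    ext (B + B') i j = ext B i j + ext B' i j := by
  unfold ext; split_ifs <;> simp

lemma ext_smul (c : O) (B : Matrix (Fin (n+1)) (Fin (n+1)) O) (i j : ℕ) :
    ext (c • B) i j = c * ext B i j := by
  unfold ext; split_ifs <;> simp

/-- restriction of a function on `ℕ × ℕ` to a matrix -/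
def res (a : ℕ → ℕ → O) : Matrix (Fin (n+1)) (Fin (n+1)) O := fun i j => a i j

lemma ext_res (a : ℕ → ℕ → O) (i j : ℕ) (hi : i ≤ n) (hj : j ≤ n) :
    ext (res (n := n) a) i j = a i j := by
  simp [ext, res, Nat.lt_succ_of_le hi, Nat.lt_succ_of_le hj]

/-- the subregular nilpotent -/
def xm (O : Type u) [CommRing O] (n : ℕ) : Matrix (Fin (n+1)) (Fin (n+1)) O :=
  fun i j => if j.val = i.val + 1 ∧ j.val < n then 1 else 0

/-- the bracket with `xm` in coordinates -/
def brk (a : ℕ → ℕ → O) (n i j : ℕ) : O :=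
  (if i + 1 < n then a (i+1) j else 0) - (if 1 ≤ j ∧ j < n then a i (j-1) else 0)

lemma xm_mul (M : Matrix (Fin (n+1)) (Fin (n+1)) O) (i j : Fin (n+1)) :
    (xm O n * M) i j = if i.val + 1 < n then ext M (i.val+1) j.val else 0 := by
  rw [Matrix.mul_apply]
  split_ifs with h
  · have hk : i.val + 1 < n + 1 := by omega
    rw [Finset.sum_eq_single (⟨i.val+1, hk⟩ : Fin (n+1))]
    · simp [xm, ext, h, hk, j.2]
    · intro k _ hk'
      have : ¬ (k.val = i.val + 1 ∧ k.val < n) := by
        rintro ⟨h1, _⟩; exact hk' (Fin.ext h1)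
      simp [xm, this]
    · simp
  · apply Finset.sum_eq_zero
    intro k _
    have : ¬ (k.val = i.val + 1 ∧ k.val < n) := by omega
    simp [xm, this]

lemma mul_xm (M : Matrix (Fin (n+1)) (Fin (n+1)) O) (i j : Fin (n+1)) :
    (M * xm O n) i j = if 1 ≤ j.val ∧ j.val < n then ext M i.val (j.val - 1) else 0 := by
  rw [Matrix.mul_apply]
  split_ifs with h
  · have hk : j.val - 1 < n + 1 := by omega
    rw [Finset.sum_eq_single (⟨j.val-1, hk⟩ : Fin (n+1))]
    · have h1 : j.val = j.val - 1 + 1 := by omega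
      simp [xm, ext, h, hk, i.2, ← h1]
    · intro k _ hk'
      have : ¬ (j.val = k.val + 1 ∧ j.val < n) := by
        rintro ⟨h1, _⟩
        apply hk'
        apply Fin.ext
        simp only
        omega
      simp [xm, this]
    · simp
  · apply Finset.sum_eq_zero
    intro k _
    have : ¬ (j.val = k.val + 1 ∧ j.val < n) := by omega
    simp [xm, this]

lemma ext_bracket (M : Matrix (Fin (n+1)) (Fin (n+1)) O) (i j : ℕ) (hi : i ≤ n) (hj : j ≤ n) :
    ext (xm O n * M - M * xm O n) i j = brk (ext M) n i j := by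
  have hi' : i < n+1 := by omega
  have hj' : j < n+1 := by omega
  have h1 : ext (xm O n * M - M * xm O n) i j = (xm O n * M - M * xm O n) ⟨i,hi'⟩ ⟨j,hj'⟩ :=
    ext_val _ ⟨i,hi'⟩ ⟨j,hj'⟩
  rw [h1, Matrix.sub_apply, xm_mul, mul_xm]
  rfl

/-- subtract the trace at the last diagonal entry -/
def fix (M : Matrix (Fin (n+1)) (Fin (n+1)) O) : Matrix (Fin (n+1)) (Fin (n+1)) O :=
  M - Matrix.single (Fin.last n) (Fin.last n) (Matrix.trace M)

lemma trace_fix (M : Matrix (Fin (n+1)) (Fin (n+1)) O) : Matrix.trace (fix M) = 0 := by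
  simp [fix, Matrix.trace_sub, Matrix.trace_single_eq_same]

lemma ext_fix (M : Matrix (Fin (n+1)) (Fin (n+1)) O) (i j : ℕ) (h : ¬ (i = n ∧ j = n)) :
    ext (fix M) i j = ext M i j := by
  unfold ext
  split_ifs with h1
  · rw [fix, Matrix.sub_apply, Matrix.single_apply_of_ne, sub_zero]
    rintro ⟨h2, h3⟩
    apply h
    constructor
    · have := congrArg Fin.val h2
      simpa using this.symm
    · have := congrArg Fin.val h3
      simpa using this.symm
  · rfl

lemma brk_congr (a a' : ℕ → ℕ → O) (n i j : ℕ) (hi : i ≤ n) (hj : j ≤ n)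
    (h : ∀ i' j', i' ≤ n → j' ≤ n → ¬ (i' = n ∧ j' = n) → a i' j' = a' i' j') :
    brk a n i j = brk a' n i j := by
  unfold brk
  congr 1
  · split_ifs with h1
    · exact h _ _ (by omega) hj (by omega)
    · rfl
  · split_ifs with h1
    · exact h _ _ hi (by omega) (by omega)
    · rfl

/-- the diagonal-sum functionals -/
def tau (a : ℕ → ℕ → O) (n j : ℕ) : O := ∑ m ∈ Finset.range (j+1), a (n-1-m) (j-m)

lemma tau_brk (a : ℕ → ℕ → O) (n j : ℕ) (hj : j < n) : tau (brk a n) n j = 0 := by
  unfold tau brk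
  have S1 : ∑ m ∈ Finset.range (j+1), (if n-1-m+1 < n then a (n-1-m+1) (j-m) else 0)
      = ∑ m ∈ Finset.range j, a (n-1-m) (j-m-1) := by
    rw [Finset.sum_range_succ']
    have h0 : ¬ (n - 1 - 0 + 1 < n) := by omega
    rw [if_neg h0, add_zero]
    apply Finset.sum_congr rfl
    intro m hm
    rw [Finset.mem_range] at hm
    have h1 : n - 1 - (m+1) + 1 < n := by omega
    rw [if_pos h1]
    have e1 : n - 1 - (m+1) + 1 = n - 1 - m := by omega
    have e2 : j - (m+1) = j - m - 1 := by omega
    rw [e1, e2]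
  have S2 : ∑ m ∈ Finset.range (j+1), (if 1 ≤ j-m ∧ j-m < n then a (n-1-m) (j-m-1) else 0)
      = ∑ m ∈ Finset.range j, a (n-1-m) (j-m-1) := by
    rw [Finset.sum_range_succ]
    have hjj : ¬ (1 ≤ j - j ∧ j - j < n) := by omega
    rw [if_neg hjj, add_zero]
    apply Finset.sum_congr rfl
    intro m hm
    rw [Finset.mem_range] at hm
    have h2 : 1 ≤ j - m ∧ j - m < n := by omega
    rw [if_pos h2]
  rw [Finset.sum_sub_distrib, S1, S2, sub_self]

/-- the explicit preimage under the bracket -/
def preim (b : ℕ → ℕ → O) (n i j : ℕ) : O :=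
  if i < n then
    (if j < n then ∑ m ∈ Finset.range (min i (j+1)), b (i-1-m) (j-m)
     else (if 1 ≤ i then b (i-1) n else 0))
  else (if j + 1 < n then - b n (j+1) else 0)

lemma preim_spec (b : ℕ → ℕ → O) (n : ℕ) (hn : 1 ≤ n)
    (htau : ∀ j < n, tau b n j = 0)
    (hβ : b (n-1) n = 0) (hγ : b n 0 = 0) (hδ : b n n = 0) (i j : ℕ) (hi : i ≤ n) (hj : j ≤ n) :
    brk (preim b n) n i j = b i j := by
  unfold brk
  rcases Nat.lt_or_ge i n with hin | hin
  · rcases Nat.lt_or_ge j n with hjn | hjn
    · by_cases hi1 : i + 1 < n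
      · rw [if_pos hi1]
        have e1 : preim b n (i+1) j
            = ∑ m ∈ Finset.range (min (i+1) (j+1)), b (i+1-1-m) (j-m) := by
          simp [preim, hi1, hjn]
        rw [e1]
        by_cases hj1 : 1 ≤ j
        · rw [if_pos ⟨hj1, hjn⟩]
          have e2 : preim b n i (j-1)
              = ∑ m ∈ Finset.range (min i (j-1+1)), b (i-1-m) (j-1-m) := by
            have : j - 1 < n := by omega
            simp [preim, hin, this]
          rw [e2]
          have e3 : min (i+1) (j+1) = min i (j-1+1) + 1 := by omega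
          rw [e3, Finset.sum_range_succ']
          have e4 : ∀ m, b (i+1-1-(m+1)) (j-(m+1)) = b (i-1-m) (j-1-m) := by
            intro m
            have a1 : i+1-1-(m+1) = i-1-m := by omega
            have a2 : j-(m+1) = j-1-m := by omega
            rw [a1, a2]
          simp only [e4]
          simp
        · have hj0 : j = 0 := by omega
          subst hj0
          have : ¬ (1 ≤ 0 ∧ 0 < n) := by omega
          rw [if_neg this]
          have e3 : min (i+1) (0+1) = 1 := by omega
          rw [e3]
          simp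
      · rw [if_neg hi1]
        have hin1 : i = n - 1 := by omega
        have ht := htau j hjn
        unfold tau at ht
        rw [Finset.sum_range_succ'] at ht
        by_cases hj1 : 1 ≤ j
        · rw [if_pos ⟨hj1, hjn⟩]
          have e2 : preim b n i (j-1)
              = ∑ m ∈ Finset.range (min i (j-1+1)), b (i-1-m) (j-1-m) := by
            have : j - 1 < n := by omega
            simp [preim, hin, this]
          rw [e2]
          have e3 : min i (j-1+1) = j := by omega
          rw [e3]
          have e4 : ∀ m, b (n-1-(m+1)) (j-(m+1)) = b (i-1-m) (j-1-m) := by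
            intro m
            have a1 : n-1-(m+1) = i-1-m := by omega
            have a2 : j-(m+1) = j-1-m := by omega
            rw [a1, a2]
          simp only [e4] at ht
          have e5 : b i j = b (n-1-0) (j-0) := by
            rw [hin1]; simp
          rw [e5]
          linear_combination (-1 : O) * ht
        · have hj0 : j = 0 := by omega
          subst hj0
          have : ¬ (1 ≤ 0 ∧ 0 < n) := by omega
          rw [if_neg this]
          simp at ht
          rw [hin1]
          simp [ht]
    · have hjn' : j = n := by omega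
      subst hjn'
      have : ¬ (1 ≤ j ∧ j < j) := by omega
      rw [if_neg this, sub_zero]
      by_cases hi1 : i + 1 < j
      · rw [if_pos hi1]
        simp [preim, hi1]
      · rw [if_neg hi1]
        have : i = j - 1 := by omega
        subst this
        exact hβ.symm
  · have hin' : i = n := by omega
    subst hin'
    have h1 : ¬ (i + 1 < i) := by omega
    rw [if_neg h1, zero_sub]
    rcases Nat.lt_or_ge j i with hjn | hjn
    · by_cases hj1 : 1 ≤ j
      · rw [if_pos ⟨hj1, hjn⟩]
        have : j - 1 + 1 = j := by omega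
        simp [preim, this, hjn]
      · have hj0 : j = 0 := by omega
        subst hj0
        have : ¬ (1 ≤ 0 ∧ 0 < i) := by omega
        rw [if_neg this, neg_zero]
        exact hγ.symm
    · have : j = i := by omega
      subst this
      have : ¬ (1 ≤ j ∧ j < j) := by omega
      rw [if_neg this, neg_zero]
      exact hδ.symm

theorem exists_preimage (hn : 1 ≤ n) (B : Matrix (Fin (n+1)) (Fin (n+1)) O)
    (htr : Matrix.trace B = 0)
    (htau : ∀ j < n, tau (ext B) n j = 0) (hβ : ext B (n-1) n = 0) (hγ : ext B n 0 = 0) :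
    ∃ A : Matrix (Fin (n+1)) (Fin (n+1)) O,
      Matrix.trace A = 0 ∧ xm O n * A - A * xm O n = B := by
  have hδ : ext B n n = 0 := by
    have h1 : Matrix.trace B = ∑ i ∈ Finset.range (n+1), ext B i i := by
      rw [Finset.sum_range, Matrix.trace]
      apply Finset.sum_congr rfl
      intro i _
      rw [ext_val]; rfl
    have h2 := htau (n-1) (by omega)
    unfold tau at h2
    have e : n - 1 + 1 = n := by omega
    rw [e, Finset.sum_range_reflect (fun i => ext B i i) n] at h2
    rw [Finset.sum_range_succ, h2, zero_add] at h1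
    rw [← h1, htr]
  refine ⟨fix (res (preim (ext B) n)), trace_fix _, ?_⟩
  ext i j
  rw [← ext_val (xm O n * _ - _ * xm O n) i j, ← ext_val B i j,
    ext_bracket _ _ _ i.is_le j.is_le]
  rw [brk_congr _ (preim (ext B) n) n i j i.is_le j.is_le]
  · exact preim_spec (ext B) n hn htau hβ hγ hδ i j i.is_le j.is_le
  · intro i' j' hi' hj' hne
    rw [ext_fix _ _ _ hne, ext_res _ _ _ hi' hj']

/-- the functionals cutting out the image of `ad xm` -/
def PhiM (O : Type u) [CommRing O] (n : ℕ) :
    Matrix (Fin (n+1)) (Fin (n+1)) O →ₗ[O] (Fin n → O) × O × O where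
  toFun B := (fun j : Fin n => tau (ext B) n j, ext B (n-1) n, ext B n 0)
  map_add' B B' := by
    refine Prod.ext (funext fun j => ?_) (Prod.ext ?_ ?_)
    · simp [tau, ext_add, Finset.sum_add_distrib]
    · simp [ext_add]
    · simp [ext_add]
  map_smul' c B := by
    refine Prod.ext (funext fun j => ?_) (Prod.ext ?_ ?_)
    · simp [tau, ext_smul, Finset.mul_sum]
    · simp [ext_smul]
    · simp [ext_smul]

lemma PhiM_bracket (hn : 1 ≤ n) (M : Matrix (Fin (n+1)) (Fin (n+1)) O) :
    PhiM O n (xm O n * M - M * xm O n) = 0 := by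
  refine Prod.ext (funext fun j => ?_) (Prod.ext ?_ ?_)
  · show tau (ext (xm O n * M - M * xm O n)) n j = 0
    have : tau (ext (xm O n * M - M * xm O n)) n j = tau (brk (ext M) n) n j := by
      unfold tau
      apply Finset.sum_congr rfl
      intro m hm
      rw [Finset.mem_range] at hm
      have := j.2
      exact ext_bracket M _ _ (by omega) (by omega)
    rw [this, tau_brk _ _ _ j.2]
  · show ext (xm O n * M - M * xm O n) (n-1) n = 0
    rw [ext_bracket M _ _ (by omega) le_rfl]
    unfold brk
    have h1 : ¬ (n - 1 + 1 < n) := by omega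
    have h2 : ¬ (1 ≤ n ∧ n < n) := by omega
    rw [if_neg h1, if_neg h2, sub_zero]
  · show ext (xm O n * M - M * xm O n) n 0 = 0
    rw [ext_bracket M _ _ le_rfl (by omega)]
    unfold brk
    have h1 : ¬ (n + 1 < n) := by omega
    have h2 : ¬ (1 ≤ 0 ∧ 0 < n) := by omega
    rw [if_neg h1, if_neg h2, sub_zero]

/-- the matrix used for surjectivity -/
def sb (t : Fin n → O) (β γ : O) (i j : ℕ) : O :=
  if i + 1 = n then (if h : j < n then t ⟨j, h⟩ else β)
  else if i = n ∧ j = 0 then γ else 0

lemma PhiM_sb (hn : 1 ≤ n) (t : Fin n → O) (β γ : O) :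
    PhiM O n (fix (res (sb t β γ))) = (t, β, γ) := by
  refine Prod.ext (funext fun j => ?_) (Prod.ext ?_ ?_)
  · show tau (ext (fix (res (sb t β γ)))) n j = t j
    have hj := j.2
    have : tau (ext (fix (res (n := n) (sb t β γ)))) n j = tau (sb t β γ) n j := by
      unfold tau
      apply Finset.sum_congr rfl
      intro m hm
      rw [Finset.mem_range] at hm
      rw [ext_fix _ _ _ (by omega), ext_res _ _ _ (by omega) (by omega)]
    rw [this]
    unfold tau
    rw [Finset.sum_range_succ', Finset.sum_eq_zero, zero_add]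
    · have h1 : n - 1 - 0 + 1 = n := by omega
      have h2 : j.val - 0 < n := by omega
      simp only [sb, h1, if_true, dif_pos h2]
      congr 1
    · intro m hm
      rw [Finset.mem_range] at hm
      have h1 : ¬ (n - 1 - (m+1) + 1 = n) := by omega
      have h2 : ¬ (n - 1 - (m+1) = n ∧ j.val - (m+1) = 0) := by omega
      simp only [sb, if_neg h1, if_neg h2]
  · show ext (fix (res (sb t β γ))) (n-1) n = β
    rw [ext_fix _ _ _ (by omega), ext_res _ _ _ (by omega) le_rfl]
    have h1 : n - 1 + 1 = n := by omega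
    have h2 : ¬ (n < n) := by omega
    simp only [sb, h1, if_true, dif_neg h2]
  · show ext (fix (res (sb t β γ))) n 0 = γ
    rw [ext_fix _ _ _ (by omega), ext_res _ _ _ le_rfl (by omega)]
    have h1 : ¬ (n + 1 = n) := by omega
    simp only [sb, if_neg h1, and_self, if_true]

attribute [local instance 100] LieRing.ofAssociativeRing

/-- abbreviation for `sl_{n+1}` -/
abbrev SL (O : Type u) [CommRing O] (n : ℕ) := LieAlgebra.SpecialLinear.sl (Fin (n+1)) O

open LieAlgebra.SpecialLinear in
theorem main (O : Type u) [CommRing O] (n : ℕ) (hn : 1 ≤ n)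
    (x : SL O n) (hx : (x : Matrix (Fin (n+1)) (Fin (n+1)) O) = xm O n) :
    Nonempty ((SL O n ⧸ LinearMap.range (LieAlgebra.ad O (SL O n) x))
      ≃ₗ[O] (Fin n → O) × O × O) := by
  let Φ : SL O n →ₗ[O] (Fin n → O) × O × O := (PhiM O n).comp (SL O n).toSubmodule.subtype
  have hΦ : ∀ y : SL O n, Φ y = PhiM O n (y : Matrix (Fin (n+1)) (Fin (n+1)) O) := fun y => rfl
  have htr : ∀ y : SL O n, Matrix.trace (y : Matrix (Fin (n+1)) (Fin (n+1)) O) = 0 := by
    intro y
    have := y.2
    exact LinearMap.mem_ker.1 this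
  have hmem : ∀ A : Matrix (Fin (n+1)) (Fin (n+1)) O, Matrix.trace A = 0 → A ∈ SL O n := by
    intro A hA
    exact LinearMap.mem_ker.2 hA
  have hbr : ∀ z : SL O n, ((LieAlgebra.ad O (SL O n) x z : SL O n) : Matrix (Fin (n+1)) (Fin (n+1)) O)
      = xm O n * (z : Matrix (Fin (n+1)) (Fin (n+1)) O) - (z : Matrix _ _ O) * xm O n := by
    intro z
    rw [LieAlgebra.ad_apply, sl_bracket, hx]
  have hker : LinearMap.ker Φ = LinearMap.range (LieAlgebra.ad O (SL O n) x) := by
    ext y
    rw [LinearMap.mem_ker, LinearMap.mem_range]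
    constructor
    · intro hy
      rw [hΦ] at hy
      have h1 : ∀ j < n, tau (ext (y : Matrix (Fin (n+1)) (Fin (n+1)) O)) n j = 0 := by
        intro j hj
        have := congrFun (congrArg Prod.fst hy) ⟨j, hj⟩
        exact this
      have h2 : ext (y : Matrix (Fin (n+1)) (Fin (n+1)) O) (n-1) n = 0 :=
        congrArg (fun p => p.2.1) hy
      have h3 : ext (y : Matrix (Fin (n+1)) (Fin (n+1)) O) n 0 = 0 :=
        congrArg (fun p => p.2.2) hy
      obtain ⟨A, hA0, hA⟩ := exists_preimage hn _ (htr y) h1 h2 h3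
      refine ⟨⟨A, hmem A hA0⟩, ?_⟩
      apply Subtype.ext
      rw [hbr]
      exact hA
    · rintro ⟨z, rfl⟩
      rw [hΦ, hbr]
      exact PhiM_bracket hn _
  have hsurj : Function.Surjective Φ := by
    rintro ⟨t, β, γ⟩
    refine ⟨⟨fix (res (sb t β γ)), hmem _ (trace_fix _)⟩, ?_⟩
    rw [hΦ]
    exact PhiM_sb hn t β γ
  exact ⟨(Submodule.quotEquivOfEq _ _ hker.symm).trans (Φ.quotKerEquivOfSurjective hsurj)⟩

end Groth.Agent.H80.Subreg
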