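import Mathlib

/-!
# (NC2) for S14315 (helper85): a finite morphism from an integral 1-dimensional scheme has nontrivial image
-/

set_option autoImplicit false
universe u
open CategoryTheory CategoryTheory.Limits AlgebraicGeometry

namespace Groth.Agent.H80.SurfBC_NC2

lemma exists_lt_of_dim_one {T : Type*} [TopologicalSpace T] (h : topologicalKrullDim T = 1) :
    ∃ Z₀ Z₁ : TopologicalSpace.IrreducibleCloseds T, Z₀ < Z₁ := by
  have : 0 < Order.krullDim (TopologicalSpace.IrreducibleCloseds T) := by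
    change 0 < topologicalKrullDim T
    rw [h]
    exact zero_lt_one
  exact Order.krullDim_pos_iff.1 this

theorem range_nontrivial_of_isFinite {C' C : Scheme.{u}} [IsIntegral C']
    (hdim : topologicalKrullDim C' = 1) (ψ : C' ⟶ C) [IsFinite ψ] :
    (Set.range ψ.base).Nontrivial := by
  by_contra hnt
  rw [Set.not_nontrivial_iff] at hnt
  obtain ⟨Z₀, Z₁, hlt⟩ := exists_lt_of_dim_one hdim
  obtain ⟨x₀, hx₀⟩ := Z₀.isIrreducible.nonempty
  have hx₀' : x₀ ∈ (Z₁ : Set C') := hlt.le hx₀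
  -- there is a point of Z₁ outside Z₀
  obtain ⟨x₁, hx₁, hx₁'⟩ : ∃ x₁, x₁ ∈ (Z₁ : Set C') ∧ x₁ ∉ (Z₀ : Set C') := by
    by_contra hcon
    push Not at hcon
    exact hlt.not_ge (fun x hx => hcon x hx)
  -- the whole space is the fibre over ψ x₀, hence discrete
  have hdisc := ψ.isDiscrete_preimage_singleton (ψ x₀)
  have huniv : (ψ ⁻¹' {ψ x₀} : Set C') = Set.univ := by
    ext z
    simp only [Set.mem_preimage, Set.mem_singleton_iff, Set.mem_univ, iff_true]
    exact hnt ⟨z, rfl⟩ ⟨x₀, rfl⟩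
  rw [huniv] at hdisc
  have : DiscreteTopology C' := by
    have := hdisc.to_subtype
    exact (Homeomorph.Set.univ C').discreteTopology
  -- in a discrete space irreducible sets are subsingletons
  have hopen₀ : IsOpen ({x₀} : Set C') := isOpen_discrete _
  have hopen₁ : IsOpen ({x₁} : Set C') := isOpen_discrete _
  obtain ⟨z, -, hz⟩ := Z₁.isIrreducible.isPreirreducible {x₀} {x₁} hopen₀ hopen₁
    ⟨x₀, hx₀', rfl⟩ ⟨x₁, hx₁, rfl⟩
  have h01 : x₀ = x₁ := hz.1.symm.trans hz.2
  exact hx₁' (h01 ▸ hx₀)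

end Groth.Agent.H80.SurfBC_NC2
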