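-- helper80: the multi-homogeneous ("Segre") subalgebra of the tensor power of a graded algebra
-- and its symmetric part: generation in degree one, reduction to pure tensors of degree one.
import Groth.Agent.H80.NLTheta

set_option autoImplicit false
universe u

open scoped TensorProduct Pointwise

namespace Groth.Agent.H80.SymGr

open Groth.Agent.H80.NLTheta

section Gen

variable {A B : Type u} [CommRing A] [CommRing B] [Algebra A B]
  (𝒜 : ℕ → Submodule A B) [GradedAlgebra 𝒜]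

theorem pow_le_graded (n : ℕ) : (𝒜 1) ^ n ≤ 𝒜 n := by
  induction n with
  | zero =>
    rw [pow_zero, Submodule.one_le]
    exact SetLike.GradedOne.one_mem
  | succ n ih =>
    rw [pow_succ, Submodule.mul_le]
    intro x hx y hy
    exact SetLike.GradedMul.mul_mem (ih hx) hy

variable (hgen : Algebra.adjoin A (𝒜 1 : Set B) = ⊤)

include hgen in
theorem graded_le_pow (n : ℕ) : 𝒜 n ≤ (𝒜 1) ^ n := by
  classical
  have key : ∀ x : B, ∀ m : ℕ, (GradedAlgebra.proj 𝒜 m x) ∈ (𝒜 1) ^ m := by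
    intro x
    have hx : x ∈ Subalgebra.toSubmodule (Algebra.adjoin A (𝒜 1 : Set B)) := by
      rw [hgen]; exact Submodule.mem_top
    rw [Algebra.adjoin_eq_span] at hx
    refine Submodule.span_induction (p := fun x _ => ∀ m : ℕ,
      (GradedAlgebra.proj 𝒜 m x) ∈ (𝒜 1) ^ m) ?_ ?_ ?_ ?_ hx
    · intro y hy m
      have hy' : ∃ r : ℕ, y ∈ (𝒜 1) ^ r := by
        refine Submonoid.closure_induction (motive := fun y _ => ∃ r : ℕ, y ∈ (𝒜 1) ^ r)
          ?_ ?_ ?_ hy
        · intro z hz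
          exact ⟨1, by rw [pow_one]; exact hz⟩
        · exact ⟨0, by rw [pow_zero]; exact Submodule.one_le.1 le_rfl⟩
        · rintro z z' _ _ ⟨r, hr⟩ ⟨r', hr'⟩
          exact ⟨r + r', by rw [pow_add]; exact Submodule.mul_mem_mul hr hr'⟩
      obtain ⟨r, hr⟩ := hy'
      have hyr : y ∈ 𝒜 r := pow_le_graded 𝒜 r hr
      rw [GradedAlgebra.proj_apply]
      by_cases hmr : m = r
      · subst hmr
        rw [DirectSum.decompose_of_mem_same 𝒜 hyr]
        exact hr
      · rw [DirectSum.decompose_of_mem_ne 𝒜 hyr (Ne.symm hmr)]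
        exact Submodule.zero_mem _
    · intro m
      rw [map_zero]
      exact Submodule.zero_mem _
    · intro y z _ _ hy hz m
      rw [map_add]
      exact Submodule.add_mem _ (hy m) (hz m)
    · intro a y _ hy m
      rw [map_smul]
      exact Submodule.smul_mem _ a (hy m)
  intro x hx
  have := key x n
  rwa [GradedAlgebra.proj_apply, DirectSum.decompose_of_mem_same 𝒜 hx] at this

include hgen in
theorem graded_succ_le_mul (k : ℕ) : 𝒜 (k + 1) ≤ 𝒜 1 * 𝒜 k := by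
  refine (graded_le_pow 𝒜 hgen (k + 1)).trans ?_
  rw [pow_succ']
  exact mul_le_mul' le_rfl (pow_le_graded 𝒜 k)

end Gen

section Slot

variable {A B : Type u} [CommRing A] [CommRing B] [Algebra A B] {d : ℕ}

/-- membership of pure tensors can be checked on spanning sets of the entries -/
theorem tprod_mem_of_forall_mem_span (S : Set B) (N : Submodule A (⨂[A] _ : Fin d, B))
    (h : ∀ b : Fin d → B, (∀ i, b i ∈ S) → PiTensorProduct.tprod A b ∈ N) :
    ∀ b : Fin d → B, (∀ i, b i ∈ Submodule.span A S) → PiTensorProduct.tprod A b ∈ N := by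
  classical
  have key : ∀ s : Finset (Fin d), ∀ b : Fin d → B, (∀ i ∈ s, b i ∈ Submodule.span A S) →
      (∀ i, i ∉ s → b i ∈ S) → PiTensorProduct.tprod A b ∈ N := by
    intro s
    induction s using Finset.induction_on with
    | empty =>
      intro b _ hb
      exact h b (fun i => hb i (Finset.notMem_empty i))
    | insert j s hj ih =>
      intro b hb1 hb2
      have hbj := hb1 j (Finset.mem_insert_self j s)
      have hx : ∀ x ∈ Submodule.span A S,
          PiTensorProduct.tprod A (Function.update b j x) ∈ N := by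
        intro x hx
        refine Submodule.span_induction
          (p := fun x _ => PiTensorProduct.tprod A (Function.update b j x) ∈ N) ?_ ?_ ?_ ?_ hx
        · intro y hy
          apply ih
          · intro i hi
            have hij : i ≠ j := fun e => hj (e ▸ hi)
            rw [Function.update_of_ne hij]
            exact hb1 i (Finset.mem_insert_of_mem hi)
          · intro i hi
            by_cases hij : i = j
            · subst hij
              rw [Function.update_self]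
              exact hy
            · rw [Function.update_of_ne hij]
              refine hb2 i (fun h' => ?_)
              rcases Finset.mem_insert.1 h' with h'' | h''
              · exact hij h''
              · exact hi h''
        · rw [MultilinearMap.map_update_zero]
          exact N.zero_mem
        · intro y z _ _ hy hz
          rw [MultilinearMap.map_update_add]
          exact N.add_mem hy hz
        · intro a y _ hy
          rw [MultilinearMap.map_update_smul]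
          exact N.smul_mem a hy
      have := hx (b j) hbj
      rwa [Function.update_eq_self] at this
  intro b hb
  exact key Finset.univ b (fun i _ => hb i) (fun i hi => absurd (Finset.mem_univ i) hi)

end Slot

section Defs

variable {A B : Type u} [CommRing A] [CommRing B] [Algebra A B]
  (𝒜 : ℕ → Submodule A B) (d : ℕ)

/-- pure tensors whose entries are homogeneous of one and the same degree -/
def Cgen : Set (⨂[A] _ : Fin d, B) :=
  {t | ∃ (k : ℕ) (b : Fin d → B), (∀ i, b i ∈ 𝒜 k) ∧ t = PiTensorProduct.tprod A b}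

/-- the subalgebra they generate -/
noncomputable def CC : Subalgebra A (⨂[A] _ : Fin d, B) := Algebra.adjoin A (Cgen 𝒜 d)

/-- its symmetric part -/
noncomputable def DD : Subalgebra A (⨂[A] _ : Fin d, B) := CC 𝒜 d ⊓ SymTen.TS A B d

/-- the span of the pure tensors of degree `k` -/
noncomputable def Cspan (k : ℕ) : Submodule A (⨂[A] _ : Fin d, B) :=
  Submodule.span A {s | ∃ b : Fin d → B, (∀ i, b i ∈ 𝒜 k) ∧ s = PiTensorProduct.tprod A b}

variable {𝒜 d}

theorem tprod_mem_CC {k : ℕ} {b : Fin d → B} (hb : ∀ i, b i ∈ 𝒜 k) :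
    PiTensorProduct.tprod A b ∈ CC 𝒜 d :=
  Algebra.subset_adjoin ⟨k, b, hb, rfl⟩

theorem Cspan_le (k : ℕ) : Cspan 𝒜 d k ≤ Subalgebra.toSubmodule (CC 𝒜 d) := by
  refine Submodule.span_le.2 ?_
  rintro _ ⟨b, hb, rfl⟩
  exact tprod_mem_CC hb

theorem perm_mem_CC (σ : Equiv.Perm (Fin d)) {x : ⨂[A] _ : Fin d, B} (hx : x ∈ CC 𝒜 d) :
    SymTen.perm A B d σ x ∈ CC 𝒜 d := by
  have h : (CC 𝒜 d).map (SymTen.perm A B d σ) ≤ CC 𝒜 d := by
    unfold CC
    rw [AlgHom.map_adjoin]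
    refine Algebra.adjoin_mono ?_
    rintro _ ⟨_, ⟨k, b, hb, rfl⟩, rfl⟩
    exact ⟨k, fun i => b (σ.symm i), fun i => hb _, SymTen.perm_tprod A B d σ b⟩
  exact h ⟨x, hx, rfl⟩

/-- the image in the tensor power of an ideal of the subalgebra -/
noncomputable def imI (𝔔 : Ideal ↥(CC 𝒜 d)) : Submodule A (⨂[A] _ : Fin d, B) :=
  (𝔔.restrictScalars A).map (CC 𝒜 d).val.toLinearMap

theorem mem_imI (𝔔 : Ideal ↥(CC 𝒜 d)) (t : ⨂[A] _ : Fin d, B) :
    t ∈ imI 𝔔 ↔ ∃ x ∈ 𝔔, (x : ⨂[A] _ : Fin d, B) = t := by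
  unfold imI
  rw [Submodule.mem_map]
  rfl

theorem mem_imI_iff (𝔔 : Ideal ↥(CC 𝒜 d)) (x : ↥(CC 𝒜 d)) :
    (x : ⨂[A] _ : Fin d, B) ∈ imI 𝔔 ↔ x ∈ 𝔔 := by
  rw [mem_imI]
  constructor
  · rintro ⟨y, hy, hyx⟩
    have : y = x := Subtype.ext hyx
    rwa [← this]
  · intro hx
    exact ⟨x, hx, rfl⟩

end Defs

section Reduce

variable {A B : Type u} [CommRing A] [CommRing B] [Algebra A B]
  (𝒜 : ℕ → Submodule A B) [GradedAlgebra 𝒜] {d : ℕ}
  (hgen : Algebra.adjoin A (𝒜 1 : Set B) = ⊤)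

include hgen in
/-- if all pure tensors of degree one lie in an ideal, so do all those of positive degree -/
theorem tprod_mem_imI_of_degree_one (𝔔 : Ideal ↥(CC 𝒜 d))
    (h1 : ∀ b : Fin d → B, (∀ i, b i ∈ 𝒜 1) → PiTensorProduct.tprod A b ∈ imI 𝔔)
    (k : ℕ) (b : Fin d → B) (hb : ∀ i, b i ∈ 𝒜 (k + 1)) :
    PiTensorProduct.tprod A b ∈ imI 𝔔 := by
  have hb' : ∀ i, b i ∈ Submodule.span A ((𝒜 1 : Set B) * (𝒜 k : Set B)) := by
    intro i
    rw [← Submodule.mul_eq_span_mul_set]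
    exact graded_succ_le_mul 𝒜 hgen k (hb i)
  refine tprod_mem_of_forall_mem_span _ (imI 𝔔) ?_ b hb'
  intro b' hb'
  choose u hu v hv huv using fun i => Set.mem_mul.1 (hb' i)
  obtain ⟨x, hx, hxu⟩ := (mem_imI 𝔔 _).1 (h1 u hu)
  have : PiTensorProduct.tprod A b' =
      PiTensorProduct.tprod A u * PiTensorProduct.tprod A v := by
    rw [PiTensorProduct.tprod_mul_tprod]
    congr 1
    funext i
    exact (huv i).symm
  rw [this, mem_imI]
  exact ⟨x * ⟨PiTensorProduct.tprod A v, tprod_mem_CC hv⟩, Ideal.mul_mem_right _ _ hx, by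
    rw [MulMemClass.coe_mul, hxu]⟩

include hgen in
theorem Cspan_le_imI_of_degree_one (𝔔 : Ideal ↥(CC 𝒜 d))
    (h1 : ∀ b : Fin d → B, (∀ i, b i ∈ 𝒜 1) → PiTensorProduct.tprod A b ∈ imI 𝔔)
    (k : ℕ) (hk : 0 < k) : Cspan 𝒜 d k ≤ imI 𝔔 := by
  obtain ⟨k, rfl⟩ := Nat.exists_eq_succ_of_ne_zero hk.ne'
  refine Submodule.span_le.2 ?_
  rintro _ ⟨b, hb, rfl⟩
  exact tprod_mem_imI_of_degree_one 𝒜 hgen 𝔔 h1 k b hb

end Reduce

section Integral

variable {A B : Type u} [CommRing A] [CommRing B] [Algebra A B]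
  (𝒜 : ℕ → Submodule A B) (d : ℕ)

theorem perm_one (t : ⨂[A] _ : Fin d, B) : SymTen.perm A B d 1 t = t := by
  rw [SymTen.perm_apply]
  exact LinearEquiv.congr_fun
    (PiTensorProduct.reindex_refl (R := A) (s := fun _ : Fin d => B)) t

/-- the action of the symmetric group on the multi-homogeneous subalgebra -/
@[reducible] noncomputable def ccAction : MulSemiringAction (Equiv.Perm (Fin d)) ↥(CC 𝒜 d) where
  smul σ x := ⟨SymTen.perm A B d σ x.1, perm_mem_CC σ x.2⟩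
  one_smul x := Subtype.ext (perm_one d x.1)
  mul_smul σ τ x := Subtype.ext (by
    show SymTen.perm A B d (σ * τ) x.1 = SymTen.perm A B d σ (SymTen.perm A B d τ x.1)
    rw [← Groth.Agent.H74.SymNormP.perm_mul]
    rfl)
  smul_zero σ := Subtype.ext (map_zero _)
  smul_add σ x y := Subtype.ext (map_add _ _ _)
  smul_one σ := Subtype.ext (map_one _)
  smul_mul σ x y := Subtype.ext (map_mul _ _ _)

/-- the multi-homogeneous subalgebra as an algebra over its symmetric part -/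
@[reducible] noncomputable def ddAlg : Algebra ↥(DD 𝒜 d) ↥(CC 𝒜 d) :=
  (Subalgebra.inclusion (inf_le_left : DD 𝒜 d ≤ CC 𝒜 d)).toRingHom.toAlgebra

attribute [local instance] ccAction ddAlg

theorem ddAlg_apply (x : ↥(DD 𝒜 d)) :
    ((algebraMap ↥(DD 𝒜 d) ↥(CC 𝒜 d) x : ↥(CC 𝒜 d)) : ⨂[A] _ : Fin d, B) = x.1 := rfl

theorem dd_isInvariant :
    Algebra.IsInvariant ↥(DD 𝒜 d) ↥(CC 𝒜 d) (Equiv.Perm (Fin d)) := by
  refine ⟨fun c hc => ⟨⟨c.1, c.2, fun σ => ?_⟩, Subtype.ext rfl⟩⟩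
  rw [← SymTen.perm_apply]
  exact congrArg Subtype.val (hc σ)

theorem dd_isIntegral : Algebra.IsIntegral ↥(DD 𝒜 d) ↥(CC 𝒜 d) :=
  haveI := dd_isInvariant 𝒜 d
  Algebra.IsInvariant.isIntegral ↥(DD 𝒜 d) ↥(CC 𝒜 d) (Equiv.Perm (Fin d))

/-- primes of the symmetric part are contractions -/
theorem exists_prime_over (𝔮 : Ideal ↥(DD 𝒜 d)) [𝔮.IsPrime] :
    ∃ 𝔔 : Ideal ↥(CC 𝒜 d), 𝔔.IsPrime ∧
      ∀ x : ↥(DD 𝒜 d), x ∈ 𝔮 ↔ (x : ⨂[A] _ : Fin d, B) ∈ imI 𝔔 := by
  haveI := dd_isIntegral 𝒜 d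
  have hker : (⊥ : Ideal ↥(CC 𝒜 d)).comap (algebraMap ↥(DD 𝒜 d) ↥(CC 𝒜 d)) ≤ 𝔮 := by
    intro x hx
    rw [Ideal.mem_comap, Ideal.mem_bot] at hx
    have h0 : ((algebraMap ↥(DD 𝒜 d) ↥(CC 𝒜 d) x : ↥(CC 𝒜 d)) : ⨂[A] _ : Fin d, B) = 0 := by
      rw [hx]; rfl
    have : x = 0 := Subtype.ext h0
    rw [this]
    exact 𝔮.zero_mem
  obtain ⟨𝔔, -, h𝔔, h𝔔𝔮⟩ := Ideal.exists_ideal_over_prime_of_isIntegral 𝔮 ⊥ hker
  refine ⟨𝔔, h𝔔, fun x => ?_⟩
  rw [← h𝔔𝔮, Ideal.mem_comap, ← mem_imI_iff]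
  rfl

end Integral

section Key

variable {A B : Type u} [CommRing A] [CommRing B] [Algebra A B]
  (𝒜 : ℕ → Submodule A B) [GradedAlgebra 𝒜] {d : ℕ}
  (hgen : Algebra.adjoin A (𝒜 1 : Set B) = ⊤)

include hgen in
/-- **Reduction**: to show that the symmetric elements of positive degree lie in the radical of
the ideal generated by `G`, it suffices to find, for every prime of the multi-homogeneous
subalgebra missing some pure tensor of degree one, an element of `G` outside that prime. -/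
theorem exists_pow_mem_span (G : Set ↥(DD 𝒜 d))
    (hG : ∀ 𝔔 : Ideal ↥(CC 𝒜 d), 𝔔.IsPrime → ∀ b : Fin d → B, (∀ i, b i ∈ 𝒜 1) →
      PiTensorProduct.tprod A b ∉ imI 𝔔 → ∃ x ∈ G, (x : ⨂[A] _ : Fin d, B) ∉ imI 𝔔)
    (k : ℕ) (hk : 0 < k) (t : ⨂[A] _ : Fin d, B) (htD : t ∈ DD 𝒜 d)
    (htk : t ∈ Cspan 𝒜 d k) :
    ∃ m : ℕ, 0 < m ∧ (⟨t, htD⟩ : ↥(DD 𝒜 d)) ^ m ∈ Ideal.span G := by
  have hrad : (⟨t, htD⟩ : ↥(DD 𝒜 d)) ∈ (Ideal.span G).radical := by
    rw [Ideal.radical_eq_sInf, Ideal.mem_sInf]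
    rintro 𝔮 ⟨hG𝔮, h𝔮⟩
    haveI := h𝔮
    obtain ⟨𝔔, h𝔔, h𝔔𝔮⟩ := exists_prime_over 𝒜 d 𝔮
    by_contra ht
    have h1 : ∀ b : Fin d → B, (∀ i, b i ∈ 𝒜 1) → PiTensorProduct.tprod A b ∈ imI 𝔔 := by
      intro b hb
      by_contra hb'
      obtain ⟨x, hxG, hx⟩ := hG 𝔔 h𝔔 b hb hb'
      exact hx ((h𝔔𝔮 x).1 (hG𝔮 (Ideal.subset_span hxG)))
    have h2 := Cspan_le_imI_of_degree_one 𝒜 hgen 𝔔 h1 k hk htk
    exact ht ((h𝔔𝔮 ⟨t, htD⟩).2 h2)
  obtain ⟨m, hm⟩ := hrad
  exact ⟨m + 1, Nat.succ_pos m, by rw [pow_succ]; exact Ideal.mul_mem_right _ _ hm⟩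

end Key

end Groth.Agent.H80.SymGr
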