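-- helper80: the symmetric part of the multi-homogeneous subalgebra is covered in degree one
-- (coefficients of the generic power `(Σ λ_l b_l)^{⊗d}`).
import Groth.Agent.H80.SymGr

set_option autoImplicit false
universe u

open scoped TensorProduct

namespace Groth.Agent.H80.SymGrPoly

open Groth.Agent.H80.NLComb Groth.Agent.H80.NLTheta Groth.Agent.H80.SymGr

section Slots

variable {M : Type*} [CommMonoid M] {d : ℕ}

theorem prod_ite_slot (i : Fin d) (x y : M) :
    ∏ j : Fin d, (if i = j then x else y) = x * y ^ (d - 1) := by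
  classical
  rw [← Finset.mul_prod_erase Finset.univ _ (Finset.mem_univ i), if_pos rfl]
  congr 1
  rw [Finset.prod_congr rfl (g := fun _ => y)]
  · rw [Finset.prod_const, Finset.card_erase_of_mem (Finset.mem_univ i), Finset.card_univ,
      Fintype.card_fin]
  · intro j hj
    rw [if_neg]
    exact fun h => (Finset.ne_of_mem_erase hj) h.symm

end Slots

section Poly

variable {A B : Type u} [CommRing A] [CommRing B] [Algebra A B]
  {𝒜 : ℕ → Submodule A B} {d : ℕ} (b : Fin d → B) (hb : ∀ i, b i ∈ 𝒜 1)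

/-- the pure tensor attached to a reindexing of the family -/
noncomputable def cφ (φ : Fin d → Fin d) : ↥(CC 𝒜 d) :=
  ⟨PiTensorProduct.tprod A (fun i => b (φ i)), tprod_mem_CC (fun i => hb (φ i))⟩

theorem cφ_mul_pow (φ : Fin d → Fin d) :
    cφ b hb φ * (cφ b hb id) ^ (d - 1) =
      ∏ j, cφ b hb (Function.update id j (φ j)) := by
  apply Subtype.ext
  rw [MulMemClass.coe_mul, SubmonoidClass.coe_pow, SubmonoidClass.coe_finsetProd]
  show tpm A B d (fun i => b (φ i)) * (tpm A B d (fun i => b (id i))) ^ (d - 1) =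
    ∏ j, tpm A B d (fun i => b (Function.update id j (φ j) i))
  rw [← map_pow, ← map_mul, ← map_prod]
  congr 1
  funext i
  rw [Pi.mul_apply, Pi.pow_apply, Finset.prod_apply]
  have : ∀ j : Fin d, b (Function.update id j (φ j) i) = if i = j then b (φ i) else b i := by
    intro j
    rw [Function.update_apply]
    split_ifs with h
    · rw [h]
    · rfl
  rw [Finset.prod_congr rfl (fun j _ => this j), prod_ite_slot]
  rfl

end Poly

section Main

variable {A B : Type u} [CommRing A] [CommRing B] [Algebra A B]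
  {𝒜 : ℕ → Submodule A B} {d : ℕ} (b : Fin d → B) (hb : ∀ i, b i ∈ 𝒜 1)

theorem prod_X_eq_monomial' {R : Type*} [CommSemiring R] {σ : Type*} (q : Fin d → σ) :
    ∏ k, (MvPolynomial.X (q k) : MvPolynomial σ R) = MvPolynomial.monomial (count q) 1 := by
  rw [prod_comp_eq_count_prod q (fun b => (MvPolynomial.X b : MvPolynomial σ R)),
    MvPolynomial.monomial_eq, MvPolynomial.C_1, one_mul]

open Classical in
/-- the class sums: the coefficients of the generic power -/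
noncomputable def Oν (ν : Fin d →₀ ℕ) : ↥(CC 𝒜 d) :=
  ∑ φ ∈ Finset.univ.filter (fun φ : Fin d → Fin d => count φ = ν), cφ b hb φ

open Classical in
theorem Oν_val (ν : Fin d →₀ ℕ) :
    ((Oν b hb ν : ↥(CC 𝒜 d)) : ⨂[A] _ : Fin d, B) =
      ∑ φ ∈ Finset.univ.filter (fun φ : Fin d → Fin d => count φ = ν),
        PiTensorProduct.tprod A (fun i => b (φ i)) := by
  unfold Oν
  rw [AddSubmonoidClass.coe_finsetSum]
  rfl

open Classical in
theorem Oν_mem_TS (ν : Fin d →₀ ℕ) :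
    ((Oν b hb ν : ↥(CC 𝒜 d)) : ⨂[A] _ : Fin d, B) ∈ SymTen.TS A B d := by
  intro σ
  rw [← SymTen.perm_apply, Oν_val, map_sum]
  simp only [SymTen.perm_tprod]
  refine Finset.sum_bij' (fun φ _ => φ ∘ σ.symm) (fun φ _ => φ ∘ σ) ?_ ?_ ?_ ?_ ?_
  · intro φ hφ
    rw [Finset.mem_filter] at hφ ⊢
    exact ⟨Finset.mem_univ _, by rw [count_comp_perm]; exact hφ.2⟩
  · intro φ hφ
    rw [Finset.mem_filter] at hφ ⊢
    exact ⟨Finset.mem_univ _, by rw [count_comp_perm]; exact hφ.2⟩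
  · intro φ _
    funext i
    simp
  · intro φ _
    funext i
    simp
  · intro φ _
    rfl

open Classical in
theorem Oν_mem_DD (ν : Fin d →₀ ℕ) :
    ((Oν b hb ν : ↥(CC 𝒜 d)) : ⨂[A] _ : Fin d, B) ∈ DD 𝒜 d :=
  ⟨(Oν b hb ν).2, Oν_mem_TS b hb ν⟩

open Classical in
theorem Oν_mem_Cspan (ν : Fin d →₀ ℕ) :
    ((Oν b hb ν : ↥(CC 𝒜 d)) : ⨂[A] _ : Fin d, B) ∈ Cspan 𝒜 d 1 := by
  rw [Oν_val]
  refine Submodule.sum_mem _ (fun φ _ => Submodule.subset_span ⟨_, fun i => hb (φ i), rfl⟩)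

section Quot

variable (𝔔 : Ideal ↥(CC 𝒜 d))

open Classical in
theorem sum_eq_zero_of_Oν (hO : ∀ ν : Fin d →₀ ℕ, Ideal.Quotient.mk 𝔔 (Oν b hb ν) = 0) :
    ∑ φ : Fin d → Fin d, MvPolynomial.C (Ideal.Quotient.mk 𝔔 (cφ b hb φ)) *
      ∏ j, (MvPolynomial.X (φ j) : MvPolynomial (Fin d) (↥(CC 𝒜 d) ⧸ 𝔔)) = 0 := by
  simp only [prod_X_eq_monomial']
  rw [← Finset.sum_fiberwise_of_maps_to (g := count)
    (t := (Finset.univ : Finset (Fin d → Fin d)).image count)
    (fun φ hφ => Finset.mem_image_of_mem _ hφ)]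
  refine Finset.sum_eq_zero (fun ν _ => ?_)
  have : ∀ φ ∈ Finset.univ.filter (fun φ : Fin d → Fin d => count φ = ν),
      MvPolynomial.C (Ideal.Quotient.mk 𝔔 (cφ b hb φ)) *
        (MvPolynomial.monomial (count φ) 1 : MvPolynomial (Fin d) (↥(CC 𝒜 d) ⧸ 𝔔)) =
      MvPolynomial.C (Ideal.Quotient.mk 𝔔 (cφ b hb φ)) * MvPolynomial.monomial ν 1 := by
    intro φ hφ
    rw [(Finset.mem_filter.1 hφ).2]
  rw [Finset.sum_congr rfl this, ← Finset.sum_mul, ← map_sum, ← map_sum]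
  have h0 := hO ν
  unfold Oν at h0
  rw [h0, map_zero, zero_mul]

theorem prod_term (φ : Fin d → Fin d) :
    ∏ j, (MvPolynomial.C (Ideal.Quotient.mk 𝔔 (cφ b hb (Function.update id j (φ j)))) *
      (MvPolynomial.X (φ j) : MvPolynomial (Fin d) (↥(CC 𝒜 d) ⧸ 𝔔))) =
    MvPolynomial.C (Ideal.Quotient.mk 𝔔 (cφ b hb id)) ^ (d - 1) *
      (MvPolynomial.C (Ideal.Quotient.mk 𝔔 (cφ b hb φ)) * ∏ j, MvPolynomial.X (φ j)) := by
  rw [Finset.prod_mul_distrib, ← map_prod, ← map_prod, ← cφ_mul_pow, map_mul, map_pow,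
    map_mul, map_pow]
  ring

theorem prod_sum_eq_zero (hzero : ∑ φ : Fin d → Fin d,
      MvPolynomial.C (Ideal.Quotient.mk 𝔔 (cφ b hb φ)) *
      ∏ j, (MvPolynomial.X (φ j) : MvPolynomial (Fin d) (↥(CC 𝒜 d) ⧸ 𝔔)) = 0) :
    ∏ j : Fin d, ∑ l : Fin d,
      MvPolynomial.C (Ideal.Quotient.mk 𝔔 (cφ b hb (Function.update id j l))) *
      (MvPolynomial.X l : MvPolynomial (Fin d) (↥(CC 𝒜 d) ⧸ 𝔔)) = 0 := by
  classical
  rw [Finset.prod_univ_sum, Fintype.piFinset_univ,
    Finset.sum_congr rfl (fun φ _ => prod_term b hb 𝔔 φ), ← Finset.mul_sum, hzero, mul_zero]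

theorem coeff_factor (j : Fin d) :
    MvPolynomial.coeff (Finsupp.single j 1) (∑ l : Fin d,
      MvPolynomial.C (Ideal.Quotient.mk 𝔔 (cφ b hb (Function.update id j l))) *
      (MvPolynomial.X l : MvPolynomial (Fin d) (↥(CC 𝒜 d) ⧸ 𝔔))) =
      Ideal.Quotient.mk 𝔔 (cφ b hb id) := by
  classical
  rw [MvPolynomial.coeff_sum]
  have hterm : ∀ l : Fin d, MvPolynomial.coeff (Finsupp.single j 1)
      (MvPolynomial.C (Ideal.Quotient.mk 𝔔 (cφ b hb (Function.update id j l))) *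
        (MvPolynomial.X l : MvPolynomial (Fin d) (↥(CC 𝒜 d) ⧸ 𝔔))) =
      if l = j then Ideal.Quotient.mk 𝔔 (cφ b hb (Function.update id j l)) else 0 := by
    intro l
    rw [MvPolynomial.C_mul_X_eq_monomial, MvPolynomial.coeff_monomial]
    by_cases hlj : l = j
    · rw [if_pos hlj, if_pos (by rw [hlj])]
    · rw [if_neg hlj, if_neg]
      intro h'
      exact hlj ((Finsupp.single_left_inj one_ne_zero).1 h')
  have hid : Function.update (id : Fin d → Fin d) j j = id := Function.update_eq_self j id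
  rw [Finset.sum_congr rfl (fun l _ => hterm l), Finset.sum_ite_eq' Finset.univ j,
    if_pos (Finset.mem_univ j), hid]

end Quot

/-- **Covering in degree one**: a prime missing a pure tensor of degree one misses one of the
symmetric class sums. -/
theorem exists_Oν_notMem (𝔔 : Ideal ↥(CC 𝒜 d)) [𝔔.IsPrime]
    (hc : PiTensorProduct.tprod A b ∉ imI 𝔔) :
    ∃ ν : Fin d →₀ ℕ, ((Oν b hb ν : ↥(CC 𝒜 d)) : ⨂[A] _ : Fin d, B) ∉ imI 𝔔 := by
  by_contra h
  push Not at h
  have hO : ∀ ν : Fin d →₀ ℕ, Ideal.Quotient.mk 𝔔 (Oν b hb ν) = 0 := by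
    intro ν
    rw [Ideal.Quotient.eq_zero_iff_mem, ← mem_imI_iff]
    exact h ν
  have hP := prod_sum_eq_zero b hb 𝔔 (sum_eq_zero_of_Oν b hb 𝔔 hO)
  obtain ⟨j, -, hj⟩ := Finset.prod_eq_zero_iff.1 hP
  have hcoef := congrArg (MvPolynomial.coeff (Finsupp.single j 1)) hj
  rw [coeff_factor, MvPolynomial.coeff_zero] at hcoef
  apply hc
  have : cφ b hb id ∈ 𝔔 := Ideal.Quotient.eq_zero_iff_mem.1 hcoef
  exact (mem_imI_iff 𝔔 (cφ b hb id)).2 this

end Main

end Groth.Agent.H80.SymGrPoly
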