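-- helper80: evaluation of homogeneous elements at the "points" determined by a prime of the
-- multi-homogeneous subalgebra, and homogeneous prime avoidance.
import Groth.Agent.H80.SymGrPoly

set_option autoImplicit false
universe u

open scoped TensorProduct

namespace Groth.Agent.H80.SymGrChi

open Groth.Agent.H80.NLComb Groth.Agent.H80.NLTheta Groth.Agent.H80.SymGr
  Groth.Agent.H80.SymGrPoly

section Fj

variable {A B : Type u} [CommRing A] [CommRing B] [Algebra A B] {d : ℕ} (b : Fin d → B)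

/-- the pure tensor with `f` in slot `j` and `n`-th powers of the reference family elsewhere -/
noncomputable def Fj (j : Fin d) (n : ℕ) (f : B) : ⨂[A] _ : Fin d, B :=
  PiTensorProduct.tprod A (Function.update (fun i => b i ^ n) j f)

theorem Fj_mul (j : Fin d) (n m : ℕ) (f g : B) :
    Fj (A := A) b j (n + m) (f * g) = Fj b j n f * Fj b j m g := by
  unfold Fj
  rw [PiTensorProduct.tprod_mul_tprod]
  congr 1
  funext i
  by_cases h : i = j
  · subst h
    rw [Pi.mul_apply, Function.update_self, Function.update_self, Function.update_self]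
  · rw [Pi.mul_apply, Function.update_of_ne h, Function.update_of_ne h, Function.update_of_ne h,
      pow_add]

theorem Fj_add (j : Fin d) (n : ℕ) (f g : B) :
    Fj (A := A) b j n (f + g) = Fj b j n f + Fj b j n g := by
  unfold Fj
  exact MultilinearMap.map_update_add _ _ _ _ _

theorem Fj_smul (j : Fin d) (n : ℕ) (a : A) (f : B) :
    Fj (A := A) b j n (a • f) = a • Fj b j n f := by
  unfold Fj
  exact MultilinearMap.map_update_smul _ _ _ _ _

theorem Fj_one_self (j : Fin d) : Fj (A := A) b j 1 (b j) = PiTensorProduct.tprod A b := by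
  unfold Fj
  congr 1
  funext i
  by_cases h : i = j
  · subst h
    rw [Function.update_self]
  · rw [Function.update_of_ne h, pow_one]

theorem Fj_zero_one (j : Fin d) : Fj (A := A) b j 0 1 = 1 := by
  unfold Fj
  rw [PiTensorProduct.one_def]
  congr 1
  funext i
  by_cases h : i = j
  · subst h
    rw [Function.update_self]
    rfl
  · rw [Function.update_of_ne h, pow_zero]
    rfl

theorem Fj_prod (n : ℕ) (f : B) :
    PiTensorProduct.tprod A (fun _ : Fin d => f) * (PiTensorProduct.tprod A b) ^ (n * (d - 1)) =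
      ∏ j, Fj (A := A) b j n f := by
  unfold Fj
  show tpm A B d (fun _ : Fin d => f) * (tpm A B d b) ^ (n * (d - 1)) =
    ∏ j, tpm A B d (Function.update (fun i => b i ^ n) j f)
  rw [← map_pow, ← map_mul, ← map_prod]
  congr 1
  funext i
  rw [Pi.mul_apply, Pi.pow_apply, Finset.prod_apply]
  have : ∀ j : Fin d, Function.update (fun i => b i ^ n) j f i =
      if i = j then f else b i ^ n := by
    intro j
    rw [Function.update_apply]
  rw [Finset.prod_congr rfl (fun j _ => this j), prod_ite_slot, pow_mul]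

variable {𝒜 : ℕ → Submodule A B} [GradedAlgebra 𝒜] (hb : ∀ i, b i ∈ 𝒜 1)

include hb in
theorem pow_mem_deg (i : Fin d) (n : ℕ) : b i ^ n ∈ 𝒜 n := by
  have := SetLike.pow_mem_graded n (hb i)
  rwa [smul_eq_mul, mul_one] at this

include hb in
theorem Fj_mem_CC (j : Fin d) {n : ℕ} {f : B} (hf : f ∈ 𝒜 n) :
    Fj (A := A) b j n f ∈ CC 𝒜 d := by
  refine tprod_mem_CC (k := n) (fun i => ?_)
  by_cases h : i = j
  · subst h
    rw [Function.update_self]
    exact hf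
  · rw [Function.update_of_ne h]
    exact pow_mem_deg b hb i n

end Fj

section Z

variable {A B : Type u} [CommRing A] [CommRing B] [Algebra A B] {d : ℕ} (b : Fin d → B)
  {𝒜 : ℕ → Submodule A B} [GradedAlgebra 𝒜] (hb : ∀ i, b i ∈ 𝒜 1)
  (𝔔 : Ideal ↥(CC 𝒜 d))

/-- vanishing at the `j`-th point -/
def Z (j : Fin d) (n : ℕ) (f : B) : Prop := Fj (A := A) b j n f ∈ imI 𝔔

include hb in
theorem Z_iff (j : Fin d) {n : ℕ} {f : B} (hf : f ∈ 𝒜 n) :
    Z b 𝔔 j n f ↔ (⟨Fj (A := A) b j n f, Fj_mem_CC b hb j hf⟩ : ↥(CC 𝒜 d)) ∈ 𝔔 :=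
  mem_imI_iff 𝔔 ⟨Fj (A := A) b j n f, Fj_mem_CC b hb j hf⟩

theorem mk_mul_eq (j : Fin d) {n m : ℕ} {f g : B} (hf : f ∈ 𝒜 n) (hg : g ∈ 𝒜 m)
    (hfg : f * g ∈ 𝒜 (n + m)) :
    (⟨Fj (A := A) b j (n + m) (f * g), Fj_mem_CC b hb j hfg⟩ : ↥(CC 𝒜 d)) =
      ⟨Fj (A := A) b j n f, Fj_mem_CC b hb j hf⟩ * ⟨Fj (A := A) b j m g, Fj_mem_CC b hb j hg⟩ :=
  Subtype.ext (Fj_mul b j n m f g)

include hb in
theorem Z_mul_left (j : Fin d) {n m : ℕ} {f g : B} (hf : f ∈ 𝒜 n) (hg : g ∈ 𝒜 m)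
    (h : Z b 𝔔 j n f) : Z b 𝔔 j (n + m) (f * g) := by
  have hfg : f * g ∈ 𝒜 (n + m) := SetLike.GradedMul.mul_mem hf hg
  rw [Z_iff b hb 𝔔 j hfg, mk_mul_eq b hb j hf hg hfg]
  exact Ideal.mul_mem_right _ _ ((Z_iff b hb 𝔔 j hf).1 h)

include hb in
theorem Z_mul_right (j : Fin d) {n m : ℕ} {f g : B} (hf : f ∈ 𝒜 n) (hg : g ∈ 𝒜 m)
    (h : Z b 𝔔 j m g) : Z b 𝔔 j (n + m) (f * g) := by
  have hfg : f * g ∈ 𝒜 (n + m) := SetLike.GradedMul.mul_mem hf hg
  rw [Z_iff b hb 𝔔 j hfg, mk_mul_eq b hb j hf hg hfg]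
  exact Ideal.mul_mem_left _ _ ((Z_iff b hb 𝔔 j hg).1 h)

include hb in
theorem Z_add_of (j : Fin d) {n : ℕ} {f g : B} (h1 : Z b 𝔔 j n f) (h2 : ¬ Z b 𝔔 j n g) :
    ¬ Z b 𝔔 j n (f + g) := by
  intro h
  apply h2
  unfold Z at h h1 ⊢
  rw [Fj_add] at h
  have := (imI 𝔔).sub_mem h h1
  rwa [add_sub_cancel_left] at this

variable [h𝔔 : 𝔔.IsPrime]

include hb h𝔔 in
theorem not_Z_mul (j : Fin d) {n m : ℕ} {f g : B} (hf : f ∈ 𝒜 n) (hg : g ∈ 𝒜 m)
    (h1 : ¬ Z b 𝔔 j n f) (h2 : ¬ Z b 𝔔 j m g) : ¬ Z b 𝔔 j (n + m) (f * g) := by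
  have hfg : f * g ∈ 𝒜 (n + m) := SetLike.GradedMul.mul_mem hf hg
  rw [Z_iff b hb 𝔔 j hfg, mk_mul_eq b hb j hf hg hfg]
  intro h
  rcases h𝔔.mem_or_mem h with h' | h'
  · exact h1 ((Z_iff b hb 𝔔 j hf).2 h')
  · exact h2 ((Z_iff b hb 𝔔 j hg).2 h')

include h𝔔 in
theorem not_Z_zero_one (j : Fin d) : ¬ Z b 𝔔 j 0 1 := by
  unfold Z
  rw [Fj_zero_one]
  intro h
  obtain ⟨x, hx, hx1⟩ := (mem_imI 𝔔 _).1 h
  have : x = 1 := Subtype.ext hx1
  rw [this] at hx
  exact h𝔔.ne_top ((Ideal.eq_top_iff_one 𝔔).2 hx)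

theorem pow_mem_graded' {n : ℕ} {f : B} (hf : f ∈ 𝒜 n) (m : ℕ) : f ^ m ∈ 𝒜 (n * m) := by
  have := SetLike.pow_mem_graded m hf
  rwa [smul_eq_mul, mul_comm] at this

include hb h𝔔 in
theorem not_Z_pow (j : Fin d) {n : ℕ} {f : B} (hf : f ∈ 𝒜 n) (h : ¬ Z b 𝔔 j n f) (m : ℕ) :
    ¬ Z b 𝔔 j (n * m) (f ^ m) := by
  induction m with
  | zero =>
    rw [Nat.mul_zero, pow_zero]
    exact not_Z_zero_one b 𝔔 j
  | succ m ih =>
    rw [Nat.mul_succ, pow_succ]
    exact not_Z_mul b hb 𝔔 j (pow_mem_graded' hf m) hf ih h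

include hb in
theorem Z_pow (j : Fin d) {n : ℕ} {f : B} (hf : f ∈ 𝒜 n) (h : Z b 𝔔 j n f) (m : ℕ)
    (hm : 0 < m) : Z b 𝔔 j (n * m) (f ^ m) := by
  obtain ⟨m, rfl⟩ := Nat.exists_eq_succ_of_ne_zero hm.ne'
  rw [Nat.mul_succ, pow_succ]
  exact Z_mul_right b hb 𝔔 j (pow_mem_graded' hf m) hf h

include hb h𝔔 in
/-- an element not vanishing at any of the points gives a diagonal tensor outside the prime -/
theorem tprod_const_notMem {n : ℕ} {f : B} (hf : f ∈ 𝒜 n) (h : ∀ j, ¬ Z b 𝔔 j n f) :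
    PiTensorProduct.tprod A (fun _ : Fin d => f) ∉ imI 𝔔 := by
  intro hmem
  obtain ⟨x, hx, hxf⟩ := (mem_imI 𝔔 _).1 hmem
  have hprod : ∏ j, (⟨Fj (A := A) b j n f, Fj_mem_CC b hb j hf⟩ : ↥(CC 𝒜 d)) =
      x * (⟨PiTensorProduct.tprod A b, tprod_mem_CC hb⟩ : ↥(CC 𝒜 d)) ^ (n * (d - 1)) := by
    apply Subtype.ext
    rw [SubmonoidClass.coe_finsetProd, MulMemClass.coe_mul, SubmonoidClass.coe_pow, hxf]
    exact (Fj_prod b n f).symm
  have hmem2 : ∏ j, (⟨Fj (A := A) b j n f, Fj_mem_CC b hb j hf⟩ : ↥(CC 𝒜 d)) ∈ 𝔔 := by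
    rw [hprod]
    exact Ideal.mul_mem_right _ _ hx
  obtain ⟨j, -, hj⟩ := (Ideal.IsPrime.prod_mem_iff).1 hmem2
  exact h j ((Z_iff b hb 𝔔 j hf).2 hj)

end Z

section Avoid

variable {A B : Type u} [CommRing A] [CommRing B] [Algebra A B] {d : ℕ} (b : Fin d → B)
  {𝒜 : ℕ → Submodule A B} [GradedAlgebra 𝒜] (hb : ∀ i, b i ∈ 𝒜 1)
  (𝔔 : Ideal ↥(CC 𝒜 d)) [h𝔔 : 𝔔.IsPrime] (hc : PiTensorProduct.tprod A b ∉ imI 𝔔)

/-- containment of the homogeneous primes attached to two of the points -/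
def le (j r : Fin d) : Prop := ∀ (n : ℕ) (f : B), f ∈ 𝒜 n → Z b 𝔔 j n f → Z b 𝔔 r n f

include hb h𝔔 in
theorem exists_sep (r : Fin d) : ∀ s' : Finset (Fin d), (∀ j ∈ s', ¬ le b 𝔔 j r) →
    ∃ (m : ℕ) (h : B), h ∈ 𝒜 m ∧ (∀ j ∈ s', Z b 𝔔 j m h) ∧ ¬ Z b 𝔔 r m h := by
  classical
  intro s'
  induction s' using Finset.induction_on with
  | empty =>
    intro _
    exact ⟨0, 1, SetLike.GradedOne.one_mem, fun j hj => absurd hj (Finset.notMem_empty j),
      not_Z_zero_one b 𝔔 r⟩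
  | insert j s'' hj ih =>
    intro hle
    obtain ⟨m, h, hh, hZ, hr⟩ := ih (fun i hi => hle i (Finset.mem_insert_of_mem hi))
    have hj' := hle j (Finset.mem_insert_self j s'')
    unfold le at hj'
    push Not at hj'
    obtain ⟨n, g, hg, hZg, hrg⟩ := hj'
    refine ⟨m + n, h * g, SetLike.GradedMul.mul_mem hh hg, ?_,
      not_Z_mul b hb 𝔔 r hh hg hr hrg⟩
    intro i hi
    rcases Finset.mem_insert.1 hi with rfl | hi'
    · exact Z_mul_right b hb 𝔔 i hh hg hZg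
    · exact Z_mul_left b hb 𝔔 i hh hg (hZ i hi')

include hb h𝔔 hc in
/-- **Homogeneous prime avoidance** for the points determined by a prime. -/
theorem exists_avoid : ∀ (c : ℕ) (s : Finset (Fin d)), s.card = c →
    ∃ n : ℕ, 0 < n ∧ ∃ f : B, f ∈ 𝒜 n ∧ ∀ j ∈ s, ¬ Z b 𝔔 j n f := by
  classical
  intro c
  induction c using Nat.strong_induction_on with
  | _ c IH =>
    intro s hs
    rcases s.eq_empty_or_nonempty with rfl | ⟨r, hr⟩
    · exact ⟨1, one_pos, 0, Submodule.zero_mem _, fun j hj => absurd hj (Finset.notMem_empty j)⟩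
    · by_cases hcase : ∀ j ∈ s.erase r, ¬ le b 𝔔 j r
      · obtain ⟨n, hn, f, hf, hav⟩ := IH (s.erase r).card (by
          rw [← hs]
          exact Finset.card_erase_lt_of_mem hr) (s.erase r) rfl
        by_cases hZr : Z b 𝔔 r n f
        · obtain ⟨m₀, h₀, hh₀, hZ₀, hr₀⟩ := exists_sep b hb 𝔔 r (s.erase r) hcase
          have hbr : ¬ Z b 𝔔 r 1 (b r) := by
            unfold Z
            rw [Fj_one_self]
            exact hc
          have hh : b r * h₀ ∈ 𝒜 (1 + m₀) := SetLike.GradedMul.mul_mem (hb r) hh₀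
          have hZh : ∀ j ∈ s.erase r, Z b 𝔔 j (1 + m₀) (b r * h₀) :=
            fun j hj => Z_mul_right b hb 𝔔 j (hb r) hh₀ (hZ₀ j hj)
          have hrh : ¬ Z b 𝔔 r (1 + m₀) (b r * h₀) := not_Z_mul b hb 𝔔 r (hb r) hh₀ hbr hr₀
          have hm : 0 < 1 + m₀ := by omega
          have hf1 : f ^ (1 + m₀) ∈ 𝒜 (n * (1 + m₀)) := pow_mem_graded' hf (1 + m₀)
          have hf2 : (b r * h₀) ^ n ∈ 𝒜 (n * (1 + m₀)) := by
            have := pow_mem_graded' hh n
            rwa [Nat.mul_comm] at this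
          refine ⟨n * (1 + m₀), Nat.mul_pos hn hm, f ^ (1 + m₀) + (b r * h₀) ^ n,
            Submodule.add_mem _ hf1 hf2, ?_⟩
          intro j hj
          by_cases hjr : j = r
          · subst hjr
            have h1 : Z b 𝔔 j (n * (1 + m₀)) (f ^ (1 + m₀)) := Z_pow b hb 𝔔 j hf hZr (1 + m₀) hm
            have h2 : ¬ Z b 𝔔 j (n * (1 + m₀)) ((b j * h₀) ^ n) := by
              have := not_Z_pow b hb 𝔔 j hh hrh n
              rwa [Nat.mul_comm] at this
            exact Z_add_of b hb 𝔔 j h1 h2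
          · have hj' : j ∈ s.erase r := Finset.mem_erase.2 ⟨hjr, hj⟩
            have h1 : ¬ Z b 𝔔 j (n * (1 + m₀)) (f ^ (1 + m₀)) :=
              not_Z_pow b hb 𝔔 j hf (hav j hj') (1 + m₀)
            have h2 : Z b 𝔔 j (n * (1 + m₀)) ((b r * h₀) ^ n) := by
              have := Z_pow b hb 𝔔 j hh (hZh j hj') n hn
              rwa [Nat.mul_comm] at this
            rw [add_comm (f ^ (1 + m₀))]
            exact Z_add_of b hb 𝔔 j h2 h1
        · refine ⟨n, hn, f, hf, fun j hj => ?_⟩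
          by_cases hjr : j = r
          · subst hjr
            exact hZr
          · exact hav j (Finset.mem_erase.2 ⟨hjr, hj⟩)
      · push Not at hcase
        obtain ⟨j₀, hj₀, hle₀⟩ := hcase
        have hcard : (insert r ((s.erase r).filter (fun j => ¬ le b 𝔔 j r))).card < c := by
          have hsub : insert r ((s.erase r).filter (fun j => ¬ le b 𝔔 j r)) ⊆ s.erase j₀ := by
            intro i hi
            rcases Finset.mem_insert.1 hi with rfl | hi'
            · exact Finset.mem_erase.2 ⟨(Finset.ne_of_mem_erase hj₀).symm, hr⟩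
            · have h' := Finset.mem_filter.1 hi'
              refine Finset.mem_erase.2 ⟨?_, Finset.mem_of_mem_erase h'.1⟩
              rintro rfl
              exact h'.2 hle₀
          calc (insert r ((s.erase r).filter (fun j => ¬ le b 𝔔 j r))).card
              ≤ (s.erase j₀).card := Finset.card_le_card hsub
            _ < s.card := Finset.card_erase_lt_of_mem (Finset.mem_of_mem_erase hj₀)
            _ = c := hs
        obtain ⟨n, hn, f, hf, hav⟩ := IH _ hcard _ rfl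
        refine ⟨n, hn, f, hf, fun j hj => ?_⟩
        by_cases hjr : j = r
        · subst hjr
          exact hav j (Finset.mem_insert_self _ _)
        · by_cases hle : le b 𝔔 j r
          · intro hZ
            exact hav r (Finset.mem_insert_self _ _) (hle n f hf hZ)
          · exact hav j (Finset.mem_insert_of_mem
              (Finset.mem_filter.2 ⟨Finset.mem_erase.2 ⟨hjr, hj⟩, hle⟩))

theorem tprod_const_mem_DD {n : ℕ} {f : B} (hf : f ∈ 𝒜 n) :
    PiTensorProduct.tprod A (fun _ : Fin d => f) ∈ DD 𝒜 d :=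
  ⟨tprod_mem_CC (k := n) (fun _ => hf), fun σ => by rw [PiTensorProduct.reindex_tprod]⟩

include hb h𝔔 hc in
/-- a prime missing a pure tensor of degree one misses some diagonal tensor `f ⊗ ⋯ ⊗ f` with `f`
homogeneous of positive degree -/
theorem exists_diag_notMem : ∃ (n : ℕ) (f : B), 0 < n ∧ f ∈ 𝒜 n ∧
    PiTensorProduct.tprod A (fun _ : Fin d => f) ∉ imI 𝔔 := by
  obtain ⟨n, hn, f, hf, hav⟩ := exists_avoid b hb 𝔔 hc _ Finset.univ rfl
  exact ⟨n, f, hn, hf, tprod_const_notMem b hb 𝔔 hf (fun j => hav j (Finset.mem_univ j))⟩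

end Avoid

end Groth.Agent.H80.SymGrChi
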