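-- helper80: a module is not a union of few saturated proper submodules when the residue field
-- is large enough; application to diagonal tensors of degree one.
import Groth.Agent.H80.SymGrChi

set_option autoImplicit false
universe u

open scoped TensorProduct

namespace Groth.Agent.H80.SymGrCard

open Groth.Agent.H80.NLComb Groth.Agent.H80.NLTheta Groth.Agent.H80.SymGr
  Groth.Agent.H80.SymGrPoly Groth.Agent.H80.SymGrChi

section Frac

variable {A : Type u} [CommRing A] (𝔭 : Ideal A) [𝔭.IsPrime]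

/-- many pairwise distinct fractions when the residue field is large -/
theorem exists_fractions (r : ℕ) (h : (r : Cardinal.{u}) ≤ Cardinal.mk 𝔭.ResidueField) :
    ∃ (a σ : Fin r → A), (∀ m, σ m ∉ 𝔭) ∧
      ∀ m m', m ≠ m' → σ m' * a m - σ m * a m' ∉ 𝔭 := by
  have h' : Cardinal.mk (ULift.{u} (Fin r)) ≤ Cardinal.mk 𝔭.ResidueField := by
    rw [Cardinal.mk_uLift, Cardinal.mk_fin, Cardinal.lift_natCast]
    exact h
  obtain ⟨e⟩ := (Cardinal.le_def _ _).1 h'
  have hsurj : ∀ x : 𝔭.ResidueField, ∃ (a : A) (s : 𝔭.primeCompl),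
      x = IsLocalRing.residue _ (IsLocalization.mk' (Localization.AtPrime 𝔭) a s) := by
    intro x
    obtain ⟨y, rfl⟩ := IsLocalRing.residue_surjective x
    obtain ⟨⟨a, s⟩, rfl⟩ := IsLocalization.mk'_surjective 𝔭.primeCompl y
    exact ⟨a, s, rfl⟩
  choose a s has using fun m : Fin r => hsurj (e ⟨m⟩)
  refine ⟨a, fun m => (s m : A), fun m => (s m).2, ?_⟩
  intro m m' hmm' hmem
  apply hmm'
  have : e ⟨m⟩ = e ⟨m'⟩ := by
    rw [has m, has m', ← sub_eq_zero, ← map_sub, IsLocalRing.residue_eq_zero_iff,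
      ← IsLocalization.mk'_sub, IsLocalization.AtPrime.mk'_mem_maximal_iff (Localization.AtPrime 𝔭) 𝔭]
    have : a m * ((s m' : A)) - a m' * ((s m : A)) = (s m' : A) * a m - (s m : A) * a m' := by ring
    rw [this]
    exact hmem
  exact congrArg ULift.down (e.injective this)

end Frac

section Union

variable {A : Type u} [CommRing A] (𝔭 : Ideal A) {M : Type*} [AddCommGroup M] [Module A M]
  {ι : Type*} (W : ι → Submodule A M) {r : ℕ} (a σ : Fin r → A)
  (hσ : ∀ m, σ m ∉ 𝔭) (haσ : ∀ m m', m ≠ m' → σ m' * a m - σ m * a m' ∉ 𝔭)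

include hσ haσ in
/-- a module is not the union of at most `r` proper saturated submodules -/
theorem exists_notMem_union : ∀ s : Finset ι, s.card ≤ r →
    (∀ j ∈ s, ∃ x, x ∉ W j) →
    (∀ j ∈ s, ∀ (c : A) (x : M), c ∉ 𝔭 → c • x ∈ W j → x ∈ W j) →
    ∃ x, ∀ j ∈ s, x ∉ W j := by
  classical
  intro s
  induction s using Finset.induction_on with
  | empty =>
    intro _ _ _
    exact ⟨0, fun j hj => absurd hj (Finset.notMem_empty j)⟩
  | insert i₀ s' hi₀ ih =>
    intro hcard hprop hsat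
    rw [Finset.card_insert_of_notMem hi₀] at hcard
    obtain ⟨u, hu⟩ := ih (by omega) (fun j hj => hprop j (Finset.mem_insert_of_mem hj))
      (fun j hj => hsat j (Finset.mem_insert_of_mem hj))
    by_cases hu₀ : u ∈ W i₀
    · obtain ⟨v, hv⟩ := hprop i₀ (Finset.mem_insert_self _ _)
      have hsat₀ := hsat i₀ (Finset.mem_insert_self _ _)
      by_contra hcon
      push Not at hcon
      -- every point of the line lies in some submodule of the family
      have hP : ∀ m : Fin r, ∃ j ∈ s', σ m • v + a m • u ∈ W j := by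
        intro m
        obtain ⟨j, hj, hjm⟩ := hcon (σ m • v + a m • u)
        rcases Finset.mem_insert.1 hj with rfl | hj'
        · exfalso
          apply hv
          apply hsat₀ (σ m) v (hσ m)
          have := (W j).sub_mem hjm ((W j).smul_mem (a m) hu₀)
          rwa [add_sub_cancel_right] at this
        · exact ⟨j, hj', hjm⟩
      choose g hg hgm using hP
      have hinj : Function.Injective g := by
        intro m m' hgg
        by_contra hne
        have h1 := hgm m
        have h2 := hgm m'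
        rw [← hgg] at h2
        have h3 : (σ m' * a m - σ m * a m') • u ∈ W (g m) := by
          have := (W (g m)).sub_mem ((W (g m)).smul_mem (σ m') h1) ((W (g m)).smul_mem (σ m) h2)
          have e : σ m' • (σ m • v + a m • u) - σ m • (σ m' • v + a m' • u) =
              (σ m' * a m - σ m * a m') • u := by
            rw [smul_add, smul_add, smul_smul, smul_smul, smul_smul, smul_smul, sub_smul,
              mul_comm (σ m') (σ m)]
            abel
          rwa [e] at this
        exact hu (g m) (hg m) (hsat (g m) (Finset.mem_insert_of_mem (hg m)) _ u (haσ m m' hne) h3)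
      have hle : Fintype.card (Fin r) ≤ s'.card := by
        have := Finset.card_le_card_of_injOn g (s := Finset.univ) (t := s')
          (fun m _ => hg m) (fun m _ m' _ h => hinj h)
        rwa [Finset.card_univ] at this
      rw [Fintype.card_fin] at hle
      omega
    · refine ⟨u, fun j hj => ?_⟩
      rcases Finset.mem_insert.1 hj with rfl | hj'
      · exact hu₀
      · exact hu j hj'

end Union

section Deg1

variable {A B : Type u} [CommRing A] [CommRing B] [Algebra A B] {d : ℕ} (b : Fin d → B)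
  {𝒜 : ℕ → Submodule A B} [GradedAlgebra 𝒜] (hb : ∀ i, b i ∈ 𝒜 1)
  (𝔔 : Ideal ↥(CC 𝒜 d)) [h𝔔 : 𝔔.IsPrime] (hc : PiTensorProduct.tprod A b ∉ imI 𝔔)
  (hres : ∀ p : PrimeSpectrum A, (d : Cardinal) ≤ Cardinal.mk p.asIdeal.ResidueField)

include hb h𝔔 hc hres in
/-- with large residue fields, a prime missing a pure tensor of degree one misses a diagonal
tensor of degree one -/
theorem exists_diag_deg_one_notMem :
    ∃ f ∈ 𝒜 1, PiTensorProduct.tprod A (fun _ : Fin d => f) ∉ imI 𝔔 := by
  classical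
  haveI h𝔭 : (𝔔.comap (algebraMap A ↥(CC 𝒜 d))).IsPrime := Ideal.comap_isPrime _ _
  obtain ⟨a, σ, hσ, haσ⟩ := exists_fractions (𝔔.comap (algebraMap A ↥(CC 𝒜 d))) d
    (hres ⟨𝔔.comap (algebraMap A ↥(CC 𝒜 d)), h𝔭⟩)
  let L : Fin d → (↥(𝒜 1) →ₗ[A] ⨂[A] _ : Fin d, B) := fun j =>
    { toFun := fun f => Fj (A := A) b j 1 f.1
      map_add' := fun f g => Fj_add b j 1 f.1 g.1
      map_smul' := fun c f => Fj_smul b j 1 c f.1 }
  let W : Fin d → Submodule A ↥(𝒜 1) := fun j => (imI 𝔔).comap (L j)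
  have hW : ∀ j (f : ↥(𝒜 1)), f ∈ W j ↔ Z b 𝔔 j 1 f.1 := fun j f => Iff.rfl
  have hprop : ∀ j ∈ (Finset.univ : Finset (Fin d)), ∃ x, x ∉ W j := by
    intro j _
    refine ⟨⟨b j, hb j⟩, ?_⟩
    rw [hW]
    unfold Z
    rw [Fj_one_self]
    exact hc
  have hsat : ∀ j ∈ (Finset.univ : Finset (Fin d)), ∀ (c : A) (x : ↥(𝒜 1)),
      c ∉ 𝔔.comap (algebraMap A ↥(CC 𝒜 d)) → c • x ∈ W j → x ∈ W j := by
    intro j _ c f hcp hcf
    rw [hW] at hcf ⊢
    have hcf' : Z b 𝔔 j 1 (c • f.1) := hcf
    rw [Z_iff b hb 𝔔 j ((𝒜 1).smul_mem c f.2)] at hcf'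
    rw [Z_iff b hb 𝔔 j f.2]
    have e : (⟨Fj (A := A) b j 1 (c • f.1), Fj_mem_CC b hb j ((𝒜 1).smul_mem c f.2)⟩ :
        ↥(CC 𝒜 d)) =
        algebraMap A ↥(CC 𝒜 d) c * ⟨Fj (A := A) b j 1 f.1, Fj_mem_CC b hb j f.2⟩ := by
      apply Subtype.ext
      show Fj (A := A) b j 1 (c • f.1) =
        ((algebraMap A ↥(CC 𝒜 d) c : ↥(CC 𝒜 d)) : ⨂[A] _ : Fin d, B) * Fj (A := A) b j 1 f.1
      rw [Fj_smul, Algebra.smul_def]
      rfl
    rw [e] at hcf'
    rcases h𝔔.mem_or_mem hcf' with h' | h'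
    · exact absurd h' hcp
    · exact h'
  obtain ⟨f, hf⟩ := exists_notMem_union (𝔔.comap (algebraMap A ↥(CC 𝒜 d))) W a σ hσ haσ
    Finset.univ (by rw [Finset.card_univ, Fintype.card_fin]) hprop hsat
  refine ⟨f.1, f.2, tprod_const_notMem b hb 𝔔 f.2 (fun j => ?_)⟩
  exact fun hZ => hf j (Finset.mem_univ j) ((hW j f).2 hZ)

end Deg1

end Groth.Agent.H80.SymGrCard
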