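import Mathlib
import Groth.Agent.H15.Pur21

/-!
# Torsion-free modules over one-dimensional Noetherian domains

* `length_quotSMulTop_eq`: for a finitely generated torsion-free module `M` over a Noetherian domain
  of dimension `≤ 1` and `x ≠ 0`, `length (M/xM) = rank M * length (O/xO)`.
* `exists_reduction`: if `O` is local with infinite residue field and finite normalisation `B`,
  there is `x ∈ m` with `x B = m B`.
-/

namespace Groth.Agent.H80.TFRank

universe u

open Groth.Agent.H15
open scoped Pointwise TensorProduct

section Cancel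

lemma enat_cancel_left {a b c : ℕ∞} (ha : a ≠ ⊤) (h : a + b = a + c) : b = c :=
  WithTop.add_left_cancel ha h

end Cancel

section Length

variable (O : Type u) [CommRing O]

lemma length_kerT_eq_quot (x : O) (T : Type u) [AddCommGroup T] [Module O T]
    (hT : Module.length O T < ⊤) :
    Module.length O (kerT x T) = Module.length O (QuotSMulTop x T) := by
  have h1 := length_eq_ker_add_range (x • (LinearMap.id : T →ₗ[O] T))
  have hr : LinearMap.range (x • (LinearMap.id : T →ₗ[O] T)) = (x • ⊤ : Submodule O T) := by
    ext y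
    rw [LinearMap.mem_range, Submodule.mem_smul_pointwise_iff_exists]
    constructor
    · rintro ⟨z, rfl⟩
      exact ⟨z, trivial, rfl⟩
    · rintro ⟨z, -, rfl⟩
      exact ⟨z, rfl⟩
  have h2 : Module.length O T = Module.length O (x • ⊤ : Submodule O T)
      + Module.length O (T ⧸ (x • ⊤ : Submodule O T)) :=
    Module.length_eq_add_of_exact (x • ⊤ : Submodule O T).subtype (x • ⊤ : Submodule O T).mkQ
      (Submodule.injective_subtype _) (Submodule.mkQ_surjective _)
      (LinearMap.exact_subtype_mkQ _)
  rw [hr] at h1
  have hfin : Module.length O (x • ⊤ : Submodule O T) ≠ ⊤ := by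
    have := Module.length_le_of_injective (x • ⊤ : Submodule O T).subtype
      (Submodule.injective_subtype _)
    exact (lt_of_le_of_lt this hT).ne
  have h3 : Module.length O (x • ⊤ : Submodule O T) + Module.length O (kerT x T)
      = Module.length O (x • ⊤ : Submodule O T)
        + Module.length O (T ⧸ (x • ⊤ : Submodule O T)) := by
    rw [← h2, h1, add_comm]
  exact enat_cancel_left hfin h3

variable [IsDomain O] [IsNoetherianRing O]

theorem length_quotSMulTop_eq (hdim : ringKrullDim O ≤ 1) (M : Type u) [AddCommGroup M]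
    [Module O M] [Module.Finite O M] [NoZeroSMulDivisors O M] (x : O) (hx : x ≠ 0) :
    Module.length O (QuotSMulTop x M)
      = (Module.finrank O M : ℕ∞) * Module.length O (O ⧸ Ideal.span {x}) := by
  classical
  set n := Module.finrank O M with hn
  obtain ⟨f, hf⟩ := exists_linearIndependent_of_le_finrank (R := O) (M := M) (le_refl n)
  set F : Submodule O M := Submodule.span O (Set.range f) with hF
  let b : Module.Basis (Fin n) O F := Module.Basis.span hf
  -- the quotient is torsion
  have hrank : Module.rank O (M ⧸ F) = 0 := by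
    have h1 := rank_quotient_add_rank_of_isDomain F
    have h2 : Module.rank O F = (n : Cardinal) := by
      rw [rank_eq_card_basis b]; simp
    have h3 : Module.rank O M = (n : Cardinal) := by
      rw [hn, Module.finrank_eq_rank]
    rw [h2, h3] at h1
    have h4 : Module.rank O (M ⧸ F) + (n : Cardinal) = 0 + (n : Cardinal) := by rw [h1, zero_add]
    exact Cardinal.eq_of_add_eq_add_right h4 (Cardinal.natCast_lt_aleph0)
  have htors : ∀ t : M ⧸ F, ∃ a : O, a ≠ 0 ∧ a • t = 0 := rank_eq_zero_iff.mp hrank
  choose a ha0 ha using htors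
  obtain ⟨S, hS⟩ := (Module.Finite.fg_top : (⊤ : Submodule O (M ⧸ F)).FG)
  set c : O := ∏ t ∈ S, a t with hc
  have hc0 : c ≠ 0 := Finset.prod_ne_zero_iff.mpr fun t _ => ha0 t
  have hctors : Module.IsTorsionBy O (M ⧸ F) c := by
    intro t
    have ht : t ∈ Submodule.span O (S : Set (M ⧸ F)) := by rw [hS]; trivial
    induction ht using Submodule.span_induction with
    | mem s hs =>
      obtain ⟨d, hd⟩ := Finset.dvd_prod_of_mem a hs
      rw [← hc] at hd
      rw [hd, mul_comm, mul_smul, ha, smul_zero]
    | zero => exact smul_zero c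
    | add y z _ _ hy hz => rw [smul_add, hy, hz, add_zero]
    | smul r y _ hy => rw [smul_comm, hy, smul_zero]
  have hTfin : Module.length O (M ⧸ F) < ⊤ :=
    length_lt_top_of_isTorsionBy O hdim c (mem_nonZeroDivisors_of_ne_zero hc0) (M ⧸ F) hctors
  -- the snake
  have hsn := length_snake x F.subtype F.mkQ (Submodule.injective_subtype F)
    (Submodule.mkQ_surjective F) (LinearMap.exact_subtype_mkQ F)
  have hkM : Module.length O (kerT x M) = 0 := by
    rw [Module.length_eq_zero_iff]
    constructor
    intro y z
    have hy : x • (y : M) = 0 := LinearMap.mem_ker.mp y.2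
    have hz : x • (z : M) = 0 := LinearMap.mem_ker.mp z.2
    apply Subtype.ext
    rw [(smul_eq_zero.mp hy).resolve_left hx, (smul_eq_zero.mp hz).resolve_left hx]
  have hkF : Module.length O (kerT x F) = 0 := by
    rw [Module.length_eq_zero_iff]
    constructor
    intro y z
    have hy : x • (y : F) = 0 := LinearMap.mem_ker.mp y.2
    have hz : x • (z : F) = 0 := LinearMap.mem_ker.mp z.2
    apply Subtype.ext
    rw [(smul_eq_zero.mp hy).resolve_left hx, (smul_eq_zero.mp hz).resolve_left hx]
  have hkT := length_kerT_eq_quot O x (M ⧸ F) hTfin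
  rw [hkM, hkF, zero_add, zero_add, hkT] at hsn
  have hfinq : Module.length O (QuotSMulTop x (M ⧸ F)) ≠ ⊤ := by
    have := Module.length_le_of_surjective (Submodule.mkQ (x • ⊤ : Submodule O (M ⧸ F)))
      (Submodule.mkQ_surjective _)
    exact (lt_of_le_of_lt this hTfin).ne
  have hMF : Module.length O (QuotSMulTop x M) = Module.length O (QuotSMulTop x F) := by
    apply enat_cancel_left hfinq
    rw [hsn, add_comm]
  rw [hMF]
  -- the free part
  let e1 : QuotSMulTop x F ≃ₗ[O] QuotSMulTop x (Fin n → O) := QuotSMulTop.congr x b.equivFun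
  let e2 : QuotSMulTop x (Fin n → O) ≃ₗ[O] (O ⧸ Ideal.span {x}) ⊗[O] (Fin n → O) :=
    QuotSMulTop.equivQuotTensor x _
  let e3 : (O ⧸ Ideal.span {x}) ⊗[O] (Fin n → O) ≃ₗ[O] (Fin n → O ⧸ Ideal.span {x}) :=
    TensorProduct.piScalarRight O O (O ⧸ Ideal.span {x}) (Fin n)
  rw [((e1.trans e2).trans e3).length_eq, Module.length_pi_of_fintype]
  simp

end Length

section Reduction

open IsLocalRing IsDedekindDomain

variable (O : Type u) [CommRing O] [IsDomain O] [IsNoetherianRing O] [IsLocalRing O]
  (K : Type u) [Field K] [Algebra O K] [IsFractionRing O K]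

/-- view an `O`-submodule of the cotangent space as a subspace over the residue field -/
def asSub (W : Submodule O (CotangentSpace O)) :
    Submodule (ResidueField O) (CotangentSpace O) where
  carrier := W
  add_mem' := W.add_mem
  zero_mem' := W.zero_mem
  smul_mem' := by
    intro c z hz
    obtain ⟨c, rfl⟩ := IsLocalRing.residue_surjective c
    have : (IsLocalRing.residue O c) • z = c • z := algebraMap_smul (ResidueField O) c z
    rw [this]
    exact W.smul_mem c hz

lemma mem_asSub (W : Submodule O (CotangentSpace O)) (z : CotangentSpace O) :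
    z ∈ asSub O W ↔ z ∈ W := Iff.rfl

theorem isDedekindDomain_integralClosure (hdim : ringKrullDim O = 1)
    (hfin : Module.Finite O ↥(integralClosure O K)) :
    IsDedekindDomain ↥(integralClosure O K) := by
  have h1 : Ring.KrullDimLE 1 O := Ring.krullDimLE_iff.mpr hdim.le
  have h2 : Ring.DimensionLEOne O := ⟨fun {p} hp hp' => hp'.isMaximal_of_ne_bot hp⟩
  have h3 : IsNoetherianRing ↥(integralClosure O K) := IsNoetherianRing.of_finite O _
  have h4 : IsFractionRing ↥(integralClosure O K) K :=
    integralClosure.isFractionRing_of_finite_extension K K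
  rw [isDedekindDomain_iff _ K]
  refine ⟨inferInstance, h3, inferInstance, ?_⟩
  intro y hy
  have : IsIntegral O y := isIntegral_trans y hy
  exact ⟨⟨y, this⟩, rfl⟩

theorem exists_reduction (hdim : ringKrullDim O = 1) [Infinite (ResidueField O)]
    (hfin : Module.Finite O ↥(integralClosure O K)) :
    ∃ x : O, x ≠ 0 ∧ x ∈ maximalIdeal O ∧
      Ideal.span {algebraMap O ↥(integralClosure O K) x}
        = (maximalIdeal O).map (algebraMap O ↥(integralClosure O K)) := by
  classical
  haveI := isDedekindDomain_integralClosure O K hdim hfin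
  have hinj : Function.Injective (algebraMap O ↥(integralClosure O K)) := by
    intro a b hab
    apply IsFractionRing.injective O K
    have := congrArg (algebraMap ↥(integralClosure O K) K) hab
    rwa [← IsScalarTower.algebraMap_apply, ← IsScalarTower.algebraMap_apply] at this
  have hm0 : maximalIdeal O ≠ ⊥ := by
    intro h
    have : IsField O := IsLocalRing.isField_iff_maximalIdeal_eq.mpr h
    have h0 := ringKrullDim_eq_zero_of_isField this
    rw [hdim] at h0
    exact one_ne_zero h0
  set J := (maximalIdeal O).map (algebraMap O ↥(integralClosure O K)) with hJ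
  have hJ0 : J ≠ ⊥ := by
    rw [hJ, Ne, Ideal.map_eq_bot_iff_of_injective hinj]; exact hm0
  have hfinS : {v : HeightOneSpectrum ↥(integralClosure O K) | v.asIdeal ∣ J}.Finite :=
    Ideal.finite_factors hJ0
  let φ : ↥(maximalIdeal O) →ₗ[O] ↥(integralClosure O K) :=
    (Algebra.linearMap O ↥(integralClosure O K)).comp (maximalIdeal O).subtype
  have hφ : ∀ y : ↥(maximalIdeal O), φ y = algebraMap O ↥(integralClosure O K) (y : O) :=
    fun y => rfl
  have hsq : ∀ (v : HeightOneSpectrum ↥(integralClosure O K)), v.asIdeal ∣ J →
      ∀ z : O, z ∈ (maximalIdeal O)^2 →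
      algebraMap O ↥(integralClosure O K) z ∈ v.asIdeal * J := by
    intro v hv z hz
    have h1 : algebraMap O ↥(integralClosure O K) z
        ∈ ((maximalIdeal O)^2).map (algebraMap O ↥(integralClosure O K)) :=
      Ideal.mem_map_of_mem _ hz
    rw [Ideal.map_pow, pow_two] at h1
    exact Ideal.mul_mono_left (Ideal.le_of_dvd hv) h1
  let V : HeightOneSpectrum ↥(integralClosure O K) → Submodule O ↥(maximalIdeal O) := fun v =>
    Submodule.comap φ ((v.asIdeal * J).restrictScalars O)
  have hVne : ∀ v : HeightOneSpectrum ↥(integralClosure O K), V v ≠ ⊤ := by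
    intro v hV
    have h1 : J ≤ v.asIdeal * J := by
      rw [hJ, Ideal.map_le_iff_le_comap]
      intro y hy
      have : (⟨y, hy⟩ : ↥(maximalIdeal O)) ∈ V v := by rw [hV]; trivial
      exact this
    have h2 : v.asIdeal * J = 1 * J := by
      rw [one_mul]; exact le_antisymm Ideal.mul_le_right h1
    have h3 : v.asIdeal = 1 := mul_right_cancel₀ hJ0 h2
    exact v.isPrime.ne_top (by rw [h3, Ideal.one_eq_top])
  let p : ↥{v : HeightOneSpectrum ↥(integralClosure O K) | v.asIdeal ∣ J} →
      Submodule (ResidueField O) (CotangentSpace O) :=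
    fun v => asSub O ((V v.1).map (maximalIdeal O).toCotangent)
  have hp : ∀ v, p v ≠ ⊤ := by
    intro v hpv
    apply hVne v.1
    rw [eq_top_iff]
    intro y _
    have hmem : (maximalIdeal O).toCotangent y ∈ p v := by rw [hpv]; trivial
    rw [mem_asSub, Submodule.mem_map] at hmem
    obtain ⟨y', hy', hyy'⟩ := hmem
    rw [Ideal.toCotangent_eq] at hyy'
    show φ y ∈ (v.1.asIdeal * J)
    have e : φ y = φ y' - algebraMap O ↥(integralClosure O K) ((y' : O) - (y : O)) := by
      rw [hφ, hφ, map_sub]; ring
    rw [e]
    exact Ideal.sub_mem _ hy' (hsq v.1 v.2 _ hyy')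
  haveI : Finite ↥{v : HeightOneSpectrum ↥(integralClosure O K) | v.asIdeal ∣ J} :=
    hfinS.to_subtype
  obtain ⟨z, hz⟩ := Submodule.exists_forall_notMem_of_forall_ne_top p hp
  obtain ⟨y, rfl⟩ := Ideal.toCotangent_surjective _ z
  have hxJ : algebraMap O ↥(integralClosure O K) (y : O) ∈ J := Ideal.mem_map_of_mem _ y.2
  have hle : Ideal.span {algebraMap O ↥(integralClosure O K) (y : O)} ≤ J := by
    rw [Ideal.span_singleton_le_iff_mem]; exact hxJ
  have key : Ideal.span {algebraMap O ↥(integralClosure O K) (y : O)} = J := by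
    obtain ⟨I, hI⟩ := Ideal.dvd_iff_le.mpr hle
    by_cases hItop : I = ⊤
    · rw [hI, hItop, Ideal.mul_top]
    · exfalso
      obtain ⟨P, hPmax, hIP⟩ := Ideal.exists_le_maximal I hItop
      have hcomap : P.comap (algebraMap O ↥(integralClosure O K)) = maximalIdeal O := by
        haveI : (P.comap (algebraMap O ↥(integralClosure O K))).IsMaximal :=
          Ideal.isMaximal_comap_of_isIntegral_of_isMaximal P
        exact IsLocalRing.eq_maximalIdeal inferInstance
      have hJP : J ≤ P := by
        rw [hJ, Ideal.map_le_iff_le_comap, hcomap]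
      have hP0 : P ≠ ⊥ := fun h => hJ0 (le_bot_iff.mp (h ▸ hJP))
      let v : HeightOneSpectrum ↥(integralClosure O K) := ⟨P, hPmax.isPrime, hP0⟩
      have hv : v.asIdeal ∣ J := Ideal.dvd_iff_le.mpr hJP
      apply hz ⟨v, hv⟩
      rw [mem_asSub, Submodule.mem_map]
      refine ⟨y, ?_, rfl⟩
      show φ y ∈ v.asIdeal * J
      rw [hφ, mul_comm]
      have hself : algebraMap O ↥(integralClosure O K) (y : O)
          ∈ Ideal.span {algebraMap O ↥(integralClosure O K) (y : O)} := Ideal.subset_span rfl
      rw [hI] at hself
      exact Ideal.mul_mono_right hIP hself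
  refine ⟨(y : O), ?_, y.2, key⟩
  intro h0
  rw [h0, map_zero] at key
  apply hJ0
  rw [← key]
  simp

end Reduction

section Main

open IsLocalRing

theorem main (O : Type u) [CommRing O] [IsDomain O] [IsNoetherianRing O] [IsLocalRing O]
    (hdim : ringKrullDim O = 1) [Infinite (ResidueField O)] (K : Type u) [Field K] [Algebra O K]
    [IsFractionRing O K] (hfin : Module.Finite O ↥(integralClosure O K)) (M : Type u)
    [AddCommGroup M] [Module O M] [Module.Finite O M] [NoZeroSMulDivisors O M] :
    ((⊤ : Submodule O M).spanFinrank : ℕ∞) ≤ (Module.finrank O M : ℕ∞) *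
      Module.length O (↥(integralClosure O K) ⧸
        (maximalIdeal O) • (⊤ : Submodule O ↥(integralClosure O K))) := by
  obtain ⟨x, hx0, hxm, hxJ⟩ := exists_reduction O K hdim hfin
  have hsub : (maximalIdeal O) • (⊤ : Submodule O ↥(integralClosure O K))
      = (x • ⊤ : Submodule O ↥(integralClosure O K)) := by
    rw [Ideal.smul_top_eq_map, ← hxJ, ← Submodule.ideal_span_singleton_smul x ⊤,
      Ideal.smul_top_eq_map, Ideal.map_span, Set.image_singleton]
  -- rank of the normalisation is one
  have hrkB : Module.finrank O ↥(integralClosure O K) = 1 := by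
    apply Module.finrank_eq_of_rank_eq
    apply le_antisymm
    · have h1 := LinearMap.rank_le_of_injective
        ((integralClosure O K).val.toLinearMap) Subtype.val_injective
      have h2 : Module.rank O K = 1 := by
        rw [← IsFractionRing.rank_right_eq (R := O) (S := K) (N := K), Module.rank_self]
      rw [h2] at h1
      simpa using h1
    · have hinj : Function.Injective (Algebra.linearMap O ↥(integralClosure O K)) := by
        intro a b hab
        apply IsFractionRing.injective O K
        have := congrArg (algebraMap ↥(integralClosure O K) K) hab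
        simp only [Algebra.linearMap_apply] at this
        rwa [← IsScalarTower.algebraMap_apply, ← IsScalarTower.algebraMap_apply] at this
      have h1 := LinearMap.rank_le_of_injective _ hinj
      rw [Module.rank_self] at h1
      simpa using h1
  haveI : NoZeroSMulDivisors O ↥(integralClosure O K) := by
    constructor
    intro c b h
    have h' : algebraMap O K c * (b : K) = 0 := by
      have := congrArg (Subtype.val) h
      simpa [Algebra.smul_def] using this
    rcases mul_eq_zero.mp h' with h1 | h1
    · left
      exact (IsFractionRing.injective O K) (by rw [h1, map_zero])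
    · right
      exact Subtype.ext h1
  have hB := length_quotSMulTop_eq O hdim.le ↥(integralClosure O K) x hx0
  have hM := length_quotSMulTop_eq O hdim.le M x hx0
  rw [hrkB, Nat.cast_one, one_mul] at hB
  -- number of generators
  have hμ : ((⊤ : Submodule O M).spanFinrank : ℕ∞) ≤ Module.length O (QuotSMulTop x M) := by
    have h1 := IsLocalRing.spanFinrank_eq_finrank_quotient (⊤ : Submodule O M)
      Module.Finite.fg_top
    rw [h1]
    haveI : Module.Finite (O ⧸ maximalIdeal O)
        (↥(⊤ : Submodule O M) ⧸ (maximalIdeal O) • (⊤ : Submodule O ↥(⊤ : Submodule O M))) :=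
      Module.Finite.of_restrictScalars_finite O _ _
    letI : Field (O ⧸ maximalIdeal O) := Ideal.Quotient.field (maximalIdeal O)
    have h2 := Module.length_eq_finrank (O ⧸ maximalIdeal O)
      (↥(⊤ : Submodule O M) ⧸ (maximalIdeal O) • (⊤ : Submodule O ↥(⊤ : Submodule O M)))
    have h3 := Module.length_eq_of_surjective (S := O) (R := O ⧸ maximalIdeal O)
      (M := ↥(⊤ : Submodule O M) ⧸ (maximalIdeal O) • (⊤ : Submodule O ↥(⊤ : Submodule O M)))
      Ideal.Quotient.mk_surjective
    rw [← h2, ← h3]
    let e : M ≃ₗ[O] ↥(⊤ : Submodule O M) := Submodule.topEquiv.symm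
    have hle : (x • ⊤ : Submodule O M) ≤
        ((maximalIdeal O) • (⊤ : Submodule O ↥(⊤ : Submodule O M))).comap e.toLinearMap := by
      intro y hy
      obtain ⟨z, -, rfl⟩ := (Submodule.mem_smul_pointwise_iff_exists _ _ _).mp hy
      rw [Submodule.mem_comap, map_smul]
      exact Submodule.smul_mem_smul hxm trivial
    let g := Submodule.mapQ (x • ⊤ : Submodule O M)
      ((maximalIdeal O) • (⊤ : Submodule O ↥(⊤ : Submodule O M))) e.toLinearMap hle
    have hg : Function.Surjective g := by
      intro w
      obtain ⟨w, rfl⟩ := Submodule.mkQ_surjective _ w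
      refine ⟨Submodule.Quotient.mk (e.symm w), ?_⟩
      simp [g]
    exact Module.length_le_of_surjective g hg
  calc ((⊤ : Submodule O M).spanFinrank : ℕ∞)
      ≤ Module.length O (QuotSMulTop x M) := hμ
    _ = (Module.finrank O M : ℕ∞) * Module.length O (O ⧸ Ideal.span {x}) := hM
    _ = (Module.finrank O M : ℕ∞) * Module.length O (QuotSMulTop x ↥(integralClosure O K)) := by
        rw [hB]
    _ = _ := by rw [hsub]

end Main

end Groth.Agent.H80.TFRank
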