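import Mathlib

/-!
# The different of a tamely ramified extension of discrete valuation rings

* `trace_eq_add_of_exact`: additivity of the trace of an endomorphism along a short exact
  sequence of finite-dimensional vector spaces.
* `trace_eq_add_quot`, `trace_eq_smul`: the trace form of a "uniserial" finite-dimensional
  algebra is a multiple of the trace form of its residue algebra.
* `dvd_differentIdeal_of_forall_intTrace_mem`: a divisibility criterion for the different.
* `differentIdeal_eq_iff`: the different is `m ^ (e - 1)` iff the extension is tame.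
-/

set_option autoImplicit false

universe u

attribute [local instance] FractionRing.liftAlgebra FractionRing.isScalarTower_liftAlgebra

namespace Groth.Agent.H80.Tame

open Module

section TraceAdd

variable {k : Type*} [Field k] {V' V V'' : Type*} [AddCommGroup V'] [AddCommGroup V]
  [AddCommGroup V''] [Module k V'] [Module k V] [Module k V''] [FiniteDimensional k V]

theorem trace_eq_add_of_exact (i : V' →ₗ[k] V) (q : V →ₗ[k] V'') (hi : Function.Injective i)
    (hq : Function.Surjective q) (hex : ∀ v, q v = 0 → ∃ w, i w = v) (hqi : ∀ w, q (i w) = 0)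
    (f' : V' →ₗ[k] V') (f : V →ₗ[k] V) (f'' : V'' →ₗ[k] V'')
    (h1 : ∀ w, i (f' w) = f (i w)) (h2 : ∀ v, q (f v) = f'' (q v)) :
    LinearMap.trace k V f = LinearMap.trace k V' f' + LinearMap.trace k V'' f'' := by
  haveI : FiniteDimensional k V' := FiniteDimensional.of_injective i hi
  haveI : FiniteDimensional k V'' := Module.Finite.of_surjective q hq
  obtain ⟨s, hs⟩ := q.exists_rightInverse_of_surjective (LinearMap.range_eq_top.mpr hq)
  obtain ⟨r, hr⟩ := i.exists_leftInverse_of_injective (LinearMap.ker_eq_bot.mpr hi)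
  have hs' : ∀ u, q (s u) = u := fun u => LinearMap.congr_fun hs u
  have hr' : ∀ w, r (i w) = w := fun w => LinearMap.congr_fun hr w
  obtain ⟨r', hr'def⟩ : ∃ r' : V →ₗ[k] V', r' = r ∘ₗ (LinearMap.id - s ∘ₗ q) := ⟨_, rfl⟩
  have hr'app : ∀ v, r' v = r (v - s (q v)) := fun v => by rw [hr'def]; rfl
  have hid : (LinearMap.id : V →ₗ[k] V) = i ∘ₗ r' + s ∘ₗ q := by
    ext v
    have hmem : q (v - s (q v)) = 0 := by rw [map_sub, hs', sub_self]
    obtain ⟨w, hw⟩ := hex _ hmem
    simp only [LinearMap.id_coe, id_eq, LinearMap.add_apply, LinearMap.coe_comp,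
      Function.comp_apply]
    rw [hr'app, ← hw, hr', hw]; abel
  have hr'i : ∀ w, r' (i w) = w := by
    intro w
    rw [hr'app, hqi, map_zero, sub_zero, hr']
  have e1 : f = (f ∘ₗ i) ∘ₗ r' + (f ∘ₗ s) ∘ₗ q := by
    conv_lhs => rw [← LinearMap.comp_id f, hid, LinearMap.comp_add]
    simp only [LinearMap.comp_assoc]
  rw [e1, map_add, LinearMap.trace_comp_comm' r' (f ∘ₗ i), LinearMap.trace_comp_comm' q (f ∘ₗ s)]
  congr 1
  · congr 1
    ext w
    simp only [LinearMap.coe_comp, Function.comp_apply]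
    rw [← h1, hr'i]
  · congr 1
    ext u
    simp only [LinearMap.coe_comp, Function.comp_apply]
    rw [h2, hs']

end TraceAdd

section AlgTrace

variable {k : Type*} [Field k] {V : Type*} [CommRing V] [Algebra k V] [FiniteDimensional k V]

theorem trace_eq_add_quot (π : V) (K : Ideal V) (hK : ∀ v, v ∈ K ↔ π * v = 0) (x : V) :
    Algebra.trace k V x = Algebra.trace k (V ⧸ K) (Ideal.Quotient.mk K x)
      + Algebra.trace k (V ⧸ Ideal.span {π}) (Ideal.Quotient.mk (Ideal.span {π}) x) := by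
  let i : (V ⧸ K) →ₗ[k] V :=
    (K.liftQ (LinearMap.mulLeft V π) (fun v hv => by
      rw [LinearMap.mem_ker]; exact (hK v).mp hv)).restrictScalars k
  let q : V →ₗ[k] (V ⧸ Ideal.span {π}) := (Ideal.Quotient.mkₐ k (Ideal.span {π})).toLinearMap
  have hi_mk : ∀ v : V, i (Ideal.Quotient.mk K v) = π * v := fun v => rfl
  have hq_mk : ∀ v : V, q v = Ideal.Quotient.mk _ v := fun v => rfl
  rw [Algebra.trace_apply, Algebra.trace_apply, Algebra.trace_apply]
  refine trace_eq_add_of_exact i q ?_ ?_ ?_ ?_ _ _ _ ?_ ?_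
  · rw [← LinearMap.ker_eq_bot, LinearMap.ker_eq_bot']
    intro w hw
    obtain ⟨v, rfl⟩ := Ideal.Quotient.mk_surjective w
    rw [hi_mk] at hw
    exact Ideal.Quotient.eq_zero_iff_mem.mpr ((hK v).mpr hw)
  · exact Ideal.Quotient.mk_surjective
  · intro v hv
    rw [hq_mk, Ideal.Quotient.eq_zero_iff_mem, Ideal.mem_span_singleton'] at hv
    obtain ⟨a, ha⟩ := hv
    exact ⟨Ideal.Quotient.mk K a, by rw [hi_mk, mul_comm, ha]⟩
  · intro w
    obtain ⟨v, rfl⟩ := Ideal.Quotient.mk_surjective w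
    rw [hi_mk, hq_mk, Ideal.Quotient.eq_zero_iff_mem]
    exact Ideal.mul_mem_right _ _ (Ideal.mem_span_singleton_self π)
  · intro w
    obtain ⟨v, rfl⟩ := Ideal.Quotient.mk_surjective w
    simp only [Algebra.coe_lmul_eq_mul, LinearMap.mul_apply']
    rw [← map_mul, hi_mk, hi_mk]; ring
  · intro v
    simp only [Algebra.coe_lmul_eq_mul, LinearMap.mul_apply']
    rw [hq_mk, hq_mk, map_mul]

end AlgTrace

theorem trace_eq_smul (k : Type*) [Field k] :
    ∀ (n : ℕ) (V : Type u) [CommRing V] [Algebra k V] [FiniteDimensional k V] (π : V),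
      (∀ v, π * v = 0 ↔ v ∈ Ideal.span {π ^ n}) → ∀ x : V,
        Algebra.trace k V x =
          (n + 1) • Algebra.trace k (V ⧸ Ideal.span {π}) (Ideal.Quotient.mk _ x) := by
  intro n
  induction n with
  | zero =>
    intro V _ _ _ π h x
    have hπ : π = 0 := by
      have := (h 1).mpr (by rw [pow_zero, Ideal.span_singleton_one]; trivial)
      simpa using this
    have hB := trace_eq_add_quot (k := k) π ⊤ (fun v => by simp [hπ]) x
    rw [hB]
    have h0 : (Ideal.Quotient.mk (⊤ : Ideal V) x) = 0 :=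
      Ideal.Quotient.eq_zero_iff_mem.mpr trivial
    rw [h0, map_zero, zero_add, zero_add, one_smul]
  | succ n ih =>
    intro V _ _ _ π h x
    obtain ⟨I, hI⟩ : ∃ I : Ideal V, I = Ideal.span {π ^ (n + 1)} := ⟨_, rfl⟩
    have hB := trace_eq_add_quot (k := k) π I (fun v => by rw [hI]; exact (h v).symm) x
    haveI : FiniteDimensional k (V ⧸ I) :=
      Module.Finite.of_surjective (Ideal.Quotient.mkₐ k I).toLinearMap
        Ideal.Quotient.mk_surjective
    have h' : ∀ v' : V ⧸ I, Ideal.Quotient.mk I π * v' = 0 ↔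
        v' ∈ Ideal.span {(Ideal.Quotient.mk I π) ^ n} := by
      intro v'
      obtain ⟨v, rfl⟩ := Ideal.Quotient.mk_surjective v'
      constructor
      · intro hv
        rw [← map_mul, Ideal.Quotient.eq_zero_iff_mem, hI, Ideal.mem_span_singleton'] at hv
        obtain ⟨a, ha⟩ := hv
        have h2 : π * (v - a * π ^ n) = 0 := by
          rw [mul_sub, ← ha]; ring
        rw [h, Ideal.mem_span_singleton'] at h2
        obtain ⟨b, hb⟩ := h2
        rw [Ideal.mem_span_singleton']
        refine ⟨Ideal.Quotient.mk I (a + b * π), ?_⟩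
        rw [← map_pow, ← map_mul]
        congr 1
        have : v = a * π ^ n + b * π ^ (n + 1) := by rw [hb]; ring
        rw [this]; ring
      · intro hv
        rw [Ideal.mem_span_singleton'] at hv
        obtain ⟨w, hw⟩ := hv
        obtain ⟨a, rfl⟩ := Ideal.Quotient.mk_surjective w
        rw [← hw, ← map_pow, ← map_mul, ← map_mul, Ideal.Quotient.eq_zero_iff_mem, hI,
          Ideal.mem_span_singleton']
        exact ⟨a, by ring⟩
    have hih := ih (V ⧸ I) (Ideal.Quotient.mk I π) h' (Ideal.Quotient.mk I x)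
    have hle : I ≤ Ideal.span {π} := by
      rw [hI, Ideal.span_singleton_le_iff_mem, pow_succ]
      exact Ideal.mul_mem_left _ _ (Ideal.mem_span_singleton_self π)
    have hmap : Ideal.span {Ideal.Quotient.mk I π} =
        (Ideal.span {π}).map (Ideal.Quotient.mkₐ k I) := by
      rw [Ideal.map_span, Set.image_singleton]; rfl
    let e : ((V ⧸ I) ⧸ Ideal.span {Ideal.Quotient.mk I π}) ≃ₐ[k] V ⧸ Ideal.span {π} :=
      (Ideal.quotientEquivAlgOfEq k hmap).trans (DoubleQuot.quotQuotEquivQuotOfLEₐ k hle)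
    have he : e (Ideal.Quotient.mk _ (Ideal.Quotient.mk I x)) = Ideal.Quotient.mk _ x := rfl
    rw [hB, hih, ← he, Algebra.trace_eq_of_algEquiv, succ_nsmul (n := n + 1)]

section Different

variable (A : Type*) {B : Type*} [CommRing A] [CommRing B] [Algebra A B]
  [IsDedekindDomain A] [IsDedekindDomain B] [Module.IsTorsionFree A B] [Module.Finite A B]

open nonZeroDivisors in
theorem dvd_differentIdeal_of_forall_intTrace_mem
    [Algebra.IsSeparable (FractionRing A) (FractionRing B)]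
    {p : Ideal A} [p.IsMaximal] (hp : p ≠ ⊥) (Q a : Ideal B)
    (ha : p.map (algebraMap A B) = Q * a)
    (H : ∀ x ∈ a, Algebra.intTrace A B x ∈ p) : Q ∣ differentIdeal A B := by
  let K := FractionRing A
  let L := FractionRing B
  have : IsLocalization (Algebra.algebraMapSubmonoid B A⁰) L :=
    IsIntegralClosure.isLocalization _ K _ _
  have : FiniteDimensional K L := .of_isLocalization A B A⁰
  have hp' := (Ideal.map_eq_bot_iff_of_injective
    (FaithfulSMul.algebraMap_injective A B)).not.mpr hp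
  have habot : a ≠ ⊥ := fun ha' ↦ hp' (by simpa [ha'] using ha)
  have hPbot : Q ≠ ⊥ := by
    rintro rfl; apply hp'
    rwa [Ideal.bot_mul] at ha
  have hP : ((Q :)⁻¹ : FractionalIdeal B⁰ L) = a / p.map (algebraMap A B) := by
    apply inv_involutive.injective
    simp only [ha, FractionalIdeal.coeIdeal_mul, inv_div, mul_div_assoc]
    rw [div_self (by simpa), mul_one, inv_inv]
  rw [Ideal.dvd_iff_le, differentialIdeal_le_iff (K := K) (L := L) hPbot, hP,
    Submodule.map_le_iff_le_comap]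
  intro x hx
  rw [Submodule.restrictScalars_mem, FractionalIdeal.mem_coe,
    FractionalIdeal.mem_div_iff_of_ne_zero (by simpa using hp')] at hx
  rw [Submodule.mem_comap, LinearMap.coe_restrictScalars, ← FractionalIdeal.coe_one,
    ← div_self (G₀ := FractionalIdeal A⁰ K) (a := p) (by simpa using hp),
    FractionalIdeal.mem_coe, FractionalIdeal.mem_div_iff_of_ne_zero (by simpa using hp)]
  simp only [FractionalIdeal.mem_coeIdeal, forall_exists_index, and_imp,
    forall_apply_eq_imp_iff₂] at hx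
  intro y hy'
  obtain ⟨y, hy, rfl : algebraMap A K _ = _⟩ := (FractionalIdeal.mem_coeIdeal _).mp hy'
  obtain ⟨z, hz, hz'⟩ := hx _ (Ideal.mem_map_of_mem _ hy)
  have : Algebra.trace K L (algebraMap B L z) ∈ (p : FractionalIdeal A⁰ K) := by
    rw [← Algebra.algebraMap_intTrace (A := A)]
    exact ⟨Algebra.intTrace A B z, H z hz, rfl⟩
  rwa [mul_comm, ← smul_eq_mul, ← map_smul, Algebra.smul_def, mul_comm,
    ← IsScalarTower.algebraMap_apply, IsScalarTower.algebraMap_apply A B L, ← hz']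

end Different

section DVR

attribute [local instance] Ideal.Quotient.field

open IsLocalRing

variable (A B : Type*) [CommRing A] [IsDomain A] [IsDiscreteValuationRing A]
  [CommRing B] [IsDomain B] [IsDiscreteValuationRing B] [Algebra A B] [Module.Finite A B]
  [Module.IsTorsionFree A B] [IsLocalHom (algebraMap A B)]

theorem map_maximalIdeal_eq_pow :
    (maximalIdeal A).map (algebraMap A B) =
      maximalIdeal B ^ (Ideal.ramificationIdx (maximalIdeal B) A) := by
  obtain ⟨ϖ, hϖ⟩ := IsDiscreteValuationRing.exists_irreducible B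
  have hp : maximalIdeal A ≠ ⊥ := IsDiscreteValuationRing.not_a_field A
  have hpB : (maximalIdeal A).map (algebraMap A B) ≠ ⊥ :=
    (Ideal.map_eq_bot_iff_of_injective (FaithfulSMul.algebraMap_injective A B)).not.mpr hp
  obtain ⟨n, hn⟩ := IsDiscreteValuationRing.ideal_eq_span_pow_irreducible hpB hϖ
  have hP : maximalIdeal B = Ideal.span {ϖ} := hϖ.maximalIdeal_eq
  have hn' : (maximalIdeal A).map (algebraMap A B) = maximalIdeal B ^ n := by
    rw [hn, hP, Ideal.span_singleton_pow]
  have hidx : Ideal.ramificationIdx (maximalIdeal B) A = n := by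
    rw [← Ideal.ramificationIdx'_eq_ramificationIdx (maximalIdeal A) (maximalIdeal B) hp]
    apply Ideal.ramificationIdx'_spec
    · rw [hn']
    · rw [hn']
      intro hle
      have := (Ideal.pow_right_strictAnti (maximalIdeal B)
        (IsDiscreteValuationRing.not_a_field B) (Ideal.IsPrime.ne_top inferInstance))
        (Nat.lt_succ_self n)
      exact absurd hle (not_le_of_gt this)
  rw [hidx, hn']

local notation "𝔭" => IsLocalRing.maximalIdeal A
local notation "𝔓" => IsLocalRing.maximalIdeal B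

theorem differentIdeal_eq_iff [Algebra.IsSeparable (FractionRing A) (FractionRing B)] :
    differentIdeal A B = maximalIdeal B ^ (Ideal.ramificationIdx (maximalIdeal B) A - 1) ↔
      (Algebra.IsSeparable (A ⧸ maximalIdeal A) (B ⧸ maximalIdeal B) ∧
        ((Ideal.ramificationIdx (maximalIdeal B) A : ℕ) : A ⧸ maximalIdeal A) ≠ 0) := by
  obtain ⟨e, hedef⟩ : ∃ e : ℕ, e = Ideal.ramificationIdx 𝔓 A := ⟨_, rfl⟩
  rw [← hedef]
  have hp : 𝔭 ≠ ⊥ := IsDiscreteValuationRing.not_a_field A
  have hPbot : 𝔓 ≠ ⊥ := IsDiscreteValuationRing.not_a_field B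
  have hPtop : 𝔓 ≠ ⊤ := Ideal.IsPrime.ne_top inferInstance
  have hmap : (𝔭).map (algebraMap A B) = 𝔓 ^ e := by
    rw [hedef]; exact map_maximalIdeal_eq_pow A B
  have he : 0 < e := by rw [hedef]; exact Ideal.ramificationIdx_pos 𝔓 A
  obtain ⟨e', he'⟩ : ∃ e', e = e' + 1 := ⟨e - 1, by omega⟩
  have hsub : e - 1 = e' := by omega
  have hanti := Ideal.pow_right_strictAnti 𝔓 hPbot hPtop
  have h1 : 𝔓 ^ (e - 1) ∣ differentIdeal A B :=
    pow_sub_one_dvd_differentIdeal A 𝔓 e hp (by rw [hmap])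
  obtain ⟨ϖ, hϖ⟩ := IsDiscreteValuationRing.exists_irreducible B
  have hPϖ : 𝔓 = Ideal.span {ϖ} := hϖ.maximalIdeal_eq
  have hϖ0 : ϖ ≠ 0 := hϖ.ne_zero
  have step1 : differentIdeal A B = 𝔓 ^ (e - 1) ↔ ¬ 𝔓 ^ e ∣ differentIdeal A B := by
    constructor
    · intro h hdvd
      rw [h, Ideal.dvd_iff_le] at hdvd
      have : 𝔓 ^ e < 𝔓 ^ (e - 1) := hanti (Nat.sub_lt he Nat.one_pos)
      exact absurd hdvd (not_le_of_gt this)
    · intro h
      obtain ⟨m, hm⟩ := IsDiscreteValuationRing.ideal_eq_span_pow_irreducible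
        (differentIdeal_ne_bot (A := A) (B := B)) hϖ
      have hm' : differentIdeal A B = 𝔓 ^ m := by
        rw [hm, hPϖ, Ideal.span_singleton_pow]
      rw [hm'] at h h1 ⊢
      have h2 : ¬ e ≤ m := fun hle => h (pow_dvd_pow 𝔓 hle)
      have h3 : e - 1 ≤ m := by
        by_contra hlt
        push_neg at hlt
        have : 𝔓 ^ (e - 1) < 𝔓 ^ m := hanti hlt
        exact absurd (Ideal.dvd_iff_le.mp h1) (not_le_of_gt this)
      congr 1; omega
  have step2 : ¬ 𝔓 ^ e ∣ differentIdeal A B ↔ ∃ x : B, Algebra.intTrace A B x ∉ 𝔭 := by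
    constructor
    · intro h
      by_contra hall
      push_neg at hall
      exact h (dvd_differentIdeal_of_forall_intTrace_mem A hp (𝔓 ^ e) ⊤
        (by rw [Ideal.mul_top, hmap]) (fun x _ => hall x))
    · rintro ⟨x, hx⟩
      exact not_dvd_differentIdeal_of_intTrace_not_mem A (𝔓 ^ e) ⊤
        (by rw [Ideal.mul_top, hmap]) x trivial hx
  have hpBϖ : (𝔭).map (algebraMap A B) = Ideal.span {ϖ ^ e} := by
    rw [hmap, hPϖ, Ideal.span_singleton_pow]
  have hπdef : ∃ π : B ⧸ (𝔭).map (algebraMap A B),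
      π = Ideal.Quotient.mk ((𝔭).map (algebraMap A B)) ϖ := ⟨_, rfl⟩
  obtain ⟨π, hπ⟩ := hπdef
  have hann : ∀ v : B ⧸ (𝔭).map (algebraMap A B),
      π * v = 0 ↔ v ∈ Ideal.span {π ^ (e - 1)} := by
    intro v
    obtain ⟨b, rfl⟩ := Ideal.Quotient.mk_surjective v
    rw [hsub, hπ]
    constructor
    · intro h
      rw [← map_mul, Ideal.Quotient.eq_zero_iff_mem, hpBϖ, Ideal.mem_span_singleton'] at h
      obtain ⟨c, hc⟩ := h
      have hb : b = c * ϖ ^ e' := by
        apply mul_left_cancel₀ hϖ0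
        rw [← hc, he']; ring
      rw [Ideal.mem_span_singleton']
      exact ⟨Ideal.Quotient.mk _ c, by rw [hb, map_mul, map_pow]⟩
    · intro h
      rw [Ideal.mem_span_singleton'] at h
      obtain ⟨w, hw⟩ := h
      obtain ⟨c, rfl⟩ := Ideal.Quotient.mk_surjective w
      rw [← hw, ← map_pow, ← map_mul, ← map_mul, Ideal.Quotient.eq_zero_iff_mem, hpBϖ,
        Ideal.mem_span_singleton']
      exact ⟨c, by rw [he']; ring⟩
  haveI : Module.Finite (A ⧸ 𝔭) (B ⧸ (𝔭).map (algebraMap A B)) :=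
    Module.Finite.of_restrictScalars_finite A (A ⧸ 𝔭) (B ⧸ (𝔭).map (algebraMap A B))
  have hle : (𝔭).map (algebraMap A B) ≤ 𝔓 := by
    rw [hmap]; exact Ideal.pow_le_self (by omega)
  have hmapP : Ideal.span {π} = (𝔓).map (Ideal.Quotient.mk ((𝔭).map (algebraMap A B))) := by
    rw [hPϖ, Ideal.map_span, Set.image_singleton, hπ]
  let e3r : ((B ⧸ (𝔭).map (algebraMap A B)) ⧸ Ideal.span {π}) ≃+* B ⧸ 𝔓 :=
    (Ideal.quotEquivOfEq hmapP).trans (DoubleQuot.quotQuotEquivQuotOfLE hle)
  let e3 : ((B ⧸ (𝔭).map (algebraMap A B)) ⧸ Ideal.span {π}) ≃ₐ[A ⧸ 𝔭] B ⧸ 𝔓 :=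
    AlgEquiv.ofRingEquiv (f := e3r) (fun r => by
      obtain ⟨a, rfl⟩ := Ideal.Quotient.mk_surjective r
      rfl)
  have he3 : ∀ x : B, e3 (Ideal.Quotient.mk _ (Ideal.Quotient.mk ((𝔭).map (algebraMap A B)) x))
      = Ideal.Quotient.mk 𝔓 x := fun x => rfl
  have key : ∀ x : B, Ideal.Quotient.mk 𝔭 (Algebra.intTrace A B x) =
      (e : A ⧸ 𝔭) * Algebra.trace (A ⧸ 𝔭) (B ⧸ 𝔓) (Ideal.Quotient.mk 𝔓 x) := by
    intro x
    rw [← Algebra.trace_quotient_eq_of_isDedekindDomain,
      trace_eq_smul (A ⧸ 𝔭) (e - 1) (B ⧸ (𝔭).map (algebraMap A B)) π hann, ← he3 x,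
      Algebra.trace_eq_of_algEquiv, nsmul_eq_mul, Nat.sub_add_cancel he]
  haveI : Module.Finite (A ⧸ 𝔭) (B ⧸ 𝔓) :=
    Module.Finite.of_restrictScalars_finite A (A ⧸ 𝔭) (B ⧸ 𝔓)
  rw [step1, step2]
  constructor
  · rintro ⟨x, hx⟩
    rw [← Ideal.Quotient.eq_zero_iff_mem, key] at hx
    refine ⟨?_, left_ne_zero_of_mul hx⟩
    by_contra hsep
    rw [Algebra.trace_eq_zero_of_not_isSeparable hsep] at hx
    simp at hx
  · rintro ⟨hsep, hne⟩
    haveI := hsep
    obtain ⟨y, hy⟩ : ∃ y, Algebra.trace (A ⧸ 𝔭) (B ⧸ 𝔓) y ≠ 0 := by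
      simpa [LinearMap.ext_iff] using Algebra.trace_ne_zero (A ⧸ 𝔭) (B ⧸ 𝔓)
    obtain ⟨x, rfl⟩ := Ideal.Quotient.mk_surjective y
    exact ⟨x, by rw [← Ideal.Quotient.eq_zero_iff_mem, key]; exact mul_ne_zero hne hy⟩

end DVR

end Groth.Agent.H80.Tame
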