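import Mathlib

set_option autoImplicit false

namespace Groth.Agent.H80.TruncPoly
open MvPolynomial

universe u
variable {k : Type u} [Field k] {r : ℕ}

/-- the ideal `(X_i ^ q_i)` of `k[X_1, …, X_r]` -/
noncomputable abbrev I (k : Type u) [Field k] {r : ℕ} (q : Fin r → ℕ) : Ideal (MvPolynomial (Fin r) k) :=
  Ideal.span (Set.range fun i : Fin r => (X i : MvPolynomial (Fin r) k) ^ q i)

lemma mem_I_iff (q : Fin r → ℕ) (P : MvPolynomial (Fin r) k) :
    P ∈ I k q ↔ ∀ α ∈ P.support, ∃ i, q i ≤ α i := by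
  have : (Set.range fun i : Fin r => (X i : MvPolynomial (Fin r) k) ^ q i) =
      (fun s => monomial s (1 : k)) '' (Set.range fun i : Fin r => Finsupp.single i (q i)) := by
    rw [← Set.range_comp]
    congr 1
    funext i
    simp [X_pow_eq_monomial]
  rw [I, this, mem_ideal_span_monomial_image]
  constructor
  · intro h α hα
    obtain ⟨_, ⟨i, rfl⟩, hle⟩ := h α hα
    exact ⟨i, Finsupp.single_le_iff.mp hle⟩
  · intro h α hα
    obtain ⟨i, hi⟩ := h α hα
    exact ⟨_, ⟨i, rfl⟩, Finsupp.single_le_iff.mpr hi⟩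

/-- exponent vector of a point of the box `∏ [0, q_i)` -/
noncomputable def expo (q : Fin r → ℕ) (β : (i : Fin r) → Fin (q i)) : Fin r →₀ ℕ :=
  Finsupp.equivFunOnFinite.symm (fun i => (β i : ℕ))

lemma expo_apply (q : Fin r → ℕ) (β : (i : Fin r) → Fin (q i)) (i : Fin r) :
    expo q β i = (β i : ℕ) := rfl

lemma expo_injective (q : Fin r → ℕ) : Function.Injective (expo q) := by
  intro β β' h
  funext i
  apply Fin.ext
  have := DFunLike.congr_fun h i
  simpa [expo_apply] using this

/-- coefficients in the box -/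
noncomputable def Φ (k : Type u) [Field k] {r : ℕ} (q : Fin r → ℕ) :
    MvPolynomial (Fin r) k →ₗ[k] (((i : Fin r) → Fin (q i)) → k) where
  toFun P β := coeff (expo q β) P
  map_add' P Q := by funext β; simp
  map_smul' c P := by funext β; simp

lemma Φ_apply (q : Fin r → ℕ) (P : MvPolynomial (Fin r) k) (β : (i : Fin r) → Fin (q i)) :
    Φ k q P β = coeff (expo q β) P := rfl

lemma Φ_surjective (q : Fin r → ℕ) : Function.Surjective (Φ k q) := by
  classical
  intro g
  refine ⟨∑ β, monomial (expo q β) (g β), ?_⟩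
  funext β
  rw [Φ_apply, coeff_sum, Finset.sum_eq_single β]
  · simp
  · intro β' _ hne
    rw [coeff_monomial, if_neg]
    exact fun h => hne (expo_injective q h)
  · simp

lemma ker_Φ (q : Fin r → ℕ) : LinearMap.ker (Φ k q) = (I k q).restrictScalars k := by
  ext P
  rw [LinearMap.mem_ker, Submodule.restrictScalars_mem, mem_I_iff]
  constructor
  · intro h α hα
    by_contra hcon
    push Not at hcon
    have h1 := congrFun h (fun i => ⟨α i, hcon i⟩)
    have hα' : expo q (fun i => ⟨α i, hcon i⟩) = α := by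
      ext i
      simp [expo_apply]
    rw [Φ_apply, hα'] at h1
    exact (mem_support_iff.mp hα) h1
  · intro h
    funext β
    show coeff (expo q β) P = 0
    by_contra hne
    obtain ⟨i, hi⟩ := h _ (mem_support_iff.mpr hne)
    rw [expo_apply] at hi
    exact absurd (β i).isLt (not_lt.mpr hi)

/-- the truncated polynomial algebra has dimension `∏ q_i` -/
lemma finrank_quot (q : Fin r → ℕ) :
    Module.finrank k (MvPolynomial (Fin r) k ⧸ I k q) = ∏ i, q i := by
  have e : (MvPolynomial (Fin r) k ⧸ I k q) ≃ₗ[k] (((i : Fin r) → Fin (q i)) → k) :=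
    (Submodule.Quotient.restrictScalarsEquiv k (I k q)).symm ≪≫ₗ
      (Submodule.quotEquivOfEq _ _ (ker_Φ q).symm) ≪≫ₗ
      (Φ k q).quotKerEquivOfSurjective (Φ_surjective q)
  rw [LinearEquiv.finrank_eq e, Module.finrank_fintype_fun_eq_card, Fintype.card_pi]
  simp

variable (p : ℕ)

/-- the ideal generated by the `p ^ n`-th powers of the nilpotent elements -/
def Jn (B : Type*) [CommRing B] (n : ℕ) : Ideal B :=
  Ideal.span {x | ∃ a : B, IsNilpotent a ∧ x = a ^ p ^ n}

lemma Jn_map {B C : Type*} [CommRing B] [CommRing C] [Algebra k B] [Algebra k C]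
    (φ : B ≃ₐ[k] C) (n : ℕ) : Jn p C n = (Jn p B n).map (φ : B →+* C) := by
  rw [Jn, Jn, Ideal.map_span]
  congr 1
  ext x
  constructor
  · rintro ⟨a, ha, rfl⟩
    exact ⟨(φ.symm a) ^ p ^ n, ⟨φ.symm a, ha.map φ.symm, rfl⟩, by simp⟩
  · rintro ⟨_, ⟨a, ha, rfl⟩, rfl⟩
    exact ⟨φ a, ha.map φ, by simp⟩

lemma finrank_Jn_eq {B C : Type*} [CommRing B] [CommRing C] [Algebra k B] [Algebra k C]
    (φ : B ≃ₐ[k] C) (n : ℕ) :
    Module.finrank k (B ⧸ Jn p B n) = Module.finrank k (C ⧸ Jn p C n) :=
  LinearEquiv.finrank_eq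
    (Ideal.quotientEquivAlg (Jn p B n) (Jn p C n) φ (Jn_map p φ n)).toLinearEquiv

lemma Jn_trunc [Fact p.Prime] [CharP k p] (e : Fin r → ℕ) (n : ℕ) :
    Jn p (MvPolynomial (Fin r) k ⧸ I k (fun i => p ^ e i)) n =
      (I k (fun _ : Fin r => p ^ n)).map (Ideal.Quotient.mkₐ k (I k (fun i => p ^ e i))) := by
  have hp : 0 < p := (Fact.out : p.Prime).pos
  apply le_antisymm
  · rw [Jn, Ideal.span_le]
    rintro _ ⟨a, ha, rfl⟩
    obtain ⟨P, rfl⟩ := Ideal.Quotient.mk_surjective a
    have hc : constantCoeff P = 0 := by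
      have hI : ∀ a ∈ I k (fun i => p ^ e i), (constantCoeff : MvPolynomial (Fin r) k →+* k) a = 0 := by
        intro a ha
        have hle : I k (fun i => p ^ e i) ≤
            RingHom.ker (constantCoeff : MvPolynomial (Fin r) k →+* k) := by
          rw [Ideal.span_le]
          rintro _ ⟨i, rfl⟩
          simp [RingHom.mem_ker, constantCoeff_X, hp.ne']
        exact hle ha
      have hnil : IsNilpotent (Ideal.Quotient.lift _ constantCoeff hI (Ideal.Quotient.mk _ P)) :=
        ha.map _
      rw [Ideal.Quotient.lift_mk] at hnil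
      exact hnil.eq_zero
    have hP : P ∈ Ideal.span (Set.range (X : Fin r → MvPolynomial (Fin r) k)) := by
      rw [← Set.image_univ, mem_ideal_span_X_image]
      intro m hm
      by_contra hcon
      push Not at hcon
      have hm0 : m = 0 := by
        ext i
        simpa using hcon i (Set.mem_univ i)
      rw [hm0, mem_support_iff, ← constantCoeff_eq] at hm
      exact hm hc
    have hK : ∀ Q ∈ Ideal.span (Set.range (X : Fin r → MvPolynomial (Fin r) k)),
        Q ^ p ^ n ∈ I k (fun _ : Fin r => p ^ n) := by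
      intro Q hQ
      induction hQ using Submodule.span_induction with
      | mem x hx =>
        obtain ⟨i, rfl⟩ := hx
        exact Ideal.subset_span ⟨i, rfl⟩
      | zero =>
        rw [zero_pow (pow_pos hp n).ne']
        exact zero_mem _
      | add x y _ _ hx hy =>
        rw [add_pow_char_pow]
        exact add_mem hx hy
      | smul c x _ hx =>
        rw [smul_eq_mul, mul_pow]
        exact Ideal.mul_mem_left _ _ hx
    have := Ideal.mem_map_of_mem (Ideal.Quotient.mkₐ k (I k (fun i => p ^ e i))) (hK P hP)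
    simpa [map_pow] using this
  · rw [Ideal.map_span, Ideal.span_le]
    rintro _ ⟨_, ⟨i, rfl⟩, rfl⟩
    refine Ideal.subset_span ⟨Ideal.Quotient.mk _ (X i), ⟨p ^ e i, ?_⟩, by simp⟩
    rw [← map_pow]
    exact Ideal.Quotient.eq_zero_iff_mem.mpr (Ideal.subset_span ⟨i, rfl⟩)

lemma I_sup [Fact p.Prime] (e : Fin r → ℕ) (n : ℕ) :
    I k (fun i => p ^ e i) ⊔ I k (fun _ : Fin r => p ^ n) = I k (fun i => p ^ min (e i) n) := by
  have hp : 0 < p := (Fact.out : p.Prime).pos
  apply le_antisymm
  · rw [sup_le_iff]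
    constructor
    · rw [Ideal.span_le]
      rintro _ ⟨i, rfl⟩
      show (X i : MvPolynomial (Fin r) k) ^ p ^ e i ∈ I k (fun i => p ^ min (e i) n)
      rw [show p ^ e i = p ^ min (e i) n * p ^ (e i - min (e i) n) by
        rw [← pow_add]; congr 1; omega, pow_mul]
      exact Ideal.pow_mem_of_mem (I k (fun i => p ^ min (e i) n)) (Ideal.subset_span ⟨i, rfl⟩) _ (pow_pos hp _)
    · rw [Ideal.span_le]
      rintro _ ⟨i, rfl⟩
      show (X i : MvPolynomial (Fin r) k) ^ p ^ n ∈ I k (fun i => p ^ min (e i) n)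
      rw [show p ^ n = p ^ min (e i) n * p ^ (n - min (e i) n) by
        rw [← pow_add]; congr 1; omega, pow_mul]
      exact Ideal.pow_mem_of_mem (I k (fun i => p ^ min (e i) n)) (Ideal.subset_span ⟨i, rfl⟩) _ (pow_pos hp _)
  · rw [Ideal.span_le]
    rintro _ ⟨i, rfl⟩
    show (X i : MvPolynomial (Fin r) k) ^ p ^ min (e i) n ∈ _
    rcases le_total (e i) n with h | h
    · rw [min_eq_left h]
      exact Ideal.mem_sup_left (Ideal.subset_span ⟨i, rfl⟩)
    · rw [min_eq_right h]
      exact Ideal.mem_sup_right (Ideal.subset_span ⟨i, rfl⟩)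

/-- the value of the invariant on a truncated polynomial algebra -/
lemma finrank_Jn_trunc [Fact p.Prime] [CharP k p] (e : Fin r → ℕ) (n : ℕ) :
    Module.finrank k ((MvPolynomial (Fin r) k ⧸ I k (fun i => p ^ e i)) ⧸
      Jn p (MvPolynomial (Fin r) k ⧸ I k (fun i => p ^ e i)) n) = p ^ ∑ i, min (e i) n := by
  rw [Jn_trunc p e n,
    LinearEquiv.finrank_eq (DoubleQuot.quotQuotEquivQuotSupₐ k (I k (fun i => p ^ e i))
      (I k (fun _ : Fin r => p ^ n))).toLinearEquiv, I_sup p e n, finrank_quot,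
    Finset.prod_pow_eq_pow_sum]

/-- multisets of positive integers are determined by the sums `∑ min (e i) n` -/
lemma exists_equiv_of_sum_min_eq {r s : ℕ} (e : Fin r → ℕ) (f : Fin s → ℕ) (he : ∀ i, 1 ≤ e i)
    (hf : ∀ j, 1 ≤ f j) (h : ∀ n, ∑ i, min (e i) n = ∑ j, min (f j) n) :
    ∃ σ : Fin r ≃ Fin s, ∀ i, f (σ i) = e i := by
  classical
  have hcnt : ∀ (t : ℕ) (g : Fin t → ℕ) (n : ℕ), ∑ i, min (g i) (n + 1) =
      ∑ i, min (g i) n + (Finset.univ.filter (fun i => n < g i)).card := by
    intro t g n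
    rw [Finset.card_filter, ← Finset.sum_add_distrib]
    refine Finset.sum_congr rfl (fun i _ => ?_)
    split_ifs with hlt <;> omega
  have hgt : ∀ n, (Finset.univ.filter (fun i => n < e i)).card =
      (Finset.univ.filter (fun j => n < f j)).card := by
    intro n
    have h1 := hcnt r e n
    have h2 := hcnt s f n
    have h3 := h n
    have h4 := h (n + 1)
    omega
  have hsplit : ∀ (t : ℕ) (g : Fin t → ℕ) (m' : ℕ),
      (Finset.univ.filter (fun i => m' < g i)).card =
        (Finset.univ.filter (fun i => g i = m' + 1)).card +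
          (Finset.univ.filter (fun i => m' + 1 < g i)).card := by
    intro t g m'
    rw [← Finset.card_union_of_disjoint]
    · congr 1
      ext i
      simp only [Finset.mem_filter, Finset.mem_univ, true_and, Finset.mem_union]
      omega
    · rw [Finset.disjoint_filter]
      intro i _ h1 h2
      omega
  have heq : ∀ m, (Finset.univ.filter (fun i => e i = m)).card =
      (Finset.univ.filter (fun j => f j = m)).card := by
    intro m
    rcases Nat.eq_zero_or_pos m with rfl | hm
    · rw [Finset.filter_false_of_mem (fun i _ => by have := he i; omega),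
        Finset.filter_false_of_mem (fun j _ => by have := hf j; omega)]
      simp
    · obtain ⟨m', rfl⟩ : ∃ m', m = m' + 1 := ⟨m - 1, by omega⟩
      have h1 := hsplit r e m'
      have h2 := hsplit s f m'
      have h3 := hgt m'
      have h4 := hgt (m' + 1)
      omega
  refine ⟨Equiv.ofFiberEquiv (f := e) (g := f) (fun m => Fintype.equivOfCardEq (by
    rw [Fintype.card_subtype, Fintype.card_subtype]; exact heq m)),
    fun i => Equiv.ofFiberEquiv_map _ i⟩

/-- truncated polynomial algebras `k[X]/(X_i ^ p ^ e_i)` determine the exponents -/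
theorem exponents_of_algEquiv [Fact p.Prime] [CharP k p] {r s : ℕ} (e : Fin r → ℕ) (f : Fin s → ℕ)
    (he : ∀ i, 1 ≤ e i) (hf : ∀ j, 1 ≤ f j)
    (φ : (MvPolynomial (Fin r) k ⧸ I k (fun i => p ^ e i)) ≃ₐ[k]
      (MvPolynomial (Fin s) k ⧸ I k (fun j => p ^ f j))) :
    ∃ σ : Fin r ≃ Fin s, ∀ i, f (σ i) = e i := by
  apply exists_equiv_of_sum_min_eq e f he hf
  intro n
  have h := finrank_Jn_eq p φ n
  rw [finrank_Jn_trunc, finrank_Jn_trunc] at h
  exact Nat.pow_right_injective (Fact.out : p.Prime).two_le h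

end Groth.Agent.H80.TruncPoly
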