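import Mathlib
import Groth.Prelude

/-!
# (U3c) for S5318: a scheme over a field with open-immersion diagonal is locally of finite
presentation (hypothesis-style on (U3b))
-/

set_option autoImplicit false
universe u
open CategoryTheory CategoryTheory.Limits AlgebraicGeometry TensorProduct

namespace Groth.Agent.H80.UnrSec_U3c

/-- The statement of piece (U3b). -/
def U3bStatement : Prop :=
  ∀ {K B : Type u} [Field K] [CommRing B] [Algebra K B],
    IsOpenImmersion (Spec.map (CommRingCat.ofHom
      (Algebra.TensorProduct.lmul' K : B ⊗[K] B →ₐ[K] B).toRingHom)) → Module.Finite K B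

theorem finite_of_diag (hU3b : U3bStatement.{u}) {K B : Type u} [Field K] [CommRing B]
    [Algebra K B]
    (h : IsOpenImmersion (pullback.diagonal (Spec.map (CommRingCat.ofHom (algebraMap K B))))) :
    Module.Finite K B := by
  apply hU3b
  have key : Spec.map (CommRingCat.ofHom
      (Algebra.TensorProduct.lmul' K : B ⊗[K] B →ₐ[K] B).toRingHom) =
      pullback.diagonal (Spec.map (CommRingCat.ofHom (algebraMap K B))) ≫
        (pullbackSpecIso K B B).hom := by
    rw [← Iso.comp_inv_eq]
    apply pullback.hom_ext
    · rw [Category.assoc, pullbackSpecIso_inv_fst, pullback.diagonal_fst, ← Spec.map_comp,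
        ← CommRingCat.ofHom_comp]
      convert Spec.map_id (CommRingCat.of B) using 2
      ext b
      simp
    · rw [Category.assoc, pullbackSpecIso_inv_snd, pullback.diagonal_snd, ← Spec.map_comp,
        ← CommRingCat.ofHom_comp]
      convert Spec.map_id (CommRingCat.of B) using 2
      ext b
      simp
  rw [key]
  infer_instance

theorem lfp_of_isOpenImmersion_diagonal_field_of (hU3b : U3bStatement.{u}) {K : Type u} [Field K]
    {X : Scheme.{u}} (f : X ⟶ Spec (CommRingCat.of K)) [hf : IsOpenImmersion (pullback.diagonal f)] :
    LocallyOfFinitePresentation f := by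
  haveI : IsZariskiLocalAtSource @LocallyOfFinitePresentation.{u} :=
    HasRingHomProperty.instIsZariskiLocalAtSource (Q := RingHom.FinitePresentation)
  rw [IsZariskiLocalAtSource.iff_of_openCover (P := @LocallyOfFinitePresentation.{u})
    X.affineOpenCover.openCover]
  intro i
  have hd : IsOpenImmersion (pullback.diagonal (X.affineOpenCover.openCover.f i ≫ f)) := by
    have h1 : (MorphismProperty.diagonal @IsOpenImmersion) (X.affineOpenCover.openCover.f i) := by
      show IsOpenImmersion (pullback.diagonal (X.affineOpenCover.openCover.f i))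
      infer_instance
    have h2 : (MorphismProperty.diagonal @IsOpenImmersion) f := hf
    exact (MorphismProperty.diagonal @IsOpenImmersion).comp_mem _ f h1 h2
  obtain ⟨ψ, hψ⟩ : ∃ ψ : CommRingCat.of K ⟶ X.affineOpenCover.X i,
      Spec.map ψ = X.affineOpenCover.openCover.f i ≫ f :=
    ⟨Spec.preimage (X.affineOpenCover.openCover.f i ≫ f), Spec.map_preimage _⟩
  rw [← hψ] at hd ⊢
  refine (LocallyOfFinitePresentation.SpecMap_iff ψ).mpr ?_
  letI : Algebra K (X.affineOpenCover.X i) := ψ.hom.toAlgebra
  have hfin : Module.Finite K (X.affineOpenCover.X i) := finite_of_diag hU3b hd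
  have hft : Algebra.FiniteType K (X.affineOpenCover.X i) := inferInstance
  exact RingHom.FinitePresentation.of_finiteType.mp hft

end Groth.Agent.H80.UnrSec_U3c
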