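import Mathlib
import Groth.Prelude
import Groth.Agent.H80.UnrSec_U3c
import Groth.Agent.H63.UnrSecB

/-!
# (U3c) for S5318, closed form: a scheme over a field whose diagonal is an open immersion is
locally of finite presentation.
-/

set_option autoImplicit false
universe u
open CategoryTheory CategoryTheory.Limits AlgebraicGeometry TensorProduct

namespace Groth.Agent.H80.UnrSec_U3cMain

theorem lfp_of_isOpenImmersion_diagonal_field {K : Type u} [Field K] {X : Scheme.{u}}
    (f : X ⟶ Spec (CommRingCat.of K)) [IsOpenImmersion (pullback.diagonal f)] :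
    LocallyOfFinitePresentation f :=
  Groth.Agent.H80.UnrSec_U3c.lfp_of_isOpenImmersion_diagonal_field_of
    (fun h => Groth.Agent.H63.UnrSecB.finite_of_isOpenImmersion_lmul h) f

end Groth.Agent.H80.UnrSec_U3cMain
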